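import Cfsg.Agent.Lib.Unit62Flag55

/-!
# The largest elementary abelian 2-groups of the hermitian six-space over four elements
-/

set_option autoImplicit false
set_option linter.unusedSectionVars false

namespace Cfsg.Agent.Unit62Bound55

open Cfsg.Agent.UnitaryF4Geo Cfsg.Agent.UnitaryF4Line Cfsg.Agent.ThreeTransM22Frame72
open Cfsg.Agent.Unit62Code55 Cfsg.Agent.Unit62Plane55 Cfsg.Agent.Unit62Flag55

variable {F : Type*} [Field F] [Fintype F] [hF : FourField F]
variable {e f : Fin 3 → Fin 6 → F}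

local notation "act" => OrthUnitaryTransvection.act

/-- The three parameters of an element of a flag group. -/
def pa (e f : Fin 3 → Fin 6 → F) (g : Cfsg.SU 6 F 2) : F := h (act g (e 1)) (f 0)
@[inherit_doc pa]
def pb (e f : Fin 3 → Fin 6 → F) (g : Cfsg.SU 6 F 2) : F := h (act g (e 2)) (f 1)
@[inherit_doc pa]
def pe (e f : Fin 3 → Fin 6 → F) (g : Cfsg.SU 6 F 2) : F := h (act g (e 2)) (f 0)

variable {B : Subgroup (Cfsg.SU 6 F 2)}

theorem act_one' (hfr : Frame e f) (hfl : Flag B e) {g : Cfsg.SU 6 F 2} (hg : g ∈ B) :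
    act g (e 1) = e 1 + pa e f g • e 0 := by
  obtain ⟨a, ha⟩ := hfl.one g hg
  have : pa e f g = a := by
    rw [pa, ha, h_add_left, h_smul_left, hfr.ef, hfr.ef]; simp
  rw [this, ha]

theorem act_two' (hfr : Frame e f) (hfl : Flag B e) {g : Cfsg.SU 6 F 2} (hg : g ∈ B) :
    act g (e 2) = e 2 + pb e f g • e 1 + pe e f g • e 0 := by
  obtain ⟨b, c, hbc⟩ := hfl.two g hg
  have h1 : pb e f g = b := by
    rw [pb, hbc, h_add_left, h_add_left, h_smul_left, h_smul_left, hfr.ef, hfr.ef, hfr.ef]; simp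
  have h2 : pe e f g = c := by
    rw [pe, hbc, h_add_left, h_add_left, h_smul_left, h_smul_left, hfr.ef, hfr.ef, hfr.ef]; simp
  rw [h1, h2, hbc]

theorem act_mul_two (hfr : Frame e f) (hfl : Flag B e) {g k : Cfsg.SU 6 F 2} (hg : g ∈ B) (hk : k ∈ B) :
    pb e f (g * k) = pb e f g + pb e f k ∧
      pe e f (g * k) = pe e f g + pe e f k + pb e f k * pa e f g := by
  have : act (g * k) (e 2) = e 2 + (pb e f g + pb e f k) • e 1 +
      (pe e f g + pe e f k + pb e f k * pa e f g) • e 0 := by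
    rw [OrthUnitaryTransvection.act_mul, act_two' hfr hfl hk, OrthUnitaryTransvection.act_add,
      OrthUnitaryTransvection.act_add, OrthUnitaryTransvection.act_smul,
      OrthUnitaryTransvection.act_smul, act_two' hfr hfl hg, act_one' hfr hfl hg, hfl.zero g hg,
      smul_add, smul_smul]
    simp only [add_smul]
    abel
  constructor
  · rw [pb, this, h_add_left, h_add_left, h_smul_left, h_smul_left, hfr.ef, hfr.ef, hfr.ef]; simp
  · rw [pe, this, h_add_left, h_add_left, h_smul_left, h_smul_left, hfr.ef, hfr.ef, hfr.ef]; simp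

theorem act_mul_one (hfr : Frame e f) (hfl : Flag B e) {g k : Cfsg.SU 6 F 2} (hg : g ∈ B) (hk : k ∈ B) :
    pa e f (g * k) = pa e f g + pa e f k := by
  have : act (g * k) (e 1) = e 1 + (pa e f g + pa e f k) • e 0 := by
    rw [OrthUnitaryTransvection.act_mul, act_one' hfr hfl hk, OrthUnitaryTransvection.act_add,
      OrthUnitaryTransvection.act_smul, act_one' hfr hfl hg, hfl.zero g hg, add_smul, add_assoc]
  rw [pa, this, h_add_left, h_smul_left, hfr.ef, hfr.ef]; simp

theorem act_one_self (hfr : Frame e f) : pa e f 1 = 0 ∧ pb e f 1 = 0 ∧ pe e f 1 = 0 := by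
  simp [pa, pb, pe, OrthUnitaryTransvection.act_one, hfr.ef]

theorem mem_P_of_zero (hfr : Frame e f) (hfl : Flag B e) {g : Cfsg.SU 6 F 2} (hg : g ∈ B)
    (ha : pa e f g = 0) (hb : pb e f g = 0) (hc : pe e f g = 0) : g ∈ P e := by
  intro i
  fin_cases i
  · exact hfl.zero g hg
  · exact (act_one' hfr hfl hg).trans (by simp [ha])
  · exact (act_two' hfr hfl hg).trans (by simp [hb, hc])

theorem h_comb_left (hfr : Frame e f) (c : Fin 3 → F) (y : Fin 6 → F) :
    h (comb e c) y = ∑ l, c l * h y (e l) ^ 2 := by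
  conv_lhs => rw [hfr.expand y]
  rw [h_add_right, hfr.h_ee, zero_add, hfr.h_ef]

theorem act_P (hfr : Frame e f) {k : Cfsg.SU 6 F 2} (hk : k ∈ P e) (x : Fin 6 → F) :
    act k x = x + comb e (fun l => ∑ m, h x (e m) * mat f k m l) := by
  conv_lhs => rw [hfr.expand x]
  rw [OrthUnitaryTransvection.act_add, fix_comb hk, act_comb]
  conv_rhs => arg 1; rw [hfr.expand x]
  rw [add_assoc]
  congr 1
  simp only [comb_three, act_f hfr hk, Fin.sum_univ_three, smul_add, smul_smul, add_smul]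
  abel

/-- Invariance of the matrix of a commuting element. -/
theorem conj_eq (hfr : Frame e f) {g k : Cfsg.SU 6 F 2} (hk : k ∈ P e) (hgk : g * k = k * g) (i j : Fin 3) :
    mat f k i j = ∑ l, (∑ m, h (act g (f i)) (e m) * mat f k m l) * h (act g (f j)) (e l) ^ 2 := by
  have e1 : act g (act k (f i)) = act k (act g (f i)) := by
    rw [← OrthUnitaryTransvection.act_mul, hgk, OrthUnitaryTransvection.act_mul]
  rw [act_f hfr hk, act_P hfr hk (act g (f i)), OrthUnitaryTransvection.act_add, add_right_inj] at e1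
  rw [← h_comb_left hfr, ← e1,
    show h (act g (comb e (mat f k i))) (act g (f j)) = h (comb e (mat f k i)) (f j) from
      OrthUnitaryTransvection.herm_act g _ _, hfr.h_eb]

theorem G_eq (hfr : Frame e f) {g : Cfsg.SU 6 F 2} (hg2 : g * g = 1) (i m : Fin 3) :
    h (act g (f i)) (e m) = h (f i) (act g (e m)) := by
  conv_lhs => rw [show e m = act g (act g (e m)) by
    rw [← OrthUnitaryTransvection.act_mul, hg2, OrthUnitaryTransvection.act_one]]
  exact OrthUnitaryTransvection.herm_act g _ _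

theorem fixA_spec (hB : Elem B) (hfr : Frame e f) (hfl : Flag B e) {g : Cfsg.SU 6 F 2} (hg : g ∈ B)
    (hb : pb e f g = 0) {a c : Fin 4} (ha : φ (a : ℕ) = pa e f g) (hc : φ (c : ℕ) = pe e f g)
    {k : ↥(P e)} (hk : k.1 ∈ B) : fixA a c (code hfr k) = true := by
  set M := mat f k.1 with hM
  have two := two_eq_zero (F := F)
  set n := code hfr k
  have hn := code_lt hfr k
  have hent : ∀ i j, φ (ent n i j) = M i j := code_spec hfr k
  have hG := fun i m => G_eq hfr (hB g hg).1 i m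
  have key : ∀ i j, M i j = ∑ l, (∑ m, h (f i) (act g (e m)) * M m l) * h (f j) (act g (e l)) ^ 2 :=
    fun i j => by
    have := conj_eq hfr k.2 ((hB g hg).2 k.1 hk) i j
    simpa only [hG] using this
  have k01 := key 0 1
  have k02 := key 0 2
  have k00 := key 0 0
  simp only [Fin.sum_univ_three, hfl.zero g hg, act_one' hfr hfl hg, act_two' hfr hfl hg, hb,
    zero_smul, h_add_right, h_smul_right, hfr.fe, h_zero_right] at k01 k02 k00
  simp only [Fin.reduceEq, if_true, if_false, mul_one, mul_zero, add_zero, zero_add, one_mul, zero_mul,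
    one_pow, ne_eq, OfNat.ofNat_ne_zero, not_false_eq_true, zero_pow, sq_sq] at k01 k02 k00
  have A1 : pa e f g ^ 2 * M 1 1 + pe e f g ^ 2 * M 2 1 = 0 := by linear_combination -k01
  have A2 : pa e f g ^ 2 * M 1 2 + pe e f g ^ 2 * M 2 2 = 0 := by linear_combination -k02
  have s10 : M 1 0 ^ 2 = M 0 1 := (mat_symm hfr k.2 0 1).symm
  have s20 : M 2 0 ^ 2 = M 0 2 := (mat_symm hfr k.2 0 2).symm
  have A3 : (pa e f g ^ 2 * M 1 0 + pe e f g ^ 2 * M 2 0) +
      (pa e f g ^ 2 * M 1 0 + pe e f g ^ 2 * M 2 0) ^ 2 = 0 := by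
    rw [sq_add, mul_pow, mul_pow, sq_sq, sq_sq, s10, s20]
    linear_combination -k00 - pa e f g * A1 - pe e f g * A2
  have l1 : ∀ (x : Fin 4) i j, mul4 (sq4 x) (ent n i j) < 4 := fun x i j =>
    mul4_lt (mul4_lt x.isLt x.isLt) (ent_lt' hn i j)
  have p1 : ∀ (x : Fin 4) i j, φ (F := F) (mul4 (sq4 x) (ent n i j)) = φ (x : ℕ) ^ 2 * M i j :=
    fun x i j => by rw [φ_mul (x := sq4 _) (mul4_lt x.isLt x.isLt) (ent_lt' hn i j), φ_sq x.isLt, hent]
  have hz : mul4 (sq4 a) (ent n 1 0) ^^^ mul4 (sq4 c) (ent n 2 0) < 4 :=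
    Nat.xor_lt_two_pow (n := 2) (l1 _ _ _) (l1 _ _ _)
  simp only [fixA, Bool.and_eq_true, beq_iff_eq]
  refine ⟨⟨?_, ?_⟩, ?_⟩ <;> refine φ_inj (F := F) ?_ (by norm_num) ?_
  · exact Nat.xor_lt_two_pow (n := 2) (l1 _ _ _) (l1 _ _ _)
  · rw [φ_xor (l1 _ _ _) (l1 _ _ _), p1, p1, ha, hc, A1, φ_zero]
  · exact Nat.xor_lt_two_pow (n := 2) (l1 _ _ _) (l1 _ _ _)
  · rw [φ_xor (l1 _ _ _) (l1 _ _ _), p1, p1, ha, hc, A2, φ_zero]
  · exact Nat.xor_lt_two_pow (n := 2) hz (mul4_lt hz hz)
  · rw [φ_xor hz (y := sq4 _) (mul4_lt hz hz), φ_sq hz, φ_xor (l1 _ _ _) (l1 _ _ _), p1, p1, ha, hc,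
      A3, φ_zero]

theorem fixB_spec (hB : Elem B) (hfr : Frame e f) (hfl : Flag B e) {g : Cfsg.SU 6 F 2} (hg : g ∈ B)
    (ha : pa e f g = 0) {b c : Fin 4} (hb : φ (b : ℕ) = pb e f g) (hc : φ (c : ℕ) = pe e f g)
    {k : ↥(P e)} (hk : k.1 ∈ B) : fixB b c (code hfr k) = true := by
  set M := mat f k.1 with hM
  have two := two_eq_zero (F := F)
  set n := code hfr k
  have hn := code_lt hfr k
  have hent : ∀ i j, φ (ent n i j) = M i j := code_spec hfr k
  have hG := fun i m => G_eq hfr (hB g hg).1 i m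
  have key : ∀ i j, M i j = ∑ l, (∑ m, h (f i) (act g (e m)) * M m l) * h (f j) (act g (e l)) ^ 2 :=
    fun i j => by
    have := conj_eq hfr k.2 ((hB g hg).2 k.1 hk) i j
    simpa only [hG] using this
  have k01 := key 0 1
  have k02 := key 0 2
  have k12 := key 1 2
  have k00 := key 0 0
  have k11 := key 1 1
  simp only [Fin.sum_univ_three, hfl.zero g hg, act_one' hfr hfl hg, act_two' hfr hfl hg, ha,
    zero_smul, h_add_right, h_smul_right, hfr.fe, h_zero_right] at k01 k02 k12 k00 k11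
  simp only [Fin.reduceEq, if_true, if_false, mul_one, mul_zero, add_zero, zero_add, one_mul, zero_mul,
    one_pow, ne_eq, OfNat.ofNat_ne_zero, not_false_eq_true, zero_pow, sq_sq] at k01 k02 k12 k00 k11
  have q1 : ∀ x : F, (x ^ 2) ^ 2 = x := sq_sq
  set β := pb e f g
  set γ := pe e f g
  have B1 : β ^ 2 * M 2 2 = 0 := by linear_combination -k12
  have B2 : γ ^ 2 * M 2 2 = 0 := by linear_combination -k02
  have B3 : γ ^ 2 * M 2 1 + β * M 0 2 = 0 := by linear_combination -k01 - β * B2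
  have s20 : M 2 0 ^ 2 = M 0 2 := (mat_symm hfr k.2 0 2).symm
  have s21 : M 2 1 ^ 2 = M 1 2 := (mat_symm hfr k.2 1 2).symm
  have B4 : γ ^ 2 * M 2 0 + (γ ^ 2 * M 2 0) ^ 2 = 0 := by
    rw [mul_pow, q1, s20]; linear_combination -k00 - γ * B2
  have B5 : β ^ 2 * M 2 1 + (β ^ 2 * M 2 1) ^ 2 = 0 := by
    rw [mul_pow, q1, s21]; linear_combination -k11 - β * B1
  have l1 : ∀ (x : Fin 4) i j, mul4 (sq4 x) (ent n i j) < 4 := fun x i j =>
    mul4_lt (mul4_lt x.isLt x.isLt) (ent_lt' hn i j)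
  have p1 : ∀ (x : Fin 4) i j, φ (F := F) (mul4 (sq4 x) (ent n i j)) = φ (x : ℕ) ^ 2 * M i j :=
    fun x i j => by rw [φ_mul (x := sq4 _) (mul4_lt x.isLt x.isLt) (ent_lt' hn i j), φ_sq x.isLt, hent]
  simp only [fixB, Bool.and_eq_true, beq_iff_eq]
  refine ⟨⟨⟨⟨?_, ?_⟩, ?_⟩, ?_⟩, ?_⟩ <;> refine φ_inj (F := F) ?_ (by norm_num) ?_
  · exact l1 _ _ _
  · rw [p1, hb, B1, φ_zero]
  · exact l1 _ _ _
  · rw [p1, hc, B2, φ_zero]
  · exact Nat.xor_lt_two_pow (n := 2) (l1 _ _ _) (mul4_lt b.isLt (ent_lt' hn _ _))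
  · rw [φ_xor (l1 _ _ _) (mul4_lt b.isLt (ent_lt' hn _ _)), p1, φ_mul b.isLt (ent_lt' hn _ _), hent,
      hb, hc, B3, φ_zero]
  · exact Nat.xor_lt_two_pow (n := 2) (l1 _ _ _) (mul4_lt (l1 _ _ _) (l1 _ _ _))
  · rw [φ_xor (l1 _ _ _) (y := sq4 _) (mul4_lt (l1 _ _ _) (l1 _ _ _)), φ_sq (l1 _ _ _), p1, hc,
      B4, φ_zero]
  · exact Nat.xor_lt_two_pow (n := 2) (l1 _ _ _) (mul4_lt (l1 _ _ _) (l1 _ _ _))
  · rw [φ_xor (l1 _ _ _) (y := sq4 _) (mul4_lt (l1 _ _ _) (l1 _ _ _)), φ_sq (l1 _ _ _), p1, hb,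
      B5, φ_zero]

theorem card_K_le (hfr : Frame e f) {q : ℕ → Bool}
    (hq : ∀ k : ↥(P e), k.1 ∈ B → q (code hfr k) = true) :
    Nat.card ↥(B ⊓ P e : Subgroup (Cfsg.SU 6 F 2)) ≤ ((List.range 512).filter q).length := by
  classical
  have hinj : Function.Injective
      (fun k : ↥(B ⊓ P e : Subgroup (Cfsg.SU 6 F 2)) =>
        (⟨code hfr ⟨k.1, k.2.2⟩, List.mem_toFinset.mpr (List.mem_filter.mpr
          ⟨List.mem_range.mpr (code_lt hfr _), hq ⟨k.1, k.2.2⟩ k.2.1⟩)⟩ :
          ↥((List.range 512).filter q).toFinset)) := fun k k' h => by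
    have hv : code hfr ⟨k.1, k.2.2⟩ = code hfr ⟨k'.1, k'.2.2⟩ := congrArg Subtype.val h
    exact Subtype.ext (congrArg Subtype.val (code_injective hfr hv) :)
  refine (Nat.card_le_card_of_injective _ hinj).trans ?_
  rw [Nat.card_eq_fintype_card, Fintype.card_coe]
  exact List.toFinset_card_le _

/-- The bound for a group with a flag. -/
theorem flag_bound (hB : Elem B) (hfr : Frame e f) (hfl : Flag B e) :
    Nat.card ↥B ≤ 512 ∧ (512 ≤ Nat.card ↥B → B = P e) := by
  classical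
  haveI : Fintype ↥B := Fintype.ofFinite _
  by_cases hall : ∀ g ∈ B, pa e f g = 0 ∧ pb e f g = 0 ∧ pe e f g = 0
  · have hle : B ≤ P e := fun g hg => by
      obtain ⟨ha, hb, hc⟩ := hall g hg
      exact mem_P_of_zero hfr hfl hg ha hb hc
    have hP := card_P (F := F) hfr
    refine ⟨hP ▸ Subgroup.card_le_of_le hle, fun hge => Subgroup.eq_of_le_of_card_ge hle (hP ▸ hge)⟩
  suffices hlt : Nat.card ↥B < 512 by exact ⟨hlt.le, fun hge => absurd hge (by omega)⟩
  have hab : ∀ g ∈ B, pb e f g * pa e f g = 0 := fun g hg => by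
    have h1 := (act_mul_two hfr hfl hg hg).2
    rw [(hB g hg).1, (act_one_self hfr).2.2, add_self, zero_add] at h1
    exact h1.symm
  have hswap : ∀ g ∈ B, ∀ k ∈ B, pb e f k * pa e f g = pb e f g * pa e f k := fun g hg k hk => by
    have h1 := (act_mul_two hfr hfl hg hk).2
    have h2 := (act_mul_two hfr hfl hk hg).2
    rw [(hB g hg).2 k hk, h2, add_comm (pe e f k)] at h1
    exact (add_left_cancel h1).symm
  -- the map to the parameters
  have main : ∀ (p : Cfsg.SU 6 F 2 → F) (qf : Fin 4 → Fin 4 → ℕ → Bool),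
      (∀ g ∈ B, ∀ k ∈ B, p (g * k) = p g + p k ∧ pe e f (g * k) = pe e f g + pe e f k) →
      (∀ g ∈ B, p g = 0 → pe e f g = 0 → g ∈ P e) →
      (∀ g ∈ B, ∀ x y : Fin 4, φ (x : ℕ) = p g → φ (y : ℕ) = pe e f g →
        ∀ k : ↥(P e), k.1 ∈ B → qf x y (code hfr k) = true) →
      (∀ x y : Fin 4, (x ≠ 0 ∨ y ≠ 0) → ((List.range 512).filter (qf x y)).length ≤ 32) →
      ((List.range 512).filter fun n => decide (∀ x y : Fin 4, qf x y n = true)).length ≤ 31 →
      Nat.card ↥B < 512 := by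
    intro p qf hmul hzero hspec hone hfull
    set par : ↥B → F × F := fun g => (p g.1, pe e f g.1) with hpar
    set I := Finset.univ.image par with hI
    have hfib : ∀ v ∈ I, (Finset.univ.filter fun g => par g = v).card ≤
        Nat.card ↥(B ⊓ P e : Subgroup (Cfsg.SU 6 F 2)) := by
      intro v hv
      obtain ⟨g₀, -, hg₀⟩ := Finset.mem_image.mp hv
      rw [← Fintype.card_coe, ← Nat.card_eq_fintype_card]
      have hmem : ∀ g : ↥(Finset.univ.filter fun g => par g = v),
          g₀.1 * g.1.1 ∈ (B ⊓ P e : Subgroup (Cfsg.SU 6 F 2)) := fun g => by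
        have hg := (Finset.mem_filter.mp g.2).2
        refine ⟨B.mul_mem g₀.2 g.1.2, hzero _ (B.mul_mem g₀.2 g.1.2) ?_ ?_⟩
        · rw [(hmul _ g₀.2 _ g.1.2).1, show p g₀.1 = p g.1.1 from congrArg Prod.fst (hg₀.trans hg.symm), add_self]
        · rw [(hmul _ g₀.2 _ g.1.2).2, show pe e f g₀.1 = pe e f g.1.1 from congrArg Prod.snd (hg₀.trans hg.symm), add_self]
      exact Nat.card_le_card_of_injective (fun g => ⟨_, hmem g⟩) fun g g' h =>
        Subtype.ext (Subtype.ext (mul_left_cancel (congrArg Subtype.val h)))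
    have hcard : Nat.card ↥B ≤ Nat.card ↥(B ⊓ P e : Subgroup (Cfsg.SU 6 F 2)) * I.card := by
      rw [Nat.card_eq_fintype_card, ← Finset.card_univ]
      exact Finset.card_le_mul_card_image _ _ hfib
    have hI16 : I.card ≤ 16 := by
      refine (Finset.card_le_univ I).trans ?_
      rw [Fintype.card_prod, hF.card_eq]
    obtain ⟨g, hg, hne⟩ : ∃ g ∈ B, p g ≠ 0 ∨ pe e f g ≠ 0 := by
      by_contra hno
      push Not at hno
      refine hall fun g hg => ?_
      have hP := hzero g hg (hno g hg).1 (hno g hg).2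
      refine ⟨?_, ?_, ?_⟩ <;> simp [pa, pb, pe, hP _, hfr.ef]
    by_cases hfullI : I.card = 16
    · have huniv : I = Finset.univ := Finset.eq_univ_of_card _ (by
        rw [hfullI, Fintype.card_prod, hF.card_eq])
      have hK := card_K_le (B := B) hfr (q := fun n => decide (∀ x y : Fin 4, qf x y n = true))
        fun k hk => decide_eq_true fun x y => by
          obtain ⟨g', -, hg'⟩ := Finset.mem_image.mp
            (show ((φ (x : ℕ) : F), (φ (y : ℕ) : F)) ∈ I by rw [huniv]; exact Finset.mem_univ _)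
          exact hspec g'.1 g'.2 x y (congrArg Prod.fst hg').symm (congrArg Prod.snd hg').symm k hk
      have := hK.trans hfull
      rw [hfullI] at hcard
      omega
    · obtain ⟨x, hx⟩ := φ_surj (p g)
      obtain ⟨y, hy⟩ := φ_surj (pe e f g)
      have hxy : x ≠ 0 ∨ y ≠ 0 := by
        rcases hne with h | h
        · left; rintro rfl; exact h (hx.symm.trans φ_zero)
        · right; rintro rfl; exact h (hy.symm.trans φ_zero)
      have hK := (card_K_le (B := B) hfr (q := qf x y) fun k hk => hspec g hg x y hx hy k hk).trans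
        (hone x y hxy)
      have := Nat.mul_le_mul hK (show I.card ≤ 15 by omega)
      omega
  have hconv : ∀ (q : ℕ → ℕ → ℕ → Bool) (n : ℕ),
      (decide (∀ x y : Fin 4, q x y n = true)) =
        (List.range 4).all fun a => (List.range 4).all fun c => q a c n := fun q n => by
    rw [Bool.eq_iff_iff, decide_eq_true_iff]
    simp only [List.all_eq_true, List.mem_range]
    exact ⟨fun h a ha c hc => h ⟨a, ha⟩ ⟨c, hc⟩, fun h x y => h x x.isLt y y.isLt⟩
  by_cases hA : ∃ g ∈ B, pa e f g ≠ 0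
  · obtain ⟨g₁, hg₁, ha₁⟩ := hA
    have hb0 : ∀ g ∈ B, pb e f g = 0 := fun g hg => by
      have h0 := (mul_eq_zero.mp (hab g₁ hg₁)).resolve_right ha₁
      have := hswap g₁ hg₁ g hg
      rw [h0, zero_mul] at this
      exact (mul_eq_zero.mp this).resolve_right ha₁
    refine main (pa e f) (fun x y => fixA x y) (fun g hg k hk => ⟨act_mul_one hfr hfl hg hk, ?_⟩)
      (fun g hg h1 h2 => mem_P_of_zero hfr hfl hg h1 (hb0 g hg) h2)
      (fun g hg x y hx hy k hk => fixA_spec hB hfr hfl hg (hb0 g hg) hx hy hk) fixA_count ?_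
    · rw [(act_mul_two hfr hfl hg hk).2, hb0 k hk, zero_mul, add_zero]
    · simpa only [hconv fixA] using fixA_all
  · push Not at hA
    refine main (pb e f) (fun x y => fixB x y) (fun g hg k hk => ⟨(act_mul_two hfr hfl hg hk).1, ?_⟩)
      (fun g hg h1 h2 => mem_P_of_zero hfr hfl hg (hA g hg) h1 h2)
      (fun g hg x y hx hy k hk => fixB_spec hB hfr hfl hg (hA g hg) hx hy hk) fixB_count ?_
    · rw [(act_mul_two hfr hfl hg hk).2, hA g hg, mul_zero, add_zero]
    · simpa only [hconv fixB] using fixB_all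

/-- The largest elementary abelian groups. -/
theorem bound (hB : Elem B) :
    Nat.card ↥B ≤ 512 ∧ (512 ≤ Nat.card ↥B → ∃ e f, Frame e f ∧ B = P e) := by
  obtain ⟨e, f, hfr, hfl⟩ := exists_flag hB
  obtain ⟨h1, h2⟩ := flag_bound hB hfr hfl
  exact ⟨h1, fun h => ⟨e, f, hfr, h2 h⟩⟩

/-- A largest group in the normalizer of a plane group is that group. -/
theorem eq_of_normalize (hfr : Frame e f) (hB : Elem B) (hcard : 512 ≤ Nat.card ↥B)
    (hn : ∀ g ∈ B, ∀ k ∈ P e, g * k * g⁻¹ ∈ P e) : B = P e := by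
  have hinv : ∀ g ∈ B, ∀ i, act g (e i) + e i ∈ Submodule.span F (Set.range e) := by
    intro g hg i
    have hfix : ∀ k ∈ P e, act k (act g (e i)) = act g (e i) := by
      intro k hk
      have hg' : g⁻¹ = g := inv_eq_of_mul_eq_one_right (hB g hg).1
      have hc := hn g hg k hk
      have e1 := hc i
      rw [OrthUnitaryTransvection.act_mul, OrthUnitaryTransvection.act_mul, hg'] at e1
      have e2 := congrArg (act g) e1
      rw [← OrthUnitaryTransvection.act_mul, (hB g hg).1, OrthUnitaryTransvection.act_one] at e2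
      exact e2
    have h0 : ∀ j, h (act g (e i)) (e j) = 0 := fun j => by
      have hT : T (e j) (hfr.ee j j) ∈ P e := fun m => by
        rw [T_act, hfr.ee, zero_smul, add_zero]
      have := hfix _ hT
      rw [T_act, add_eq_left, smul_eq_zero] at this
      exact this.resolve_right (hfr.ne_zero j)
    refine Submodule.add_mem _ ?_ (Submodule.subset_span ⟨i, rfl⟩)
    rw [hfr.mem_plane h0]
    exact (Submodule.mem_span_range_iff_exists_fun F).mpr ⟨_, rfl⟩
  obtain ⟨e', f', hfr', hfl, hP⟩ := exists_flag_in hB hfr hinv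
  rw [(flag_bound hB hfr' hfl).2 hcard, hP]

end Cfsg.Agent.Unit62Bound55
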