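import Mathlib

/-!
# Hermitian three by three matrices over four elements as nine-bit codes

The field is encoded by `0, 1, 2, 3`, with `2` a root of `X ^ 2 + X + 1`; addition is `xor`.
A hermitian matrix is encoded by nine bits: three for the diagonal, two for each entry above it.
-/

set_option autoImplicit false

namespace Cfsg.Agent.Unit62Code55

/-- Multiplication table. -/
def mul4 (x y : ℕ) : ℕ :=
  ([0, 0, 0, 0, 0, 1, 2, 3, 0, 2, 3, 1, 0, 3, 1, 2] : List ℕ).getD (4 * x + y) 0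

/-- Squaring, the field involution. -/
def sq4 (x : ℕ) : ℕ := mul4 x x

/-- The `k`-th bit as a number. -/
def bit (n k : ℕ) : ℕ := if n.testBit k then 1 else 0

/-- The entries of the matrix with code `n`. -/
def ent (n : ℕ) : Fin 3 → Fin 3 → ℕ :=
  ![![bit n 0, bit n 3 + 2 * bit n 4, bit n 5 + 2 * bit n 6],
    ![sq4 (bit n 3 + 2 * bit n 4), bit n 1, bit n 7 + 2 * bit n 8],
    ![sq4 (bit n 5 + 2 * bit n 6), sq4 (bit n 7 + 2 * bit n 8), bit n 2]]

/-- The code of the rank one matrix `c i ^ 2 * c j`. -/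
def codeOf (c : Fin 3 → Fin 4) : ℕ :=
  mul4 (sq4 (c 0)) (c 0) + 2 * mul4 (sq4 (c 1)) (c 1) + 4 * mul4 (sq4 (c 2)) (c 2) +
    8 * mul4 (sq4 (c 0)) (c 1) + 32 * mul4 (sq4 (c 0)) (c 2) + 128 * mul4 (sq4 (c 1)) (c 2)

theorem codeOf_lt : ∀ c : Fin 3 → Fin 4, codeOf c < 512 := by decide +kernel

theorem ent_codeOf : ∀ (c : Fin 3 → Fin 4) (i j : Fin 3),
    ent (codeOf c) i j = mul4 (sq4 (c i)) (c j) := by decide +kernel

theorem ent_lt : ∀ n : Fin 512, ∀ i j : Fin 3, ent n i j < 4 := by decide +kernel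

theorem ent_inj : ∀ n : Fin 512, (∀ i j : Fin 3, ent n i j = 0) → (n : ℕ) = 0 := by decide +kernel

/-- The twenty-one points of the plane. -/
def pv : Fin 21 → Fin 3 → Fin 4 :=
  ![![1, 0, 0], ![0, 1, 0], ![0, 0, 1], ![1, 1, 0], ![1, 2, 0], ![1, 3, 0], ![1, 0, 1], ![1, 0, 2],
    ![1, 0, 3], ![0, 1, 1], ![0, 1, 2], ![0, 1, 3], ![1, 1, 1], ![1, 1, 2], ![1, 1, 3], ![1, 2, 1],
    ![1, 2, 2], ![1, 2, 3], ![1, 3, 1], ![1, 3, 2], ![1, 3, 3]]

/-- The code of a point. -/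
def pc (i : Fin 21) : ℕ := codeOf (pv i)

theorem pc_inj : ∀ i j : Fin 21, pc i = pc j → i = j := by decide +kernel

theorem pv_ne : ∀ i : Fin 21, ∃ k, pv i k ≠ 0 := by decide +kernel

theorem pv_cover : ∀ c : Fin 3 → Fin 4, (∃ k, c k ≠ 0) →
    ∃ (i : Fin 21) (s : Fin 4), s ≠ 0 ∧ ∀ k, (c k : ℕ) = mul4 s (pv i k) := by decide +kernel

/-- The determinant of three vectors. -/
def det3 (a b c : Fin 3 → Fin 4) : ℕ :=
  mul4 (mul4 (a 0) (b 1)) (c 2) ^^^ mul4 (mul4 (a 0) (b 2)) (c 1) ^^^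
    mul4 (mul4 (a 1) (b 0)) (c 2) ^^^ mul4 (mul4 (a 1) (b 2)) (c 0) ^^^
    mul4 (mul4 (a 2) (b 0)) (c 1) ^^^ mul4 (mul4 (a 2) (b 1)) (c 0)

theorem exists_third : ∀ i j : Fin 21, i ≠ j → ∃ k : Fin 21, det3 (pv i) (pv j) (pv k) ≠ 0 := by
  decide +kernel

/-- Codes of rank one. -/
def one : List ℕ := (List.finRange 21).map pc

/-- Codes of rank two. -/
def two : List ℕ :=
  ((List.finRange 21).flatMap fun i => (List.finRange 21).filterMap fun j =>
    if i < j then some (pc i ^^^ pc j) else none).dedup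

/-- Codes of rank three. -/
def three : List ℕ :=
  (List.range 512).filter fun n => n != 0 && !one.contains n && !two.contains n

theorem one_length : one.length = 21 := by decide +kernel

theorem two_length : two.length = 210 := by decide +kernel

theorem three_length : three.length = 280 := by decide +kernel

theorem two_spec : ∀ n ∈ two, ∃ i j : Fin 21, i ≠ j ∧ n = pc i ^^^ pc j := by decide +kernel

theorem three_spec : ∀ n ∈ three, ∃ i j k : Fin 21,
    det3 (pv i) (pv j) (pv k) ≠ 0 ∧ n = pc i ^^^ pc j ^^^ pc k := by decide +kernel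

theorem classes : ∀ n : Fin 512, (n : ℕ) ≠ 0 → (n : ℕ) ∈ one ∨ (n : ℕ) ∈ two ∨ (n : ℕ) ∈ three := by
  decide +kernel

theorem two_not_one : ∀ n ∈ two, n ∉ one ∧ n ∉ three ∧ n ≠ 0 ∧ n < 512 := by decide +kernel

/-- Fixed by an involution with `b = 0` and parameters `a, c`. -/
def fixA (a c n : ℕ) : Bool :=
  (mul4 (sq4 a) (ent n 1 1) ^^^ mul4 (sq4 c) (ent n 2 1)) == 0 &&
  (mul4 (sq4 a) (ent n 1 2) ^^^ mul4 (sq4 c) (ent n 2 2)) == 0 &&
  (let z := mul4 (sq4 a) (ent n 1 0) ^^^ mul4 (sq4 c) (ent n 2 0); (z ^^^ sq4 z) == 0)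

/-- Fixed by an involution with `a = 0` and parameters `b, c`. -/
def fixB (b c n : ℕ) : Bool :=
  mul4 (sq4 b) (ent n 2 2) == 0 && mul4 (sq4 c) (ent n 2 2) == 0 &&
  (mul4 (sq4 c) (ent n 2 1) ^^^ mul4 b (ent n 0 2)) == 0 &&
  (let z := mul4 (sq4 c) (ent n 2 0); (z ^^^ sq4 z) == 0) &&
  (let z := mul4 (sq4 b) (ent n 2 1); (z ^^^ sq4 z) == 0)

theorem fixA_count : ∀ a c : Fin 4, (a ≠ 0 ∨ c ≠ 0) →
    ((List.range 512).filter (fixA a c)).length ≤ 32 := by decide +kernel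

theorem fixB_count : ∀ b c : Fin 4, (b ≠ 0 ∨ c ≠ 0) →
    ((List.range 512).filter (fixB b c)).length ≤ 32 := by decide +kernel

theorem fixA_all : ((List.range 512).filter fun n =>
    (List.range 4).all fun a => (List.range 4).all fun c => fixA a c n).length ≤ 31 := by
  decide +kernel

theorem fixB_all : ((List.range 512).filter fun n =>
    (List.range 4).all fun b => (List.range 4).all fun c => fixB b c n).length ≤ 31 := by
  decide +kernel

end Cfsg.Agent.Unit62Code55
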