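import Cfsg.Agent.Lib.Unit62Cover55
import Cfsg.Agent.Lib.Unit62Roots55

/-!
# Double commutators with commuting involutions

The product of the four conjugates of an element of a plane group under two commuting involutions can
fill the preimage of a rank one point, but never the centre of the cover alone.
-/

set_option autoImplicit false
set_option linter.unusedSectionVars false
set_option linter.style.haveILetI false

namespace Cfsg.Agent.Unit62Double55

open Cfsg.Agent.UnitaryF4Geo Cfsg.Agent.UnitaryF4Line Cfsg.Agent.ThreeTransM22Frame72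
open Cfsg.Agent.Unit62Code55 Cfsg.Agent.Unit62Plane55 Cfsg.Agent.Unit62Flag55
open Cfsg.Agent.Unit62Cover55 Cfsg.Agent.Unit62Roots55

variable {C : Type*} [Group C] [Finite C] {F : Type} [Field F] [Fintype F] [hF : FourField F]
variable {z : C} {θ : C →* Cfsg.PSU 6 F 2} {e f : Fin 3 → Fin 6 → F}

local notation "act" => OrthUnitaryTransvection.act
local notation "π" => QuotientGroup.mk' (Subgroup.center (Cfsg.SU 6 F 2))

/-- The product over the four conjugates. -/
def wd {M : Type*} [Group M] (a b x : M) : M :=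
  x * (a * x * a⁻¹) * (b * x * b⁻¹) * (a * b * x * (a * b)⁻¹)

theorem map_wd {M N : Type*} [Group M] [Group N] (φ : M →* N) (a b x : M) :
    φ (wd a b x) = wd (φ a) (φ b) (φ x) := by
  simp only [wd, map_mul, map_inv]

theorem wd_mul {M : Type*} [Group M] {A : Subgroup M} (hA : ∀ x ∈ A, ∀ y ∈ A, x * y = y * x)
    {a b : M} (ha : ∀ x ∈ A, a * x * a⁻¹ ∈ A) (hb : ∀ x ∈ A, b * x * b⁻¹ ∈ A)
    {x y : M} (hx : x ∈ A) (hy : y ∈ A) : wd a b (x * y) = wd a b x * wd a b y := by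
  have hc : ∀ {p q : M}, p ∈ A → q ∈ A → Commute p q := fun hp hq => hA _ hp _ hq
  have hab : ∀ {x}, x ∈ A → a * b * x * (a * b)⁻¹ ∈ A := fun {x} hx => by
    rw [show a * b * x * (a * b)⁻¹ = a * (b * x * b⁻¹) * a⁻¹ by group]
    exact ha _ (hb _ hx)
  simp only [wd]
  rw [show a * (x * y) * a⁻¹ = a * x * a⁻¹ * (a * y * a⁻¹) by group,
    show b * (x * y) * b⁻¹ = b * x * b⁻¹ * (b * y * b⁻¹) by group,
    show a * b * (x * y) * (a * b)⁻¹ = a * b * x * (a * b)⁻¹ * (a * b * y * (a * b)⁻¹) by group,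
    (hc hy (ha x hx)).mul_mul_mul_comm,
    (hc (A.mul_mem hy (ha y hy)) (hb x hx)).mul_mul_mul_comm,
    (hc (A.mul_mem (A.mul_mem hy (ha y hy)) (hb y hy)) (hab hx)).mul_mul_mul_comm]

theorem wd_of_commute {M : Type*} [Group M] {a b x : M} (hab : Commute a b)
    (hA : Commute x (b * x * b⁻¹)) (hx : x * x = 1) (hc : Commute a x) : wd a b x = 1 := by
  have h1 : a * x * a⁻¹ = x := by rw [hc.eq, mul_inv_cancel_right]
  have h2 : a * b * x * (a * b)⁻¹ = b * x * b⁻¹ := by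
    rw [hab.eq, show b * a * x * (b * a)⁻¹ = b * (a * x * a⁻¹) * b⁻¹ by group, h1]
  rw [wd, h1, h2, hx, one_mul, show b * x * b⁻¹ * (b * x * b⁻¹) = b * (x * x) * b⁻¹ by group, hx,
    mul_one, mul_inv_cancel]

/-- The transvection of a vector of the plane. -/
noncomputable def TT (hfr : Frame e f) (c : Fin 3 → F) : Cfsg.SU 6 F 2 :=
  T (comb e c) (hfr.h_ee c c)

theorem TT_mem (hfr : Frame e f) (c : Fin 3 → F) : TT hfr c ∈ P e := T_mem hfr c

theorem TT_conj (hfr : Frame e f) {g : Cfsg.SU 6 F 2} {c c' : Fin 3 → F}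
    (h : act g (comb e c) = comb e c') : g * TT hfr c * g⁻¹ = TT hfr c' :=
  (T_conj g _).trans (T_congr h _ _)

theorem mat_four (hfr : Frame e f) (c₁ c₂ c₃ c₄ : Fin 3 → F) (i j : Fin 3) :
    mat f (TT hfr c₁ * TT hfr c₂ * TT hfr c₃ * TT hfr c₄) i j =
      c₁ i ^ 2 * c₁ j + c₂ i ^ 2 * c₂ j + c₃ i ^ 2 * c₃ j + c₄ i ^ 2 * c₄ j := by
  have m := fun c => TT_mem hfr c
  rw [mat_mul hfr (mul_mem (mul_mem (m c₁) (m c₂)) (m c₃)) (m c₄),
    mat_mul hfr (mul_mem (m c₁) (m c₂)) (m c₃), mat_mul hfr (m c₁) (m c₂)]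
  simp only [TT, mat_T hfr]

theorem four_sum (hfr : Frame e f) :
    TT hfr ![0, 0, 1] * TT hfr ![1, 0, 1] * TT hfr ![om, 0, 1] * TT hfr ![1 + om, 0, 1] =
      TT hfr ![1, 0, 0] := by
  have m := fun c => TT_mem hfr c
  refine eq_of_mat hfr (mul_mem (mul_mem (mul_mem (m _) (m _)) (m _)) (m _)) (m _) fun i j => ?_
  rw [mat_four hfr, TT, mat_T hfr]
  have two := two_eq_zero (F := F)
  have ho := om_sq (F := F)
  fin_cases i <;> fin_cases j <;>
    simp only [Fin.zero_eta, Fin.mk_one, Fin.reduceFinMk, Matrix.cons_val_zero, Matrix.cons_val_one,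
      Matrix.cons_val] <;>
    first
    | ring1
    | linear_combination (2 : F) * two
    | linear_combination (1 + om + om ^ 2) * two
    | linear_combination (1 + om) * two
    | linear_combination 3 * ho + (3 * om + 2 + om ^ 3) * two

theorem act_plane (hfr : Frame e f) {g : Cfsg.SU 6 F 2} {b c : F} (h : Is₁ e f g b c)
    (v : Fin 3 → F) : act g (comb e v) = comb e ![v 0 + c * v 2, v 1 + b * v 2, v 2] := by
  rw [comb_three, comb_three]
  simp only [OrthUnitaryTransvection.act_add, OrthUnitaryTransvection.act_smul, h.e0, h.e1, h.e2,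
    Matrix.cons_val_zero, Matrix.cons_val_one, Matrix.cons_val, smul_add, smul_smul, add_smul]
  rw [mul_comm (v 2) c, mul_comm (v 2) b]
  abel

theorem plane_mem_one (hfr : Frame e f) (c : Fin 3 → F) (hc : c 2 = 0) :
    TT hfr c ∈ P (e₁ e f) := fun i => by
  rw [TT, T_act]
  have : h (e₁ e f i) (comb e c) = 0 := by
    refine h_comm_zero ?_
    fin_cases i
    · simpa [e₁, comb_single] using hfr.h_ee c (Pi.single 0 1)
    · simpa [e₁, comb_single] using hfr.h_ee c (Pi.single 1 1)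
    · simp [e₁, hfr.h_eb, hc]
  rw [this, zero_smul, add_zero]

theorem gen (X : Cov z θ) (hfr : Frame e f) {S : Subgroup C} (hz : z ∈ S)
    (ht : ∀ i, tau X hfr i ∈ S) : Eh θ e ≤ S := by
  intro x hx
  have h0 := tau_mem X hfr
  have aux : ∀ w, w ∈ S → θ x = θ w → x ∈ S := fun w hw he => by
    rcases X.fib he with rfl | rfl
    · exact hw
    · exact S.mul_mem hz hw
  by_cases hn0 : cd hfr x hx = 0
  · exact aux 1 S.one_mem (theta_eq_of_cd hfr hx (one_mem _) (by rw [hn0, cd_one]))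
  rcases elem_cases (cd_lt hfr hx) hn0 with ⟨i, hi⟩ | ⟨i, j, -, hi⟩ | ⟨i, j, k, -, hi⟩
  · exact aux _ (ht i) (theta_eq_of_cd hfr hx (h0 i) (by rw [hi, cd_tau]))
  · exact aux _ (S.mul_mem (ht i) (ht j)) (theta_eq_of_cd hfr hx (mul_mem (h0 i) (h0 j))
      (by rw [hi, cd_mul hfr (h0 i) (h0 j), cd_tau, cd_tau]))
  · exact aux _ (S.mul_mem (S.mul_mem (ht i) (ht j)) (ht k))
      (theta_eq_of_cd hfr hx (mul_mem (mul_mem (h0 i) (h0 j)) (h0 k)) (by
        rw [hi, cd_mul hfr (mul_mem (h0 i) (h0 j)) (h0 k), cd_mul hfr (h0 i) (h0 j), cd_tau, cd_tau,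
          cd_tau]))

/-- Two commuting involutions of the normalizer whose fourfold product has image of order two. -/
structure Pair (θ : C →* Cfsg.PSU 6 F 2) (e : Fin 3 → Fin 6 → F) (a b v : C) : Prop where
  na : a ∈ Subgroup.normalizer (Eh θ e : Set C)
  nb : b ∈ Subgroup.normalizer (Eh θ e : Set C)
  aa : a * a = 1
  bb : b * b = 1
  ab : Commute a b
  av : Commute a v
  bv : Commute b v
  vals : ∀ x ∈ Eh θ e, wd a b x = 1 ∨ wd a b x = v
  some : ∃ x ∈ Eh θ e, wd a b x = v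

theorem exists_pair (X : Cov z θ) (hfr : Frame e f) :
    ∃ (v : C) (hv : v ∈ Eh θ e) (a b : C), cd hfr v hv = pc 0 ∧ Pair θ e a b v := by
  obtain ⟨g, hg, hgi⟩ := exists₁ hfr (0 : F) 1
  obtain ⟨k, hk, hki⟩ := exists₁ hfr (0 : F) om
  obtain ⟨a, ha⟩ := X.surj (π g)
  obtain ⟨b, hb⟩ := X.surj (π k)
  have ha1 : a ∈ Eh θ (e₁ e f) := mem_Eh.mpr ⟨g, hg.1, ha.symm⟩
  have hb1 : b ∈ Eh θ (e₁ e f) := mem_Eh.mpr ⟨k, hk.1, hb.symm⟩
  have na : ∀ x, x ∈ Eh θ e ↔ a * x * a⁻¹ ∈ Eh θ e := Eh_conj ha (norm₁ hfr hgi)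
  have nb : ∀ x, x ∈ Eh θ e ↔ b * x * b⁻¹ ∈ Eh θ e := Eh_conj hb (norm₁ hfr hki)
  set t := TT hfr ![0, 0, 1] with ht
  obtain ⟨x0, hx0⟩ := X.surj (π t)
  have hx0e : x0 ∈ Eh θ e := mem_Eh.mpr ⟨t, TT_mem hfr _, hx0.symm⟩
  set v := wd a b x0 with hv'
  have hθv : θ v = π (TT hfr ![1, 0, 0]) := by
    have hgc : g * t * g⁻¹ = TT hfr ![1, 0, 1] := TT_conj hfr (by
      rw [act_plane hfr hgi]; simp)
    have hkc : k * t * k⁻¹ = TT hfr ![om, 0, 1] := TT_conj hfr (by
      rw [act_plane hfr hki]; simp)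
    have hgkc : g * k * t * (g * k)⁻¹ = TT hfr ![1 + om, 0, 1] := by
      rw [show g * k * t * (g * k)⁻¹ = g * (k * t * k⁻¹) * g⁻¹ by group, hkc]
      exact TT_conj hfr (by rw [act_plane hfr hgi]; simp [add_comm (1 : F) om])
    rw [hv', map_wd, ha, hb, hx0, ← map_wd, wd, hgc, hkc, hgkc, ← four_sum hfr]
  have hve : v ∈ Eh θ e := mem_Eh.mpr ⟨_, TT_mem hfr _, hθv.symm⟩
  have hv1 : v ∈ Eh θ (e₁ e f) :=
    mem_Eh.mpr ⟨_, plane_mem_one hfr _ (by simp), hθv.symm⟩
  have hab := X.Eh_comm (frame_one hfr) ha1 hb1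
  refine ⟨v, hve, a, b, ?_, Subgroup.mem_normalizer_iff.mpr na, Subgroup.mem_normalizer_iff.mpr nb,
    X.Eh_sq (frame_one hfr) ha1, X.Eh_sq (frame_one hfr) hb1, hab,
    X.Eh_comm (frame_one hfr) ha1 hv1, X.Eh_comm (frame_one hfr) hb1 hv1, ?_, x0, hx0e, rfl⟩
  · have h10 : (vec (F := F) (pv 0)) = ![1, 0, 0] := by
      funext i; fin_cases i <;> simp [vec, pv, φ_one, φ_zero]
    rw [cd_eq hfr hve (g := tp hfr 0) (by
      rw [hθv]; exact congrArg π (show T (comb e (vec (pv 0))) (hfr.h_ee _ _) = T (comb e ![1, 0, 0]) (hfr.h_ee _ _) from T_congr (congrArg (comb e) h10) _ _)), code_tp]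
  have hA : ∀ x ∈ Eh θ e, ∀ y ∈ Eh θ e, x * y = y * x := fun x hx y hy => (X.Eh_comm hfr hx hy).eq
  have hvv : v * v = 1 := X.Eh_sq hfr hve
  let W : Subgroup C :=
    { carrier := {x | x ∈ Eh θ e ∧ (wd a b x = 1 ∨ wd a b x = v)}
      one_mem' := ⟨one_mem _, Or.inl (by simp [wd])⟩
      mul_mem' := by
        rintro x y ⟨hx, h1⟩ ⟨hy, h2⟩
        refine ⟨mul_mem hx hy, ?_⟩
        rw [wd_mul hA (fun x => (na x).mp) (fun x => (nb x).mp) hx hy]
        rcases h1 with h1 | h1 <;> rcases h2 with h2 | h2 <;> rw [h1, h2] <;> simp [hvv]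
      inv_mem' := by
        intro x hx
        rw [inv_eq_of_mul_eq_one_right (X.Eh_sq hfr hx.1)]
        exact hx }
  have small : ∀ {x : C}, x ∈ Eh θ e → x ∈ Eh θ (e₁ e f) → wd a b x = 1 := fun {x} hx hx1 =>
    wd_of_commute hab (X.Eh_comm hfr hx ((nb x).mp hx)) (X.Eh_sq hfr hx)
      (X.Eh_comm (frame_one hfr) ha1 hx1)
  refine fun x hx => (gen X hfr (S := W) ⟨X.z_mem e, Or.inl (small (X.z_mem e) (X.z_mem _))⟩ ?_ hx).2
  intro i
  refine ⟨tau_mem X hfr i, ?_⟩
  set c := vec (F := F) (pv i) with hc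
  have hti : θ (tau X hfr i) = π (TT hfr c) := theta_tau X hfr i
  by_cases hc2 : c 2 = 0
  · exact Or.inl (small (tau_mem X hfr i) (mem_Eh.mpr ⟨_, plane_mem_one hfr c hc2, hti.symm⟩))
  obtain ⟨m, hm, hmi⟩ := exists₁ hfr ((c 2)⁻¹ * c 1) ((c 2)⁻¹ * c 0)
  have hmc : m * t * m⁻¹ = TT hfr c := by
    refine (TT_conj hfr (c' := (c 2)⁻¹ • c) ?_).trans ?_
    · rw [act_plane hfr hmi]
      congr 1
      funext j
      fin_cases j <;> simp [hc2]
    · exact (T_congr (comb_smul e _ c) _ (by rw [← comb_smul]; exact hfr.h_ee _ _)).trans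
        (T_smul (inv_ne_zero hc2) _ _)
  obtain ⟨y, hy⟩ := X.surj (π m)
  have hy1 : y ∈ Eh θ (e₁ e f) := mem_Eh.mpr ⟨m, hm.1, hy.symm⟩
  have hyc : ∀ {p : C}, p ∈ Eh θ (e₁ e f) → Commute y p := fun hp => X.Eh_comm (frame_one hfr) hy1 hp
  have hwy : wd a b (y * x0 * y⁻¹) = y * v * y⁻¹ := by
    have := map_wd (MulAut.conj y).toMonoidHom a b x0
    simp only [MulEquiv.coe_toMonoidHom, MulAut.conj_apply] at this
    rw [(hyc ha1).eq, (hyc hb1).eq, mul_inv_cancel_right, mul_inv_cancel_right] at this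
    exact this.symm
  rw [(hyc hv1).eq, mul_inv_cancel_right] at hwy
  have himg : θ (tau X hfr i) = θ (y * x0 * y⁻¹) := by
    rw [hti, map_mul, map_mul, map_inv, hy, hx0, ← hmc]
    simp only [map_mul, map_inv]
  rcases X.fib himg with h | h <;> rw [h]
  · exact Or.inr hwy
  · have hye : y * x0 * y⁻¹ ∈ Eh θ e := (Eh_conj hy (norm₁ hfr hmi) x0).mp hx0e
    rw [wd_mul hA (fun x => (na x).mp) (fun x => (nb x).mp) (X.z_mem e) hye,
      small (X.z_mem e) (X.z_mem _), one_mul]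
    exact Or.inr hwy

theorem avoid : ∀ a c a' c' : Fin 4, (a ≠ 0 ∨ c ≠ 0) → (a' ≠ 0 ∨ c' ≠ 0) → (a ≠ a' ∨ c ≠ c') →
    ∃ x y : Fin 4, (mul4 a x ^^^ mul4 c y) ≠ 0 ∧ (mul4 a' x ^^^ mul4 c' y) ≠ 0 ∧
      (mul4 a x ^^^ mul4 c y) ≠ (mul4 a' x ^^^ mul4 c' y) := by decide +kernel

theorem avoid' (a c a' c' : F) (h : a ≠ 0 ∨ c ≠ 0) (h' : a' ≠ 0 ∨ c' ≠ 0)
    (hne : a ≠ a' ∨ c ≠ c') : ∃ x y : F, a * x + c * y ≠ 0 ∧ a' * x + c' * y ≠ 0 ∧
      a * x + c * y ≠ a' * x + c' * y := by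
  obtain ⟨a, rfl⟩ := φ_surj a
  obtain ⟨c, rfl⟩ := φ_surj c
  obtain ⟨a', rfl⟩ := φ_surj a'
  obtain ⟨c', rfl⟩ := φ_surj c'
  have ne : ∀ {x y : Fin 4}, φ (F := F) (x : ℕ) ≠ φ (y : ℕ) → x ≠ y := fun hxy e => hxy (by rw [e])
  have z0 : φ (F := F) ((0 : Fin 4) : ℕ) = 0 := φ_zero
  obtain ⟨x, y, h1, h2, h3⟩ := avoid a c a' c' (h.imp (fun h => ne (by rwa [z0])) (fun h => ne (by rwa [z0])))
    (h'.imp (fun h => ne (by rwa [z0])) (fun h => ne (by rwa [z0]))) (hne.imp ne ne)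
  have val : ∀ p q x y : Fin 4, φ (F := F) (mul4 p x ^^^ mul4 q y) =
      φ (p : ℕ) * φ (x : ℕ) + φ (q : ℕ) * φ (y : ℕ) := fun p q x y => by
    rw [φ_xor (mul4_lt p.isLt x.isLt) (mul4_lt q.isLt y.isLt), φ_mul p.isLt x.isLt, φ_mul q.isLt y.isLt]
  have lt : ∀ p q x y : Fin 4, mul4 p x ^^^ mul4 q y < 4 := fun p q x y =>
    Nat.xor_lt_two_pow (n := 2) (mul4_lt p.isLt x.isLt) (mul4_lt q.isLt y.isLt)
  refine ⟨φ (x : ℕ), φ (y : ℕ), ?_, ?_, ?_⟩
  · rw [← val, ← φ_zero (F := F)]; exact fun e => h1 (φ_inj (lt _ _ _ _) (by norm_num) e)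
  · rw [← val, ← φ_zero (F := F)]; exact fun e => h2 (φ_inj (lt _ _ _ _) (by norm_num) e)
  · rw [← val, ← val]; exact fun e => h3 (φ_inj (lt _ _ _ _) (lt _ _ _ _) e)

theorem pq {p q : F} (hp : p ≠ 0) (hq : q ≠ 0) (hne : p ≠ q) : p ^ 2 * q + q ^ 2 * p ≠ 0 := by
  rw [show p ^ 2 * q + q ^ 2 * p = p * q * (p + q) by ring]
  exact mul_ne_zero (mul_ne_zero hp hq) fun e => hne (eq_of_add_eq_zero e)

theorem case_i {a c a' c' : F} (h : a ≠ 0 ∨ c ≠ 0) (h' : a' ≠ 0 ∨ c' ≠ 0)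
    (hne : a ≠ a' ∨ c ≠ c')
    (hall : ∀ x y : F,
      (a * x + c * y) ^ 2 * (a' * x + c' * y) + (a' * x + c' * y) ^ 2 * (a * x + c * y) = 0) :
    False := by
  obtain ⟨x, y, h1, h2, h3⟩ := avoid' a c a' c' h h' hne
  exact pq h1 h2 h3 (hall x y)

theorem case_ii {b c b' c' : F} (h : b ≠ 0 ∨ c ≠ 0) (h' : b' ≠ 0 ∨ c' ≠ 0)
    (hne : b ≠ b' ∨ c ≠ c') (h00 : c ^ 2 * c' + c' ^ 2 * c = 0)
    (h11 : b ^ 2 * b' + b' ^ 2 * b = 0) (h01 : c ^ 2 * b' + c' ^ 2 * b = 0) : False := by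
  by_cases hc : c = 0
  · subst hc
    have hb : b ≠ 0 := h.resolve_right (not_not_intro rfl)
    have hc' : c' = 0 := by simpa [hb] using h01
    subst hc'
    exact pq hb (h'.resolve_right (not_not_intro rfl)) (hne.resolve_right (not_not_intro rfl)) h11
  · by_cases hc' : c' = 0
    · subst hc'
      have hb' : b' = 0 := by simpa [hc] using h01
      subst hb'
      exact h'.elim (· rfl) (· rfl)
    · by_cases hcc : c = c'
      · subst hcc
        refine hne.elim (fun hbb => hbb ?_) (· rfl)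
        have : c ^ 2 * (b' + b) = 0 := by rw [← h01]; ring
        exact (eq_of_add_eq_zero ((mul_eq_zero.mp this).resolve_left (pow_ne_zero _ hc))).symm
      · exact pq hc hc' hcc h00

/-- Commuting involutions of the special unitary group whose fourfold products on a plane group are
trivial: one of the three fixes the plane pointwise. -/
theorem trivial_on_plane (hfr : Frame e f) {g k : Cfsg.SU 6 F 2} (hg : g * g = 1) (hk : k * k = 1)
    (hgk : Commute g k) (hgP : ∀ p ∈ P e, g * p * g⁻¹ ∈ P e) (hkP : ∀ p ∈ P e, k * p * k⁻¹ ∈ P e)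
    (hw : ∀ p ∈ P e, wd g k p = 1) : g ∈ P e ∨ k ∈ P e ∨ g * k ∈ P e := by
  classical
  by_contra hno
  push Not at hno
  obtain ⟨ng, nk, ngk⟩ := hno
  have gi : g⁻¹ = g := inv_eq_of_mul_eq_one_right hg
  have ki : k⁻¹ = k := inv_eq_of_mul_eq_one_right hk
  let B : Subgroup (Cfsg.SU 6 F 2) :=
    { carrier := {x | x = 1 ∨ x = g ∨ x = k ∨ x = g * k}
      one_mem' := Or.inl rfl
      mul_mem' := by
        have e1 : k * g = g * k := hgk.eq.symm
        have e2 : g * k * g = k := by rw [mul_assoc, e1, ← mul_assoc, hg, one_mul]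
        have e3 : g * k * k = g := by rw [mul_assoc, hk, mul_one]
        rintro a b (rfl | rfl | rfl | rfl) (rfl | rfl | rfl | rfl) <;>
          simp only [Set.mem_ofPred_eq, one_mul, mul_one, hg, hk, e1, e2, e3, ← mul_assoc, true_or, or_true]
      inv_mem' := by
        rintro a (rfl | rfl | rfl | rfl) <;> simp [gi, ki, hgk.eq] }
  have hBe : Elem B := by
    have hcc : ∀ x ∈ B, Commute x g ∧ Commute x k := by
      rintro x (rfl | rfl | rfl | rfl)
      exacts [⟨Commute.one_left _, Commute.one_left _⟩, ⟨Commute.refl _, hgk⟩, ⟨hgk.symm, Commute.refl _⟩,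
        ⟨(Commute.refl g).mul_left hgk.symm, hgk.mul_left (Commute.refl k)⟩]
    refine fun x hx => ⟨?_, fun y hy => ?_⟩
    · rcases hx with rfl | rfl | rfl | rfl
      exacts [one_mul 1, hg, hk, by rw [hgk.symm.mul_mul_mul_comm, hg, hk, one_mul]]
    · obtain ⟨c1, c2⟩ := hcc x hx
      rcases hy with rfl | rfl | rfl | rfl
      exacts [Commute.one_right x, c1, c2, c1.mul_right c2]
  have stab : ∀ {x : Cfsg.SU 6 F 2}, x * x = 1 → (∀ p ∈ P e, x * p * x⁻¹ ∈ P e) → ∀ i,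
      act x (e i) + e i ∈ Submodule.span F (Set.range e) := fun {x} hx hxP i => by
    refine Submodule.add_mem _ ?_ (Submodule.subset_span ⟨i, rfl⟩)
    have hfix : ∀ c : Fin 3 → F, h (act x (e i)) (comb e c) = 0 := fun c => by
      obtain ⟨p, hp, hpe⟩ : ∃ p ∈ P e, x * p * x⁻¹ = TT hfr c := ⟨x * TT hfr c * x⁻¹,
        hxP _ (TT_mem hfr c), by
          rw [inv_eq_of_mul_eq_one_right hx, show x * (x * TT hfr c * x) * x = x * x * TT hfr c * (x * x)
            by group, hx, one_mul, mul_one]⟩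
      have hfx : act (TT hfr c) (act x (e i)) = act x (e i) := by
        rw [← hpe, OrthUnitaryTransvection.act_mul, OrthUnitaryTransvection.act_mul,
          OrthUnitaryTransvection.act_inv_act, hp i]
      rw [TT, T_act, add_eq_left] at hfx
      rcases smul_eq_zero.mp hfx with h0 | h0
      · exact h0
      · rw [h0, h_zero_right]
    have hv := hfr.expand (act x (e i))
    have h0 : (fun j => h (act x (e i)) (e j)) = 0 := funext fun j => by
      rw [← comb_single e j]; exact hfix _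
    rw [h0, comb_zero, add_zero] at hv
    rw [hv]
    exact Submodule.sum_mem _ fun j _ => Submodule.smul_mem _ _ (Submodule.subset_span ⟨j, rfl⟩)
  have hgB : g ∈ B := Or.inr (Or.inl rfl)
  have hkB : k ∈ B := Or.inr (Or.inr (Or.inl rfl))
  obtain ⟨e', f', hfr', hflag, hP⟩ := exists_flag_in hBe hfr (fun x hx i => by
    rcases hx with rfl | rfl | rfl | rfl
    · rw [OrthUnitaryTransvection.act_one, vec_add_self]; exact Submodule.zero_mem _
    · exact stab hg hgP i
    · exact stab hk hkP i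
    · refine stab ?_ (fun p hp => ?_) i
      · rw [hgk.symm.mul_mul_mul_comm, hg, hk, one_mul]
      · rw [show g * k * p * (g * k)⁻¹ = g * (k * p * k⁻¹) * g⁻¹ by group]
        exact hgP _ (hkP p hp))
  obtain ⟨a, ga⟩ := hflag.one g hgB
  obtain ⟨a', ka⟩ := hflag.one k hkB
  obtain ⟨b, c, gb⟩ := hflag.two g hgB
  obtain ⟨b', c', kb⟩ := hflag.two k hkB
  have g0 := hflag.zero g hgB
  have k0 := hflag.zero k hkB
  have formula : ∀ {x : Cfsg.SU 6 F 2} {a b c : F}, act x (e' 0) = e' 0 →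
      act x (e' 1) = e' 1 + a • e' 0 → act x (e' 2) = e' 2 + b • e' 1 + c • e' 0 → ∀ v : Fin 3 → F,
      act x (comb e' v) = comb e' ![v 0 + a * v 1 + c * v 2, v 1 + b * v 2, v 2] :=
    fun {x a b c} h0 h1 h2 v => by
      rw [comb_three, comb_three]
      simp only [OrthUnitaryTransvection.act_add, OrthUnitaryTransvection.act_smul, h0, h1, h2,
        Matrix.cons_val_zero, Matrix.cons_val_one, Matrix.cons_val, smul_add, smul_smul, add_smul]
      rw [mul_comm (v 2) c, mul_comm (v 2) b, mul_comm (v 1) a]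
      abel
  have Fg := formula g0 ga gb
  have Fk := formula k0 ka kb
  have invol : ∀ {x : Cfsg.SU 6 F 2} {a b c : F}, x * x = 1 → (∀ v : Fin 3 → F,
      act x (comb e' v) = comb e' ![v 0 + a * v 1 + c * v 2, v 1 + b * v 2, v 2]) → a * b = 0 :=
    fun {x a b c} hx hf => by
      have h1 : act (x * x) (comb e' ![0, 0, 1]) = comb e' ![0, 0, 1] := by
        rw [hx, OrthUnitaryTransvection.act_one]
      rw [OrthUnitaryTransvection.act_mul, hf, hf] at h1
      have := congrFun (hfr'.comb_inj h1) 0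
      simp only [Matrix.cons_val_zero, Matrix.cons_val_one, Matrix.cons_val] at this
      linear_combination this - c * (two_eq_zero (F := F))
  have hab := invol hg Fg
  have hab' := invol hk Fk
  have hba : a * b' = a' * b := by
    have h1 : act (g * k) (comb e' ![0, 0, 1]) = act (k * g) (comb e' ![0, 0, 1]) := by rw [hgk.eq]
    rw [OrthUnitaryTransvection.act_mul, OrthUnitaryTransvection.act_mul, Fk, Fg, Fg, Fk] at h1
    have := congrFun (hfr'.comb_inj h1) 0
    simp only [Matrix.cons_val_zero, Matrix.cons_val_one, Matrix.cons_val] at this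
    linear_combination this
  have hgk1 : ∀ v : Fin 3 → F, act (g * k) (comb e' v) =
      comb e' ![v 0 + (a + a') * v 1 + (c + c' + a * b') * v 2, v 1 + (b + b') * v 2, v 2] := fun v => by
    rw [OrthUnitaryTransvection.act_mul, Fk, Fg]
    congr 1
    funext j
    fin_cases j <;> simp <;> ring
  have notP : ∀ {x : Cfsg.SU 6 F 2} {a b c : F}, x ∉ P e → (∀ v : Fin 3 → F,
      act x (comb e' v) = comb e' ![v 0 + a * v 1 + c * v 2, v 1 + b * v 2, v 2]) →
      a ≠ 0 ∨ b ≠ 0 ∨ c ≠ 0 := fun {x a b c} hx hf => by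
    by_contra hall
    push Not at hall
    obtain ⟨rfl, rfl, rfl⟩ := hall
    refine hx (hP ▸ fun i => ?_)
    rw [← comb_single e' i, hf]
    congr 1
    funext j
    fin_cases j <;> simp
  have N1 := notP ng Fg
  have N2 := notP nk Fk
  have N3 := notP ngk hgk1
  have key : ∀ v : Fin 3 → F, ∀ i j : Fin 3,
      v i ^ 2 * v j + ![v 0 + a * v 1 + c * v 2, v 1 + b * v 2, v 2] i ^ 2 *
          ![v 0 + a * v 1 + c * v 2, v 1 + b * v 2, v 2] j +
        ![v 0 + a' * v 1 + c' * v 2, v 1 + b' * v 2, v 2] i ^ 2 *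
          ![v 0 + a' * v 1 + c' * v 2, v 1 + b' * v 2, v 2] j +
        ![v 0 + (a + a') * v 1 + (c + c' + a * b') * v 2, v 1 + (b + b') * v 2, v 2] i ^ 2 *
          ![v 0 + (a + a') * v 1 + (c + c' + a * b') * v 2, v 1 + (b + b') * v 2, v 2] j = 0 :=
    fun v i j => by
      have := hw (TT hfr' v) (hP ▸ TT_mem hfr' v)
      rw [wd, TT_conj hfr' (Fg v), TT_conj hfr' (Fk v), TT_conj hfr' (hgk1 v)] at this
      rw [← mat_four hfr', this, mat, OrthUnitaryTransvection.act_one, hfr'.ff]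
  have two := two_eq_zero (F := F)
  by_cases hb0 : b = 0 ∧ b' = 0
  · obtain ⟨rfl, rfl⟩ := hb0
    refine case_i (a := a) (c := c) (a' := a') (c' := c') ?_ ?_ ?_ fun x y => ?_
    · exact N1.elim Or.inl fun h => h.elim (fun h => absurd rfl h) Or.inr
    · exact N2.elim Or.inl fun h => h.elim (fun h => absurd rfl h) Or.inr
    · rcases N3 with h | h | h
      · exact Or.inl fun e => h (by rw [e]; exact add_self a')
      · simp at h
      · exact Or.inr fun e => h (by rw [e, mul_zero, add_zero]; exact add_self c')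
    · have := key ![0, x, y] 0 0
      simp only [Matrix.cons_val_zero, Matrix.cons_val_one, Matrix.cons_val] at this
      linear_combination this - ((a * x + c * y) ^ 3 + (a' * x + c' * y) ^ 3 +
        (a * x + c * y) ^ 2 * (a' * x + c' * y) + (a * x + c * y) * (a' * x + c' * y) ^ 2) * two
  · have ha0 : a = 0 ∧ a' = 0 := by
      by_cases ha : a = 0
      · refine ⟨ha, ?_⟩
        by_contra ha'
        have hb' : b' = 0 := (mul_eq_zero.mp hab').resolve_left ha'
        have hb : b = 0 := by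
          have : a' * b = 0 := by rw [← hba, ha, zero_mul]
          exact (mul_eq_zero.mp this).resolve_left ha'
        exact hb0 ⟨hb, hb'⟩
      · exfalso
        have hb : b = 0 := (mul_eq_zero.mp hab).resolve_left ha
        have hb' : b' = 0 := by
          have : a * b' = 0 := by rw [hba, hb, mul_zero]
          exact (mul_eq_zero.mp this).resolve_left ha
        exact hb0 ⟨hb, hb'⟩
    obtain ⟨rfl, rfl⟩ := ha0
    refine case_ii (b := b) (c := c) (b' := b') (c' := c') ?_ ?_ ?_ ?_ ?_ ?_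
    · exact N1.elim (fun h => absurd rfl h) id
    · exact N2.elim (fun h => absurd rfl h) id
    · rcases N3 with h | h | h
      · simp at h
      · exact Or.inl fun e => h (by rw [e]; exact add_self b')
      · exact Or.inr fun e => h (by rw [e, zero_mul, add_zero]; exact add_self c')
    · have := key ![0, 0, 1] 0 0
      simp only [Matrix.cons_val_zero, Matrix.cons_val_one, Matrix.cons_val] at this
      linear_combination this - (c ^ 3 + c' ^ 3 + c ^ 2 * c' + c * c' ^ 2) * two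
    · have := key ![0, 0, 1] 1 1
      simp only [Matrix.cons_val_zero, Matrix.cons_val_one, Matrix.cons_val] at this
      linear_combination this - (b ^ 3 + b' ^ 3 + b ^ 2 * b' + b * b' ^ 2) * two
    · have := key ![0, 0, 1] 0 1
      simp only [Matrix.cons_val_zero, Matrix.cons_val_one, Matrix.cons_val] at this
      linear_combination this - (c ^ 2 * b + c' ^ 2 * b' + c * c' * b + c * c' * b') * two

theorem no_central (X : Cov z θ) (hfr : Frame e f) {a b : C}
    (P₁ : Pair θ e a b z) : False := by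
  obtain ⟨g, hg, eg⟩ := lift_sq (F := F) (u := θ a) (by rw [← map_mul, P₁.aa, map_one])
  obtain ⟨k, hk, ek⟩ := lift_sq (F := F) (u := θ b) (by rw [← map_mul, P₁.bb, map_one])
  have hgk : Commute g k := commute_of_mk (n := 6) (by norm_num) hg hk (by
    rw [eg, ek]; exact P₁.ab.map θ)
  have conjP : ∀ {c : C} {m : Cfsg.SU 6 F 2}, π m = θ c → c ∈ Subgroup.normalizer (Eh θ e : Set C) →
      ∀ p ∈ P e, m * p * m⁻¹ ∈ P e := fun {c m} em hc p hp => by
    obtain ⟨x, hx⟩ := X.surj (π p)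
    have := (Subgroup.mem_normalizer_iff.mp hc x).mp (mem_Eh.mpr ⟨p, hp, hx.symm⟩)
    obtain ⟨q, hq, eq⟩ := mem_Eh.mp this
    have hpp : p * p = 1 := congrArg Subtype.val (sq_one hfr ⟨p, hp⟩)
    convert hq using 1
    refine pi_inj ?_ (congrArg Subtype.val (sq_one hfr ⟨q, hq⟩)) ?_
    · rw [show m * p * m⁻¹ * (m * p * m⁻¹) = m * (p * p) * m⁻¹ by group, hpp, mul_one, mul_inv_cancel]
    · rw [eq]; simp only [map_mul, map_inv, em, hx]
  have hgP := conjP eg P₁.na
  have hkP := conjP ek P₁.nb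
  have hw : ∀ p ∈ P e, wd g k p = 1 := fun p hp => by
    obtain ⟨x, hx⟩ := X.surj (π p)
    have hm : wd g k p ∈ P e := by
      refine mul_mem (mul_mem (mul_mem hp (hgP p hp)) (hkP p hp)) ?_
      rw [show g * k * p * (g * k)⁻¹ = g * (k * p * k⁻¹) * g⁻¹ by group]
      exact hgP _ (hkP p hp)
    refine pi_inj (congrArg Subtype.val (sq_one hfr ⟨_, hm⟩)) (one_mul 1) ?_
    rw [map_one, map_wd, eg, ek, ← hx, ← map_wd]
    rcases P₁.vals x (mem_Eh.mpr ⟨p, hp, hx.symm⟩) with h | h <;> rw [h]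
    · exact map_one θ
    · exact X.theta_z
  have hall : ∀ x ∈ Eh θ e, wd a b x = 1 := fun x hx => by
    have hbx := (Subgroup.mem_normalizer_iff.mp P₁.nb x).mp hx
    have hax := (Subgroup.mem_normalizer_iff.mp P₁.na x).mp hx
    rcases trivial_on_plane hfr hg hk hgk hgP hkP hw with h | h | h
    · exact wd_of_commute P₁.ab (X.Eh_comm hfr hx hbx) (X.Eh_sq hfr hx)
        (X.Eh_comm hfr (mem_Eh.mpr ⟨g, h, eg⟩) hx)
    · have hb : Commute b x := X.Eh_comm hfr (mem_Eh.mpr ⟨k, h, ek⟩) hx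
      have h1 : b * x * b⁻¹ = x := by rw [hb.eq, mul_inv_cancel_right]
      have h2 : a * b * x * (a * b)⁻¹ = a * x * a⁻¹ := by
        rw [show a * b * x * (a * b)⁻¹ = a * (b * x * b⁻¹) * a⁻¹ by group, h1]
      rw [wd, h1, h2, mul_assoc (x * (a * x * a⁻¹)), (X.Eh_comm hfr hax hx).mul_mul_mul_comm,
        X.Eh_sq hfr hx, one_mul, show a * x * a⁻¹ * (a * x * a⁻¹) = a * (x * x) * a⁻¹ by group,
        X.Eh_sq hfr hx, mul_one, mul_inv_cancel]
    · have hab : Commute (a * b) x := X.Eh_comm hfr (mem_Eh.mpr ⟨g * k, h, by rw [map_mul, map_mul, eg, ek]⟩) hx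
      have h1 : a * b * x * (a * b)⁻¹ = x := by rw [hab.eq, mul_inv_cancel_right]
      have h2 : b * x * b⁻¹ = a * x * a⁻¹ := by
        calc b * x * b⁻¹ = a * (a * b * x * (a * b)⁻¹) * a⁻¹ := by
              rw [show a * (a * b * x * (a * b)⁻¹) * a⁻¹ = a * a * (b * x * b⁻¹) * (a * a)⁻¹ by group,
                P₁.aa, one_mul, inv_one, mul_one]
          _ = a * x * a⁻¹ := by rw [h1]
      rw [wd, h1, h2, mul_assoc x, show a * x * a⁻¹ * (a * x * a⁻¹) = a * (x * x) * a⁻¹ by group,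
        X.Eh_sq hfr hx, mul_one, mul_inv_cancel, mul_one, X.Eh_sq hfr hx]
  obtain ⟨x, hx, h⟩ := P₁.some
  exact X.ne ((hall x hx).symm.trans h).symm

end Cfsg.Agent.Unit62Double55
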