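import Cfsg.Agent.Lib.Unit62Split55
import Cfsg.Agent.Lib.Unit62Double55
import Cfsg.Agent.Lib.Unit62Exist55

/-!
# Twenty-two conjugates of a central involution

If an involution `d` of a finite group has centralizer a perfect double cover of `PSU(6,2)` and is not
weakly closed in it, then the preimage `A` of a plane group holds exactly 22 conjugates of `d`, permuted
transitively by the normalizer of `A`.
-/

set_option autoImplicit false
set_option linter.unusedSectionVars false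
set_option linter.style.haveILetI false

namespace Cfsg.Agent.Unit62Count55

open Cfsg.Agent.UnitaryF4Geo Cfsg.Agent.ThreeTransM22Frame72
open Cfsg.Agent.Unit62Code55 Cfsg.Agent.Unit62Plane55 Cfsg.Agent.Unit62Cover55
open Cfsg.Agent.Unit62Double55 Cfsg.Agent.Unit62Exist55 Cfsg.Agent.Unit62Split55

variable {G : Type*} [Group G] [Finite G] {d : G}

/-- The central involution inside its centralizer. -/
def dd (d : G) : ↥(Subgroup.centralizer ({d} : Set G)) :=
  ⟨d, Subgroup.mem_centralizer_singleton_iff.mpr rfl⟩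

variable {F : Type} [Field F] [Fintype F] [hF : FourField F]
variable {θ : ↥(Subgroup.centralizer ({d} : Set G)) →* Cfsg.PSU 6 F 2}
variable {e f : Fin 3 → Fin 6 → F}

local notation "π" => QuotientGroup.mk' (Subgroup.center (Cfsg.SU 6 F 2))

/-- The preimage of a plane group in the whole group. -/
def AG (θ : ↥(Subgroup.centralizer ({d} : Set G)) →* Cfsg.PSU 6 F 2) (e : Fin 3 → Fin 6 → F) :
    Subgroup G := (Eh θ e).map (Subgroup.centralizer ({d} : Set G)).subtype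

/-- The conjugates of `d` in it. -/
def SX (θ : ↥(Subgroup.centralizer ({d} : Set G)) →* Cfsg.PSU 6 F 2) (e : Fin 3 → Fin 6 → F) :
    Set G := {x | x ∈ AG θ e ∧ IsConj d x}

theorem mem_AG {x : ↥(Subgroup.centralizer ({d} : Set G))} : (x : G) ∈ AG θ e ↔ x ∈ Eh θ e :=
  ⟨fun ⟨y, hy, he⟩ => by rwa [← Subtype.ext he], fun h => ⟨x, h, rfl⟩⟩

theorem exists_mem_AG {x : G} (hx : x ∈ AG θ e) :
    ∃ y : ↥(Subgroup.centralizer ({d} : Set G)), y ∈ Eh θ e ∧ (y : G) = x := hx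

theorem mem_AG_commute (X : Cov (dd d) θ) (hfr : Frame e f) {x y : G} (hx : x ∈ AG θ e)
    (hy : y ∈ AG θ e) : x * y = y * x := by
  obtain ⟨a, ha, rfl⟩ := exists_mem_AG hx
  obtain ⟨b, hb, rfl⟩ := exists_mem_AG hy
  exact congrArg Subtype.val (X.Eh_comm hfr ha hb).eq

theorem mem_AG_sq (X : Cov (dd d) θ) (hfr : Frame e f) {x : G} (hx : x ∈ AG θ e) : x * x = 1 := by
  obtain ⟨a, ha, rfl⟩ := exists_mem_AG hx
  exact congrArg Subtype.val (X.Eh_sq hfr ha)

theorem d_mem (X : Cov (dd d) θ) : d ∈ AG θ e := ⟨dd d, X.z_mem e, rfl⟩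

theorem card_AG (X : Cov (dd d) θ) (hfr : Frame e f) : Nat.card ↥(AG θ e) = 1024 := by
  rw [AG, Subgroup.card_map_of_injective Subtype.val_injective, X.card_Eh hfr]

theorem conj_isConj {x : G} (n : G) (h : IsConj d x) : IsConj d (n * x * n⁻¹) := by
  obtain ⟨g, rfl⟩ := isConj_iff.mp h
  exact isConj_iff.mpr ⟨n * g, by group⟩

theorem SX_conj {n x : G} (hn : n ∈ Subgroup.normalizer (AG θ e : Set G)) (hx : x ∈ SX θ e) :
    n * x * n⁻¹ ∈ SX θ e :=
  ⟨(Subgroup.mem_normalizer_iff.mp hn x).mp hx.1, conj_isConj n hx.2⟩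

theorem SX_conj_iff {n x : G} (hn : n ∈ Subgroup.normalizer (AG θ e : Set G)) :
    n * x * n⁻¹ ∈ SX θ e ↔ x ∈ SX θ e := by
  refine ⟨fun h => ?_, SX_conj hn⟩
  have := SX_conj ((Subgroup.normalizer _).inv_mem hn) h
  rwa [show n⁻¹ * (n * x * n⁻¹) * n⁻¹⁻¹ = x by group] at this

theorem normalizer_map {c : ↥(Subgroup.centralizer ({d} : Set G))}
    (hc : c ∈ Subgroup.normalizer (Eh θ e : Set _)) : (c : G) ∈ Subgroup.normalizer (AG θ e : Set G) :=
  mem_normalizer_of_finite fun x hx => by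
    obtain ⟨a, ha, rfl⟩ := exists_mem_AG hx
    exact mem_AG (x := c * a * c⁻¹).mpr ((Subgroup.mem_normalizer_iff.mp hc a).mp ha)

/-- The normalizer of the preimage carries `d` to each of its conjugates there. -/
theorem trans (X : Cov (dd d) θ) (hfr : Frame e f) {y : G} (hy : y ∈ SX θ e) :
    ∃ n ∈ Subgroup.normalizer (AG θ e : Set G), n * d * n⁻¹ = y := by
  obtain ⟨g, hg⟩ := isConj_iff.mp hy.2
  have hle : ∀ a ∈ AG θ e, g⁻¹ * a * g ∈ Subgroup.centralizer ({d} : Set G) := fun a ha => by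
    rw [Subgroup.mem_centralizer_singleton_iff]
    have hc := mem_AG_commute X hfr ha hy.1
    rw [show g⁻¹ * a * g * d = g⁻¹ * (a * (g * d * g⁻¹)) * g by group,
      show d * (g⁻¹ * a * g) = g⁻¹ * ((g * d * g⁻¹) * a) * g by group, hg, hc]
  set B : Subgroup ↥(Subgroup.centralizer ({d} : Set G)) := ((AG θ e).map (MulAut.conj g⁻¹).toMonoidHom).subgroupOf (Subgroup.centralizer ({d} : Set G)) with hB
  have hBle : (AG θ e).map (MulAut.conj g⁻¹).toMonoidHom ≤ (Subgroup.centralizer ({d} : Set G)) := by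
    rintro _ ⟨a, ha, rfl⟩
    simpa using hle a ha
  have hbig : Big B := by
    refine ⟨?_, ?_, ?_⟩
    · rintro ⟨_, hm⟩ ⟨a, ha, rfl⟩
      exact Subtype.ext (show (MulAut.conj g⁻¹) a * (MulAut.conj g⁻¹) a = 1 by
        rw [← map_mul, mem_AG_sq X hfr ha, map_one])
    · rintro ⟨_, hm⟩ ⟨a, ha, rfl⟩ ⟨_, hm'⟩ ⟨b, hb, rfl⟩
      exact Subtype.ext (show (MulAut.conj g⁻¹) a * (MulAut.conj g⁻¹) b
          = (MulAut.conj g⁻¹) b * (MulAut.conj g⁻¹) a by
        rw [← map_mul, mem_AG_commute X hfr ha hb, map_mul])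
    · rw [hB, Nat.card_congr (Subgroup.subgroupOfEquivOfLe hBle).toEquiv,
        Subgroup.card_map_of_injective (MulAut.conj g⁻¹).injective, card_AG X hfr]
  obtain ⟨e', f', hfr', hBe⟩ := X.big_cases hbig
  obtain ⟨c, hc⟩ := X.exists_conj hfr hfr'
  refine ⟨g * c, mem_normalizer_of_finite fun x hx => ?_, ?_⟩
  · obtain ⟨a, ha, rfl⟩ := exists_mem_AG hx
    have h1 : c * a * c⁻¹ ∈ B := by rw [hBe]; exact (hc a).mp ha
    obtain ⟨b, hb, hbe⟩ := Subgroup.mem_subgroupOf.mp h1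
    have : g⁻¹ * b * g = (c : G) * a * (c : G)⁻¹ := by simpa using hbe
    rw [show g * (c : G) * a * (g * (c : G))⁻¹ = g * ((c : G) * a * (c : G)⁻¹) * g⁻¹ by group, ← this,
      show g * (g⁻¹ * b * g) * g⁻¹ = b by group]
    exact hb
  · have hcd : (c : G) * d = d * (c : G) := Subgroup.mem_centralizer_singleton_iff.mp c.2
    rw [show g * (c : G) * d * (g * (c : G))⁻¹ = g * ((c : G) * d * (c : G)⁻¹) * g⁻¹ by group, hcd,
      mul_inv_cancel_right, hg]

theorem d_mem_SX (X : Cov (dd d) θ) : d ∈ SX θ e := ⟨d_mem X, IsConj.refl d⟩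

theorem one_notMem (X : Cov (dd d) θ) : (1 : G) ∉ SX θ e := fun h => by
  obtain ⟨g, hg⟩ := isConj_iff.mp h.2
  refine X.ne (Subtype.ext ?_)
  show d = 1
  rwa [mul_inv_eq_one, mul_eq_left] at hg

/-- A second conjugate in the preimage. -/
theorem exists_second (X : Cov (dd d) θ) (hfr : Frame e f)
    (hnwc : ∃ g : G, g * d * g⁻¹ ∈ Subgroup.centralizer ({d} : Set G) ∧ g * d * g⁻¹ ≠ d) :
    ∃ x ∈ SX θ e, x ≠ d := by
  obtain ⟨g, hgC, hne⟩ := hnwc
  have hd2 : d * d = 1 := congrArg Subtype.val X.zz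
  obtain ⟨e', f', hfr', hx⟩ := exists_plane X
    (x := (⟨g * d * g⁻¹, hgC⟩ : ↥(Subgroup.centralizer ({d} : Set G)))) (Subtype.ext (by
      show g * d * g⁻¹ * (g * d * g⁻¹) = 1
      rw [show g * d * g⁻¹ * (g * d * g⁻¹) = g * (d * d) * g⁻¹ by group, hd2, mul_one, mul_inv_cancel]))
  obtain ⟨c, hc⟩ := X.exists_conj hfr' hfr
  refine ⟨(c : G) * (g * d * g⁻¹) * (c : G)⁻¹,
    ⟨mem_AG.mpr ((hc _).mp hx), conj_isConj _ (isConj_iff.mpr ⟨g, rfl⟩)⟩, fun h => hne ?_⟩
  have hcd : (c : G) * d = d * (c : G) := Subgroup.mem_centralizer_singleton_iff.mp c.2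
  calc g * d * g⁻¹ = (c : G)⁻¹ * ((c : G) * (g * d * g⁻¹) * (c : G)⁻¹) * (c : G) := by group
    _ = d := by rw [h, mul_assoc, ← hcd, inv_mul_cancel_left]

/-- A lift of a rank one point fixed by a pair is not conjugate to `d`. -/
theorem exists_not_conj (X : Cov (dd d) θ) (hfr : Frame e f) :
    ∃ (v : ↥(Subgroup.centralizer ({d} : Set G))) (hv : v ∈ Eh θ e),
      cd hfr v hv = pc 0 ∧ (v : G) ∉ SX θ e := by
  obtain ⟨v, hv, a, b, hcd, hp⟩ := exists_pair X hfr
  refine ⟨v, hv, hcd, fun hS => ?_⟩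
  obtain ⟨n, hn, hnv⟩ := trans X hfr hS
  have hd' : d = n⁻¹ * (v : G) * n := by rw [← hnv]; group
  have mem : ∀ c : ↥(Subgroup.centralizer ({d} : Set G)), Commute c v → n⁻¹ * (c : G) * n ∈ (Subgroup.centralizer ({d} : Set G)) := fun c hc => by
    rw [Subgroup.mem_centralizer_singleton_iff]
    calc n⁻¹ * (c : G) * n * d = n⁻¹ * (c : G) * n * (n⁻¹ * (v : G) * n) := by rw [← hd']
      _ = n⁻¹ * ((c : G) * v) * n := by group
      _ = n⁻¹ * ((v : G) * c) * n := by rw [show (c : G) * v = v * c from congrArg Subtype.val hc.eq]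
      _ = n⁻¹ * (v : G) * n * (n⁻¹ * (c : G) * n) := by group
      _ = d * (n⁻¹ * (c : G) * n) := by rw [← hd']
  have nn : ∀ c : ↥(Subgroup.centralizer ({d} : Set G)), ∀ hc : Commute c v, c ∈ Subgroup.normalizer (Eh θ e : Set ↥(Subgroup.centralizer ({d} : Set G))) →
      (⟨_, mem c hc⟩ : ↥(Subgroup.centralizer ({d} : Set G))) ∈ Subgroup.normalizer (Eh θ e : Set ↥(Subgroup.centralizer ({d} : Set G))) := fun c hc hcn =>
    mem_normalizer_of_finite fun x hx => by
      refine mem_AG.mp ?_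
      show n⁻¹ * (c : G) * n * (x : G) * (n⁻¹ * (c : G) * n)⁻¹ ∈ AG θ e
      have h1 := (Subgroup.mem_normalizer_iff.mp hn x).mp (mem_AG.mpr hx)
      have h2 := (Subgroup.mem_normalizer_iff.mp (normalizer_map hcn) _).mp h1
      have h3 := (Subgroup.mem_normalizer_iff.mp ((Subgroup.normalizer _).inv_mem hn) _).mp h2
      convert h3 using 1
      group
  refine no_central X hfr (a := ⟨_, mem a hp.av⟩) (b := ⟨_, mem b hp.bv⟩)
    ⟨nn a hp.av hp.na, nn b hp.bv hp.nb, ?_, ?_, ?_, (X.central _).symm, (X.central _).symm, ?_, ?_⟩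
  · exact Subtype.ext (show n⁻¹ * (a : G) * n * (n⁻¹ * (a : G) * n) = 1 by
      rw [show n⁻¹ * (a : G) * n * (n⁻¹ * (a : G) * n) = n⁻¹ * ((a : G) * a) * n by group,
        show (a : G) * a = 1 from congrArg Subtype.val hp.aa, mul_one, inv_mul_cancel])
  · exact Subtype.ext (show n⁻¹ * (b : G) * n * (n⁻¹ * (b : G) * n) = 1 by
      rw [show n⁻¹ * (b : G) * n * (n⁻¹ * (b : G) * n) = n⁻¹ * ((b : G) * b) * n by group,
        show (b : G) * b = 1 from congrArg Subtype.val hp.bb, mul_one, inv_mul_cancel])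
  · exact Subtype.ext (show n⁻¹ * (a : G) * n * (n⁻¹ * (b : G) * n)
        = n⁻¹ * (b : G) * n * (n⁻¹ * (a : G) * n) by
      rw [show n⁻¹ * (a : G) * n * (n⁻¹ * (b : G) * n) = n⁻¹ * ((a : G) * b) * n by group,
        show n⁻¹ * (b : G) * n * (n⁻¹ * (a : G) * n) = n⁻¹ * ((b : G) * a) * n by group,
        show (a : G) * b = b * a from congrArg Subtype.val hp.ab.eq])
  all_goals
    have key : ∀ x : ↥(Subgroup.centralizer ({d} : Set G)), ∀ y : ↥(Subgroup.centralizer ({d} : Set G)), (y : G) = n * (x : G) * n⁻¹ →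
        ((wd (⟨_, mem a hp.av⟩ : ↥(Subgroup.centralizer ({d} : Set G))) ⟨_, mem b hp.bv⟩ x : ↥(Subgroup.centralizer ({d} : Set G))) : G) = n⁻¹ * ((wd a b y : ↥(Subgroup.centralizer ({d} : Set G))) : G) * n := by
      intro x y hy
      simp only [wd, Subgroup.coe_mul, InvMemClass.coe_inv, hy]
      group
  · intro x hx
    obtain ⟨y, hy, hye⟩ := exists_mem_AG ((Subgroup.mem_normalizer_iff.mp hn x).mp (mem_AG.mpr hx))
    rcases hp.vals y hy with h | h
    · exact Or.inl (Subtype.ext (by rw [key x y hye, h]; simp))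
    · exact Or.inr (Subtype.ext (by rw [key x y hye, h]; exact hd'.symm))
  · obtain ⟨y, hy, hye⟩ := hp.some
    have h1 : n⁻¹ * (y : G) * n ∈ AG θ e := by
      have := (Subgroup.mem_normalizer_iff.mp ((Subgroup.normalizer _).inv_mem hn) _).mp
        (mem_AG.mpr hy)
      rwa [inv_inv] at this
    obtain ⟨x, hx, hxe⟩ := exists_mem_AG h1
    exact ⟨x, hx, Subtype.ext (by
      rw [key x y (by rw [hxe]; group), hye]; exact hd'.symm)⟩

/-! ### Fibres over the codes -/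

open scoped Classical in
/-- The number of conjugates of `d` over a code. -/
noncomputable def cnt (hfr : Frame e f) (n : ℕ) : ℕ :=
  Nat.card {x : ↥(Eh θ e) // cd hfr (x : ↥(Subgroup.centralizer ({d} : Set G))) x.2 = n ∧
    ((x : ↥(Subgroup.centralizer ({d} : Set G))) : G) ∈ SX θ e}

theorem cnt_le_two (X : Cov (dd d) θ) (hfr : Frame e f) (n : ℕ) : cnt (θ := θ) hfr n ≤ 2 := by
  classical
  rw [cnt]
  rcases isEmpty_or_nonempty {x : ↥(Eh θ e) // cd hfr (x : ↥(Subgroup.centralizer ({d} : Set G))) x.2 = n ∧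
    ((x : ↥(Subgroup.centralizer ({d} : Set G))) : G) ∈ SX θ e} with h | ⟨⟨x₀⟩⟩
  · simp
  refine (Nat.card_le_card_of_injective (fun x => decide (x.1 = x₀.1)) fun x y hxy => ?_).trans
    (by simp)
  by_cases hx : x.1 = x₀.1
  · simp only [hx, decide_true] at hxy
    exact Subtype.ext (hx.trans (of_decide_eq_true hxy.symm).symm)
  · simp only [hx, decide_false] at hxy
    have hy : ¬ y.1 = x₀.1 := of_decide_eq_false hxy.symm
    refine Subtype.ext (Subtype.ext ?_)
    rw [(X.cd_fib hfr x.1.2 x₀.1.2 (x.2.1.trans x₀.2.1.symm)).resolve_left fun e => hx (Subtype.ext e),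
      (X.cd_fib hfr y.1.2 x₀.1.2 (y.2.1.trans x₀.2.1.symm)).resolve_left fun e => hy (Subtype.ext e)]

theorem cnt_le (X : Cov (dd d) θ) (hfr : Frame e f) {k : Cfsg.SU 6 F 2}
    (hk : ∀ g, g ∈ P e ↔ k * g * k⁻¹ ∈ P e) {n n' : ℕ}
    (hmove : ∀ p : ↥(P e), code hfr p = n → ∀ q : ↥(P e), q.1 = k * p.1 * k⁻¹ → code hfr q = n') :
    cnt (θ := θ) hfr n ≤ cnt (θ := θ) hfr n' := by
  obtain ⟨y, hy⟩ := X.surj (π k)
  have hN := normalizer_of X hy hk
  have hm : ∀ x : ↥(Eh θ e), y * (x : ↥(Subgroup.centralizer ({d} : Set G))) * y⁻¹ ∈ Eh θ e :=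
    fun x => (Subgroup.mem_normalizer_iff.mp hN _).mp x.2
  refine Nat.card_le_card_of_injective (fun x => ⟨⟨_, hm x.1⟩, ?_, SX_conj (normalizer_map hN) x.2.2⟩)
    fun x x' h => ?_
  · rw [cd_eq hfr (hm x.1) (g := ⟨k * (part x.1.1 x.1.2).1 * k⁻¹, (hk _).mp (part _ _).2⟩) (by
      simp only [map_mul, map_inv, part_spec, hy])]
    exact hmove (part x.1.1 x.1.2) x.2.1 _ rfl
  · have := congrArg (fun w => ((w.1 : ↥(Eh θ e)) : ↥(Subgroup.centralizer ({d} : Set G)))) h
    exact Subtype.ext (Subtype.ext (mul_left_cancel (mul_right_cancel this)))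

theorem cnt_one (X : Cov (dd d) θ) (hfr : Frame e f) (i j : Fin 21) :
    cnt (θ := θ) hfr (pc i) ≤ cnt (θ := θ) hfr (pc j) := by
  have h3 : ∀ i : Fin 21, ∃ p q : Fin 21, det3 (pv i) (pv p) (pv q) ≠ 0 := fun i => by
    obtain ⟨p, hp⟩ := exists_ne i
    obtain ⟨q, hq⟩ := exists_third i p hp.symm
    exact ⟨p, q, hq⟩
  obtain ⟨p, q, hd⟩ := h3 i
  obtain ⟨p', q', hd'⟩ := h3 j
  obtain ⟨k, hk, hi, -, -⟩ := triangle_move hfr hfr hd hd'
  refine cnt_le X hfr hk fun a ha b hb => ?_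
  rw [code_injective hfr (ha.trans (code_tp hfr i).symm), hi] at hb
  rw [Subtype.ext hb, code_tp]

theorem cnt_two (X : Cov (dd d) θ) (hfr : Frame e f) {n n' : ℕ} (hn : n ∈ two) (hn' : n' ∈ two) :
    cnt (θ := θ) hfr n ≤ cnt (θ := θ) hfr n' := by
  obtain ⟨i, j, hij, rfl⟩ := two_spec n hn
  obtain ⟨i', j', hij', rfl⟩ := two_spec n' hn'
  obtain ⟨q, hd⟩ := exists_third i j hij
  obtain ⟨q', hd'⟩ := exists_third i' j' hij'
  obtain ⟨k, hk, hi, hj, -⟩ := triangle_move hfr hfr hd hd'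
  refine cnt_le X hfr hk fun a ha b hb => ?_
  rw [code_injective hfr (ha.trans ((by rw [code_mul, code_tp, code_tp] :
      code hfr (tp hfr i * tp hfr j) = pc i ^^^ pc j)).symm), Subgroup.coe_mul,
    show k * ((tp hfr i).1 * (tp hfr j).1) * k⁻¹ =
      (k * (tp hfr i).1 * k⁻¹) * (k * (tp hfr j).1 * k⁻¹) by group, hi, hj] at hb
  rw [show b = tp hfr i' * tp hfr j' from Subtype.ext hb, code_mul, code_tp, code_tp]

theorem cnt_three (X : Cov (dd d) θ) (hfr : Frame e f) {n n' : ℕ} (hn : n ∈ three)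
    (hn' : n' ∈ three) : cnt (θ := θ) hfr n ≤ cnt (θ := θ) hfr n' := by
  obtain ⟨i, j, l, hd, rfl⟩ := three_spec n hn
  obtain ⟨i', j', l', hd', rfl⟩ := three_spec n' hn'
  obtain ⟨k, hk, hi, hj, hl⟩ := triangle_move hfr hfr hd hd'
  refine cnt_le X hfr hk fun a ha b hb => ?_
  rw [code_injective hfr (ha.trans ((by rw [code_mul, code_mul, code_tp, code_tp, code_tp] :
      code hfr (tp hfr i * tp hfr j * tp hfr l) = pc i ^^^ pc j ^^^ pc l)).symm), Subgroup.coe_mul,
    Subgroup.coe_mul,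
    show k * ((tp hfr i).1 * (tp hfr j).1 * (tp hfr l).1) * k⁻¹ =
      (k * (tp hfr i).1 * k⁻¹) * (k * (tp hfr j).1 * k⁻¹) * (k * (tp hfr l).1 * k⁻¹) by group,
    hi, hj, hl] at hb
  rw [show b = tp hfr i' * tp hfr j' * tp hfr l' from Subtype.ext hb, code_mul, code_mul, code_tp,
    code_tp, code_tp]

theorem cd_z (X : Cov (dd d) θ) (hfr : Frame e f) : cd hfr (dd d) (X.z_mem e) = 0 := by
  rw [cd_eq hfr (X.z_mem e) (g := 1) (by rw [OneMemClass.coe_one, map_one, X.theta_z]), code_one]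

theorem cnt_zero (X : Cov (dd d) θ) (hfr : Frame e f) : cnt (θ := θ) hfr 0 = 1 := by
  classical
  refine Nat.card_eq_one_iff_exists.mpr ⟨⟨⟨dd d, X.z_mem e⟩, cd_z X hfr, d_mem_SX X⟩, fun x => ?_⟩
  refine Subtype.ext (Subtype.ext ?_)
  rcases X.cd_fib hfr x.1.2 (one_mem _) (x.2.1.trans (cd_one hfr).symm) with h | h
  · exact absurd (show (1 : G) ∈ SX θ e by simpa [h] using x.2.2) (one_notMem X)
  · rw [h, mul_one]

theorem counts : ((Finset.range 512).filter fun n => n = 0).card = 1 ∧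
    ((Finset.range 512).filter fun n => n ∈ one).card = 21 ∧
    ((Finset.range 512).filter fun n => n ∈ two).card = 210 ∧
    ((Finset.range 512).filter fun n => n ∈ three).card = 280 := by decide +kernel

theorem one_excl : ∀ n : Fin 512, ((n : ℕ) = 0 → (n : ℕ) ∉ one ∧ (n : ℕ) ∉ two ∧ (n : ℕ) ∉ three) ∧
    ((n : ℕ) ∈ one → (n : ℕ) ∉ two ∧ (n : ℕ) ∉ three) ∧ ((n : ℕ) ∈ two → (n : ℕ) ∉ three) := by
  decide +kernel

/-- The class sizes. -/
theorem card_formula (X : Cov (dd d) θ) (hfr : Frame e f) :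
    ∃ a b c : ℕ, a ≤ 1 ∧ b ≤ 2 ∧ c ≤ 2 ∧ (SX θ e).ncard = 1 + 21 * a + 210 * b + 280 * c ∧
      ∀ n : Fin 512, ((n : ℕ) ∈ one → cnt (θ := θ) hfr n = a) ∧
        ((n : ℕ) ∈ two → cnt (θ := θ) hfr n = b) ∧ ((n : ℕ) ∈ three → cnt (θ := θ) hfr n = c) := by
  classical
  obtain ⟨n2, hn2⟩ := List.exists_mem_of_length_pos (by rw [two_length]; norm_num : 0 < two.length)
  obtain ⟨n3, hn3⟩ := List.exists_mem_of_length_pos (by rw [three_length]; norm_num : 0 < three.length)
  have hcls : ∀ n : Fin 512, ((n : ℕ) ∈ one → cnt (θ := θ) hfr n = cnt (θ := θ) hfr (pc 0)) ∧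
      ((n : ℕ) ∈ two → cnt (θ := θ) hfr n = cnt (θ := θ) hfr n2) ∧
      ((n : ℕ) ∈ three → cnt (θ := θ) hfr n = cnt (θ := θ) hfr n3) := fun n => by
    refine ⟨fun h => ?_, fun h => le_antisymm (cnt_two X hfr h hn2) (cnt_two X hfr hn2 h),
      fun h => le_antisymm (cnt_three X hfr h hn3) (cnt_three X hfr hn3 h)⟩
    obtain ⟨i, -, hi⟩ := List.mem_map.mp h
    rw [← hi]; exact le_antisymm (cnt_one X hfr i 0) (cnt_one X hfr 0 i)
  refine ⟨_, _, _, ?_, cnt_le_two X hfr n2, cnt_le_two X hfr n3, ?_, hcls⟩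
  · obtain ⟨v, hv, hcd, hnot⟩ := exists_not_conj X hfr
    rw [cnt]
    refine Finite.card_le_one_iff_subsingleton.mpr ⟨fun x y => Subtype.ext (Subtype.ext ?_)⟩
    have hx := (X.cd_fib hfr x.1.2 hv (x.2.1.trans hcd.symm)).resolve_left fun h => hnot (h ▸ x.2.2)
    have hy := (X.cd_fib hfr y.1.2 hv (y.2.1.trans hcd.symm)).resolve_left fun h => hnot (h ▸ y.2.2)
    rw [hx, hy]
  · haveI : Fintype ↥(Eh θ e) := Fintype.ofFinite _
    set S : Finset ↥(Eh θ e) := Finset.univ.filter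
      (fun x : ↥(Eh θ e) => ((x : ↥(Subgroup.centralizer ({d} : Set G))) : G) ∈ SX θ e) with hS
    have hcard : (SX θ e).ncard = S.card := by
      rw [← Set.ncard_coe_finset S, ← Set.ncard_image_of_injective (S : Set ↥(Eh θ e))
        (f := fun x : ↥(Eh θ e) => ((x : ↥(Subgroup.centralizer ({d} : Set G))) : G))
        (fun x y h => Subtype.ext (Subtype.ext h))]
      congr 1
      ext x
      refine ⟨fun hx => ?_, ?_⟩
      · obtain ⟨y, hy, rfl⟩ := exists_mem_AG hx.1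
        exact ⟨⟨y, hy⟩, by simpa [hS] using hx, rfl⟩
      · rintro ⟨y, hy, rfl⟩
        simpa [hS] using hy
    rw [hcard, Finset.card_eq_sum_card_fiberwise (f := fun x : ↥(Eh θ e) =>
      cd hfr (x : ↥(Subgroup.centralizer ({d} : Set G))) x.2) (t := Finset.range 512)
      (fun x _ => Finset.mem_range.mpr (cd_lt hfr x.2))]
    have hfib : ∀ n ∈ Finset.range 512,
        (S.filter fun x : ↥(Eh θ e) =>
          cd hfr (x : ↥(Subgroup.centralizer ({d} : Set G))) x.2 = n).card =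
        (if n = 0 then 1 else 0) + (if n ∈ one then cnt (θ := θ) hfr (pc 0) else 0) +
          (if n ∈ two then cnt (θ := θ) hfr n2 else 0) + (if n ∈ three then cnt (θ := θ) hfr n3 else 0) := by
      intro n hn
      have hn' := Finset.mem_range.mp hn
      have e1 : (S.filter fun x : ↥(Eh θ e) =>
          cd hfr (x : ↥(Subgroup.centralizer ({d} : Set G))) x.2 = n).card = cnt (θ := θ) hfr n := by
        rw [cnt, Nat.card_eq_fintype_card, Fintype.card_subtype, hS, Finset.filter_filter]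
        exact congrArg Finset.card (Finset.filter_congr fun x _ => and_comm)
      rw [e1]
      obtain ⟨x1, x2, x3⟩ := one_excl ⟨n, hn'⟩
      by_cases h0 : n = 0
      · subst h0
        obtain ⟨y1, y2, y3⟩ := x1 rfl
        rw [cnt_zero X hfr, if_pos rfl, if_neg y1, if_neg y2, if_neg y3]
      rcases classes ⟨n, hn'⟩ h0 with h | h | h
      · rw [(hcls ⟨n, hn'⟩).1 h, if_neg h0, if_pos h, if_neg (x2 h).1, if_neg (x2 h).2]; simp
      · rw [(hcls ⟨n, hn'⟩).2.1 h, if_neg h0, if_neg fun h' => (x2 h').1 h, if_pos h,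
          if_neg (x3 h)]; simp
      · rw [(hcls ⟨n, hn'⟩).2.2 h, if_neg h0, if_neg fun h' => (x2 h').2 h,
          if_neg fun h' => x3 h' h, if_pos h]; simp
    rw [Finset.sum_congr rfl hfib, Finset.sum_add_distrib, Finset.sum_add_distrib,
      Finset.sum_add_distrib, ← Finset.sum_filter, ← Finset.sum_filter, ← Finset.sum_filter,
      ← Finset.sum_filter, Finset.sum_const, Finset.sum_const, Finset.sum_const, Finset.sum_const,
      counts.1, counts.2.1, counts.2.2.1, counts.2.2.2]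
    simp only [smul_eq_mul, mul_one]

/-! ### The orbit length -/

theorem aut_order {A : Subgroup G} (hA : Nat.card ↥A = 1024) {q : ℕ} [Fact q.Prime]
    {φ : MulAut ↥A} (hφ : orderOf φ = q) (hq : q ≠ 2) :
    ∃ m : Fin 11, 0 < (m : ℕ) ∧ q ∣ 2 ^ (m : ℕ) - 1 := by
  classical
  haveI : Fintype ↥A := Fintype.ofFinite _
  set P := Subgroup.zpowers φ with hP
  have hPq : IsPGroup q ↥P := IsPGroup.of_card (n := 1) (by rw [Nat.card_zpowers, hφ, pow_one])
  have hmod := hPq.card_modEq_card_fixedPoints (α := ↥A)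
  let Fx : Subgroup ↥A :=
    { carrier := MulAction.fixedPoints ↥P ↥A
      one_mem' := fun p => smul_one p
      mul_mem' := fun {a b} ha hb p => by rw [smul_mul', ha p, hb p]
      inv_mem' := fun {a} ha p => by rw [smul_inv', ha p] }
  have hd := Subgroup.card_subgroup_dvd_card Fx
  rw [hA, show (1024 : ℕ) = 2 ^ 10 by norm_num] at hd
  obtain ⟨j, hj, hcard⟩ := (Nat.dvd_prime_pow Nat.prime_two).mp hd
  have hne : j ≠ 10 := fun h => by
    have htop : Fx = ⊤ := Subgroup.eq_top_of_card_eq _ (by rw [hcard, h, hA]; norm_num)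
    have h1 : φ = 1 := MulEquiv.ext fun a =>
      (show a ∈ Fx from htop ▸ Subgroup.mem_top a) ⟨φ, Subgroup.mem_zpowers φ⟩
    rw [h1, orderOf_one] at hφ
    exact (Fact.out : q.Prime).one_lt.ne hφ
  refine ⟨⟨10 - j, by omega⟩, by show 0 < 10 - j; omega, ?_⟩
  have h2 : q ∣ 1024 - 2 ^ j := by
    have : Nat.card ↥Fx ≡ Nat.card ↥A [MOD q] := hmod.symm
    rw [hcard, hA] at this
    exact (Nat.modEq_iff_dvd' (by
      calc 2 ^ j ≤ 2 ^ 10 := Nat.pow_le_pow_right (by norm_num) hj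
        _ = 1024 := by norm_num)).mp this
  have h3 : 1024 - 2 ^ j = 2 ^ j * (2 ^ (10 - j) - 1) := by
    rw [Nat.mul_sub, mul_one, ← pow_add, Nat.add_sub_cancel' hj]; norm_num
  rw [h3] at h2
  refine ((Fact.out : q.Prime).dvd_mul.mp h2).resolve_left fun h => hq ?_
  exact (Nat.prime_dvd_prime_iff_eq Fact.out Nat.prime_two).mp
    ((Fact.out : q.Prime).dvd_of_dvd_pow h)

theorem orbit_primes (X : Cov (dd d) θ) (hfr : Frame e f) {q : ℕ} (hqp : q.Prime) (hq2 : q ≠ 2)
    (hdvd : q ∣ (SX θ e).ncard) : ∃ m : Fin 11, 0 < (m : ℕ) ∧ q ∣ 2 ^ (m : ℕ) - 1 := by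
  haveI : Fact q.Prime := ⟨hqp⟩
  set M := (Subgroup.normalizerMonoidHom (AG θ e)).range with hM
  set dA : ↥(AG θ e) := ⟨d, d_mem X⟩ with hdA
  have horb : (SX θ e).ncard = Nat.card ↥(MulAction.orbit ↥M dA) := by
    rw [Nat.card_coe_set_eq, ← Set.ncard_image_of_injective _
      (f := fun x : ↥(AG θ e) => (x : G)) Subtype.val_injective]
    congr 1
    ext y
    constructor
    · intro hy
      obtain ⟨n, hn, rfl⟩ := trans X hfr hy
      exact ⟨(⟨Subgroup.normalizerMonoidHom (AG θ e) ⟨n, hn⟩, ⟨_, rfl⟩⟩ : ↥M) • dA,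
        MulAction.mem_orbit _ _, rfl⟩
    · rintro ⟨_, ⟨⟨_, ⟨n, rfl⟩⟩, rfl⟩, rfl⟩
      exact SX_conj n.2 (d_mem_SX X)
  have hdm : q ∣ Nat.card ↥M := hdvd.trans (horb ▸ by
    rw [Nat.card_congr (MulAction.orbitEquivQuotientStabilizer ↥M dA)]; exact Subgroup.card_quotient_dvd_card _)
  obtain ⟨φ, hφ⟩ := exists_prime_orderOf_dvd_card' q hdm
  exact aut_order (card_AG X hfr) (φ := (φ : MulAut _)) ((orderOf_injective M.subtype
    Subtype.val_injective φ).trans hφ) hq2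

theorem arith : ∀ a b c : Fin 3, (a : ℕ) ≤ 1 →
    (∀ q ∈ [3, 13, 19, 29, 97, 109, 151, 167, 211, 257, 281, 421, 491, 701],
      q ∣ 1 + 21 * (a : ℕ) + 210 * (b : ℕ) + 280 * (c : ℕ) →
      ∃ m : Fin 11, 0 < (m : ℕ) ∧ q ∣ 2 ^ (m : ℕ) - 1) →
    1 + 21 * (a : ℕ) + 210 * (b : ℕ) + 280 * (c : ℕ) = 1 ∨
      1 + 21 * (a : ℕ) + 210 * (b : ℕ) + 280 * (c : ℕ) = 22 ∨
      ((a : ℕ) = 0 ∧ (b : ℕ) = 0 ∧ (c : ℕ) = 2) ∨
      (0 < (a : ℕ) ∧ 0 < (b : ℕ) ∧ 0 < (c : ℕ) ∧
        (1 + 21 * (a : ℕ) + 210 * (b : ℕ) + 280 * (c : ℕ) = 512 ∨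
          1 + 21 * (a : ℕ) + 210 * (b : ℕ) + 280 * (c : ℕ) = 792)) := by
  decide +kernel

theorem primes_list : ∀ q ∈ [3, 13, 19, 29, 97, 109, 151, 167, 211, 257, 281, 421, 491, 701],
    Nat.Prime q ∧ q ≠ 2 := by
  norm_num

/-- A property of the conjugates that holds at `d` holds everywhere. -/
theorem spread (X : Cov (dd d) θ) (hfr : Frame e f) {R : G → G → Prop}
    (hR : ∀ n ∈ Subgroup.normalizer (AG θ e : Set G), ∀ x y, R (n * x * n⁻¹) (n * y * n⁻¹) → R x y)
    (h : ∀ y, R d y → False) : ∀ x ∈ SX θ e, ∀ y, R x y → False := by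
  intro x hx y hy
  obtain ⟨n, hn, rfl⟩ := trans X hfr hx
  refine h (n⁻¹ * y * n) (hR n hn _ _ ?_)
  rwa [show n * (n⁻¹ * y * n) * n⁻¹ = y by group]

theorem ncard_eq (X : Cov (dd d) θ) (hfr : Frame e f)
    (hnwc : ∃ g : G, g * d * g⁻¹ ∈ Subgroup.centralizer ({d} : Set G) ∧ g * d * g⁻¹ ≠ d) :
    (SX θ e).ncard = 22 := by
  classical
  obtain ⟨a, b, c, ha, hb, hc, hN, hcls⟩ := card_formula X hfr
  obtain ⟨x₁, hx₁, hne₁⟩ := exists_second X hfr hnwc
  have h1 : (SX θ e).ncard ≠ 1 := fun h => by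
    obtain ⟨s, hs⟩ := Set.ncard_eq_one.mp h
    have hd' := d_mem_SX (e := e) X
    rw [hs, Set.mem_singleton_iff] at hd' hx₁
    exact hne₁ (hx₁.trans hd'.symm)
  have hcases := arith ⟨a, by omega⟩ ⟨b, by omega⟩ ⟨c, by omega⟩ ha (fun q hq hdvd =>
    orbit_primes X hfr (primes_list q hq).1 (primes_list q hq).2 (hN ▸ hdvd))
  simp only at hcases
  -- the fibre of a member
  have fibre : ∀ y : ↥(Subgroup.centralizer ({d} : Set G)), ∀ hy : y ∈ Eh θ e,
      cd hfr y hy ≠ 0 → ((y : G) ∈ SX θ e ∧ d * (y : G) ∈ SX θ e →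
        cnt (θ := θ) hfr (cd hfr y hy) = 2) ∧
      (0 < cnt (θ := θ) hfr (cd hfr y hy) → (y : G) ∈ SX θ e ∨ d * (y : G) ∈ SX θ e) ∧
      (cnt (θ := θ) hfr (cd hfr y hy) = 2 → (y : G) ∈ SX θ e ∧ d * (y : G) ∈ SX θ e) := by
    intro y hy _
    have hzy : dd d * y ∈ Eh θ e := mul_mem (X.z_mem e) hy
    have hzcd : cd hfr (dd d * y) hzy = cd hfr y hy := by
      rw [cd_mul hfr (X.z_mem e) hy, cd_z X hfr, Nat.zero_xor]
    refine ⟨fun ⟨h1, h2⟩ => le_antisymm (cnt_le_two X hfr _) ?_, fun hpos => ?_, fun h2 => ?_⟩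
    · rw [cnt, show 2 = Nat.card Bool by simp]
      refine Nat.card_le_card_of_injective
        (fun t : Bool => if t then ⟨⟨y, hy⟩, rfl, h1⟩ else ⟨⟨_, hzy⟩, hzcd, h2⟩) ?_
      intro s t hst
      have hv := congrArg (fun w => ((w.1 : ↥(Eh θ e)) : ↥(Subgroup.centralizer ({d} : Set G)))) hst
      cases s <;> cases t <;> simp at hv ⊢
      · exact X.ne hv
      · exact X.ne hv
    · obtain ⟨⟨x, hxn, hxS⟩⟩ := (Nat.card_pos_iff.mp hpos).1
      rcases X.cd_fib hfr x.2 hy hxn with h | h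
      · exact Or.inl (h ▸ hxS)
      · exact Or.inr (by simpa [h, dd] using hxS)
    · rw [cnt] at h2
      obtain ⟨u, w, huw, -⟩ := Nat.card_eq_two_iff.mp h2
      rcases X.cd_fib hfr u.1.2 hy u.2.1 with hu | hu <;>
        rcases X.cd_fib hfr w.1.2 hy w.2.1 with hw | hw
      · exact absurd (Subtype.ext (Subtype.ext (hu.trans hw.symm))) huw
      · exact ⟨hu ▸ u.2.2, by simpa [hw, dd] using w.2.2⟩
      · exact ⟨hw ▸ w.2.2, by simpa [hu, dd] using u.2.2⟩
      · exact absurd (Subtype.ext (Subtype.ext (hu.trans hw.symm))) huw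
  -- the fibre over zero
  have zero : ∀ y : ↥(Subgroup.centralizer ({d} : Set G)), ∀ hy : y ∈ Eh θ e,
      cd hfr y hy = 0 → (y : G) = 1 ∨ (y : G) = d := fun y hy h0 => by
    rcases X.cd_fib hfr hy (one_mem _) (h0.trans (cd_one hfr).symm) with h | h <;> subst h
    · exact Or.inl rfl
    · exact Or.inr (by simp [dd])
  have hdd : d * d = 1 := congrArg Subtype.val X.zz
  rcases hcases with h | h | ⟨ha0, hb0, hc2⟩ | ⟨ha0, hb0, hc0, h512⟩
  · exact absurd (hN.trans h) h1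
  · exact hN.trans h
  · -- 561: together with one they form a subgroup
    exfalso
    have hcl : ∀ x ∈ SX θ e, ∀ y, (y ∈ SX θ e ∧ y ≠ x ∧ x * y ∉ SX θ e) → False := by
      refine spread X hfr (R := fun x y => y ∈ SX θ e ∧ y ≠ x ∧ x * y ∉ SX θ e) ?_ ?_
      · rintro n hn x y ⟨h1, h2, h3⟩
        refine ⟨(SX_conj_iff hn).mp h1, fun h => h2 (by rw [h]), fun h => h3 ?_⟩
        have := SX_conj hn h
        rwa [show n * (x * y) * n⁻¹ = n * x * n⁻¹ * (n * y * n⁻¹) by group] at this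
      · rintro y ⟨hy, hyd, hno⟩
        obtain ⟨w, hw, rfl⟩ := exists_mem_AG hy.1
        by_cases h0 : cd hfr w hw = 0
        · rcases zero w hw h0 with h | h
          · exact one_notMem X (h ▸ hy)
          · exact hyd h
        obtain ⟨c1, c2, c3⟩ := hcls ⟨_, cd_lt hfr hw⟩
        have h2 : cnt (θ := θ) hfr (cd hfr w hw) = 2 := by
          have hpos : 0 < cnt (θ := θ) hfr (cd hfr w hw) :=
            Nat.card_pos_iff.mpr ⟨⟨⟨⟨w, hw⟩, rfl, hy⟩⟩, inferInstance⟩
          rcases classes ⟨_, cd_lt hfr hw⟩ h0 with h | h | h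
          · rw [c1 h, ha0] at hpos; omega
          · rw [c2 h, hb0] at hpos; omega
          · exact (c3 h).trans hc2
        exact hno ((fibre w hw h0).2.2 h2).2
    let U : Subgroup G :=
      { carrier := insert 1 (SX θ e)
        one_mem' := Set.mem_insert _ _
        mul_mem' := by
          intro x y hx hy
          rcases hx with rfl | hx
          · rwa [one_mul]
          rcases hy with rfl | hy
          · rw [mul_one]; exact Or.inr hx
          by_cases hxy : y = x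
          · exact Or.inl (by rw [hxy, mem_AG_sq X hfr hx.1])
          · exact Or.inr (by_contra fun h => hcl x hx y ⟨hy, hxy, h⟩)
        inv_mem' := by
          intro x hx
          rcases hx with rfl | hx
          · rw [inv_one]; exact Set.mem_insert _ _
          · rw [inv_eq_of_mul_eq_one_right (mem_AG_sq X hfr hx.1)]; exact Or.inr hx }
    have hU : U ≤ AG θ e := by
      rintro x (rfl | hx)
      exacts [one_mem _, hx.1]
    have hd' := Subgroup.card_dvd_of_le hU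
    rw [card_AG X hfr, show Nat.card ↥U = Nat.card ↥(insert 1 (SX θ e) : Set G) from rfl,
      Nat.card_coe_set_eq, Set.ncard_insert_of_notMem (one_notMem X), hN, ha0, hb0, hc2] at hd'
    norm_num at hd'
  · -- every code is met: the rest form a subgroup
    exfalso
    have hcl : ∀ x ∈ SX θ e, ∀ y,
        (y ∈ AG θ e ∧ y ∉ SX θ e ∧ x * y ∉ SX θ e) → False := by
      refine spread X hfr (R := fun x y => y ∈ AG θ e ∧ y ∉ SX θ e ∧ x * y ∉ SX θ e) ?_ ?_
      · rintro n hn x y ⟨h1, h2, h3⟩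
        refine ⟨(Subgroup.mem_normalizer_iff.mp hn y).mpr h1, fun h => h2 (SX_conj hn h),
          fun h => h3 ?_⟩
        have := SX_conj hn h
        rwa [show n * (x * y) * n⁻¹ = n * x * n⁻¹ * (n * y * n⁻¹) by group] at this
      · rintro y ⟨hy, hy1, hy2⟩
        obtain ⟨w, hw, rfl⟩ := exists_mem_AG hy
        by_cases h0 : cd hfr w hw = 0
        · rcases zero w hw h0 with h | h
          · exact hy2 (by rw [h, mul_one]; exact d_mem_SX X)
          · exact hy1 (by rw [h]; exact d_mem_SX X)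
        obtain ⟨c1, c2, c3⟩ := hcls ⟨_, cd_lt hfr hw⟩
        have hpos : 0 < cnt (θ := θ) hfr (cd hfr w hw) := by
          rcases classes ⟨_, cd_lt hfr hw⟩ h0 with h | h | h
          · exact lt_of_lt_of_eq ha0 (c1 h).symm
          · exact lt_of_lt_of_eq hb0 (c2 h).symm
          · exact lt_of_lt_of_eq hc0 (c3 h).symm
        exact ((fibre w hw h0).2.1 hpos).elim hy1 hy2
    let U : Subgroup G :=
      { carrier := (AG θ e : Set G) \ SX θ e
        one_mem' := ⟨one_mem _, one_notMem X⟩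
        mul_mem' := by
          rintro x y ⟨hx, hx'⟩ ⟨hy, hy'⟩
          refine ⟨mul_mem hx hy, fun h => hcl _ h x ⟨hx, hx', ?_⟩⟩
          rwa [show x * y * x = y by
            rw [mem_AG_commute X hfr hx hy, mul_assoc, mem_AG_sq X hfr hx, mul_one]]
        inv_mem' := by
          intro x hx
          rw [inv_eq_of_mul_eq_one_right (mem_AG_sq X hfr hx.1)]
          exact hx }
    have hU : U ≤ AG θ e := fun x hx => hx.1
    have hsub : SX θ e ⊆ (AG θ e : Set G) := fun x hx => hx.1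
    have hUcard : Nat.card ↥U = 1024 - (SX θ e).ncard := by
      rw [show Nat.card ↥U = Nat.card ↥((AG θ e : Set G) \ SX θ e : Set G) from rfl,
        Nat.card_coe_set_eq, Set.ncard_sdiff hsub (Set.toFinite _), ← Nat.card_coe_set_eq,
        show Nat.card ↥(AG θ e : Set G) = Nat.card ↥(AG θ e) from rfl, card_AG X hfr]
    rcases h512 with h512 | h792
    · refine no_hyper X hfr (E := U.subgroupOf (Subgroup.centralizer ({d} : Set G)))
        ⟨fun x hx => mem_AG.mp (hU (Subgroup.mem_subgroupOf.mp hx)), ?_, ?_, ?_⟩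
      · have hle : U ≤ Subgroup.centralizer ({d} : Set G) := fun x hx => by
          obtain ⟨y, -, rfl⟩ := exists_mem_AG (hU hx)
          exact y.2
        rw [Nat.card_congr (Subgroup.subgroupOfEquivOfLe hle).toEquiv, hUcard, hN, h512]
      · intro h
        exact (Subgroup.mem_subgroupOf.mp h).2 (d_mem_SX X)
      · intro n hn x hx
        obtain ⟨hx1, hx2⟩ := Subgroup.mem_subgroupOf.mp hx
        exact Subgroup.mem_subgroupOf.mpr ⟨(Subgroup.mem_normalizer_iff.mp (normalizer_map hn) _).mp hx1,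
          fun h => hx2 ((SX_conj_iff (normalizer_map hn)).mp h)⟩
    · have hd' := Subgroup.card_dvd_of_le hU
      rw [card_AG X hfr, hUcard, hN, h792] at hd'
      norm_num at hd'

end Cfsg.Agent.Unit62Count55
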