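import Cfsg.Agent.Lib.Unit62Bound55

/-!
# The double cover of the unitary group of degree six over four elements

In a perfect double cover the preimages of the plane groups are elementary abelian of order 1024, every
2-subgroup contains at most one, and fusion inside one is controlled by its normalizer.
-/

set_option autoImplicit false
set_option linter.unusedSectionVars false
set_option linter.style.haveILetI false

namespace Cfsg.Agent.Unit62Cover55

open Cfsg.Agent.UnitaryF4Geo Cfsg.Agent.UnitaryF4Line Cfsg.Agent.ThreeTransM22Frame72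
open Cfsg.Agent.Unit62Code55 Cfsg.Agent.Unit62Plane55 Cfsg.Agent.Unit62Flag55
open Cfsg.Agent.Unit62Bound55

variable {C : Type*} [Group C] [Finite C] {F : Type} [Field F] [Fintype F] [hF : FourField F]

local notation "act" => OrthUnitaryTransvection.act
local notation "π" => QuotientGroup.mk' (Subgroup.center (Cfsg.SU 6 F 2))

/-- A perfect double cover, given by its map. -/
structure Cov (z : C) (θ : C →* Cfsg.PSU 6 F 2) : Prop where
  perfect : Group.IsPerfect C
  surj : Function.Surjective θ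
  ker : ∀ x, θ x = 1 ↔ x = 1 ∨ x = z
  central : ∀ x, z * x = x * z
  ne : z ≠ 1

variable {z : C} {θ : C →* Cfsg.PSU 6 F 2}

theorem Cov.theta_z (X : Cov z θ) : θ z = 1 := (X.ker z).mpr (Or.inr rfl)

theorem Cov.zz (X : Cov z θ) : z * z = 1 := by
  rcases (X.ker (z * z)).mp (by rw [map_mul, X.theta_z, one_mul]) with h | h
  · exact h
  · exact absurd (mul_eq_left.mp h) X.ne

theorem Cov.fib (X : Cov z θ) {x y : C} (h : θ x = θ y) : x = y ∨ x = z * y := by
  rcases (X.ker (x * y⁻¹)).mp (by rw [map_mul, map_inv, h, mul_inv_cancel]) with e | e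
  · exact Or.inl (mul_inv_eq_one.mp e)
  · exact Or.inr (mul_inv_eq_iff_eq_mul.mp e)

theorem pi_inj {a b : Cfsg.SU 6 F 2} (ha : a * a = 1) (hb : b * b = 1) (h : π a = π b) : a = b :=
  eq_of_mk_eq (n := 6) (by norm_num) ha hb h

/-- An element of the projective group squaring to one lifts to one. -/
theorem lift_sq {u : Cfsg.PSU 6 F 2} (h : u * u = 1) : ∃ g : Cfsg.SU 6 F 2, g * g = 1 ∧ π g = u := by
  obtain ⟨a, rfl⟩ := QuotientGroup.mk'_surjective _ u
  have hz : a * a ∈ Subgroup.center (Cfsg.SU 6 F 2) := by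
    rw [← map_mul] at h
    exact (QuotientGroup.eq_one_iff _).mp h
  refine ⟨a * (a * a), ?_, ?_⟩
  · have h3 := center_cube (n := 6) (by norm_num) hz
    rw [← h3]
    group
  · rw [map_mul, show π (a * a) = 1 from (QuotientGroup.eq_one_iff _).mpr hz, mul_one]

/-- The preimage of a plane group. -/
def Eh (θ : C →* Cfsg.PSU 6 F 2) (e : Fin 3 → Fin 6 → F) : Subgroup C := ((P e).map π).comap θ

theorem mem_Eh {e : Fin 3 → Fin 6 → F} {x : C} : x ∈ Eh θ e ↔ ∃ g ∈ P e, π g = θ x := by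
  simp [Eh, Subgroup.mem_map]

variable {e f e' f' : Fin 3 → Fin 6 → F}

/-- The part in the special unitary group. -/
noncomputable def part (x : C) (hx : x ∈ Eh θ e) : ↥(P e) :=
  ⟨(mem_Eh.mp hx).choose, (mem_Eh.mp hx).choose_spec.1⟩

theorem part_spec (x : C) (hx : x ∈ Eh θ e) : π (part x hx).1 = θ x :=
  (mem_Eh.mp hx).choose_spec.2

theorem part_unique (hfr : Frame e f) {x : C} (hx : x ∈ Eh θ e) {g : ↥(P e)} (hg : π g.1 = θ x) :
    part x hx = g :=
  Subtype.ext (pi_inj (congrArg Subtype.val (sq_one hfr _)) (congrArg Subtype.val (sq_one hfr _))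
    ((part_spec x hx).trans hg.symm))

/-- The code of a member. -/
noncomputable def cd (hfr : Frame e f) (x : C) (hx : x ∈ Eh θ e) : ℕ := code hfr (part x hx)

theorem cd_lt (hfr : Frame e f) {x : C} (hx : x ∈ Eh θ e) : cd hfr x hx < 512 := code_lt hfr _

theorem cd_eq (hfr : Frame e f) {x : C} (hx : x ∈ Eh θ e) {g : ↥(P e)} (hg : π g.1 = θ x) :
    cd hfr x hx = code hfr g := by
  rw [cd, part_unique hfr hx hg]

theorem cd_mul (hfr : Frame e f) {x y : C} (hx : x ∈ Eh θ e) (hy : y ∈ Eh θ e) :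
    cd hfr (x * y) (mul_mem hx hy) = cd hfr x hx ^^^ cd hfr y hy := by
  rw [cd_eq hfr (mul_mem hx hy) (g := part x hx * part y hy)
    (by rw [Subgroup.coe_mul, map_mul, part_spec, part_spec, map_mul]), code_mul]
  rfl

theorem cd_one (hfr : Frame e f) : cd hfr (1 : C) (one_mem (Eh θ e)) = 0 := by
  rw [cd_eq hfr (one_mem _) (g := 1) (by simp), code_one]

theorem theta_eq_of_cd (hfr : Frame e f) {x y : C} (hx : x ∈ Eh θ e) (hy : y ∈ Eh θ e)
    (h : cd hfr x hx = cd hfr y hy) : θ x = θ y := by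
  rw [← part_spec x hx, ← part_spec y hy, code_injective hfr h]

theorem Cov.z_mem (X : Cov z θ) (e : Fin 3 → Fin 6 → F) : z ∈ Eh θ e :=
  mem_Eh.mpr ⟨1, one_mem _, by rw [map_one, X.theta_z]⟩

theorem Cov.cd_fib (X : Cov z θ) (hfr : Frame e f) {x y : C} (hx : x ∈ Eh θ e) (hy : y ∈ Eh θ e)
    (h : cd hfr x hx = cd hfr y hy) : x = y ∨ x = z * y :=
  X.fib (theta_eq_of_cd hfr hx hy h)

theorem Cov.card_Eh (X : Cov z θ) (hfr : Frame e f) : Nat.card ↥(Eh θ e) = 1024 := by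
  classical
  choose g hg using fun n : Fin 512 => code_surjective hfr n.2
  choose y hy using fun n : Fin 512 => X.surj (π (g n).1)
  have hm : ∀ n, y n ∈ Eh θ e := fun n => mem_Eh.mpr ⟨_, (g n).2, (hy n).symm⟩
  have hcd : ∀ n, cd hfr (y n) (hm n) = (n : ℕ) := fun n => by
    rw [cd_eq hfr (hm n) (hy n).symm, hg]
  let F₂ : Fin 512 × Bool → ↥(Eh θ e) := fun p =>
    if p.2 then ⟨y p.1, hm p.1⟩ else ⟨z * y p.1, mul_mem (X.z_mem e) (hm p.1)⟩
  have hθ : ∀ p, θ (F₂ p : C) = θ (y p.1) := by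
    rintro ⟨n, b⟩
    cases b <;> simp [F₂, X.theta_z]
  have hbij : Function.Bijective F₂ := by
    refine ⟨fun p q h => ?_, fun x => ?_⟩
    · have e1 : p.1 = q.1 := by
        have := (hθ p).symm.trans ((congrArg (fun w : ↥(Eh θ e) => θ (w : C)) h).trans (hθ q))
        rw [hy, hy] at this
        exact Fin.ext (by rw [← hg p.1, ← hg q.1, Subtype.ext (pi_inj
          (congrArg Subtype.val (sq_one hfr (g p.1))) (congrArg Subtype.val (sq_one hfr (g q.1))) this)])
      obtain ⟨n, b⟩ := p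
      obtain ⟨m, c⟩ := q
      simp only at e1
      subst e1
      cases b <;> cases c <;> simp [F₂] at h ⊢
      · exact X.ne h
      · exact X.ne h
    · obtain ⟨n, hn⟩ : ∃ n : Fin 512, (n : ℕ) = cd hfr (x : C) x.2 := ⟨⟨_, cd_lt hfr x.2⟩, rfl⟩
      have hxe : cd hfr (x : C) x.2 = cd hfr (y n) (hm n) := by rw [hcd n, hn]
      rcases X.cd_fib hfr x.2 (hm n) hxe with h | h
      · exact ⟨(n, true), Subtype.ext (by simpa [F₂] using h.symm)⟩
      · exact ⟨(n, false), Subtype.ext (by simpa [F₂] using h.symm)⟩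
  rw [← Nat.card_eq_of_bijective F₂ hbij, Nat.card_prod]
  simp

/-- A chosen lift of the transvection of a point. -/
noncomputable def tau (X : Cov z θ) (hfr : Frame e f) (i : Fin 21) : C :=
  (X.surj (π (tp hfr i).1)).choose

theorem theta_tau (X : Cov z θ) (hfr : Frame e f) (i : Fin 21) : θ (tau X hfr i) = π (tp hfr i).1 :=
  (X.surj (π (tp hfr i).1)).choose_spec

theorem tau_mem (X : Cov z θ) (hfr : Frame e f) (i : Fin 21) : tau X hfr i ∈ Eh θ e :=
  mem_Eh.mpr ⟨_, (tp hfr i).2, (theta_tau X hfr i).symm⟩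

theorem cd_tau (X : Cov z θ) (hfr : Frame e f) (i : Fin 21) :
    cd hfr (tau X hfr i) (tau_mem X hfr i) = pc i := by
  rw [cd_eq hfr (tau_mem X hfr i) (theta_tau X hfr i).symm, code_tp]

theorem Eh_conj {k : Cfsg.SU 6 F 2} {y : C} (hy : θ y = π k)
    (hk : ∀ g, g ∈ P e ↔ k * g * k⁻¹ ∈ P e') (x : C) : x ∈ Eh θ e ↔ y * x * y⁻¹ ∈ Eh θ e' := by
  rw [mem_Eh, mem_Eh]
  constructor
  · rintro ⟨g, hg, he⟩
    exact ⟨k * g * k⁻¹, (hk g).mp hg, by simp only [map_mul, map_inv, hy, he]⟩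
  · rintro ⟨g, hg, he⟩
    refine ⟨k⁻¹ * g * k, (hk _).mpr (by simpa [mul_assoc] using hg), ?_⟩
    rw [map_mul, map_mul, map_inv, he, map_mul, map_mul, map_inv, hy]
    group

theorem Cov.comm_z_mul (X : Cov z θ) {a b : C} : Commute (z * a) b ↔ Commute a b := by
  have hz : Commute z b := X.central b
  refine ⟨fun h => ?_, fun h => hz.mul_left h⟩
  have := (show Commute z⁻¹ b from hz.inv_left).mul_left h
  rwa [inv_mul_cancel_left] at this

theorem Cov.tau_image (X : Cov z θ) (hfr : Frame e f) {k : Cfsg.SU 6 F 2} {y : C} (hy : θ y = π k)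
    {i i' : Fin 21} (h : k * (tp hfr i).1 * k⁻¹ = (tp hfr i').1) :
    y * tau X hfr i * y⁻¹ = tau X hfr i' ∨ y * tau X hfr i * y⁻¹ = z * tau X hfr i' :=
  X.fib (by rw [map_mul, map_mul, map_inv, theta_tau, theta_tau, hy, ← map_inv, ← map_mul,
    ← map_mul, h])

theorem Cov.commute_transfer (X : Cov z θ) (hfr : Frame e f) {i j i' j' : Fin 21} (hij : i ≠ j)
    (hij' : i' ≠ j') (h : Commute (tau X hfr i) (tau X hfr j)) :
    Commute (tau X hfr i') (tau X hfr j') := by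
  obtain ⟨k, hk⟩ := exists_third i j hij
  obtain ⟨k', hk'⟩ := exists_third i' j' hij'
  obtain ⟨w, -, hi, hj, -⟩ := triangle_move hfr hfr hk hk'
  obtain ⟨y, hy⟩ := X.surj (π w)
  have h' := (Commute.conj_iff y).mpr h
  rcases X.tau_image hfr hy hi with e1 | e1 <;> rcases X.tau_image hfr hy hj with e2 | e2 <;>
    rw [e1, e2] at h'
  · exact h'
  · exact (X.comm_z_mul.mp h'.symm).symm
  · exact X.comm_z_mul.mp h'
  · exact (X.comm_z_mul.mp (X.comm_z_mul.mp h').symm).symm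

theorem line_code : pc 0 ^^^ pc 1 ^^^ pc 3 ^^^ pc 4 ^^^ pc 5 = 0 := by decide +kernel

/-- The product of the five lifts on a line is central. -/
theorem Cov.line_mem (X : Cov z θ) (hfr : Frame e f) :
    tau X hfr 0 * tau X hfr 1 * tau X hfr 3 * tau X hfr 4 * tau X hfr 5 = 1 ∨
      tau X hfr 0 * tau X hfr 1 * tau X hfr 3 * tau X hfr 4 * tau X hfr 5 = z := by
  have h0 := tau_mem X hfr 0
  have h1 := tau_mem X hfr 1
  have h3 := tau_mem X hfr 3
  have h4 := tau_mem X hfr 4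
  have h5 := tau_mem X hfr 5
  have hm := mul_mem (mul_mem (mul_mem (mul_mem h0 h1) h3) h4) h5
  have e1 := theta_eq_of_cd hfr hm (one_mem _) (by
    rw [cd_mul hfr (mul_mem (mul_mem (mul_mem h0 h1) h3) h4) h5,
      cd_mul hfr (mul_mem (mul_mem h0 h1) h3) h4, cd_mul hfr (mul_mem h0 h1) h3,
      cd_mul hfr h0 h1, cd_tau, cd_tau, cd_tau, cd_tau, cd_tau, line_code, cd_one])
  exact (X.ker _).mp (by rw [e1, map_one])

theorem anti_five {r a b c d e : C} (hz : ∀ x, z * x = x * z) (hzz : z * z = 1)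
    (ha : r * a = z * (a * r)) (hb : r * b = z * (b * r)) (hc : r * c = z * (c * r))
    (hd : r * d = z * (d * r)) (he : r * e = z * (e * r)) :
    r * (a * b * c * d * e) = z * (a * b * c * d * e * r) := by
  have step : ∀ {p q : C} (s : C), r * p = s * (p * r) → r * q = z * (q * r) → s * z = z * s →
      (∀ x, s * x = x * s) → r * (p * q) = (s * z) * (p * q * r) := by
    intro p q s hp hq _ _
    calc r * (p * q) = (r * p) * q := (mul_assoc _ _ _).symm
      _ = s * (p * r) * q := by rw [hp]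
      _ = s * (p * (r * q)) := by simp only [mul_assoc]
      _ = s * (p * (z * (q * r))) := by rw [hq]
      _ = s * ((p * z) * (q * r)) := by simp only [mul_assoc]
      _ = s * ((z * p) * (q * r)) := by rw [hz p]
      _ = (s * z) * (p * q * r) := by simp only [mul_assoc]
  have h2 := step z ha hb rfl hz
  rw [hzz] at h2
  have h3 := step 1 h2 hc (by simp) (by simp)
  rw [one_mul] at h3
  have h4 := step z h3 hd rfl hz
  rw [hzz] at h4
  have h5 := step 1 h4 he (by simp) (by simp)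
  rwa [one_mul] at h5

theorem Cov.tau_comm (X : Cov z θ) (hfr : Frame e f) (i j : Fin 21) :
    Commute (tau X hfr i) (tau X hfr j) := by
  by_cases hij : i = j
  · subst hij; exact Commute.refl _
  by_contra hno
  have hanti : ∀ {a b : Fin 21}, a ≠ b →
      tau X hfr a * tau X hfr b = z * (tau X hfr b * tau X hfr a) := by
    intro a b hab
    have hn : ¬ Commute (tau X hfr a) (tau X hfr b) := fun h => hno (X.commute_transfer hfr hab hij h)
    refine (X.fib ?_).resolve_left hn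
    rw [map_mul, map_mul, theta_tau, theta_tau, ← map_mul, ← map_mul, ← Subgroup.coe_mul, comm_P hfr,
      Subgroup.coe_mul]
  have key := anti_five X.central X.zz (hanti (a := 2) (b := 0) (by decide))
    (hanti (a := 2) (b := 1) (by decide)) (hanti (a := 2) (b := 3) (by decide))
    (hanti (a := 2) (b := 4) (by decide)) (hanti (a := 2) (b := 5) (by decide))
  refine X.ne ?_
  rcases X.line_mem hfr with h | h <;> rw [h] at key
  · rw [mul_one, one_mul] at key; exact (mul_eq_right.mp key.symm)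
  · rw [← X.central] at key; exact (mul_eq_right.mp key.symm)

theorem Cov.tau_sq (X : Cov z θ) (hfr : Frame e f) (i : Fin 21) : tau X hfr i * tau X hfr i = 1 := by
  have hσ : ∀ i, tau X hfr i * tau X hfr i = tau X hfr 0 * tau X hfr 0 := by
    intro i
    by_cases hi : (0 : Fin 21) = i
    · rw [← hi]
    obtain ⟨k, hk⟩ := exists_third 0 i hi
    obtain ⟨k', hk'⟩ := exists_third i 0 (Ne.symm hi)
    obtain ⟨w, -, h0, -, -⟩ := triangle_move hfr hfr hk hk'
    obtain ⟨y, hy⟩ := X.surj (π w)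
    have hs : θ (tau X hfr 0 * tau X hfr 0) = 1 := by
      rw [map_mul, theta_tau, ← map_mul, ← Subgroup.coe_mul, sq_one hfr]; exact map_one _
    have e2 : y * (tau X hfr 0 * tau X hfr 0) * y⁻¹ = tau X hfr 0 * tau X hfr 0 := by
      rcases (X.ker _).mp hs with h | h <;> rw [h]
      · simp
      · rw [← X.central, mul_inv_cancel_right]
    rw [← e2, show y * (tau X hfr 0 * tau X hfr 0) * y⁻¹
      = (y * tau X hfr 0 * y⁻¹) * (y * tau X hfr 0 * y⁻¹) by group]
    rcases X.tau_image hfr hy h0 with h | h <;> rw [h]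
    rw [mul_assoc, ← mul_assoc (tau X hfr i), ← X.central, mul_assoc, ← mul_assoc, X.zz, one_mul]
  have hc := fun a b => (X.tau_comm hfr a b).eq
  set P5 := tau X hfr 0 * tau X hfr 1 * tau X hfr 3 * tau X hfr 4 * tau X hfr 5 with hP
  have h1 : P5 * P5 = 1 := by
    rcases X.line_mem hfr with h | h <;> rw [hP, h]
    · exact one_mul _
    · exact X.zz
  set s := tau X hfr 0 * tau X hfr 0 with hs
  have cc : ∀ a b, Commute (tau X hfr a) (tau X hfr b) := X.tau_comm hfr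
  have h2 : P5 * P5 = s * s * s * s * s := by
    rw [hP, (Commute.mul_left (Commute.mul_left (Commute.mul_left (cc 0 5) (cc 1 5)) (cc 3 5))
        (cc 4 5)).symm.mul_mul_mul_comm,
      (Commute.mul_left (Commute.mul_left (cc 0 4) (cc 1 4)) (cc 3 4)).symm.mul_mul_mul_comm,
      (Commute.mul_left (cc 0 3) (cc 1 3)).symm.mul_mul_mul_comm, (cc 0 1).symm.mul_mul_mul_comm,
      hσ 1, hσ 3, hσ 4, hσ 5]
  have h3 : s * s = 1 := by
    have hθ : θ s = 1 := by
      rw [hs, map_mul, theta_tau, ← map_mul, ← Subgroup.coe_mul, sq_one hfr]; exact map_one _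
    rcases (X.ker _).mp hθ with h | h <;> rw [h]
    · exact one_mul _
    · exact X.zz
  rw [h1, h3, one_mul, h3, one_mul] at h2
  rw [hσ i]
  exact h2.symm

theorem Cov.decomp (X : Cov z θ) (hfr : Frame e f) {x : C} (hx : x ∈ Eh θ e) :
    (∀ t, (∀ i, Commute t (tau X hfr i)) → Commute t x) ∧ x * x = 1 := by
  have hz : ∀ t : C, Commute t z := fun t => (X.central t).symm
  have aux : ∀ {w y : C}, θ y = θ w → (∀ t, (∀ i, Commute t (tau X hfr i)) → Commute t w) →
      w * w = 1 → (∀ t, (∀ i, Commute t (tau X hfr i)) → Commute t y) ∧ y * y = 1 := by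
    intro w y he hw hw2
    rcases X.fib he with rfl | rfl
    · exact ⟨hw, hw2⟩
    · exact ⟨fun t ht => (hz t).mul_right (hw t ht),
        by rw [(hz w).mul_mul_mul_comm, X.zz, hw2, one_mul]⟩
  have cc : ∀ a b, Commute (tau X hfr a) (tau X hfr b) := X.tau_comm hfr
  have h0 := tau_mem X hfr
  by_cases hn0 : cd hfr x hx = 0
  · exact aux (theta_eq_of_cd hfr hx (one_mem _) (by rw [hn0, cd_one])) (fun t _ => Commute.one_right t)
      (one_mul 1)
  rcases elem_cases (cd_lt hfr hx) hn0 with ⟨i, hi⟩ | ⟨i, j, -, hi⟩ | ⟨i, j, k, -, hi⟩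
  · exact aux (theta_eq_of_cd hfr hx (h0 i) (by rw [hi, cd_tau])) (fun t ht => ht i) (X.tau_sq hfr i)
  · refine aux (theta_eq_of_cd hfr hx (mul_mem (h0 i) (h0 j))
      (by rw [hi, cd_mul hfr (h0 i) (h0 j), cd_tau, cd_tau])) (fun t ht => (ht i).mul_right (ht j)) ?_
    rw [(cc i j).symm.mul_mul_mul_comm, X.tau_sq, X.tau_sq, one_mul]
  · refine aux (theta_eq_of_cd hfr hx (mul_mem (mul_mem (h0 i) (h0 j)) (h0 k))
      (by rw [hi, cd_mul hfr (mul_mem (h0 i) (h0 j)) (h0 k), cd_mul hfr (h0 i) (h0 j), cd_tau, cd_tau,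
        cd_tau])) (fun t ht => ((ht i).mul_right (ht j)).mul_right (ht k)) ?_
    rw [((cc i k).mul_left (cc j k)).symm.mul_mul_mul_comm, (cc i j).symm.mul_mul_mul_comm, X.tau_sq,
      X.tau_sq, X.tau_sq, one_mul, one_mul]

theorem Cov.Eh_comm (X : Cov z θ) (hfr : Frame e f) {x y : C} (hx : x ∈ Eh θ e) (hy : y ∈ Eh θ e) :
    Commute x y :=
  (X.decomp hfr hy).1 x fun i => ((X.decomp hfr hx).1 _ fun j => X.tau_comm hfr i j).symm

theorem Cov.Eh_sq (X : Cov z θ) (hfr : Frame e f) {x : C} (hx : x ∈ Eh θ e) : x * x = 1 :=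
  (X.decomp hfr hx).2

/-- Elementary abelian of order at least 1024. -/
structure Big (B : Subgroup C) : Prop where
  sq : ∀ a ∈ B, a * a = 1
  comm : ∀ a ∈ B, ∀ b ∈ B, a * b = b * a
  card : 1024 ≤ Nat.card ↥B

theorem Cov.big_Eh (X : Cov z θ) (hfr : Frame e f) : Big (Eh θ e) :=
  ⟨fun _ => X.Eh_sq hfr, fun _ ha _ hb => (X.Eh_comm hfr ha hb).eq, (X.card_Eh hfr).ge⟩

/-- The involutions above a subgroup, as a subgroup of the special unitary group. -/
def upper (B : Subgroup C) (hB : ∀ a ∈ B, ∀ b ∈ B, a * b = b * a) (θ : C →* Cfsg.PSU 6 F 2) :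
    Subgroup (Cfsg.SU 6 F 2) where
  carrier := {g | g * g = 1 ∧ ∃ a ∈ B, π g = θ a}
  one_mem' := ⟨one_mul 1, 1, B.one_mem, by rw [map_one, map_one]⟩
  mul_mem' := by
    rintro g k ⟨hg, a, ha, ea⟩ ⟨hk, b, hb, eb⟩
    have hc : Commute g k := commute_of_mk (n := 6) (by norm_num) hg hk (by
      rw [ea, eb]; exact (show Commute a b from hB a ha b hb).map θ)
    exact ⟨by rw [hc.symm.mul_mul_mul_comm, hg, hk, one_mul], a * b, B.mul_mem ha hb,
      by rw [map_mul, map_mul, ea, eb]⟩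
  inv_mem' := by
    rintro g ⟨hg, a, ha, ea⟩
    rw [inv_eq_of_mul_eq_one_right hg]
    exact ⟨hg, a, ha, ea⟩

theorem upper_elem {B : Subgroup C} (hB : ∀ a ∈ B, ∀ b ∈ B, a * b = b * a) :
    Elem (upper B hB θ) := fun g hg => ⟨hg.1, fun k hk => by
  obtain ⟨a, ha, ea⟩ := hg.2
  obtain ⟨b, hb, eb⟩ := hk.2
  exact commute_of_mk (n := 6) (by norm_num) hg.1 hk.1 (by
    rw [ea, eb]; exact (show Commute a b from hB a ha b hb).map θ)⟩

theorem Cov.upper_card (X : Cov z θ) {B : Subgroup C} (hsq : ∀ a ∈ B, a * a = 1)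
    (hB : ∀ a ∈ B, ∀ b ∈ B, a * b = b * a) : Nat.card ↥B ≤ Nat.card ↥(upper B hB θ) * 2 := by
  classical
  have hl : ∀ a : ↥B, ∃ g : ↥(upper B hB θ), π g.1 = θ a.1 := fun a => by
    obtain ⟨g, hg, e1⟩ := lift_sq (F := F) (u := θ a.1) (by rw [← map_mul, hsq a a.2, map_one])
    exact ⟨⟨g, hg, a, a.2, e1⟩, e1⟩
  choose g hg using hl
  haveI : Fintype ↥B := Fintype.ofFinite _
  haveI : Fintype ↥(upper B hB θ) := Fintype.ofFinite _
  rw [Nat.card_eq_fintype_card, Nat.card_eq_fintype_card, ← Finset.card_univ, ← Finset.card_univ, mul_comm]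
  refine (Finset.card_le_mul_card_image (f := g) Finset.univ 2 fun v hv => ?_).trans
    (Nat.mul_le_mul_left 2 (Finset.card_le_univ _))
  obtain ⟨a, -, ha⟩ := Finset.mem_image.mp hv
  refine le_trans (Finset.card_le_card (t := Finset.univ.filter fun b : ↥B => b.1 = a.1 ∨ b.1 = z * a.1)
    fun b hb => ?_) ?_
  · refine Finset.mem_filter.mpr ⟨Finset.mem_univ _, X.fib ?_⟩
    rw [← hg b, ← hg a, (Finset.mem_filter.mp hb).2, ha]
  · rw [← Finset.card_map (f := ⟨Subtype.val, Subtype.val_injective⟩)]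
    refine (Finset.card_le_card (t := {a.1, z * a.1}) fun b hb => ?_).trans Finset.card_le_two
    obtain ⟨b', hb', rfl⟩ := Finset.mem_map.mp hb
    rcases (Finset.mem_filter.mp hb').2 with h | h <;> simp [h]

theorem Cov.big_cases (X : Cov z θ) {B : Subgroup C} (hB : Big B) :
    ∃ e f, Frame e f ∧ B = Eh θ e := by
  obtain ⟨h1, h2⟩ := bound (upper_elem (θ := θ) hB.comm)
  have h3 := X.upper_card hB.sq hB.comm
  have hc := hB.card
  obtain ⟨e, f, hfr, hP⟩ := h2 (by omega)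
  refine ⟨e, f, hfr, Subgroup.eq_of_le_of_card_ge (fun a ha => ?_) ((X.card_Eh hfr).le.trans hc)⟩
  obtain ⟨g, hg, e1⟩ := lift_sq (F := F) (u := θ a) (by rw [← map_mul, hB.sq a ha, map_one])
  exact mem_Eh.mpr ⟨g, hP ▸ ⟨hg, a, ha, e1⟩, e1⟩

theorem Cov.card_le (X : Cov z θ) {B : Subgroup C} (hsq : ∀ a ∈ B, a * a = 1)
    (hB : ∀ a ∈ B, ∀ b ∈ B, a * b = b * a) : Nat.card ↥B ≤ 1024 := by
  have := (bound (upper_elem (θ := θ) hB)).1
  have := X.upper_card hsq hB
  omega

theorem Cov.eq_of_normalizes (X : Cov z θ) {B₁ B₂ : Subgroup C} (h₁ : Big B₁) (h₂ : Big B₂)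
    (hn : ∀ b ∈ B₂, ∀ a ∈ B₁, b * a * b⁻¹ ∈ B₁) : B₂ = B₁ := by
  obtain ⟨e, f, hfr, rfl⟩ := X.big_cases h₁
  obtain ⟨e', f', hfr', rfl⟩ := X.big_cases h₂
  have hP : P e' = P e := by
    refine eq_of_normalize hfr (fun g hg => ⟨congrArg Subtype.val (sq_one hfr' ⟨g, hg⟩),
      fun k hk => congrArg Subtype.val (comm_P hfr' ⟨g, hg⟩ ⟨k, hk⟩)⟩) (card_P hfr').ge ?_
    intro g hg k hk
    obtain ⟨y, hy⟩ := X.surj (π g)
    obtain ⟨x, hx⟩ := X.surj (π k)
    obtain ⟨k', hk', he⟩ := mem_Eh.mp (hn y (mem_Eh.mpr ⟨g, hg, hy.symm⟩) x (mem_Eh.mpr ⟨k, hk, hx.symm⟩))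
    have hkk : k * k = 1 := congrArg Subtype.val (sq_one hfr ⟨k, hk⟩)
    convert hk' using 1
    refine pi_inj ?_ (congrArg Subtype.val (sq_one hfr ⟨k', hk'⟩)) ?_
    · rw [show g * k * g⁻¹ * (g * k * g⁻¹) = g * (k * k) * g⁻¹ by group, hkk, mul_one, mul_inv_cancel]
    · rw [he]; simp only [map_mul, map_inv, hy, hx]
  rw [Eh, Eh, hP]

/-- A 2-subgroup holds at most one. -/
theorem Cov.unique_in (X : Cov z θ) {S : Subgroup C} (hS : IsPGroup 2 ↥S) {B₁ B₂ : Subgroup C}
    (h₁ : Big B₁) (l₁ : B₁ ≤ S) (h₂ : Big B₂) (l₂ : B₂ ≤ S) : B₂ = B₁ := by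
  have hnorm : ∀ s ∈ S, s ∈ Subgroup.normalizer (B₁ : Set C) := by
    haveI : Fact (Nat.Prime 2) := ⟨Nat.prime_two⟩
    haveI : Group.IsNilpotent ↥S := hS.isNilpotent
    set N : Subgroup ↥S := (Subgroup.normalizer (B₁ : Set C)).subgroupOf S with hN
    have htop : N = ⊤ := by
      by_contra hne
      have hlt := Group.normalizerCondition_of_isNilpotent N (lt_top_iff_ne_top.mpr hne)
      obtain ⟨s, hs, hsN⟩ := SetLike.exists_of_lt hlt
      refine hsN (Subgroup.mem_subgroupOf.mpr ?_)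
      set B' := B₁.map (MulAut.conj (s : C)).toMonoidHom with hB'
      have hbig : Big B' := by
        refine ⟨?_, ?_, ?_⟩
        · rintro _ ⟨a, ha, rfl⟩; rw [← map_mul, h₁.sq a ha, map_one]
        · rintro _ ⟨a, ha, rfl⟩ _ ⟨b, hb, rfl⟩; rw [← map_mul, h₁.comm a ha b hb, map_mul]
        · rw [hB', Subgroup.card_map_of_injective (MulAut.conj (s : C)).injective]; exact h₁.card
      have heq : B' = B₁ := by
        refine X.eq_of_normalizes h₁ hbig ?_
        rintro _ ⟨a, ha, rfl⟩ x hx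
        have haN : (⟨a, l₁ ha⟩ : ↥S) ∈ N := Subgroup.mem_subgroupOf.mpr (Subgroup.le_normalizer ha)
        have h3 := Subgroup.mem_subgroupOf.mp ((Subgroup.mem_normalizer_iff.mp hs _).mp haN)
        exact (Subgroup.mem_normalizer_iff.mp h3 x).mp hx
      refine Subgroup.mem_normalizer_iff.mpr fun a => ⟨fun ha => ?_, fun ha => ?_⟩
      · exact heq ▸ ⟨a, ha, rfl⟩
      · obtain ⟨b, hb, e1⟩ := show (s : C) * a * (s : C)⁻¹ ∈ B' from heq.symm ▸ ha
        rwa [show a = b from (mul_left_cancel (mul_right_cancel e1)).symm]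
    intro s hs
    exact Subgroup.mem_subgroupOf.mp (show (⟨s, hs⟩ : ↥S) ∈ N from htop ▸ Subgroup.mem_top _)
  exact X.eq_of_normalizes h₁ h₂ fun b hb a ha =>
    (Subgroup.mem_normalizer_iff.mp (hnorm b (l₂ hb)) a).mp ha

theorem Big.isPGroup {B : Subgroup C} (hB : Big B) : IsPGroup 2 ↥B := fun a =>
  ⟨1, Subtype.ext (by simpa using (pow_two (a : C)).trans (hB.sq a a.2))⟩

/-- Fusion inside such a subgroup is controlled by its normalizer. -/
theorem Cov.fusion (X : Cov z θ) {A : Subgroup C} (hA : Big A) {x g : C} (hx : x ∈ A)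
    (hgx : g * x * g⁻¹ ∈ A) :
    ∃ n ∈ Subgroup.normalizer (A : Set C), n * x * n⁻¹ = g * x * g⁻¹ := by
  haveI : Fact (Nat.Prime 2) := ⟨Nat.prime_two⟩
  set K := Subgroup.centralizer ({x} : Set C) with hK
  set A' := A.map (MulAut.conj g⁻¹).toMonoidHom with hA'
  have hxA' : x ∈ A' := ⟨g * x * g⁻¹, hgx, by simp [mul_assoc]⟩
  have hA'B : Big A' := by
    refine ⟨?_, ?_, ?_⟩
    · rintro _ ⟨a, ha, rfl⟩; rw [← map_mul, hA.sq a ha, map_one]
    · rintro _ ⟨a, ha, rfl⟩ _ ⟨b, hb, rfl⟩; rw [← map_mul, hA.comm a ha b hb, map_mul]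
    · rw [hA', Subgroup.card_map_of_injective (MulAut.conj g⁻¹).injective]; exact hA.card
  have hAK : A ≤ K := fun a ha => Subgroup.mem_centralizer_singleton_iff.mpr (hA.comm a ha x hx)
  have hA'K : A' ≤ K := fun a ha => Subgroup.mem_centralizer_singleton_iff.mpr (hA'B.comm a ha x hxA')
  obtain ⟨S₁, hS₁⟩ := IsPGroup.exists_le_sylow (P := A.subgroupOf K)
    (hA.isPGroup.comap_of_injective K.subtype Subtype.val_injective)
  obtain ⟨S₂, hS₂⟩ := IsPGroup.exists_le_sylow (P := A'.subgroupOf K)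
    (hA'B.isPGroup.comap_of_injective K.subtype Subtype.val_injective)
  obtain ⟨h, hh⟩ := MulAction.exists_smul_eq ↥K S₁ S₂
  set T := (S₂ : Subgroup ↥K).map K.subtype with hT
  have hT2 : IsPGroup 2 ↥T := S₂.2.map _
  set B := A.map (MulAut.conj (h : C)).toMonoidHom with hB
  have hBB : Big B := by
    refine ⟨?_, ?_, ?_⟩
    · rintro _ ⟨a, ha, rfl⟩; rw [← map_mul, hA.sq a ha, map_one]
    · rintro _ ⟨a, ha, rfl⟩ _ ⟨b, hb, rfl⟩; rw [← map_mul, hA.comm a ha b hb, map_mul]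
    · rw [hB, Subgroup.card_map_of_injective (MulAut.conj (h : C)).injective]; exact hA.card
  have hBT : B ≤ T := by
    rintro _ ⟨a, ha, rfl⟩
    refine ⟨h * ⟨a, hAK ha⟩ * h⁻¹, ?_, rfl⟩
    show h * (⟨a, hAK ha⟩ : ↥K) * h⁻¹ ∈ (S₂ : Subgroup ↥K)
    rw [← hh, Sylow.coe_subgroup_smul]
    exact Subgroup.smul_mem_pointwise_smul _ (MulAut.conj h) _
      (hS₁ (show (⟨a, hAK ha⟩ : ↥K) ∈ A.subgroupOf K from ha))
  have hA'T : A' ≤ T := fun a ha =>
    ⟨⟨a, hA'K ha⟩, hS₂ (show (⟨a, hA'K ha⟩ : ↥K) ∈ A'.subgroupOf K from ha), rfl⟩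
  have heq := X.unique_in hT2 hBB hBT hA'B hA'T
  refine ⟨g * h, Subgroup.mem_normalizer_iff.mpr fun a => ⟨fun ha => ?_, fun ha => ?_⟩, ?_⟩
  · obtain ⟨b, hb, e1⟩ := show (h : C) * a * (h : C)⁻¹ ∈ A' from heq.symm ▸ ⟨a, ha, rfl⟩
    have : g * (h : C) * a * (g * (h : C))⁻¹ = b := by
      simp only [MulEquiv.coe_toMonoidHom, MulAut.conj_apply, inv_inv] at e1
      rw [show g * (h : C) * a * (g * (h : C))⁻¹ = g * ((h : C) * a * (h : C)⁻¹) * g⁻¹ by group, ← e1]
      group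
    rw [this]; exact hb
  · have : g⁻¹ * (g * (h : C) * a * (g * (h : C))⁻¹) * g ∈ A' := ⟨_, ha, by simp [mul_assoc]⟩
    rw [heq, show g⁻¹ * (g * (h : C) * a * (g * (h : C))⁻¹) * g = (h : C) * a * (h : C)⁻¹ by group] at this
    obtain ⟨b, hb, e1⟩ := this
    rwa [show a = b from (mul_left_cancel (mul_right_cancel e1)).symm]
  · have hhx : (h : C) * x = x * (h : C) := Subgroup.mem_centralizer_singleton_iff.mp h.2
    rw [show g * (h : C) * x * (g * (h : C))⁻¹ = g * ((h : C) * x * (h : C)⁻¹) * g⁻¹ by group, hhx,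
      mul_inv_cancel_right]

theorem Cov.exists_conj (X : Cov z θ) (hfr : Frame e f) (hfr' : Frame e' f') :
    ∃ y : C, ∀ x, x ∈ Eh θ e ↔ y * x * y⁻¹ ∈ Eh θ e' := by
  obtain ⟨k, hk, -⟩ := exists_move hfr hfr'
  obtain ⟨y, hy⟩ := X.surj (π k)
  exact ⟨y, fun x => Eh_conj hy hk x⟩

end Cfsg.Agent.Unit62Cover55
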