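import Cfsg.Agent.Lib.Unit62Plane55

/-!
# Elementary abelian 2-groups of the hermitian six-space over four elements

They have order at most 512, and those of order 512 are the groups of totally isotropic planes.
-/

set_option autoImplicit false
set_option linter.unusedSectionVars false

namespace Cfsg.Agent.Unit62Flag55

open Cfsg.Agent.UnitaryF4Geo Cfsg.Agent.UnitaryF4Line Cfsg.Agent.ThreeTransM22Frame72
open Cfsg.Agent.Unit62Code55 Cfsg.Agent.Unit62Plane55

variable {F : Type*} [Field F] [Fintype F] [hF : FourField F]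

local notation "act" => OrthUnitaryTransvection.act
local notation "V6" => (Fin 6 → F)

/-- Elementary abelian. -/
def Elem (B : Subgroup (Cfsg.SU 6 F 2)) : Prop :=
  ∀ a ∈ B, a * a = 1 ∧ ∀ b ∈ B, a * b = b * a

theorem step {B : Subgroup (Cfsg.SU 6 F 2)} (hB : Elem B) {X W : Submodule F (Fin 6 → F)}
    (hX : ∀ g ∈ B, ∀ x ∈ X, act g x ∈ X) (hW : ∀ g ∈ B, ∀ x ∈ W, act g x ∈ W)
    {x₀ : Fin 6 → F} (hx : x₀ ∈ X) (hx' : x₀ ∉ W) :
    ∃ v ∈ X, v ∉ W ∧ ∀ g ∈ B, act g v + v ∈ W := by
  classical
  haveI : Finite (Cfsg.SU 6 F 2) := inferInstance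
  suffices key : ∀ S : Set (Cfsg.SU 6 F 2), S.Finite → S ⊆ (B : Set _) →
      ∃ v ∈ X, v ∉ W ∧ ∀ g ∈ S, act g v + v ∈ W by
    obtain ⟨v, h1, h2, h3⟩ := key B (Set.toFinite _) subset_rfl
    exact ⟨v, h1, h2, fun g hg => h3 g hg⟩
  intro S hS
  induction S, hS using Set.Finite.induction_on with
  | empty => exact fun _ => ⟨x₀, hx, hx', by simp⟩
  | @insert g S _ _ ih =>
    intro hsub
    obtain ⟨v, hv, hvW, hvS⟩ := ih ((Set.subset_insert _ _).trans hsub)
    have hg : g ∈ B := hsub (Set.mem_insert _ _)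
    by_cases hgv : act g v + v ∈ W
    · refine ⟨v, hv, hvW, fun k hk => ?_⟩
      rcases hk with rfl | hk
      · exact hgv
      · exact hvS k hk
    refine ⟨act g v + v, X.add_mem (hX g hg v hv) hv, hgv, fun k hk => ?_⟩
    rcases hk with rfl | hk
    · rw [OrthUnitaryTransvection.act_add, ← OrthUnitaryTransvection.act_mul, (hB _ hg).1,
        OrthUnitaryTransvection.act_one, add_comm v, vec_add_self]
      exact W.zero_mem
    · have hkB : k ∈ B := hsub (Set.mem_insert_of_mem _ hk)
      have e1 : act k (act g v + v) + (act g v + v) = act g (act k v + v) + (act k v + v) := by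
        simp only [OrthUnitaryTransvection.act_add, ← OrthUnitaryTransvection.act_mul,
          (hB k hkB).2 g hg]
        abel
      rw [e1]
      exact W.add_mem (hW g hg _ (hvS k hk)) (hvS k hk)

/-- The orthogonal of some vectors. -/
def perp {m : ℕ} (s : Fin m → Fin 6 → F) : Submodule F (Fin 6 → F) where
  carrier := {v | ∀ i, h v (s i) = 0}
  add_mem' := fun {a b} ha hb i => by rw [h_add_left, ha i, hb i, add_zero]
  zero_mem' := fun i => h_zero_left _
  smul_mem' := fun c a ha i => by rw [h_smul_left, ha i, mul_zero]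

theorem exists_outside {m k : ℕ} (s : Fin m → Fin 6 → F) (t : Fin k → Fin 6 → F) (hmk : m + k < 6) :
    ∃ y ∈ perp s, y ∉ Submodule.span F (Set.range t) := by
  by_contra hno
  push Not at hno
  let φl : (Fin 6 → F) →ₗ[F] (Fin m → F) :=
    { toFun := fun v i => h v (s i)
      map_add' := fun v w => funext fun i => h_add_left _ _ _
      map_smul' := fun c v => funext fun i => h_smul_left _ _ _ }
  have hle : LinearMap.ker φl ≤ Submodule.span F (Set.range t) := fun y hy =>
    hno y fun i => congrFun (LinearMap.mem_ker.mp hy) i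
  have h1 := LinearMap.finrank_range_add_finrank_ker φl
  have h2 := Submodule.finrank_le (LinearMap.range φl)
  have h3 := (Submodule.finrank_mono hle).trans (finrank_range_le_card t)
  simp only [Module.finrank_pi, Fintype.card_fin] at h1 h2 h3
  omega

theorem act_mem_span {k : ℕ} {t : Fin k → Fin 6 → F} {g : Cfsg.SU 6 F 2}
    (ht : ∀ i, act g (t i) + t i ∈ Submodule.span F (Set.range t)) {x : Fin 6 → F}
    (hx : x ∈ Submodule.span F (Set.range t)) : act g x ∈ Submodule.span F (Set.range t) := by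
  induction hx using Submodule.span_induction with
  | mem x hx =>
    obtain ⟨i, rfl⟩ := hx
    have := Submodule.add_mem _ (ht i) (Submodule.subset_span ⟨i, rfl⟩)
    rwa [add_assoc, vec_add_self, add_zero] at this
  | zero => rw [OrthUnitaryTransvection.act, Matrix.mulVec_zero]; exact Submodule.zero_mem _
  | add a b _ _ ha hb => rw [OrthUnitaryTransvection.act_add]; exact Submodule.add_mem _ ha hb
  | smul c a _ ha => rw [OrthUnitaryTransvection.act_smul]; exact Submodule.smul_mem _ c ha

/-- An invariant totally isotropic space of dimension at most two grows by one fixed point. -/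
theorem grow {B : Subgroup (Cfsg.SU 6 F 2)} (hB : Elem B) {k : ℕ} (hk : k ≤ 2) (t : Fin k → Fin 6 → F)
    (htt : ∀ i j, h (t i) (t j) = 0)
    (hinv : ∀ g ∈ B, ∀ i, act g (t i) + t i ∈ Submodule.span F (Set.range t)) :
    ∃ v, h v v = 0 ∧ (∀ i, h v (t i) = 0) ∧ v ∉ Submodule.span F (Set.range t) ∧
      ∀ g ∈ B, act g v + v ∈ Submodule.span F (Set.range t) := by
  set W := Submodule.span F (Set.range t) with hW
  have hWinv : ∀ g ∈ B, ∀ x ∈ W, act g x ∈ W := fun g hg x hx => act_mem_span (hinv g hg) hx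
  have hperp : ∀ {v}, (∀ i, h v (t i) = 0) → ∀ w ∈ W, h v w = 0 := by
    intro v hv w hw
    induction hw using Submodule.span_induction with
    | mem x hx => obtain ⟨i, rfl⟩ := hx; exact hv i
    | zero => exact h_zero_right v
    | add a b _ _ ha hb => rw [h_add_right, ha, hb, add_zero]
    | smul c a _ ha => rw [h_smul_right, ha, mul_zero]
  have hXinv : ∀ g ∈ B, ∀ x ∈ perp t, act g x ∈ perp t := by
    intro g hg x hx i
    have e : t i = act g (act g (t i)) := by
      rw [← OrthUnitaryTransvection.act_mul, (hB g hg).1, OrthUnitaryTransvection.act_one]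
    rw [e, show h (act g x) (act g (act g (t i))) = h x (act g (t i)) from
      OrthUnitaryTransvection.herm_act g _ _]
    exact hperp hx _ (hWinv g hg _ (Submodule.subset_span ⟨i, rfl⟩))
  obtain ⟨y, hy, hy'⟩ := exists_outside t t (by omega)
  obtain ⟨v, hv, hvW, hvB⟩ := step hB hXinv hWinv hy hy'
  by_cases hvv : h v v = 0
  · exact ⟨v, hvv, hv, hvW, hvB⟩
  have hvv1 : h v v = 1 := (h_self v).resolve_left hvv
  set s : Fin (k + 1) → Fin 6 → F := Fin.cons v t with hs
  have hsX : ∀ g ∈ B, ∀ x ∈ perp s, act g x ∈ perp s := by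
    intro g hg x hx
    have hxt : x ∈ perp t := fun i => by simpa [hs] using hx i.succ
    have hgx := hXinv g hg x hxt
    refine Fin.cases ?_ (fun i => ?_)
    · have hxv : h x v = 0 := by simpa [hs] using hx 0
      have e : v = act g v + (act g v + v) := by rw [← add_assoc, vec_add_self, zero_add]
      rw [hs, Fin.cons_zero, e, h_add_right,
        show h (act g x) (act g v) = h x v from OrthUnitaryTransvection.herm_act g _ _, hxv, zero_add]
      exact hperp hgx _ (hvB g hg)
    · rw [hs, Fin.cons_succ]; exact hgx i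
  obtain ⟨y', hy1, hy2⟩ := exists_outside s t (by omega)
  obtain ⟨v', hv', hvW', hvB'⟩ := step hB hsX hWinv hy1 hy2
  have hvt : ∀ i, h v' (t i) = 0 := fun i => by simpa [hs] using hv' i.succ
  have hv'v : h v' v = 0 := by simpa [hs] using hv' 0
  by_cases hvv' : h v' v' = 0
  · exact ⟨v', hvv', hvt, hvW', hvB'⟩
  have hvv'1 : h v' v' = 1 := (h_self v').resolve_left hvv'
  refine ⟨v + v', ?_, fun i => by rw [h_add_left, hv i, hvt i, add_zero], fun hmem => ?_, fun g hg => ?_⟩
  · rw [h_add_left, h_add_right, h_add_right, hvv1, hv'v, h_comm_zero hv'v, hvv'1, add_zero, zero_add]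
    exact add_self 1
  · have : h v (v + v') = 0 := hperp hv _ hmem
    rw [h_add_right, hvv1, h_comm_zero hv'v, add_zero] at this
    exact one_ne_zero this
  · have := W.add_mem (hvB g hg) (hvB' g hg)
    rw [show act g v + v + (act g v' + v') = act g v + act g v' + (v + v') by abel,
      ← OrthUnitaryTransvection.act_add] at this
    exact this

/-- A flag of a frame for an elementary abelian group. -/
structure Flag (B : Subgroup (Cfsg.SU 6 F 2)) (e : Fin 3 → Fin 6 → F) : Prop where
  zero : ∀ g ∈ B, act g (e 0) = e 0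
  one : ∀ g ∈ B, ∃ a : F, act g (e 1) = e 1 + a • e 0
  two : ∀ g ∈ B, ∃ b c : F, act g (e 2) = e 2 + b • e 1 + c • e 0

theorem lin_three {a b c : Fin 6 → F} (ha : a ≠ 0) (hb : b ∉ Submodule.span F (Set.range ![a]))
    (hc : c ∉ Submodule.span F (Set.range ![a, b])) : LinearIndependent F ![a, b, c] := by
  rw [Fintype.linearIndependent_iff]
  intro g hg
  rw [Fin.sum_univ_three] at hg
  simp only [Matrix.cons_val_zero, Matrix.cons_val_one, Matrix.cons_val] at hg
  have hma : a ∈ Submodule.span F (Set.range ![a, b]) := Submodule.subset_span ⟨0, rfl⟩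
  have hmb : b ∈ Submodule.span F (Set.range ![a, b]) := Submodule.subset_span ⟨1, rfl⟩
  have g2 : g 2 = 0 := by
    by_contra h2
    refine hc ?_
    have : c = (g 2)⁻¹ • (g 0 • a + g 1 • b) := by
      rw [eq_inv_smul_iff₀ h2]; exact (vec_eq_of_add hg).symm
    rw [this]
    exact Submodule.smul_mem _ _ (Submodule.add_mem _ (Submodule.smul_mem _ _ hma)
      (Submodule.smul_mem _ _ hmb))
  rw [g2, zero_smul, add_zero] at hg
  have g1 : g 1 = 0 := by
    by_contra h1
    refine hb ?_
    have : b = (g 1)⁻¹ • (g 0 • a) := by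
      rw [eq_inv_smul_iff₀ h1]; exact (vec_eq_of_add hg).symm
    rw [this]
    exact Submodule.smul_mem _ _ (Submodule.smul_mem _ _ (Submodule.subset_span ⟨0, rfl⟩))
  rw [g1, zero_smul, add_zero] at hg
  have g0 : g 0 = 0 := (smul_eq_zero.mp hg).resolve_right ha
  intro i; fin_cases i <;> assumption

theorem exists_flag {B : Subgroup (Cfsg.SU 6 F 2)} (hB : Elem B) :
    ∃ e f, Frame e f ∧ Flag B e := by
  obtain ⟨v0, h00, -, n0, f0⟩ := grow hB (Nat.zero_le 2) (![] : Fin 0 → Fin 6 → F) (fun i => i.elim0)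
    (fun g _ i => i.elim0)
  have g0 : ∀ g ∈ B, act g v0 = v0 := fun g hg => by
    have := f0 g hg
    rw [Matrix.range_empty, Submodule.span_empty, Submodule.mem_bot] at this
    exact vec_eq_of_add this
  have hv0 : v0 ≠ 0 := fun e => n0 (e ▸ Submodule.zero_mem _)
  obtain ⟨v1, h11, h10, n1, f1⟩ := grow hB (by norm_num : 1 ≤ 2) ![v0] (fun i j => by
    fin_cases i; fin_cases j; exact h00) (fun g hg i => by
    fin_cases i; simp [g0 g hg, vec_add_self])
  have g1 : ∀ g ∈ B, ∃ a : F, act g v1 = v1 + a • v0 := fun g hg => by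
    obtain ⟨a, ha⟩ := (Submodule.mem_span_range_iff_exists_fun F).mp (f1 g hg)
    rw [Fin.sum_univ_one] at ha
    refine ⟨a 0, ?_⟩
    rw [show (![v0] : Fin 1 → _) 0 = v0 from rfl] at ha
    rw [ha, add_comm (act g v1), ← add_assoc, vec_add_self, zero_add]
  have h01 : h v0 v1 = 0 := h_comm_zero (h10 0)
  obtain ⟨v2, h22, h20, n2, f2⟩ := grow hB (le_refl 2) ![v0, v1] (fun i j => by
    fin_cases i <;> fin_cases j <;> simp [h00, h11, h01, h_comm_zero h01]) (fun g hg i => by
    fin_cases i
    · simp [g0 g hg, vec_add_self]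
    · obtain ⟨a, ha⟩ := g1 g hg
      simp only [Fin.mk_one, Matrix.cons_val_one, Matrix.cons_val_fin_one, ha]
      rw [add_comm, ← add_assoc, vec_add_self, zero_add]
      exact Submodule.smul_mem _ _ (Submodule.subset_span ⟨0, rfl⟩))
  have g2 : ∀ g ∈ B, ∃ b c : F, act g v2 = v2 + b • v1 + c • v0 := fun g hg => by
    obtain ⟨a, ha⟩ := (Submodule.mem_span_range_iff_exists_fun F).mp (f2 g hg)
    rw [Fin.sum_univ_two] at ha
    refine ⟨a 1, a 0, ?_⟩
    simp only [Matrix.cons_val_zero, Matrix.cons_val_one, Matrix.cons_val_fin_one] at ha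
    calc act g v2 = v2 + (act g v2 + v2) := by
          rw [add_comm (act g v2), ← add_assoc, vec_add_self, zero_add]
      _ = v2 + (a 0 • v0 + a 1 • v1) := by rw [ha]
      _ = _ := by abel
  have h20' : h v2 v0 = 0 := h20 0
  have h21' : h v2 v1 = 0 := h20 1
  obtain ⟨f, hf⟩ := exists_frame_of (e := ![v0, v1, v2]) (fun i j => by
    fin_cases i <;> fin_cases j <;>
      simp [h00, h11, h22, h01, h20', h21', h_comm_zero h01, h_comm_zero h20', h_comm_zero h21'])
    (lin_three hv0 n1 n2)
  exact ⟨![v0, v1, v2], f, hf, ⟨g0, g1, g2⟩⟩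

/-- A flag inside a given invariant plane. -/
theorem exists_flag_in {B : Subgroup (Cfsg.SU 6 F 2)} (hB : Elem B) {e f : Fin 3 → Fin 6 → F}
    (hfr : Frame e f) (hinv : ∀ g ∈ B, ∀ i, act g (e i) + e i ∈ Submodule.span F (Set.range e)) :
    ∃ e' f', Frame e' f' ∧ Flag B e' ∧ P e' = P e := by
  set X := Submodule.span F (Set.range e) with hX
  have hXinv : ∀ g ∈ B, ∀ x ∈ X, act g x ∈ X := fun g hg x hx => act_mem_span (hinv g hg) hx
  have hli : LinearIndependent F e := by
    rw [Fintype.linearIndependent_iff]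
    intro g hg i
    exact congrFun (hfr.comb_inj (c := g) (b := 0) (by rw [comb_zero]; exact hg)) i
  have hout : ∀ {k : ℕ}, k ≤ 2 → ∀ t : Fin k → Fin 6 → F, ∃ x ∈ X, x ∉ Submodule.span F (Set.range t) := by
    intro k hk t
    by_contra hno
    push Not at hno
    have h3 := (Submodule.finrank_mono (R := F) (s := X) hno).trans (finrank_range_le_card t)
    rw [hX, finrank_span_eq_card hli, Fintype.card_fin, Fintype.card_fin] at h3
    omega
  obtain ⟨x, hx, hx'⟩ := hout (Nat.zero_le 2) (![] : Fin 0 → Fin 6 → F)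
  obtain ⟨v0, m0, n0, f0⟩ := step hB hXinv
    (fun g _ x hx => act_mem_span (t := (![] : Fin 0 → Fin 6 → F)) (fun i => i.elim0) hx) hx hx'
  have g0 : ∀ g ∈ B, act g v0 = v0 := fun g hg => by
    have := f0 g hg
    rw [Matrix.range_empty, Submodule.span_empty, Submodule.mem_bot] at this
    exact vec_eq_of_add this
  have hv0 : v0 ≠ 0 := fun e => n0 (e ▸ Submodule.zero_mem _)
  obtain ⟨x, hx, hx'⟩ := hout (by norm_num : 1 ≤ 2) ![v0]
  obtain ⟨v1, m1, n1, f1⟩ := step hB hXinv (fun g hg x hx => act_mem_span (t := ![v0]) (fun i => by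
    fin_cases i; simp [g0 g hg, vec_add_self]) hx) hx hx'
  have g1 : ∀ g ∈ B, ∃ a : F, act g v1 = v1 + a • v0 := fun g hg => by
    obtain ⟨a, ha⟩ := (Submodule.mem_span_range_iff_exists_fun F).mp (f1 g hg)
    rw [Fin.sum_univ_one] at ha
    refine ⟨a 0, ?_⟩
    rw [show (![v0] : Fin 1 → _) 0 = v0 from rfl] at ha
    rw [ha, add_comm (act g v1), ← add_assoc, vec_add_self, zero_add]
  obtain ⟨x, hx, hx'⟩ := hout (le_refl 2) ![v0, v1]
  obtain ⟨v2, m2, n2, f2⟩ := step hB hXinv (fun g hg x hx => act_mem_span (t := ![v0, v1]) (fun i => by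
    fin_cases i
    · simp [g0 g hg, vec_add_self]
    · obtain ⟨a, ha⟩ := g1 g hg
      simp only [Fin.mk_one, Matrix.cons_val_one, Matrix.cons_val_fin_one, ha]
      rw [add_comm, ← add_assoc, vec_add_self, zero_add]
      exact Submodule.smul_mem _ _ (Submodule.subset_span ⟨0, rfl⟩)) hx) hx hx'
  have g2 : ∀ g ∈ B, ∃ b c : F, act g v2 = v2 + b • v1 + c • v0 := fun g hg => by
    obtain ⟨a, ha⟩ := (Submodule.mem_span_range_iff_exists_fun F).mp (f2 g hg)
    rw [Fin.sum_univ_two] at ha
    refine ⟨a 1, a 0, ?_⟩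
    simp only [Matrix.cons_val_zero, Matrix.cons_val_one, Matrix.cons_val_fin_one] at ha
    calc act g v2 = v2 + (act g v2 + v2) := by
          rw [add_comm (act g v2), ← add_assoc, vec_add_self, zero_add]
      _ = v2 + (a 0 • v0 + a 1 • v1) := by rw [ha]
      _ = _ := by abel
  have hcomb : ∀ {v}, v ∈ X → ∃ c, v = comb e c := fun hv => by
    obtain ⟨c, hc⟩ := (Submodule.mem_span_range_iff_exists_fun F).mp hv
    exact ⟨c, hc.symm⟩
  have hc : ∀ i, ∃ c, (![v0, v1, v2] : Fin 3 → Fin 6 → F) i = comb e c := fun i => by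
    fin_cases i
    exacts [hcomb m0, hcomb m1, hcomb m2]
  obtain ⟨f', hf'⟩ := exists_frame_of (e := ![v0, v1, v2]) (fun i j => by
    obtain ⟨a, ha⟩ := hc i; obtain ⟨b, hb⟩ := hc j
    rw [ha, hb]; exact hfr.h_ee a b) (lin_three hv0 n1 n2)
  exact ⟨_, f', hf', ⟨g0, g1, g2⟩, P_eq_of_span hfr hf' hc⟩

end Cfsg.Agent.Unit62Flag55
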