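import Cfsg.Agent.Lib.Unit62Count55

/-!
# The conjugates of a central involution inside its centralizer

If the centralizer of `d` is a perfect double cover of `PSU(6,2)` and `d` is not weakly closed in it, then
the conjugates of `d` there, other than `d`, are one lift of each transvection, and form one class.
-/

set_option autoImplicit false
set_option linter.unusedSectionVars false
set_option linter.style.haveILetI false

namespace Cfsg.Agent.Unit62Near55

open Cfsg.Agent.UnitaryF4Geo Cfsg.Agent.UnitaryF4Line Cfsg.Agent.ThreeTransM22Frame72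
open Cfsg.Agent.Unit62Code55 Cfsg.Agent.Unit62Plane55 Cfsg.Agent.Unit62Cover55
open Cfsg.Agent.Unit62Exist55 Cfsg.Agent.Unit62Count55

variable {G : Type*} [Group G] [Finite G] {d : G}
variable {F : Type} [Field F] [Fintype F] [hF : FourField F]
variable {θ : ↥(Subgroup.centralizer ({d} : Set G)) →* Cfsg.PSU 6 F 2}
variable {e f : Fin 3 → Fin 6 → F}

local notation "π" => QuotientGroup.mk' (Subgroup.center (Cfsg.SU 6 F 2))

/-- The codes over which conjugates lie are those of rank one, one lift each. -/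
theorem counts_eq (X : Cov (dd d) θ) (hfr : Frame e f)
    (hnwc : ∃ g : G, g * d * g⁻¹ ∈ Subgroup.centralizer ({d} : Set G) ∧ g * d * g⁻¹ ≠ d) (n : Fin 512) :
    ((n : ℕ) ∈ one → cnt (θ := θ) hfr n = 1) ∧ ((n : ℕ) ∈ two → cnt (θ := θ) hfr n = 0) ∧
      ((n : ℕ) ∈ three → cnt (θ := θ) hfr n = 0) := by
  obtain ⟨a, b, c, ha, -, -, hN, hcls⟩ := card_formula X hfr
  rw [ncard_eq X hfr hnwc] at hN
  obtain ⟨rfl, rfl, rfl⟩ : a = 1 ∧ b = 0 ∧ c = 0 := by omega
  exact hcls n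

/-- A transvection lies in a plane group. -/
theorem exists_frame_point {u : Fin 6 → F} (hu : h u u = 0) (hu0 : u ≠ 0) :
    ∃ (e f : Fin 3 → Fin 6 → F) (hfr : Frame e f) (i : Fin 21), (tp hfr i).1 = T u hu := by
  obtain ⟨e, f, hfr, he⟩ := extend 2 1 rfl ![u] (fun i j => by fin_cases i; fin_cases j; exact hu)
    (LinearIndependent.of_subsingleton (v := ![u]) 0 (by simpa using hu0))
  obtain ⟨c, hc⟩ := (Submodule.mem_span_range_iff_exists_fun F).mp (he 0)
  have hcu : comb e c = u := hc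
  obtain ⟨i, s, hs, rfl⟩ := vec_cover (c := c) fun h0 => hu0 (by rw [← hcu, h0, comb_zero])
  refine ⟨e, f, hfr, i, ?_⟩
  rw [comb_smul] at hcu
  subst hcu
  exact (T_smul hs (hfr.h_ee _ _) hu).symm

/-- A conjugate of `d` in the centralizer, other than `d`, lifts a transvection. -/
theorem near_transvection (X : Cov (dd d) θ)
    (hnwc : ∃ g : G, g * d * g⁻¹ ∈ Subgroup.centralizer ({d} : Set G) ∧ g * d * g⁻¹ ≠ d)
    {x : ↥(Subgroup.centralizer ({d} : Set G))} (hx : IsConj d (x : G)) (hne : (x : G) ≠ d) :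
    ∃ (u : Fin 6 → F) (hu : h u u = 0), u ≠ 0 ∧ θ x = π (T u hu) := by
  obtain ⟨g, hg⟩ := isConj_iff.mp hx
  have hd2 : d * d = 1 := congrArg Subtype.val X.zz
  obtain ⟨e, f, hfr, hxe⟩ := exists_plane X (x := x) (Subtype.ext (by
    show (x : G) * x = 1
    rw [← hg, show g * d * g⁻¹ * (g * d * g⁻¹) = g * (d * d) * g⁻¹ by group, hd2, mul_one,
      mul_inv_cancel]))
  have hS : (x : G) ∈ SX θ e := ⟨mem_AG.mpr hxe, hx⟩
  have hpos : 0 < cnt (θ := θ) hfr (cd hfr x hxe) :=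
    Nat.card_pos_iff.mpr ⟨⟨⟨⟨x, hxe⟩, rfl, hS⟩⟩, inferInstance⟩
  have h0 : cd hfr x hxe ≠ 0 := fun h0 => by
    rcases X.cd_fib hfr hxe (one_mem _) (h0.trans (cd_one hfr).symm) with h | h <;> subst h
    · exact one_notMem X (by simpa using hS)
    · exact hne (by simp [dd])
  obtain ⟨c1, c2, c3⟩ := counts_eq X hfr hnwc ⟨_, cd_lt hfr hxe⟩
  rcases classes ⟨_, cd_lt hfr hxe⟩ h0 with h | h | h
  · obtain ⟨i, -, hi⟩ := List.mem_map.mp h
    have h1 : code hfr (part x hxe) = code hfr (tp hfr i) := hi.symm.trans (code_tp hfr i).symm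
    exact ⟨_, hfr.h_ee _ _, fun h0 => vec_pv_ne i (hfr.comb_inj (h0.trans (comb_zero e).symm)),
      (part_spec x hxe).symm.trans (by rw [code_injective hfr h1]; rfl)⟩
  · rw [c2 h] at hpos; omega
  · rw [c3 h] at hpos; omega

/-- Each transvection has exactly one lift conjugate to `d`. -/
theorem existsUnique_lift (X : Cov (dd d) θ)
    (hnwc : ∃ g : G, g * d * g⁻¹ ∈ Subgroup.centralizer ({d} : Set G) ∧ g * d * g⁻¹ ≠ d)
    {u : Fin 6 → F} (hu : h u u = 0) (hu0 : u ≠ 0) :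
    ∃! x : ↥(Subgroup.centralizer ({d} : Set G)), IsConj d (x : G) ∧ θ x = π (T u hu) := by
  obtain ⟨e, f, hfr, i, hi⟩ := exists_frame_point hu hu0
  have h1 := (counts_eq X hfr hnwc ⟨pc i, codeOf_lt _⟩).1 (List.mem_map.mpr ⟨i, List.mem_finRange i, rfl⟩)
  rw [cnt, Nat.card_eq_one_iff_exists] at h1
  obtain ⟨⟨⟨x, hx⟩, hxc, hxS⟩, huniq⟩ := h1
  have hθx : θ x = π (T u hu) := by
    rw [← hi, ← part_spec x hx, code_injective hfr (hxc.trans (code_tp hfr i).symm)]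
  refine ⟨x, ⟨hxS.2, hθx⟩, fun y hy => ?_⟩
  have hye : y ∈ Eh θ e := mem_Eh.mpr ⟨_, (tp hfr i).2, by rw [hi]; exact hy.2.symm⟩
  have hyc : cd hfr y hye = pc i := by
    rw [cd_eq hfr hye (g := tp hfr i) (by rw [hi]; exact hy.2.symm), code_tp]
  exact congrArg (fun w => ((w.1 : ↥(Eh θ e)) : ↥(Subgroup.centralizer ({d} : Set G))))
    (huniq ⟨⟨y, hye⟩, hyc, mem_AG.mpr hye, hy.1⟩)

/-- They form one class of the centralizer. -/
theorem near_conj (X : Cov (dd d) θ)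
    (hnwc : ∃ g : G, g * d * g⁻¹ ∈ Subgroup.centralizer ({d} : Set G) ∧ g * d * g⁻¹ ≠ d)
    {x y : ↥(Subgroup.centralizer ({d} : Set G))} (hx : IsConj d (x : G)) (hxd : (x : G) ≠ d)
    (hy : IsConj d (y : G)) (hyd : (y : G) ≠ d) :
    ∃ c : ↥(Subgroup.centralizer ({d} : Set G)), c * x * c⁻¹ = y := by
  obtain ⟨u, hu, hu0, eu⟩ := near_transvection X hnwc hx hxd
  obtain ⟨v, hv, hv0, ev⟩ := near_transvection X hnwc hy hyd
  obtain ⟨e, f, hfr, i, hi⟩ := exists_frame_point hu hu0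
  obtain ⟨e', f', hfr', j, hj⟩ := exists_frame_point hv hv0
  have h3 : ∀ i : Fin 21, ∃ p q : Fin 21, det3 (pv i) (pv p) (pv q) ≠ 0 := fun i => by
    obtain ⟨p, hp⟩ := exists_ne i
    obtain ⟨q, hq⟩ := exists_third i p hp.symm
    exact ⟨p, q, hq⟩
  obtain ⟨p, q, hd⟩ := h3 i
  obtain ⟨p', q', hd'⟩ := h3 j
  obtain ⟨k, -, hk, -, -⟩ := triangle_move hfr hfr' hd hd'
  obtain ⟨c, hc⟩ := X.surj (π k)
  refine ⟨c, (existsUnique_lift X hnwc hv hv0).unique ⟨conj_isConj (c : G) hx, ?_⟩ ⟨hy, ev⟩⟩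
  rw [map_mul, map_mul, map_inv, hc, eu, ← hi, ← hj, ← hk]
  simp only [map_mul, map_inv]

end Cfsg.Agent.Unit62Near55
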