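import Mathlib
import Cfsg.Prelude.Def_GeometricClasses
import Cfsg.Agent.Lib.UnitaryFrameGlue84

/-!
Orthogonal decompositions of the unitary 4-space: maximality from the centres of an overgroup, and the case of two
planes.
-/

set_option autoImplicit false
set_option linter.unusedSectionVars false

namespace Cfsg.Agent.UnitFourPlanes77

open scoped Matrix MatrixGroups
open Cfsg.Agent.OrthUnitaryHerm
open Cfsg.Agent.OrthUnitaryTransvection
open Cfsg.Agent.OrthUnitarySubspaces
open Cfsg.Agent.OrthUnitaryMaximal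
open Cfsg.Agent.UnitaryFrame84

variable {F : Type*} [Field F] [Fintype F] {q n t k : ℕ}

/-- Stabilisers of orthogonal decompositions into non-degenerate subspaces are maximal. -/
theorem maximal_of_centres (hF : Fintype.card F = q ^ 2) (hn : 4 ≤ n)
    (D : Fin t → Submodule F (Fin n → F))
    (hD : Geo.IsNondegenerateMDecomposition (hermForm n F q) k D)
    (hcen : ∀ (E : Fin n ≃ Fin t × Fin k) (M : Subgroup (SU n F q)), (∀ g, Pres (part E) g → g ∈ M) →
      ∀ g ∈ M, ¬Pres (part E) g → ∀ v, hermForm n F q v v = 0 → Centre M v) :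
    Geo.IsMaximalIn (GU n F q ⊓ Geo.specialLinear (Fin n) F)
      (Geo.decompositionStabilizer D ⊓ (GU n F q ⊓ Geo.specialLinear (Fin n) F)) := by
  classical
  have hnd : ∀ i, ∀ u ∈ D i, (∀ v ∈ D i, hermForm n F q u v = 0) → u = 0 := by
    intro i u hu h
    by_contra hu0
    obtain ⟨-, x, hx, hxu⟩ := hD.nondegenerate i u hu hu0
    exact hxu (h x hx)
  choose f hfD hf using fun i => exists_onb hF k (D i) (hD.decomp.finrank_eq i) (hnd i)
  let w : Fin t × Fin k → Fin n → F := fun p => f p.1 p.2
  have hw : OrthoN q w := by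
    rintro ⟨i, x⟩ ⟨j, y⟩
    by_cases hij : i = j
    · subst hij
      simpa [Prod.ext_iff, w] using hf i x y
    · rw [if_neg (fun h => hij (Prod.mk.inj h).1)]
      exact hD.orthogonal i j hij _ (hfD i x) _ (hfD j y)
  have hspan : Submodule.span F (Set.range w) = ⊤ := by
    rw [eq_top_iff, ← hD.decomp.iSup_eq_top]
    refine iSup_le fun i u hu => ?_
    rw [eq_comb (hf i) (hfD i) (by rw [hD.decomp.finrank_eq, Fintype.card_fin]) hu]
    exact Submodule.sum_mem _ fun x _ => Submodule.smul_mem _ _ (Submodule.subset_span ⟨(i, x), rfl⟩)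
  have hcard : Fintype.card (Fin t × Fin k) = Fintype.card (Fin n) := by
    have h2 := (linearIndependent hw).fintype_card_le_finrank
    have h3 : Module.finrank F (Submodule.span F (Set.range w)) ≤ _ := finrank_range_le_card w
    rw [hspan, finrank_top] at h3
    rw [Module.finrank_fin_fun] at h2 h3
    rw [Fintype.card_fin]
    omega
  let E : Fin n ≃ Fin t × Fin k := (Fintype.equivOfCardEq hcard).symm
  let P : Matrix (Fin n) (Fin n) F := (Matrix.of fun a => w (E a))ᵀ
  have hP : IsU q P := isU_of_orthoN hF fun a b => by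
    rw [hw (E a) (E b)]
    simp [E.apply_eq_iff_eq]
  have hPe : ∀ a, P *ᵥ (e a : Fin n → F) = w (E a) := fun a => by
    rw [Matrix.mulVec_single_one]
    rfl
  have hPmem : ∀ x i, P *ᵥ x ∈ D i ↔ ∀ a, x a ≠ 0 → part E a = i := by
    intro x i
    constructor
    · intro h a ha
      by_contra hne
      apply ha
      have h1 := hD.orthogonal i (part E a) (Ne.symm hne) _ h _ (hfD (part E a) (E a).2)
      rw [show f (part E a) (E a).2 = P *ᵥ (e a : Fin n → F) from (hPe a).symm, hP,
        herm_single_right hF] at h1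
      exact h1
    · intro h
      rw [mulVec_of_cols]
      refine Submodule.sum_mem _ fun a _ => ?_
      by_cases ha : x a = 0
      · rw [ha, zero_smul]; exact Submodule.zero_mem _
      · exact Submodule.smul_mem _ _ (h a ha ▸ hfD (part E a) (E a).2)
  have hsurj : ∀ y, ∃ x, P *ᵥ x = y :=
    Matrix.mulVec_surjective_iff_isUnit.2 (hP.isUnit hF)
  have hinj := Matrix.mulVec_injective_iff_isUnit.2 (hP.isUnit hF)
  let ψ := conjU hF P hP
  have hψ : ∀ (h : SU n F q) x, act (ψ h) (P *ᵥ x) = P *ᵥ act h x := fun h x =>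
    conjU_act hF P hP h x
  have hk1 : 1 ≤ k := hD.decomp.pos
  have hiff : ∀ h : SU n F q, Pres (part E) h ↔ toGLn (ψ h) ∈ Geo.decompositionStabilizer D := by
    intro h
    have hlin : ∀ x o, act h x o = ∑ a, x a * act h (e a) o := fun x o => by
      conv_lhs => rw [act, Matrix.mulVec, dotProduct]
      refine Finset.sum_congr rfl fun a _ => ?_
      rw [act, e, Matrix.mulVec_single_one, mul_comm]
      rfl
    constructor
    · intro hh
      have hnz : ∀ i : Fin t, ∃ o, act h (e (E.symm (i, (⟨0, hk1⟩ : Fin k)))) o ≠ 0 := by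
        intro i
        by_contra hc
        push Not at hc
        have h0 : act h (e (E.symm (i, (⟨0, hk1⟩ : Fin k))) : Fin n → F) = act h 0 := by
          rw [act_zero]; exact funext hc
        have h1 := act_inj h0
        simpa [e] using congrFun h1 (E.symm (i, (⟨0, hk1⟩ : Fin k)))
      choose o ho using hnz
      have hmap : ∀ i, ∀ y ∈ D i, act (ψ h) y ∈ D (part E (o i)) := by
        intro i y hy
        obtain ⟨x, rfl⟩ := hsurj y
        rw [hψ, hPmem]
        intro c hc
        rw [hlin] at hc
        obtain ⟨a, -, ha⟩ := Finset.exists_ne_zero_of_sum_ne_zero hc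
        exact hh a (E.symm (i, ⟨0, hk1⟩)) c (o i)
          (by rw [part_symm]; exact (hPmem x i).1 hy a (left_ne_zero_of_mul ha))
          (right_ne_zero_of_mul ha) (ho i)
      set G := Matrix.toLin' ((toGLn (ψ h) : GL (Fin n) F) : Matrix (Fin n) (Fin n) F) with hG
      have hGact : ∀ y, G y = act (ψ h) y := fun y => by
        rw [hG, Matrix.toLin'_apply, toGLn_act]
      have hGinj : Function.Injective G := fun y y' hyy => by
        rw [hGact, hGact] at hyy
        exact act_inj hyy
      have hDmap : ∀ i, (D i).map G = D (part E (o i)) := fun i =>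
        Submodule.eq_of_le_of_finrank_eq
          (Submodule.map_le_iff_le_comap.2 fun y hy => by
            rw [Submodule.mem_comap, hGact]; exact hmap i y hy)
          (by rw [← (Submodule.equivMapOfInjective G hGinj (D i)).finrank_eq,
            hD.decomp.finrank_eq, hD.decomp.finrank_eq])
      have hσ : Function.Injective fun i => part E (o i) := by
        intro i i' hii
        have h1 : D i = D i' := Submodule.map_injective_of_injective hGinj
          ((hDmap i).trans ((congrArg D hii).trans (hDmap i').symm))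
        have h3 := (hPmem (e (E.symm (i, ⟨0, hk1⟩))) i').1 (h1 ▸ (hPmem _ i).2 fun a ha => by
          by_cases hc : a = E.symm (i, ⟨0, hk1⟩)
          · rw [hc, part_symm]
          · exact absurd (Pi.single_eq_of_ne hc _) ha) (E.symm (i, ⟨0, hk1⟩))
          (by rw [show (e (E.symm (i, (⟨0, hk1⟩ : Fin k))) : Fin n → F) (E.symm (i, ⟨0, hk1⟩))
            = 1 from Pi.single_eq_same _ _]; exact one_ne_zero)
        rwa [part_symm] at h3
      exact ⟨Equiv.ofBijective _ (Finite.injective_iff_bijective.1 hσ), hDmap⟩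
    · rintro ⟨σ, hσ⟩ a b c d hab hc hd
      have hmem : ∀ a c, act h (e a) c ≠ 0 → part E c = σ (part E a) := by
        intro a c hc
        have h1 : act (ψ h) (P *ᵥ (e a : Fin n → F)) ∈ D (σ (part E a)) := by
          rw [← hσ]
          refine ⟨_, (hPmem (e a) _).2 fun a' ha' => ?_, ?_⟩
          · by_cases hc' : a' = a
            · rw [hc']
            · exact absurd (Pi.single_eq_of_ne hc' _) ha'
          · rw [Matrix.toLin'_apply, toGLn_act]
        rw [hψ] at h1
        exact (hPmem _ _).1 h1 c hc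
      rw [hmem a c hc, hmem b d hd, hab]
  refine isMaximalIn_of hF (by omega) _ ?_ fun M hM g hgM hg v hv => ?_
  · obtain ⟨g, hg⟩ := exists_not_pres (E := E) hF (by omega) hD.decomp.two_le hk1 (q := q)
    exact ⟨ψ g, fun h => hg ((hiff g).2 h)⟩
  · obtain ⟨x, rfl⟩ := hsurj v
    obtain ⟨g', rfl⟩ : ∃ g', ψ g' = g := by
      refine ⟨conjU hF P⁻¹ (isU_inv hF hP) g, su_ext fun y => ?_⟩
      obtain ⟨y, rfl⟩ := hsurj y
      rw [hψ]
      have h1 := conjU_act hF P⁻¹ (isU_inv hF hP) g (P *ᵥ y)
      have hdet := (Matrix.isUnit_iff_isUnit_det P).1 (hP.isUnit hF)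
      rw [Matrix.mulVec_mulVec, Matrix.nonsing_inv_mul _ hdet, Matrix.one_mulVec] at h1
      rw [h1, Matrix.mulVec_mulVec, Matrix.mul_nonsing_inv _ hdet, Matrix.one_mulVec]
    have hC := hcen E (M.comap ψ) (fun h hh => hM ((hiff h).1 hh)) g' hgM
      (fun h => hg ((hiff g').1 h)) x (by rwa [hP] at hv)
    refine (centre_iff hF hv).2 fun c hc => ?_
    have h1 := (centre_iff hF hC.1).1 hC c hc
    rw [Subgroup.mem_comap, conjU_tv] at h1
    exact h1


/-- Parts of dimension at least two, at least three elements in the fixed field. -/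
theorem plane_centres (hF : Fintype.card F = q ^ 2) (hn : 3 ≤ n) (hk : 2 ≤ k) (hq : 3 ≤ q)
    (E : Fin n ≃ Fin t × Fin k) (M : Subgroup (SU n F q))
    (hH : ∀ g, Pres (part E) g → g ∈ M) (g : SU n F q) (hg : g ∈ M) (hgp : ¬Pres (part E) g)
    (v : Fin n → F) (hv : hermForm n F q v v = 0) : Centre M v := by
  obtain ⟨u, i, hu, hus, a, b, ha, hb, hab⟩ := exists_leaving hF hk hgp
  have hz := centre_act hF hg (centre_of_block hF hH hu i hus)
  obtain ⟨a', b', x, y, hab', hx, hC⟩ := cross_pair hF hH hk hz hab (blk_ne ha) (blk_ne hb)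
  exact centre_all hF hq (fun a b hne x' y' hx' h' =>
    centre_all_pairs hF hH hn (exists_perm_pair E) hab' hx hC hne hx' h') v hv

/-- Clause 4: decompositions of the unitary 4-space into two orthogonal non-degenerate planes. -/
theorem maximal_planes {F : Type*} [Field F] [Fintype F] (q : ℕ) (hF : Fintype.card F = q ^ 2) :
    3 ≤ q → ∀ D : Fin 2 → Submodule F (Fin 4 → F), Cfsg.Geo.IsNondegenerateMDecomposition (Cfsg.hermForm 4 F q) 2 D → Cfsg.Geo.IsMaximalIn (Cfsg.GU 4 F q ⊓ Cfsg.Geo.specialLinear (Fin 4) F) (Cfsg.Geo.decompositionStabilizer D ⊓ (Cfsg.GU 4 F q ⊓ Cfsg.Geo.specialLinear (Fin 4) F)) :=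
  fun hq D hD => maximal_of_centres hF le_rfl D hD fun E M hH g hg hgp v hv =>
    plane_centres hF (by omega) le_rfl hq E M hH g hg hgp v hv

end Cfsg.Agent.UnitFourPlanes77
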