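import Mathlib
import Cfsg.Prelude.Def_GeometricClasses
import Cfsg.Agent.Lib.UnitFourPlanes77

/-!
Overgroups in `SU_4(q)`, `q ≥ 4`, of the monomial group: axes of quasi-reflections, pairs of axes spanning a
degenerate plane, and the transvections these give.
-/

set_option autoImplicit false
set_option linter.unusedSectionVars false

namespace Cfsg.Agent.UnitFourFrame77

open scoped Matrix MatrixGroups
open Cfsg.Agent.OrthUnitaryHerm
open Cfsg.Agent.OrthUnitaryTransvection
open Cfsg.Agent.OrthUnitarySubspaces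
open Cfsg.Agent.OrthUnitaryMaximal
open Cfsg.Agent.UnitaryFrame84

variable {F : Type*} [Field F] [Fintype F] {q : ℕ} {M : Subgroup (SU 4 F q)}

theorem univ_four {a b c d : Fin 4} (hab : a ≠ b) (hac : a ≠ c) (had : a ≠ d) (hbc : b ≠ c) (hbd : b ≠ d)
    (hcd : c ≠ d) : (Finset.univ : Finset (Fin 4)) = {a, b, c, d} := by
  symm
  apply Finset.eq_univ_of_card
  rw [Finset.card_insert_of_notMem (by simp [hab, hac, had]),
    Finset.card_insert_of_notMem (by simp [hbc, hbd]), Finset.card_pair hcd, Fintype.card_fin]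

theorem sum_four {A : Type*} [AddCommMonoid A] {a b c d : Fin 4} (hab : a ≠ b) (hac : a ≠ c) (had : a ≠ d)
    (hbc : b ≠ c) (hbd : b ≠ d) (hcd : c ≠ d) (f : Fin 4 → A) : ∑ i, f i = f a + f b + f c + f d := by
  rw [univ_four hab hac had hbc hbd hcd, Finset.sum_insert (by simp [hab, hac, had]),
    Finset.sum_insert (by simp [hbc, hbd]), Finset.sum_pair hcd]
  abel

theorem cases_four {a b c d : Fin 4} (hab : a ≠ b) (hac : a ≠ c) (had : a ≠ d) (hbc : b ≠ c) (hbd : b ≠ d)
    (hcd : c ≠ d) (i : Fin 4) : i = a ∨ i = b ∨ i = c ∨ i = d := by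
  have := Finset.mem_univ i
  rw [univ_four hab hac had hbc hbd hcd] at this
  simpa using this

theorem exists_two {a b : Fin 4} (hab : a ≠ b) :
    ∃ c d : Fin 4, a ≠ c ∧ a ≠ d ∧ b ≠ c ∧ b ≠ d ∧ c ≠ d := by
  revert a b; decide

theorem exists_one {a b c : Fin 4} (hab : a ≠ b) (hac : a ≠ c) (hbc : b ≠ c) :
    ∃ d : Fin 4, a ≠ d ∧ b ≠ d ∧ c ≠ d := by
  revert a b c; decide

theorem prod_four {a b c d : Fin 4} (hab : a ≠ b) (hac : a ≠ c) (had : a ≠ d) (hbc : b ≠ c) (hbd : b ≠ d)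
    (hcd : c ≠ d) (f : Fin 4 → F) : ∏ i, f i = f a * f b * f c * f d := by
  rw [univ_four hab hac had hbc hbd hcd, Finset.prod_insert (by simp [hab, hac, had]),
    Finset.prod_insert (by simp [hbc, hbd]), Finset.prod_pair hcd]
  ring

/-- `u` is the axis of quasi-reflections in `M`. -/
def Ax (M : Subgroup (SU 4 F q)) (u : Fin 4 → F) : Prop :=
  hermForm 4 F q u u = 1 ∧ ∀ κ : F, κ ^ (q + 1) = 1 → ∃ h ∈ M, ∀ x,
    act h x = κ • x + (((κ ^ 3)⁻¹ - κ) * hermForm 4 F q x u) • u

theorem ax_single (hF : Fintype.card F = q ^ 2) (hH : ∀ g, IsMon g → g ∈ M) (a : Fin 4) :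
    Ax M (e a) := by
  classical
  obtain ⟨b, hb⟩ := exists_ne a
  obtain ⟨c, d, hac, had, hbc, hbd, hcd⟩ := exists_two hb.symm
  refine ⟨by rw [herm_single_right hF]; exact Pi.single_eq_same _ _, fun κ hκ => ?_⟩
  let f : Fin 4 → F := Function.update (fun _ => κ) a (κ ^ 3)⁻¹
  have h3 : (κ ^ 3) ^ (q + 1) = 1 := by rw [← pow_mul, mul_comm, pow_mul, hκ, one_pow]
  have hf : ∀ i, f i ^ (q + 1) = 1 := fun i => by
    by_cases h : i = a
    · rw [h, show f a = (κ ^ 3)⁻¹ from Function.update_self a _ _]; exact normOne_inv h3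
    · rw [show f i = κ from Function.update_of_ne h _ _]; exact hκ
  have hp : ∏ i, f i = 1 := by
    rw [prod_four hb.symm hac had hbc hbd hcd, show f a = (κ ^ 3)⁻¹ from Function.update_self a _ _,
      show f b = κ from Function.update_of_ne hb _ _, show f c = κ from Function.update_of_ne hac.symm _ _,
      show f d = κ from Function.update_of_ne had.symm _ _, show (κ ^ 3)⁻¹ * κ * κ * κ = (κ ^ 3)⁻¹ * κ ^ 3 by ring,
      inv_mul_cancel₀ (normOne_ne_zero h3)]
  refine ⟨diagEl f hf hp, hH _ (diagEl_pres _ f hf hp), fun x => funext fun i => ?_⟩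
  rw [diagEl_act, herm_single_right hF, Pi.add_apply, Pi.smul_apply, Pi.smul_apply, smul_eq_mul, smul_eq_mul]
  by_cases h : i = a
  · rw [h, show f a = (κ ^ 3)⁻¹ from Function.update_self a _ _,
      show (e a : Fin 4 → F) a = 1 from Pi.single_eq_same _ _]
    ring
  · rw [show f i = κ from Function.update_of_ne h _ _,
      show (e a : Fin 4 → F) i = 0 from Pi.single_eq_of_ne h _]
    ring

theorem ax_act {u : Fin 4 → F} (hu : Ax M u) {g : SU 4 F q} (hg : g ∈ M) : Ax M (act g u) := by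
  refine ⟨by rw [herm_act]; exact hu.1, fun κ hκ => ?_⟩
  obtain ⟨h, hh, hact⟩ := hu.2 κ hκ
  refine ⟨g * h * g⁻¹, M.mul_mem (M.mul_mem hg hh) (M.inv_mem hg), fun x => ?_⟩
  rw [act_mul, act_mul, hact, act_add, act_smul, act_smul, act_act_inv]
  congr 2
  rw [← herm_act g (act g⁻¹ x) u, act_act_inv]

/-- Some Eichler transformation with centre `z` along `ξ • u`. -/
def Ei (hF : Fintype.card F = q ^ 2) (M : Subgroup (SU 4 F q)) (z u : Fin 4 → F) (ξ : F) : Prop :=
  ∃ (μ : F) (hz : hermForm 4 F q z z = 0) (hw : hermForm 4 F q (ξ • u) z = 0)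
    (hμ : μ + μ ^ q + hermForm 4 F q (ξ • u) (ξ • u) = 0), eich hF z (ξ • u) μ hz hw hμ ∈ M

theorem ei_sub (hF : Fintype.card F = q ^ 2) {z u : Fin 4 → F} {ξ η : F} (h₁ : Ei hF M z u ξ)
    (h₂ : Ei hF M z u η) : Ei hF M z u (η - ξ) := by
  obtain ⟨μ, hz, hw, hμ, hM⟩ := h₁
  obtain ⟨μ', hz', hw', hμ', hM'⟩ := h₂
  obtain ⟨μ'', hw'', hμ'', hM''⟩ := eich_diff hF hM hM'
  have e1 : η • u - ξ • u = (η - ξ) • u := (sub_smul _ _ _).symm
  refine ⟨μ'', hz, e1 ▸ hw'', e1 ▸ hμ'', ?_⟩
  convert hM'' using 2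
  exact e1.symm

/-- Two axes spanning a degenerate plane give Eichler transformations. -/
theorem ei_of_pair (hF : Fintype.card F = q ^ 2) {u v : Fin 4 → F} (hu : Ax M u) (hv : Ax M v) {γ : F}
    (hγ : hermForm 4 F q v u = γ) (hγ1 : γ ^ (q + 1) = 1) {κ : F} (hκ : κ ^ (q + 1) = 1) :
    Ei hF M (v - γ • u) u (((κ ^ 4)⁻¹ - 1) * γ) := by
  set z := v - γ • u with hz
  set ε := (κ ^ 4)⁻¹ - 1 with hε
  have hγγ : γ * γ ^ q = 1 := by rw [← pow_succ', hγ1]
  have huv : hermForm 4 F q u v = γ ^ q := by rw [herm_conj hF v u, hγ]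
  have hκ0 : κ ≠ 0 := normOne_ne_zero hκ
  have hεq : ε ^ q = κ ^ 4 - 1 := by
    rw [hε, sub_pow_q hF, one_pow, inv_pow, ← pow_mul, mul_comm, pow_mul, normOne_pow_q hκ, inv_pow,
      inv_inv]
  have hzr : ∀ x, hermForm 4 F q x z = hermForm 4 F q x v - γ ^ q * hermForm 4 F q x u := fun x => by
    rw [hz, sub_eq_add_neg, ← neg_smul, herm_add_right hF, herm_smul_right, neg_pow_q hF]
    ring
  have hzz : hermForm 4 F q z z = 0 := by
    rw [hzr, hz, herm_sub_left, herm_sub_left, herm_smul_left, herm_smul_left, hv.1, hu.1, hγ, huv]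
    linear_combination (norm := ring_nf) 0 * hγγ
    rw [← pow_succ' γ q] at hγγ
    linear_combination -hγγ
  have hw : hermForm 4 F q ((ε * γ) • u) z = 0 := by
    rw [herm_smul_left, hzr, huv, hu.1]; ring
  have hεε : ε + ε ^ q + ε * ε ^ q = 0 := by
    rw [hεq, hε]
    field_simp
    ring
  have hμ : ε + ε ^ q + hermForm 4 F q ((ε * γ) • u) ((ε * γ) • u) = 0 := by
    rw [herm_smul_left, herm_smul_right, hu.1, mul_pow]
    linear_combination hεε + (ε * ε ^ q) * hγγ
  refine ⟨ε, hzz, hw, hμ, ?_⟩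
  obtain ⟨hb, hbM, hbact⟩ := hv.2 κ hκ
  obtain ⟨ha, haM, haact⟩ := hu.2 κ⁻¹ (normOne_inv hκ)
  have heq : hb * ha = eich hF z ((ε * γ) • u) ε hzz hw hμ := su_ext fun x => by
    rw [act_mul, hbact, haact, eich_act, herm_add_left, herm_smul_left, herm_smul_left, huv,
      herm_smul_right, hzr, mul_pow, hεq, show v = γ • u + z by rw [hz]; abel]
    set X := hermForm 4 F q x u
    set V := hermForm 4 F q x (γ • u + z)
    match_scalars
    · field_simp
    · rw [hε]
      field_simp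
      linear_combination (norm := ring_nf) 0 * hγγ
      rw [← pow_succ' γ q] at hγγ
      linear_combination (κ ^ 4 - κ ^ 8) * X * hγγ
    · rw [hε]
      field_simp
      ring
  exact heq ▸ M.mul_mem hbM haM

/-- The scalars `t` for which multiplication by `t` preserves a set closed under subtraction. -/
def stabField (P : Set F) (hP : ∀ x ∈ P, ∀ y ∈ P, y - x ∈ P) (h0 : (0 : F) ∈ P) : Subfield F :=
  let R : Subring F :=
    { carrier := {t | ∀ x ∈ P, t * x ∈ P}
      one_mem' := fun x hx => by rwa [one_mul]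
      zero_mem' := fun x _ => by rwa [zero_mul]
      mul_mem' := fun {a b} ha hb x hx => by rw [mul_assoc]; exact ha _ (hb x hx)
      add_mem' := fun {a b} ha hb x hx => by
        have h1 := hP _ (hP _ (hb x hx) _ h0) _ (ha x hx)
        rwa [show a * x - (0 - b * x) = (a + b) * x by ring] at h1
      neg_mem' := fun {a} ha x hx => by
        have h1 := hP _ (ha x hx) _ h0
        rwa [show 0 - a * x = -a * x by ring] at h1 }
  { R with
    inv_mem' := fun a ha => by
      classical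
      by_cases h : a = 0
      · rwa [h, inv_zero, ← h]
      · have h1 : a⁻¹ = a ^ (Fintype.card F - 2) := by
          apply inv_eq_of_mul_eq_one_right
          rw [← pow_succ', show Fintype.card F - 2 + 1 = Fintype.card F - 1 by
            have := Fintype.one_lt_card (α := F); omega]
          exact FiniteField.pow_card_sub_one_eq_one a h
        rw [h1]
        exact R.pow_mem ha _ }

theorem card_roots_le [DecidableEq F] (m : ℕ) (hm : 0 < m) (c : F) :
    (Finset.univ.filter fun x : F => x ^ m = c).card ≤ m := by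
  refine le_trans (Finset.card_le_card (t := (Polynomial.nthRoots m c).toFinset) fun x hx => ?_)
    ((Multiset.toFinset_card_le _).trans (Polynomial.card_nthRoots m c))
  rw [Multiset.mem_toFinset, Polynomial.mem_nthRoots hm]
  exact (Finset.mem_filter.1 hx).2

theorem exists_pow_four_ne (hF : Fintype.card F = q ^ 2) (hq : 4 ≤ q) :
    ∃ κ : F, κ ^ (q + 1) = 1 ∧ κ ^ 4 ≠ 1 := by
  classical
  by_contra h
  push Not at h
  have := (Finset.card_le_card (s := normSet q (1 : F)) (t := Finset.univ.filter fun x => x ^ 4 = 1)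
    fun x hx => Finset.mem_filter.2 ⟨Finset.mem_univ _, h x (mem_normSet.1 hx)⟩).trans
    (card_roots_le 4 (by omega) 1)
  rw [card_normSet hF (one_pow q) one_ne_zero] at this
  omega

theorem exists_pow_eight_ne (hF : Fintype.card F = q ^ 2) (hq : 4 ≤ q) (h7 : q ≠ 7) :
    ∃ κ : F, κ ^ (q + 1) = 1 ∧ κ ^ 8 ≠ 1 := by
  classical
  by_contra h
  push Not at h
  have hle : ∀ m, 0 < m → (∀ x : F, x ^ (q + 1) = 1 → x ^ m = 1) → q + 1 ≤ m := fun m hm hx => by
    have := (Finset.card_le_card (s := normSet q (1 : F)) (t := Finset.univ.filter fun x => x ^ m = 1)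
      fun x hx' => Finset.mem_filter.2 ⟨Finset.mem_univ _, hx x (mem_normSet.1 hx')⟩).trans
      (card_roots_le m hm 1)
    rwa [card_normSet hF (one_pow q) one_ne_zero] at this
  have h8 := hle 8 (by omega) h
  have hg : ∀ x : F, x ^ (q + 1) = 1 → x ^ Nat.gcd (q + 1) 8 = 1 := fun x hx =>
    pow_gcd_eq_one.2 ⟨hx, h x hx⟩
  have := hle _ (Nat.gcd_pos_of_pos_right _ (by omega)) hg
  have hq7 : q ≤ 7 := by omega
  interval_cases q <;> first | omega | (norm_num at this)

/-- A subfield containing the fourth powers of the elements of norm one is everything. -/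
theorem field_top (hF : Fintype.card F = q ^ 2) (hq : 4 ≤ q) (h7 : q ≠ 7) (J : Subfield F)
    (hS : ∀ κ : F, κ ^ (q + 1) = 1 → (κ ^ 4)⁻¹ ∈ J) : ∀ x : F, x ∈ J := by
  classical
  set S := (normSet q (1 : F)).image fun κ => (κ ^ 4)⁻¹ with hSdef
  have hScard : q + 1 ≤ 4 * S.card := by
    rw [← card_normSet hF (one_pow q) (one_ne_zero (α := F))]
    refine Finset.card_le_mul_card_image _ 4 fun c _ => ?_
    refine le_trans (Finset.card_le_card (t := Finset.univ.filter fun x : F => x ^ 4 = c⁻¹) fun x hx => ?_)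
      (card_roots_le 4 (by omega) _)
    simp only [Finset.mem_filter] at hx ⊢
    exact ⟨Finset.mem_univ _, by rw [← hx.2, inv_inv]⟩
  haveI : Fintype J := Fintype.ofFinite J
  set r := Fintype.card J with hr
  have hr2 : 2 ≤ r := Fintype.one_lt_card
  set m := Module.finrank J F with hm
  have hrm : r ^ m = q ^ 2 := by
    rw [← hF, hr, hm, ← Nat.card_eq_fintype_card, ← Nat.card_eq_fintype_card,
      ← Module.natCard_eq_pow_finrank]
  have hJr : ∀ x ∈ J, x ^ r = x := fun x hx => congrArg Subtype.val (FiniteField.pow_card (⟨x, hx⟩ : J))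
  have hJpow : ∀ x ∈ J, ∀ j, x ^ r ^ j = x := fun x hx j => by
    induction j with
    | zero => rw [pow_zero, pow_one]
    | succ j ih => rw [pow_succ, pow_mul, ih, hJr x hx]
  obtain ⟨j, hj | hj⟩ := Nat.even_or_odd' m
  · -- the even case puts the fourth powers in the fixed field
    exfalso
    have hq' : q = r ^ j := Nat.pow_left_injective (n := 2) (by omega) (by
      show q ^ 2 = (r ^ j) ^ 2
      rw [← pow_mul, mul_comm, ← hj, hrm])
    obtain ⟨κ, hκ, hκ8⟩ := exists_pow_eight_ne hF hq h7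
    have h1 := hJpow _ (hS κ hκ) j
    rw [← hq', inv_pow, ← pow_mul, mul_comm, pow_mul, normOne_pow_q hκ, inv_pow, inv_inv] at h1
    apply hκ8
    calc κ ^ 8 = κ ^ 4 * κ ^ 4 := by ring
      _ = (κ ^ 4)⁻¹ * κ ^ 4 := by rw [← h1]
      _ = 1 := inv_mul_cancel₀ (pow_ne_zero _ (normOne_ne_zero hκ))
  rcases Nat.eq_zero_or_pos j with rfl | hj1
  · intro x
    have hsurj : Function.Bijective (fun y : J => (y : F)) :=
      (Fintype.bijective_iff_injective_and_card _).2 ⟨Subtype.val_injective, by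
        rw [hF, ← hrm, hj, mul_zero, zero_add, pow_one]⟩
    obtain ⟨y, rfl⟩ := hsurj.2 x
    exact y.2
  exfalso
  obtain ⟨r0, hr0⟩ : r ^ j ∣ q := (Nat.pow_dvd_pow_iff two_ne_zero).1 ⟨r, by
    rw [← hrm, hj]; ring⟩
  have hr00 : r = r0 ^ 2 := by
    have h1 : (r ^ j) ^ 2 * r = (r ^ j) ^ 2 * r0 ^ 2 := by
      rw [← mul_pow, ← hr0, ← hrm, hj]; ring
    exact Nat.eq_of_mul_eq_mul_left (by positivity) h1
  have hr0' : 2 ≤ r0 := by
    by_contra h
    interval_cases r0 <;> simp at hr00 <;> omega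
  have hsmall : ∀ σ ∈ S, σ ^ (r0 + 1) = 1 := by
    intro σ hσ
    obtain ⟨κ, hκ, rfl⟩ := Finset.mem_image.1 hσ
    rw [mem_normSet] at hκ
    have h4 : ((κ ^ 4)⁻¹) ^ (q + 1) = 1 := normOne_inv (by
      rw [← pow_mul, mul_comm, pow_mul, hκ, one_pow])
    rw [pow_succ, hr0, pow_mul, hJpow _ (hS κ hκ)] at h4
    rwa [pow_succ]
  have hSle : S.card ≤ r0 + 1 := (Finset.card_le_card (t := Finset.univ.filter fun x : F => x ^ (r0 + 1) = 1)
    fun σ hσ => Finset.mem_filter.2 ⟨Finset.mem_univ _, hsmall σ hσ⟩).trans (card_roots_le _ (by omega) 1)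
  have hq3 : r0 ^ 3 ≤ q := by
    rw [hr0]
    calc r0 ^ 3 = r0 ^ 2 * r0 := by ring
      _ ≤ r ^ j * r0 := Nat.mul_le_mul_right _ (by
        rw [← hr00]; exact Nat.le_self_pow (by omega) r)
  have hr02 : r0 = 2 := by nlinarith
  -- four elements in J: the fourth power is injective
  have h2 : (2 : F) = 0 := by
    have h1 := Nat.cast_card_eq_zero F
    rw [hF, hr0, hr02, Nat.cast_pow, Nat.cast_mul, Nat.cast_ofNat] at h1
    have h3 := pow_eq_zero_iff two_ne_zero |>.1 h1
    rcases mul_eq_zero.1 h3 with h | h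
    · rw [hr00, hr02, Nat.cast_pow, Nat.cast_pow, Nat.cast_ofNat, ← pow_mul] at h
      exact eq_zero_of_pow_eq_zero h
    · exact h
  have hinj : S.card = (normSet q (1 : F)).card := Finset.card_image_of_injective _ fun x y h => by
    have h' : x ^ 4 = y ^ 4 := inv_injective h
    have h4 : (x - y) ^ 4 = 0 := by
      linear_combination h' + (-(2 * x ^ 3 * y) + 3 * x ^ 2 * y ^ 2 - 2 * x * y ^ 3 + y ^ 4) * h2
    exact sub_eq_zero.1 (pow_eq_zero_iff (by omega) |>.1 h4)
  rw [card_normSet hF (one_pow q) one_ne_zero] at hinj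
  have : 8 ≤ q := by rw [hr02] at hq3; omega
  omega

/-- A degenerate pair of axes gives a centre when the field has more than two fourth powers of norm one. -/
theorem centre_of_pair (hF : Fintype.card F = q ^ 2) (hq : 4 ≤ q) (h7 : q ≠ 7) {u v : Fin 4 → F}
    (hu : Ax M u) (hv : Ax M v) {γ : F} (hγ : hermForm 4 F q v u = γ) (hγ1 : γ ^ (q + 1) = 1) :
    Centre M (v - γ • u) := by
  set z := v - γ • u
  let P : Set F := {ξ | Ei hF M z u ξ}
  have hP : ∀ x ∈ P, ∀ y ∈ P, y - x ∈ P := fun x hx y hy => ei_sub hF hx hy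
  have hgen : ∀ κ : F, κ ^ (q + 1) = 1 → ((κ ^ 4)⁻¹ - 1) * γ ∈ P := fun κ hκ => ei_of_pair hF hu hv hγ hγ1 hκ
  have h0 : (0 : F) ∈ P := by
    have := hgen 1 (one_pow _)
    simpa using this
  -- the additive span of the parameters
  let W : AddSubgroup F := AddSubgroup.closure {x | ∃ κ : F, κ ^ (q + 1) = 1 ∧ x = ((κ ^ 4)⁻¹ - 1) * γ}
  have hWP : ∀ x ∈ W, x ∈ P := fun x hx => by
    induction hx using AddSubgroup.closure_induction with
    | mem x hx => obtain ⟨κ, hκ, rfl⟩ := hx; exact hgen κ hκ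
    | zero => exact h0
    | add x y _ _ hx hy =>
      have h1 := hP _ (hP _ hy _ h0) _ hx
      rwa [show x - (0 - y) = x + y by ring] at h1
    | neg x _ hx =>
      have h1 := hP _ hx _ h0
      rwa [show 0 - x = -x by ring] at h1
  let J := stabField (W : Set F) (fun x hx y hy => W.sub_mem hy hx) W.zero_mem
  have hJ := field_top hF hq h7 J fun κ hκ => by
    show ∀ x ∈ W, (κ ^ 4)⁻¹ * x ∈ W
    intro x hx
    induction hx using AddSubgroup.closure_induction with
    | mem x hx =>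
      obtain ⟨κ', hκ', rfl⟩ := hx
      rw [show (κ ^ 4)⁻¹ * (((κ' ^ 4)⁻¹ - 1) * γ)
        = (((κ * κ') ^ 4)⁻¹ - 1) * γ - ((κ ^ 4)⁻¹ - 1) * γ by rw [mul_pow, mul_inv]; ring]
      exact W.sub_mem (AddSubgroup.subset_closure ⟨_, by rw [mul_pow, hκ, hκ', one_mul], rfl⟩)
        (AddSubgroup.subset_closure ⟨κ, hκ, rfl⟩)
    | zero => rw [mul_zero]; exact W.zero_mem
    | add x y _ _ hx hy => rw [mul_add]; exact W.add_mem hx hy
    | neg x _ hx => rw [mul_neg]; exact W.neg_mem hx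
  obtain ⟨κ, hκ, hκ4⟩ := exists_pow_four_ne hF hq
  set ξ := ((κ ^ 4)⁻¹ - 1) * γ with hξ
  have hξ0 : ξ ≠ 0 := mul_ne_zero (sub_ne_zero.2 fun h => hκ4 (inv_eq_one.1 h)) (normOne_ne_zero hγ1)
  have hall : ∀ t : F, Ei hF M z u (t * ξ) := fun t =>
    hWP _ (hJ t _ (AddSubgroup.subset_closure ⟨κ, hκ, rfl⟩))
  obtain ⟨μ, hz, hw, hμ, hM⟩ := hgen κ hκ
  refine (centre_iff hF hz).2 fun c hc => ?_
  obtain ⟨η, hη0, hη⟩ : ∃ η : F, η ^ q - η ≠ 0 ∧ True := by
    obtain ⟨η, hη, hη'⟩ := exists_skew (F := F) (q := q) hF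
    by_contra h
    push Not at h
    simp only [sub_ne_zero, ne_eq, not_exists, not_and, not_true, imp_false, not_not] at h
    obtain ⟨τ, -, hτ4⟩ := exists_pow_four_ne hF hq
    have hall' : ∀ x : F, x ^ q = x := h
    have hsub := card_fixedSet_le (F := F) (q := q) hF
    rw [show (fixedSet q : Finset F) = Finset.univ from Finset.eq_univ_iff_forall.2 fun x =>
      mem_fixedSet.2 (hall' x), Finset.card_univ, hF] at hsub
    nlinarith
  set lam := c / (ξ ^ (q + 1) * (η ^ q - η))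
  have hlam : lam ^ q = lam := by
    rw [div_pow, mul_pow, norm_pow_q hF, sub_pow_q hF, pow_q_q hF, show c ^ q = -c by linear_combination hc,
      show η - η ^ q = -(η ^ q - η) by ring, mul_neg, neg_div_neg_eq]
  obtain ⟨μ', hz', hw', hμ', hM'⟩ := hall (lam * η)
  refine tv_of_two hF hM hM' hc ?_
  rw [herm_smul_left, herm_smul_left, herm_smul_right, herm_smul_right, hu.1, mul_pow, mul_pow, hlam]
  have hN : ξ ^ (q + 1) * (η ^ q - η) ≠ 0 := mul_ne_zero (pow_ne_zero _ hξ0) hη0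
  have hd : lam * (ξ ^ (q + 1) * (η ^ q - η)) = c := div_mul_cancel₀ _ hN
  rw [← hd, pow_succ]
  ring

end Cfsg.Agent.UnitFourFrame77
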