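import Mathlib
import Cfsg.Agent.Lib.UnitFourFrame77Ax

/-!
Overgroups of the monomial group in `SU_4(q)`: an axis with a zero coordinate.
-/

set_option autoImplicit false
set_option linter.unusedSectionVars false

namespace Cfsg.Agent.UnitFourFrame77

open scoped Matrix MatrixGroups
open Cfsg.Agent.OrthUnitaryHerm
open Cfsg.Agent.OrthUnitaryTransvection
open Cfsg.Agent.OrthUnitarySubspaces
open Cfsg.Agent.OrthUnitaryMaximal
open Cfsg.Agent.UnitaryFrame84

variable {F : Type*} [Field F] [Fintype F] {q : ℕ} {M : Subgroup (SU 4 F q)}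

/-- A non-zero centre with a zero coordinate. -/
def Good (M : Subgroup (SU 4 F q)) : Prop := ∃ z : Fin 4 → F, Centre M z ∧ z ≠ 0 ∧ ∃ c, z c = 0

/-- An axis with exactly three non-zero coordinates. -/
def Three (M : Subgroup (SU 4 F q)) : Prop :=
  ∃ (u : Fin 4 → F) (a b c d : Fin 4), a ≠ b ∧ a ≠ c ∧ a ≠ d ∧ b ≠ c ∧ b ≠ d ∧ c ≠ d ∧ Ax M u ∧
    u a ≠ 0 ∧ u b ≠ 0 ∧ u c ≠ 0 ∧ u d = 0

/-- An axis with a coordinate of norm one and another zero. -/
theorem good_of_norm_one (hF : Fintype.card F = q ^ 2) (hH : ∀ g, IsMon g → g ∈ M) (hq : 4 ≤ q)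
    {u : Fin 4 → F} (hu : Ax M u) {a b d : Fin 4} (hab : a ≠ b) (had : a ≠ d) (hbd : b ≠ d)
    (ha : u a ^ (q + 1) = 1) (hb : u b ≠ 0) (hd : u d = 0) : Good M := by
  obtain ⟨c, hac, hbc, hdc⟩ := exists_one hab had hbd
  obtain ⟨κ, hκ, hκ4⟩ := exists_pow_four_ne hF hq
  have hτ1 : κ ≠ 1 := fun h => hκ4 (by rw [h, one_pow])
  obtain ⟨h, hh, hact⟩ := exists_diag3 (n := 4) hbc hbd hdc.symm hκ hκ
  have hva : act h u a = u a := by simp [hact, hab, hac, had]
  have hvb : act h u b = κ * u b := by simp [hact]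
  have hvc : act h u c = κ * u c := by simp [hact, hbc.symm]
  have hvd : act h u d = 0 := by rw [hact, hd, mul_zero]
  have hsum := hu.1
  rw [herm_self_sum, sum_four hab hac had hbc hbd hdc.symm, hd, zero_pow (Nat.succ_ne_zero q), ha] at hsum
  have hγ : hermForm 4 F q (act h u) u = 1 := by
    rw [hermForm, sum_four hab hac had hbc hbd hdc.symm, hva, hvb, hvc, hvd, mul_assoc, mul_assoc,
      ← pow_succ' (u a), ← pow_succ' (u b), ← pow_succ' (u c), ha, zero_mul]
    linear_combination κ * hsum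
  obtain ⟨μ, hz, hw, hμ, hM⟩ := ei_of_pair hF hu (ax_act hu (hH h (hh id))) hγ (one_pow _) hκ
  rw [mul_one] at *
  have hza : (act h u - (1 : F) • u) a = 0 := by simp [hva]
  have hzd : (act h u - (1 : F) • u) d = 0 := by simp [hvd, hd]
  refine ⟨_, centre_of_eich_two hF hH hM had hza hzd ?_, fun h0 => ?_, a, hza⟩
  · rw [Pi.smul_apply, Pi.smul_apply, hd, smul_zero, zero_pow (Nat.succ_ne_zero q), smul_eq_mul, mul_pow, ha,
      mul_one]
    exact pow_ne_zero _ (mul_ne_zero (sub_ne_zero.2 fun h => hκ4 (inv_eq_one.1 h)) one_ne_zero)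
  · have h1 := congrFun h0 b
    simp only [Pi.sub_apply, Pi.smul_apply, one_smul, hvb, Pi.zero_apply] at h1
    exact hb ((mul_eq_zero.1 (show (κ - 1) * u b = 0 by linear_combination h1)).resolve_left
      (sub_ne_zero.2 hτ1))

/-- An axis with three non-zero coordinates gives a centre, unless `q = 7`. -/
theorem good_of_three (hF : Fintype.card F = q ^ 2) (hH : ∀ g, IsMon g → g ∈ M) (hq : 4 ≤ q) (h7 : q ≠ 7)
    (h3 : Three M) : Good M := by
  classical
  obtain ⟨u, a, b, c, d, hab, hac, had, hbc, hbd, hcd, hu, ha, hb, hc, hd⟩ := h3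
  set A := u a ^ (q + 1) with hA
  set B := u b ^ (q + 1) with hB
  set C := u c ^ (q + 1) with hC
  by_cases hA1 : A = 1
  · exact good_of_norm_one hF hH hq hu hab had hbd hA1 hb hd
  by_cases hB1 : B = 1
  · exact good_of_norm_one hF hH hq hu hab.symm hbd had hB1 ha hd
  by_cases hC1 : C = 1
  · exact good_of_norm_one hF hH hq hu hac.symm hcd had hC1 ha hd
  have hsum := hu.1
  rw [herm_self_sum, sum_four hab hac had hbc hbd hcd, hd, zero_pow (Nat.succ_ne_zero q), ← hA, ← hB,
    ← hC, add_zero] at hsum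
  have hA0 : A ≠ 0 := pow_ne_zero _ ha
  have hB0 : B ≠ 0 := pow_ne_zero _ hb
  have hC0 : C ≠ 0 := pow_ne_zero _ hc
  have hBq : B ^ q = B := norm_pow_q hF _
  have hCq : C ^ q = C := norm_pow_q hF _
  have hTq : (-(A * C) / B) ^ q = -(A * C) / B := by
    rw [div_pow, neg_pow_q hF, mul_pow, norm_pow_q hF, hCq, hBq]
  have hT0 : -(A * C) / B ≠ 0 := div_ne_zero (neg_ne_zero.2 (mul_ne_zero hA0 hC0)) hB0
  obtain ⟨μ, hμN, hμq⟩ : ∃ μ : F, μ ^ (q + 1) = -(A * C) / B ∧ μ ^ q ≠ μ := by
    by_contra h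
    push Not at h
    have hle := (Finset.card_le_card (s := normSet q (-(A * C) / B))
      (t := Finset.univ.filter fun x : F => x ^ 2 = -(A * C) / B) fun x hx => by
        rw [mem_normSet] at hx
        exact Finset.mem_filter.2 ⟨Finset.mem_univ _, by rw [sq, ← hx, pow_succ, h x hx]⟩).trans
      (card_roots_le 2 (by omega) _)
    rw [card_normSet hF hTq hT0] at hle
    omega
  have hB1' : B - 1 ≠ 0 := sub_ne_zero.2 hB1
  set ν := (μ - C) / (B - 1) with hν
  have hνq : ν ^ q = (μ ^ q - C) / (B - 1) := by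
    rw [hν, div_pow, sub_pow_q hF, sub_pow_q hF, hCq, hBq, one_pow]
  have hνν : ν - ν ^ q ≠ 0 := by
    rw [hνq, hν, ← sub_div]
    exact div_ne_zero (by simpa [sub_sub_sub_cancel_right] using sub_ne_zero.2 (Ne.symm hμq)) hB1'
  have hμμ : μ * μ ^ q * B = -(A * C) := by
    rw [← pow_succ', hμN, div_mul_cancel₀ _ hB0]
  have hcirc : (B * B - B) * (ν * ν ^ q) + B * C * (ν + ν ^ q) + (C * C - C) = 0 := by
    rw [hνq, hν]
    field_simp
    linear_combination hμμ - C * hsum
  set e₁ := (ν ^ q - 1) / (ν - ν ^ q) with he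
  have hν1 : ν ≠ 1 := fun h => hνν (by rw [h, one_pow, sub_self])
  have hν0 : ν ≠ 0 := fun h => hνν (by rw [h, zero_pow_q hF, sub_zero])
  have hν1' : ν ^ q ≠ 1 := fun h => hν1 (by rw [← pow_q_q hF ν, h, one_pow])
  have he0 : e₁ ≠ 0 := div_ne_zero (sub_ne_zero.2 hν1') hνν
  have heq : e₁ ^ q = (ν - 1) / (ν ^ q - ν) := by
    rw [he, div_pow, sub_pow_q hF, sub_pow_q hF, pow_q_q hF, one_pow]
  have hνν' : ν ^ q - ν ≠ 0 := fun h => hνν (by linear_combination -h)
  have e1 : e₁ + e₁ ^ q = -1 := by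
    rw [heq, he, show ν ^ q - ν = -(ν - ν ^ q) by ring, div_neg, ← sub_eq_add_neg, div_sub_div_same,
      div_eq_iff hνν]
    ring
  have e2 : ν * e₁ + ν ^ q * e₁ ^ q = -1 := by
    rw [heq, he, show ν ^ q - ν = -(ν - ν ^ q) by ring, mul_div_assoc', mul_div_assoc', div_neg,
      ← sub_eq_add_neg, div_sub_div_same, div_eq_iff hνν]
    ring
  set τ := 1 + 1 / e₁ with hτ
  set ρ := 1 + 1 / (ν * e₁) with hρ
  have heq0 : e₁ ^ q ≠ 0 := pow_ne_zero _ he0
  have hνq0 : ν ^ q ≠ 0 := pow_ne_zero _ hν0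
  have hτN : τ ^ (q + 1) = 1 := by
    rw [pow_succ, hτ, add_pow_q hF, one_pow, div_pow, one_pow]
    field_simp
    linear_combination e1
  have hρN : ρ ^ (q + 1) = 1 := by
    rw [pow_succ, hρ, add_pow_q hF, one_pow, div_pow, one_pow, mul_pow]
    field_simp
    linear_combination e2
  obtain ⟨h, hh, hact⟩ := exists_diag3 (n := 4) hbc hbd hcd hτN hρN
  have hva : act h u a = u a := by simp [hact, hab, hac, had]
  have hvb : act h u b = τ * u b := by simp [hact]
  have hvc : act h u c = ρ * u c := by simp [hact, hbc.symm]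
  have hvd : act h u d = 0 := by rw [hact, hd, mul_zero]
  set γ := A + τ * B + ρ * C with hγdef
  have hγ : hermForm 4 F q (act h u) u = γ := by
    rw [hermForm, sum_four hab hac had hbc hbd hcd, hva, hvb, hvc, hvd, mul_assoc, mul_assoc,
      ← pow_succ' (u a), ← pow_succ' (u b), ← pow_succ' (u c), ← hA, ← hB, ← hC, zero_mul, add_zero]
  have hX : γ = 1 + (B * ν + C) / (ν * e₁) := by
    rw [hγdef, hτ, hρ, show A = 1 - B - C by linear_combination hsum]
    field_simp
    ring
  have hγN : γ ^ (q + 1) = 1 := by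
    rw [pow_succ, hX, add_pow_q hF, one_pow, div_pow, add_pow_q hF, mul_pow, mul_pow, hBq, hCq]
    field_simp
    linear_combination hcirc + (B * ν * ν ^ q) * e1 + C * e2
  refine ⟨_, centre_of_pair hF hq h7 hu (ax_act hu (hH h (hh id))) hγ hγN, fun h0 => ?_, d, by
    simp [hvd, hd]⟩
  have h1 := congrFun h0 a
  have h2 := congrFun h0 b
  simp only [Pi.sub_apply, Pi.smul_apply, smul_eq_mul, hva, hvb, Pi.zero_apply, ← sub_mul] at h1 h2
  have h3 : γ = 1 := by
    have : (1 - γ) * u a = 0 := by linear_combination h1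
    linear_combination -((mul_eq_zero.1 this).resolve_right ha)
  have h4 : τ = γ := sub_eq_zero.1 ((mul_eq_zero.1 h2).resolve_right hb)
  rw [h3, hτ, add_eq_left] at h4
  exact div_ne_zero one_ne_zero he0 h4

theorem swap_swap : ∀ {a b c d : Fin 4}, a ≠ b → a ≠ c → a ≠ d → b ≠ c → b ≠ d → c ≠ d →
    (Equiv.swap a b * Equiv.swap c d) a = b ∧ (Equiv.swap a b * Equiv.swap c d) b = a ∧
      (Equiv.swap a b * Equiv.swap c d) c = d ∧ (Equiv.swap a b * Equiv.swap c d) d = c := by decide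

theorem swap_cycle : ∀ {a b c d : Fin 4}, a ≠ b → a ≠ c → a ≠ d → b ≠ c → b ≠ d → c ≠ d →
    (Equiv.swap a c * Equiv.swap a b) b = c ∧ (Equiv.swap a c * Equiv.swap a b) a = b ∧
      (Equiv.swap a c * Equiv.swap a b) c = a ∧ (Equiv.swap a c * Equiv.swap a b) d = d := by decide

/-- An axis with two non-zero coordinates gives one with three. -/
theorem three_of_two (hF : Fintype.card F = q ^ 2) (hH : ∀ g, IsMon g → g ∈ M) (hq : 4 ≤ q)
    {u : Fin 4 → F} (hu : Ax M u) {a b c d : Fin 4} (hab : a ≠ b) (hac : a ≠ c) (had : a ≠ d) (hbc : b ≠ c)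
    (hbd : b ≠ d) (hcd : c ≠ d) (ha : u a ≠ 0) (hb : u b ≠ 0) (hc : u c = 0) (hd : u d = 0)
    (hne : q ≠ 7 ∨ 2 * u b ^ (q + 1) ≠ 1) : Three M := by
  classical
  set B := u b ^ (q + 1) with hB
  obtain ⟨κ, hκ, hκ4, hval⟩ : ∃ κ : F, κ ^ (q + 1) = 1 ∧ κ ^ 4 ≠ 1 ∧ 1 + ((κ ^ 4)⁻¹ - 1) * B ≠ 0 := by
    by_cases h7 : q = 7
    · obtain ⟨κ, hκ, hκ4⟩ := exists_pow_four_ne hF hq
      refine ⟨κ, hκ, hκ4, fun h => (hne.resolve_left (not_not.2 h7)) ?_⟩
      have h8 : (κ ^ 4 - 1) * (κ ^ 4 + 1) = 0 := by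
        have : κ ^ 8 = 1 := by rw [h7] at hκ; exact hκ
        linear_combination this
      have h4 : κ ^ 4 = -1 := by
        linear_combination (mul_eq_zero.1 h8).resolve_left (sub_ne_zero.2 hκ4)
      rw [h4, inv_neg, inv_one] at h
      linear_combination -h
    · obtain ⟨κ, hκ, hκ8⟩ := exists_pow_eight_ne hF hq h7
      have hκ4 : κ ^ 4 ≠ 1 := fun h => hκ8 (by rw [show κ ^ 8 = (κ ^ 4) ^ 2 by ring, h, one_pow])
      refine ⟨κ, hκ, hκ4, fun h => hκ8 ?_⟩
      have hB0 : B ≠ 0 := pow_ne_zero _ hb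
      have h1 : (κ ^ 4)⁻¹ = 1 - B⁻¹ := by
        field_simp at h ⊢
        linear_combination h
      have h2 := congrArg (· ^ q) h1
      simp only [inv_pow, sub_pow_q hF, one_pow, ← pow_mul] at h2
      rw [mul_comm 4 q, pow_mul, normOne_pow_q hκ, show B ^ q = B from norm_pow_q hF _, inv_pow,
        inv_inv, ← h1] at h2
      calc κ ^ 8 = κ ^ 4 * κ ^ 4 := by ring
        _ = (κ ^ 4)⁻¹ * κ ^ 4 := by rw [← h2]
        _ = 1 := inv_mul_cancel₀ (pow_ne_zero _ (normOne_ne_zero hκ))
  have hκ0 := normOne_ne_zero hκ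
  let π : Equiv.Perm (Fin 4) := Equiv.swap a c * Equiv.swap a b
  have hπb : π b = c ∧ π a = b ∧ π c = a ∧ π d = d := swap_cycle hab hac had hbc hbd hcd
  let π' : Equiv.Perm (Fin 4) := π⁻¹
  have hsign : Equiv.Perm.sign π' = 1 := by
    rw [map_inv, map_mul, Equiv.Perm.sign_swap hac, Equiv.Perm.sign_swap hab]; decide
  have hpres := monEl_pres (β := (id : Fin 4 → Fin 4)) π' (fun _ => (1 : F))
    (fun _ => one_pow (q + 1)) (by rw [hsign]; simp) fun i j h => π'.injective h
  set h₀ := monEl π' (fun _ => (1 : F)) (fun _ => one_pow (q + 1)) (by rw [hsign]; simp)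
  set v := act h₀ u with hv
  have hvb : v b = u a := by
    rw [hv, monEl_act, one_mul, show π' b = a from Equiv.Perm.inv_eq_iff_eq.2 hπb.2.1.symm]
  have hvc : v c = u b := by
    rw [hv, monEl_act, one_mul, show π' c = b from Equiv.Perm.inv_eq_iff_eq.2 hπb.1.symm]
  have hva : v a = 0 := by
    rw [hv, monEl_act, one_mul, show π' a = c from Equiv.Perm.inv_eq_iff_eq.2 hπb.2.2.1.symm, hc]
  have hvd : v d = 0 := by
    rw [hv, monEl_act, one_mul, show π' d = d from Equiv.Perm.inv_eq_iff_eq.2 hπb.2.2.2.symm, hd]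
  have hX : hermForm 4 F q v u = u a * u b ^ q := by
    rw [hermForm, sum_four hab hac had hbc hbd hcd, hva, hvb, hc, hvd, zero_pow_q hF]
    ring
  obtain ⟨r, hr, hact⟩ := hu.2 κ hκ
  have hw := ax_act (ax_act hu (hH h₀ hpres)) hr
  have hε : (κ ^ 3)⁻¹ - κ ≠ 0 := by
    intro h
    apply hκ4
    field_simp at h
    linear_combination -h
  refine ⟨act r v, a, b, c, d, hab, hac, had, hbc, hbd, hcd, hw, ?_, ?_, ?_, ?_⟩
  · rw [hact, Pi.add_apply, Pi.smul_apply, Pi.smul_apply, hva, smul_zero, zero_add, smul_eq_mul, hX]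
    exact mul_ne_zero (mul_ne_zero hε (mul_ne_zero ha (pow_ne_zero _ hb))) ha
  · rw [hact, Pi.add_apply, Pi.smul_apply, Pi.smul_apply, hvb, smul_eq_mul, smul_eq_mul, hX]
    intro h
    apply hval
    have hab' : κ * u a * (1 + ((κ ^ 4)⁻¹ - 1) * B) = 0 := by
      rw [hB, pow_succ]
      field_simp at h ⊢
      linear_combination h
    exact (mul_eq_zero.1 hab').resolve_left (mul_ne_zero hκ0 ha)
  · rw [hact, Pi.add_apply, Pi.smul_apply, Pi.smul_apply, hc, smul_zero, add_zero, hvc]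
    exact mul_ne_zero hκ0 hb
  · rw [hact, Pi.add_apply, Pi.smul_apply, Pi.smul_apply, hd, hvd, smul_zero, smul_zero, add_zero]

/-- A non-monomial element with a zero entry has a column with a zero and two non-zero entries. -/
theorem col_of_zero (hF : Fintype.card F = q ^ 2) {g : SU 4 F q} (hgm : ¬IsMon g) {o p : Fin 4}
    (h0 : act g (e o) p = 0) :
    ∃ x a b d, a ≠ b ∧ a ≠ d ∧ b ≠ d ∧ act g (e x) a ≠ 0 ∧ act g (e x) b ≠ 0 ∧ act g (e x) d = 0 := by
  classical
  obtain ⟨f, hf⟩ : ∃ f, act g (e o) f ≠ 0 := by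
    by_contra h
    push Not at h
    have h1 := herm_act g (e o) (e o)
    rw [show act g (e o) = 0 from funext h, herm_zero_left, herm_single_right hF,
      show (e o : Fin 4 → F) o = 1 from Pi.single_eq_same _ _] at h1
    exact zero_ne_one h1
  by_cases h2 : ∃ f', f' ≠ f ∧ act g (e o) f' ≠ 0
  · obtain ⟨f', hne, hf'⟩ := h2
    exact ⟨o, f, f', p, hne.symm, fun h => hf (h ▸ h0), fun h => hf' (h ▸ h0), hf, hf', h0⟩
  push Not at h2
  unfold IsMon Pres at hgm
  push Not at hgm
  obtain ⟨x, y, i, j, hxy, hi, hj, hij⟩ := hgm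
  obtain rfl : x = y := hxy
  have hxo : x ≠ o := by
    rintro rfl
    have hi' : i = f := by
      by_contra h
      exact hi (h2 i h)
    have hj' : j = f := by
      by_contra h
      exact hj (h2 j h)
    exact hij (by rw [hi', hj'])
  have hxf : act g (e x) f = 0 := by
    have h1 := herm_act g (e x) (e o)
    rw [hermForm, Finset.sum_eq_single f (fun k _ hk => by rw [h2 k hk, zero_pow_q hF, mul_zero]) (by simp),
      herm_single_right hF, show (e x : Fin 4 → F) o = 0 from Pi.single_eq_of_ne hxo.symm _] at h1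
    exact (mul_eq_zero.1 h1).resolve_right (pow_ne_zero _ hf)
  exact ⟨x, i, j, f, fun h => hij (congrArg id h), fun h => hi (h ▸ hxf), fun h => hj (h ▸ hxf), hi, hj, hxf⟩

/-- A monomial element swapping two pairs with given parameters. -/
theorem swap_four (hF : Fintype.card F = q ^ 2) {u : Fin 4 → F} {a b c d : Fin 4} (hab : a ≠ b) (hac : a ≠ c)
    (had : a ≠ d) (hbc : b ≠ c) (hbd : b ≠ d) (hcd : c ≠ d) (hu : ∀ i, u i ≠ 0) {p r : F}
    (hp : p ^ (q + 1) = u a ^ (q + 1) * u b ^ (q + 1)) (hr : r ^ (q + 1) = u c ^ (q + 1) * u d ^ (q + 1))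
    (hsum : (p + p ^ q) + (r + r ^ q) = 0) :
    ∃ h : SU 4 F q, IsMon h ∧ hermForm 4 F q (act h u) u = 0 ∧ act h u a = p / u a ^ q ∧
      act h u b = p ^ q / u b ^ q ∧ act h u c = r / u c ^ q ∧ act h u d = r ^ q / u d ^ q := by
  classical
  let π : Equiv.Perm (Fin 4) := Equiv.swap a b * Equiv.swap c d
  have hπ : π a = b ∧ π b = a ∧ π c = d ∧ π d = c := swap_swap hab hac had hbc hbd hcd
  let f : Fin 4 → F := fun i =>
    if i = b then p / (u a ^ q * u b) else if i = a then p ^ q / (u b ^ q * u a)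
    else if i = d then r / (u c ^ q * u d) else r ^ q / (u d ^ q * u c)
  have hfb : f b = p / (u a ^ q * u b) := if_pos rfl
  have hfa : f a = p ^ q / (u b ^ q * u a) := by simp [f, hab]
  have hfd : f d = r / (u c ^ q * u d) := by simp [f, had.symm, hbd.symm]
  have hfc : f c = r ^ q / (u d ^ q * u c) := by simp [f, hac.symm, hbc.symm, hcd]
  have hNq : ∀ y z : F, (y ^ q * z) ^ (q + 1) = z ^ (q + 1) * y ^ (q + 1) := fun y z => by
    rw [mul_pow, ← pow_mul, mul_comm q, pow_mul, norm_pow_q hF, mul_comm]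
  have hNu : ∀ y : F, (y ^ q) ^ (q + 1) = y ^ (q + 1) := fun y => by
    rw [← pow_mul, mul_comm q, pow_mul, norm_pow_q hF]
  have hne : ∀ i j, u i ^ (q + 1) * u j ^ (q + 1) ≠ 0 := fun i j =>
    mul_ne_zero (pow_ne_zero _ (hu i)) (pow_ne_zero _ (hu j))
  have hf : ∀ i, f i ^ (q + 1) = 1 := by
    intro i
    simp only [f]
    split_ifs
    · rw [div_pow, hNq, hp, mul_comm (u b ^ (q + 1)), div_self (hne a b)]
    · rw [div_pow, hNu, hNq, hp, div_self (hne a b)]
    · rw [div_pow, hNq, hr, mul_comm (u d ^ (q + 1)), div_self (hne c d)]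
    · rw [div_pow, hNu, hNq, hr, div_self (hne c d)]
  have hdet : (Equiv.Perm.sign π : F) * ∏ i, f i = 1 := by
    rw [map_mul, Equiv.Perm.sign_swap hab, Equiv.Perm.sign_swap hcd, prod_four hab hac had hbc hbd hcd, hfa,
      hfb, hfc, hfd]
    have e1 : p / (u a ^ q * u b) * (p ^ q / (u b ^ q * u a)) = 1 := by
      rw [div_mul_div_comm, ← pow_succ', hp, show u a ^ q * u b * (u b ^ q * u a)
        = u a ^ (q + 1) * u b ^ (q + 1) by rw [pow_succ, pow_succ]; ring, div_self (hne a b)]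
    have e2 : r / (u c ^ q * u d) * (r ^ q / (u d ^ q * u c)) = 1 := by
      rw [div_mul_div_comm, ← pow_succ', hr, show u c ^ q * u d * (u d ^ q * u c)
        = u c ^ (q + 1) * u d ^ (q + 1) by rw [pow_succ, pow_succ]; ring, div_self (hne c d)]
    push_cast
    linear_combination (r / (u c ^ q * u d) * (r ^ q / (u d ^ q * u c))) * e1 + e2
  have hva : act (monEl π f hf hdet) u a = p / u a ^ q := by
    rw [monEl_act, hπ.1, hfb, div_mul_eq_mul_div, mul_div_mul_right _ _ (hu b)]
  have hvb : act (monEl π f hf hdet) u b = p ^ q / u b ^ q := by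
    rw [monEl_act, hπ.2.1, hfa, div_mul_eq_mul_div, mul_div_mul_right _ _ (hu a)]
  have hvc : act (monEl π f hf hdet) u c = r / u c ^ q := by
    rw [monEl_act, hπ.2.2.1, hfd, div_mul_eq_mul_div, mul_div_mul_right _ _ (hu d)]
  have hvd : act (monEl π f hf hdet) u d = r ^ q / u d ^ q := by
    rw [monEl_act, hπ.2.2.2, hfc, div_mul_eq_mul_div, mul_div_mul_right _ _ (hu c)]
  refine ⟨monEl π f hf hdet, monEl_pres π f hf hdet fun i j h => π.injective h, ?_, hva, hvb, hvc, hvd⟩
  rw [hermForm, sum_four hab hac had hbc hbd hcd, hva, hvb, hvc, hvd,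
    div_mul_cancel₀ _ (pow_ne_zero _ (hu a)), div_mul_cancel₀ _ (pow_ne_zero _ (hu b)),
    div_mul_cancel₀ _ (pow_ne_zero _ (hu c)), div_mul_cancel₀ _ (pow_ne_zero _ (hu d))]
  linear_combination hsum

/-- Some non-monomial element of `M` has a zero entry. -/
theorem exists_zero (hF : Fintype.card F = q ^ 2) (hH : ∀ g, IsMon g → g ∈ M) (hq : 4 ≤ q) {g : SU 4 F q}
    (hg : g ∈ M) (hgm : ¬IsMon g) : ∃ k ∈ M, ¬IsMon k ∧ ∃ o p, act k (e o) p = 0 := by
  classical
  by_contra hcon
  push Not at hcon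
  set o : Fin 4 := 0
  set u := act g (e o) with hudef
  have hu0 : ∀ i, u i ≠ 0 := hcon g hg hgm o
  have huu : hermForm 4 F q u u = 1 := by
    rw [hudef, herm_act, herm_single_right hF]; exact Pi.single_eq_same _ _
  -- every image of u orthogonal to it lies on another column
  have hcol : ∀ h : SU 4 F q, IsMon h → hermForm 4 F q (act h u) u = 0 →
      ∃ (f : Fin 4) (l : F), f ≠ o ∧ l ^ (q + 1) = 1 ∧ act h u = l • act g (e f) := by
    intro h hh h0
    have hkM : g⁻¹ * h * g ∈ M := M.mul_mem (M.mul_mem (M.inv_mem hg) (hH h hh)) hg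
    have hke : act (g⁻¹ * h * g) (e o) = act g⁻¹ (act h u) := by rw [act_mul, act_mul, hudef]
    have hz : act (g⁻¹ * h * g) (e o) o = 0 := by
      rw [hke, ← herm_single_right hF o (act g⁻¹ (act h u)), ← herm_act g, act_act_inv]
      exact h0
    have hk : IsMon (g⁻¹ * h * g) := by
      by_contra hk
      exact hcon _ hkM hk o o hz
    obtain ⟨f, l, hl, hf⟩ := mon_apply hk o
    have hfo : f ≠ o := fun h => hl (by rw [hf, h, Pi.single_eq_same] at hz; exact hz)
    have hval : act h u = l • act g (e f) := by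
      rw [← act_smul, ← single_eq_smul, ← hf, hke, act_act_inv]
    refine ⟨f, l, hfo, ?_, hval⟩
    have h1 := herm_act h u u
    rw [hval, herm_smul_left, herm_smul_right, huu, herm_act, herm_single_right hF,
      show (e f : Fin 4 → F) f = 1 from Pi.single_eq_same _ _, mul_one, ← pow_succ'] at h1
    exact h1
  -- four images on distinct lines are too many
  have hfour : ∀ f : Fin 4 → Fin 4, (∀ i, f i ≠ o) → Function.Injective f → False := fun f hne hinj => by
    obtain ⟨i, hi⟩ := (Finite.injective_iff_surjective.1 hinj) o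
    exact hne i hi
  -- a pairing gives two columns with prescribed norms
  have hpair : ∀ a b c d : Fin 4, a ≠ b → a ≠ c → a ≠ d → b ≠ c → b ≠ d → c ≠ d →
      ∃ f f' : Fin 4, f ≠ o ∧ f' ≠ o ∧ f ≠ f' ∧ act g (e f) a ^ (q + 1) = u b ^ (q + 1) ∧
        act g (e f') a ^ (q + 1) = u b ^ (q + 1) := by
    intro a b c d hab hac had hbc hbd hcd
    have hne : ∀ i j, u i ^ (q + 1) * u j ^ (q + 1) ≠ 0 := fun i j =>
      mul_ne_zero (pow_ne_zero _ (hu0 i)) (pow_ne_zero _ (hu0 j))
    obtain ⟨P, hP, hPp⟩ := four_le_pairs hF (C := u a ^ (q + 1) * u b ^ (q + 1))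
      (D := u c ^ (q + 1) * u d ^ (q + 1)) (s := 0) (by rw [mul_pow, norm_pow_q hF, norm_pow_q hF]) (hne a b)
      (by rw [mul_pow, norm_pow_q hF, norm_pow_q hF]) (hne c d) (zero_pow_q hF)
    have hex : ∀ p ∈ P, ∃ (f : Fin 4) (l : F), f ≠ o ∧ l ^ (q + 1) = 1 ∧
        l * act g (e f) a = p.1 / u a ^ q ∧ l * act g (e f) b = p.1 ^ q / u b ^ q ∧
        l * act g (e f) c = p.2 / u c ^ q ∧ act g (e f) a ^ (q + 1) = u b ^ (q + 1) := by
      intro p hp
      obtain ⟨h1, h2, h3⟩ := hPp p hp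
      obtain ⟨h, hh, hz, ea, eb, ec, -⟩ := swap_four hF hab hac had hbc hbd hcd hu0 h1 h2 h3
      obtain ⟨f, l, hf, hl, heq⟩ := hcol h hh hz
      have hv : ∀ i, act h u i = l * act g (e f) i := fun i => by rw [heq]; rfl
      rw [hv] at ea eb ec
      refine ⟨f, l, hf, hl, ea, eb, ec, ?_⟩
      have h4 := congrArg (· ^ (q + 1)) ea
      simp only [mul_pow, hl, one_mul, div_pow, h1] at h4
      rw [h4, ← pow_mul, mul_comm q, pow_mul, norm_pow_q hF, mul_div_cancel_left₀ _ (pow_ne_zero _ (hu0 a))]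
    obtain ⟨p, hp⟩ : P.Nonempty := Finset.card_pos.1 (by omega)
    obtain ⟨p', hp', hp'1, hp'2⟩ : ∃ p' ∈ P, p' ≠ p ∧ p' ≠ -p := by
      by_contra h
      push Not at h
      have := (Finset.card_le_card (s := P) (t := {p, -p}) fun x hx => by
        by_cases hxp : x = p
        · simp [hxp]
        · simp [h x hx hxp]).trans Finset.card_le_two
      omega
    obtain ⟨f, l, hf, hl, ea, eb, ec, en⟩ := hex p hp
    obtain ⟨f', l', hf', hl', ea', eb', ec', en'⟩ := hex p' hp'
    refine ⟨f, f', hf, hf', fun hff => ?_, en, en'⟩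
    subst hff
    have hl0 := normOne_ne_zero hl
    set m := l' / l with hm
    have hml : m * l = l' := div_mul_cancel₀ _ hl0
    have h1 : p'.1 = m * p.1 := by
      rw [← hml, mul_assoc, ea, mul_div_assoc'] at ea'
      exact (div_left_inj' (pow_ne_zero _ (hu0 a))).1 ea'.symm
    have h2 : p'.1 ^ q = m * p.1 ^ q := by
      rw [← hml, mul_assoc, eb, mul_div_assoc'] at eb'
      exact (div_left_inj' (pow_ne_zero _ (hu0 b))).1 eb'.symm
    have h3 : p'.2 = m * p.2 := by
      rw [← hml, mul_assoc, ec, mul_div_assoc'] at ec'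
      exact (div_left_inj' (pow_ne_zero _ (hu0 c))).1 ec'.symm
    have hp10 : p.1 ≠ 0 := fun h => hne a b (by
      rw [← (hPp p hp).1, h, zero_pow (Nat.succ_ne_zero q)])
    have hmq : m ^ q = m := by
      rw [h1, mul_pow] at h2
      exact mul_right_cancel₀ (pow_ne_zero _ hp10) h2
    have hm2 : m ^ 2 = 1 := by
      have : m ^ (q + 1) = 1 := by rw [hm, div_pow, hl, hl', div_one]
      rwa [pow_succ, hmq, ← sq] at this
    rcases sq_eq_one_iff.1 hm2 with hm1 | hm1
    · exact hp'1 (Prod.ext (by rw [h1, hm1, one_mul]) (by rw [h3, hm1, one_mul]))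
    · exact hp'2 (Prod.ext (by rw [h1, hm1, neg_one_mul]; rfl) (by rw [h3, hm1, neg_one_mul]; rfl))
  by_cases hall : ∀ j k, u j ^ (q + 1) = u k ^ (q + 1)
  · -- all coordinates of one norm
    set s := u 0 ^ (q + 1) with hs
    have hs1 : 4 * s = 1 := by
      have h1 := huu
      rw [herm_self_sum, Fin.sum_univ_four, hall 1 0, hall 2 0, hall 3 0, ← hs] at h1
      linear_combination h1
    have h2 : (2 : F) ≠ 0 := fun h => by
      apply one_ne_zero (α := F)
      linear_combination -hs1 + 2 * s * h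
    obtain ⟨κ, hκ, hκ4⟩ := exists_pow_four_ne hF hq
    have hκi := normOne_inv hκ
    let d : Fin 4 → Fin 4 → F :=
      ![![1, -1, 1, -1], ![1, 1, -1, -1], ![1, -1, -1, 1], ![κ, -κ, κ⁻¹, -κ⁻¹]]
    have hd : ∀ j i, d j i ^ (q + 1) = 1 := fun j i => by
      fin_cases j <;> fin_cases i <;> simp [d, neg_norm hF, hκ, hκi]
    have hdp : ∀ j, ∏ i, d j i = 1 := fun j => by
      rw [Fin.prod_univ_four]
      fin_cases j <;> simp [d]
      field_simp [normOne_ne_zero hκ]
    have hd0 : ∀ j, ∑ i, d j i = 0 := fun j => by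
      rw [Fin.sum_univ_four]
      fin_cases j <;> simp [d] <;> ring
    have hz : ∀ j, hermForm 4 F q (act (diagEl (d j) (hd j) (hdp j)) u) u = 0 := fun j => by
      rw [hermForm]
      simp only [diagEl_act, mul_assoc, ← pow_succ', hall _ 0, ← hs, ← Finset.sum_mul, hd0, zero_mul]
    choose f l hf hl hfl using fun j => hcol _ (diagEl_pres _ (d j) (hd j) (hdp j)) (hz j)
    refine hfour f hf fun j k hjk => ?_
    have hprop : ∀ i, d j i * l k = d k i * l j := fun i => by
      have e1 := congrFun (hfl j) i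
      have e2 := congrFun (hfl k) i
      rw [diagEl_act, Pi.smul_apply, smul_eq_mul] at e1 e2
      rw [hjk] at e1
      refine mul_right_cancel₀ (hu0 i) ?_
      linear_combination l k * e1 - l j * e2
    by_contra hne
    have hκ0 := normOne_ne_zero hκ
    have hlk : l k ≠ 0 := normOne_ne_zero (hl k)
    have hcr : ∀ i i', d j i * d k i' = d j i' * d k i := fun i i' => by
      refine mul_right_cancel₀ hlk ?_
      linear_combination d k i' * hprop i - d k i * hprop i'
    have h01 := hcr 0 1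
    have h02 := hcr 0 2
    have hκ2 : κ * κ ≠ 1 := fun h => hκ4 (by linear_combination (κ * κ + 1) * h)
    have hκ2' : κ * κ ≠ -1 := fun h => hκ4 (by linear_combination (κ * κ - 1) * h)
    fin_cases j <;> fin_cases k <;> simp [d] at hne h01 h02 <;>
      first
        | exact h2 (by linear_combination h01)
        | exact h2 (by linear_combination -h01)
        | exact h2 (by linear_combination h02)
        | exact h2 (by linear_combination -h02)
        | (field_simp at h02; exact hκ2 (by linear_combination h02))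
        | (field_simp at h02; exact hκ2 (by linear_combination -h02))
        | (field_simp at h02; exact hκ2' (by linear_combination h02))
        | (field_simp at h02; exact hκ2' (by linear_combination -h02))
        | exact mul_ne_zero h2 hκ0 (by linear_combination h01)
        | exact mul_ne_zero h2 hκ0 (by linear_combination -h01)
  push Not at hall
  obtain ⟨j, k, hjk⟩ := hall
  have hjk' : j ≠ k := fun h => hjk (by rw [h])
  obtain ⟨i, l, hji, hjl, hki, hkl, hil⟩ := exists_two hjk'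
  obtain ⟨f₁, f₂, h1, h2, h12, e1, e2⟩ := hpair i j k l hji.symm hki.symm hil hjk' hjl hkl
  obtain ⟨f₃, f₄, h3, h4, h34, e3, e4⟩ := hpair i k j l hki.symm hji.symm hil hjk'.symm hkl hjl
  have hd : ∀ {x y : Fin 4}, act g (e x) i ^ (q + 1) = u j ^ (q + 1) →
      act g (e y) i ^ (q + 1) = u k ^ (q + 1) → x ≠ y := fun hx hy hxy => hjk (by rw [← hx, ← hy, hxy])
  refine hfour ![f₁, f₂, f₃, f₄] (fun x => by fin_cases x <;> simpa) fun x y hxy => ?_
  fin_cases x <;> fin_cases y <;> simp at hxy ⊢ <;>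
    first
      | exact absurd hxy h12 | exact absurd hxy.symm h12 | exact absurd hxy h34 | exact absurd hxy.symm h34
      | exact absurd hxy (hd e1 e3) | exact absurd hxy (hd e1 e4) | exact absurd hxy (hd e2 e3)
      | exact absurd hxy (hd e2 e4) | exact absurd hxy.symm (hd e1 e3) | exact absurd hxy.symm (hd e1 e4)
      | exact absurd hxy.symm (hd e2 e3) | exact absurd hxy.symm (hd e2 e4)

/-- Half-half columns also lead to an axis with three non-zero coordinates. -/
theorem three_of_half (hF : Fintype.card F = q ^ 2) (hH : ∀ g, IsMon g → g ∈ M) (hq : 4 ≤ q) {g : SU 4 F q}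
    (hg : g ∈ M) {x a b c d : Fin 4} (hab : a ≠ b) (hac : a ≠ c) (had : a ≠ d) (hbc : b ≠ c) (hbd : b ≠ d)
    (hcd : c ≠ d) (hc : act g (e x) c = 0) (hd : act g (e x) d = 0)
    (hhalf : 2 * act g (e x) b ^ (q + 1) = 1) : Three M := by
  classical
  set u := act g (e x) with hu
  have hax : Ax M u := ax_act (ax_single hF hH x) hg
  set B := u b ^ (q + 1) with hB
  have hsum := hax.1
  rw [herm_self_sum, sum_four hab hac had hbc hbd hcd, hc, hd, zero_pow (Nat.succ_ne_zero q), ← hB,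
    add_zero, add_zero] at hsum
  have hA : u a ^ (q + 1) = B := by linear_combination hsum - hhalf
  have h2 : (2 : F) ≠ 0 := fun h => one_ne_zero (α := F) (by rw [← hhalf, h, zero_mul])
  have hb : u b ≠ 0 := fun h => one_ne_zero (α := F) (by
    rw [← hhalf, hB, h, zero_pow (Nat.succ_ne_zero q), mul_zero])
  have ha : u a ≠ 0 := fun h => pow_ne_zero _ hb (by
    rw [← hB, ← hA, h, zero_pow (Nat.succ_ne_zero q)])
  by_cases hl : ∃ l, l ≠ x ∧ act g (e l) a = 0
  · obtain ⟨l, hlx, hla⟩ := hl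
    obtain ⟨κ, hκ, hκ4⟩ := exists_pow_four_ne hF hq
    obtain ⟨h, hh, hact⟩ := exists_diag2 (n := 4) hlx.symm hκ
    have hy : ∀ f, act g⁻¹ (e a) f = act g (e f) a ^ q := fun f => by
      have := entry_inv hF g f a
      exact this ▸ rfl
    set w := act (g * h * g⁻¹) (e a) with hw
    have hwv : w = e a + ((κ - 1) * u a ^ q) • u := by
      have h1 : act h (act g⁻¹ (e a)) = act g⁻¹ (e a) + ((κ - 1) * u a ^ q) • (e x : Fin 4 → F) := by
        funext i
        rw [hact, Pi.add_apply, Pi.smul_apply, smul_eq_mul]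
        split_ifs with h3 h4
        · rw [h3, hy, ← hu, show (e x : Fin 4 → F) x = 1 from Pi.single_eq_same _ _]; ring
        · rw [h4, hy, hla, zero_pow_q hF, show (e x : Fin 4 → F) l = 0 from Pi.single_eq_of_ne hlx _]; ring
        · rw [show (e x : Fin 4 → F) i = 0 from Pi.single_eq_of_ne h3 _]; ring
      rw [hw, act_mul, act_mul, h1, act_add, act_smul, act_act_inv]
    have hwM : Ax M w := ax_act (ax_single hF hH a)
      (M.mul_mem (M.mul_mem hg (hH h (hh id))) (M.inv_mem hg))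
    have hκ1 : κ - 1 ≠ 0 := sub_ne_zero.2 fun h => hκ4 (by rw [h, one_pow])
    have hwa : w a = 1 + (κ - 1) * B := by
      rw [hwv, Pi.add_apply, Pi.smul_apply, smul_eq_mul, ← hA, pow_succ,
        show (e a : Fin 4 → F) a = 1 from Pi.single_eq_same _ _]
      ring
    have hwb : w b = (κ - 1) * u a ^ q * u b := by
      rw [hwv, Pi.add_apply, Pi.smul_apply, smul_eq_mul,
        show (e a : Fin 4 → F) b = 0 from Pi.single_eq_of_ne hab.symm _, zero_add]
    refine three_of_two hF hH hq hwM hab hac had hbc hbd hcd ?_ ?_ ?_ ?_ (Or.inr fun h => ?_)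
    · rw [hwa]
      intro h
      apply hκ4
      have h3 : κ = -1 := by linear_combination 2 * h - (κ - 1) * hhalf
      rw [h3]; norm_num
    · rw [hwb]; exact mul_ne_zero (mul_ne_zero hκ1 (pow_ne_zero _ ha)) hb
    · simp [hwv, hc, hac.symm, e]
    · simp [hwv, hd, had.symm, e]
    · apply hκ4
      rw [hwb, mul_pow, mul_pow, ← hB, show (u a ^ q) ^ (q + 1) = B by
        rw [← pow_mul, mul_comm q, pow_mul, norm_pow_q hF, hA]] at h
      have h3 : (κ - 1) ^ (q + 1) = 2 := by
        linear_combination 2 * h - (κ - 1) ^ (q + 1) * (2 * B + 1) * hhalf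
      rw [pow_succ, sub_pow_q hF, one_pow, normOne_pow_q hκ] at h3
      field_simp [normOne_ne_zero hκ] at h3
      linear_combination (-(κ ^ 2 - 1)) * h3
  push Not at hl
  obtain ⟨h, hh, hact⟩ := exists_diag3 (n := 4) hab hac hbc (τ := (1 : F)) (ρ := (-1 : F)) (one_pow (q + 1))
    (by rw [neg_norm hF, one_pow])
  set v := act h u with hv
  have hva : v a = u a := by simp [v, hact]
  have hvb : v b = -u b := by simp [v, hact, hab.symm]
  have hvc : v c = 0 := by rw [hv, hact, hc, mul_zero]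
  have hvd : v d = 0 := by rw [hv, hact, hd, mul_zero]
  have hco : ∀ f, act g⁻¹ v f = u a * act g (e f) a ^ q - u b * act g (e f) b ^ q := fun f => by
    rw [← herm_single_right hF f (act g⁻¹ v), ← herm_act g, act_act_inv, hermForm,
      sum_four hab hac had hbc hbd hcd, hva, hvb, hvc, hvd]
    ring
  have horth : ∀ f, f ≠ x → u a * act g (e f) a ^ q + u b * act g (e f) b ^ q = 0 := fun f hf => by
    have h1 := herm_act g (e x) (e f)
    rw [← hu, hermForm, sum_four hab hac had hbc hbd hcd, hc, hd, herm_single_right hF,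
      show (e x : Fin 4 → F) f = 0 from Pi.single_eq_of_ne hf _] at h1
    linear_combination h1
  obtain ⟨y, hy⟩ := exists_ne x
  obtain ⟨z₁, z₂, hxz1, hxz2, hyz1, hyz2, hz12⟩ := exists_two hy.symm
  have hne : ∀ f, f ≠ x → act g⁻¹ v f ≠ 0 := fun f hf => by
    rw [hco, show u a * act g (e f) a ^ q - u b * act g (e f) b ^ q = 2 * u a * act g (e f) a ^ q by
      linear_combination -(horth f hf)]
    exact mul_ne_zero (mul_ne_zero h2 ha) (pow_ne_zero _ (hl f hf))
  refine ⟨act g⁻¹ v, y, z₁, z₂, x, hyz1, hyz2, hy, hz12, hxz1.symm, hxz2.symm,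
    ax_act (ax_act hax (hH h (hh id))) (M.inv_mem hg), hne y hy, hne z₁ hxz1.symm, hne z₂ hxz2.symm, ?_⟩
  rw [hco, ← hu, ← pow_succ', ← pow_succ', hA, ← hB, sub_self]

/-- An overgroup which is not monomial has an axis with three non-zero coordinates. -/
theorem exists_three (hF : Fintype.card F = q ^ 2) (hH : ∀ g, IsMon g → g ∈ M) (hq : 4 ≤ q) {g : SU 4 F q}
    (hg : g ∈ M) (hgm : ¬IsMon g) : Three M := by
  obtain ⟨k, hk, hkm, o, p, hz⟩ := exists_zero hF hH hq hg hgm
  obtain ⟨x, a, b, d, hab, had, hbd, ha, hb, hd⟩ := col_of_zero hF hkm hz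
  obtain ⟨c, hac, hbc, hdc⟩ := exists_one hab had hbd
  have hax : Ax M (act k (e x)) := ax_act (ax_single hF hH x) hk
  by_cases hc : act k (e x) c = 0
  swap
  · exact ⟨_, a, b, c, d, hab, hac, had, hbc, hbd, hdc.symm, hax, ha, hb, hc, hd⟩
  by_cases hne : q ≠ 7 ∨ 2 * act k (e x) b ^ (q + 1) ≠ 1
  · exact three_of_two hF hH hq hax hab hac had hbc hbd hdc.symm ha hb hc hd hne
  · push Not at hne
    exact three_of_half hF hH hq hk hab hac had hbc hbd hdc.symm hc hd hne.2

end Cfsg.Agent.UnitFourFrame77
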