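import Mathlib
import Cfsg.Agent.Lib.UnitFourFrame77Red

/-!
Overgroups of the monomial group in `SU_4(7)`, where only two fourth powers have norm one.
-/

set_option autoImplicit false
set_option linter.unusedSectionVars false

namespace Cfsg.Agent.UnitFourFrame77

open scoped Matrix MatrixGroups
open Cfsg.Agent.OrthUnitaryHerm
open Cfsg.Agent.OrthUnitaryTransvection
open Cfsg.Agent.OrthUnitarySubspaces
open Cfsg.Agent.OrthUnitaryMaximal
open Cfsg.Agent.UnitaryFrame84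

variable {F : Type*} [Field F] [Fintype F] {M : Subgroup (SU 4 F 7)}

theorem norm_add_eq {q : ℕ} (hF : Fintype.card F = q ^ 2) (x y : F) :
    (x + y) ^ (q + 1) = x ^ (q + 1) + y ^ (q + 1) + (x * y ^ q + (x * y ^ q) ^ q) := by
  rw [mul_pow, pow_q_q hF, pow_succ, add_pow_q hF, pow_succ, pow_succ]
  ring

/-- The elements of the fixed field are the seven integers. -/
theorem exists_nat_eq (hF : Fintype.card F = 7 ^ 2) {x : F} (hx : x ^ 7 = x) : ∃ n : Fin 7, x = (n : ℕ) := by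
  classical
  haveI : Fact (Nat.Prime 7) := ⟨by norm_num⟩
  haveI : CharP F 7 := charP_of_card_eq_prime_pow hF
  have hinj : Function.Injective fun n : Fin 7 => ((n : ℕ) : F) := fun m n h =>
    Fin.ext (CharP.natCast_injOn_Iio F 7 (Set.mem_Iio.2 m.isLt) (Set.mem_Iio.2 n.isLt) h)
  have hsub : (Finset.univ.image fun n : Fin 7 => ((n : ℕ) : F)) = fixedSet 7 := by
    refine Finset.eq_of_subset_of_card_le (fun y hy => ?_) ?_
    · obtain ⟨n, -, rfl⟩ := Finset.mem_image.1 hy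
      rw [mem_fixedSet, ← frobenius_def, map_natCast]
    · rw [Finset.card_image_of_injective _ hinj, Finset.card_univ, Fintype.card_fin]
      exact card_fixedSet_le hF
  have : x ∈ (fixedSet 7 : Finset F) := mem_fixedSet.2 hx
  rw [← hsub] at this
  obtain ⟨n, -, hn⟩ := Finset.mem_image.1 this
  exact ⟨n, hn.symm⟩

theorem seven_zero (hF : Fintype.card F = 7 ^ 2) : (7 : F) = 0 := by
  have h := Nat.cast_card_eq_zero F
  rw [hF, Nat.cast_pow] at h
  exact pow_eq_zero_iff two_ne_zero |>.1 h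

theorem exists_four_neg (hF : Fintype.card F = 7 ^ 2) : ∃ κ : F, κ ^ (7 + 1) = 1 ∧ κ ^ 4 = -1 := by
  obtain ⟨κ, hκ, hκ4⟩ := exists_pow_four_ne hF (by omega)
  refine ⟨κ, hκ, ?_⟩
  have h8 : (κ ^ 4 - 1) * (κ ^ 4 + 1) = 0 := by linear_combination hκ
  linear_combination (mul_eq_zero.1 h8).resolve_left (sub_ne_zero.2 hκ4)

theorem ax_smul (hF : Fintype.card F = 7 ^ 2) {u : Fin 4 → F} (hu : Ax M u) {l : F} (hl : l ^ (7 + 1) = 1) :
    Ax M (l • u) := by
  refine ⟨by rw [herm_smul_left, herm_smul_right, hu.1, mul_one, ← pow_succ', hl], fun κ hκ => ?_⟩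
  obtain ⟨h, hh, hact⟩ := hu.2 κ hκ
  refine ⟨h, hh, fun x => ?_⟩
  rw [hact, herm_smul_right, smul_smul]
  congr 2
  linear_combination (-(((κ ^ 3)⁻¹ - κ) * hermForm 4 F 7 x u)) * hl

/-- Axes are permuted by the reflections along axes. -/
theorem ax_refl (hF : Fintype.card F = 7 ^ 2) {u x : Fin 4 → F} (hu : Ax M u) (hx : Ax M x) :
    Ax M (x - (2 * hermForm 4 F 7 x u) • u) := by
  obtain ⟨κ, hκ, hκ4⟩ := exists_four_neg hF
  obtain ⟨h, hh, hact⟩ := hu.2 κ hκ
  have h1 := ax_smul hF (ax_act hx hh) (normOne_inv hκ)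
  have hκ0 := normOne_ne_zero hκ
  have h3 : (κ ^ 3)⁻¹ = -κ := inv_eq_of_mul_eq_one_right (by linear_combination -hκ4)
  rw [hact, h3, smul_add, smul_smul, smul_smul, inv_mul_cancel₀ hκ0, one_smul,
    show κ⁻¹ * ((-κ - κ) * hermForm 4 F 7 x u) = -(2 * hermForm 4 F 7 x u) by field_simp; ring, neg_smul,
    ← sub_eq_add_neg] at h1
  exact h1

/-- A pair with two coordinates of norm `1/2` is an axis. -/
theorem ax_pair (hF : Fintype.card F = 7 ^ 2) (hH : ∀ g, IsMon g → g ∈ M) {v : Fin 4 → F} {a b c d : Fin 4}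
    (hab : a ≠ b) (hac : a ≠ c) (had : a ≠ d) (hbc : b ≠ c) (hbd : b ≠ d) (hcd : c ≠ d)
    (ha : v a ^ (7 + 1) = 4) (hb : v b ^ (7 + 1) = 4) (hc : v c = 0) (hd : v d = 0) : Ax M v := by
  classical
  have h7 := seven_zero hF
  refine ⟨?_, fun κ hκ => ?_⟩
  · rw [herm_self_sum, sum_four hab hac had hbc hbd hcd, ha, hb, hc, hd, zero_pow (by omega)]
    linear_combination h7
  have hκ0 := normOne_ne_zero hκ
  have h8 : (κ ^ 4 - 1) * (κ ^ 4 + 1) = 0 := by linear_combination hκ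
  rcases mul_eq_zero.1 h8 with h4 | h4
  · have hp : ∏ _i : Fin 4, κ = 1 := by
      rw [Finset.prod_const, Finset.card_univ, Fintype.card_fin]; linear_combination h4
    refine ⟨diagEl (fun _ => κ) (fun _ => hκ) hp, hH _ (diagEl_pres _ _ _ hp), fun x => funext fun i => ?_⟩
    have h3 : (κ ^ 3)⁻¹ = κ := inv_eq_of_mul_eq_one_right (by linear_combination h4)
    rw [diagEl_act, h3, sub_self, zero_mul, zero_smul, add_zero]
    rfl
  have h3 : (κ ^ 3)⁻¹ = -κ := inv_eq_of_mul_eq_one_right (by linear_combination -h4)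
  let f : Fin 4 → F := fun i =>
    if i = a then -2 * κ * v b * v a ^ 7 else if i = b then -2 * κ * v a * v b ^ 7 else κ
  have hfa : f a = -2 * κ * v b * v a ^ 7 := if_pos rfl
  have hfb : f b = -2 * κ * v a * v b ^ 7 := by simp [f, hab.symm]
  have hfc : f c = κ := by simp [f, hac.symm, hbc.symm]
  have hfd : f d = κ := by simp [f, had.symm, hbd.symm]
  have hf : ∀ i, f i ^ (7 + 1) = 1 := fun i => by
    simp only [f]
    split_ifs
    · linear_combination (256 * (v b ^ 8 * (v a ^ 8) ^ 7)) * hκ + (256 * (v a ^ 8) ^ 7) * hb +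
        (1024 * ((v a ^ 8) ^ 6 + (v a ^ 8) ^ 5 * 4 + (v a ^ 8) ^ 4 * 16 + (v a ^ 8) ^ 3 * 64
          + (v a ^ 8) ^ 2 * 256 + (v a ^ 8) * 1024 + 4096)) * ha + 2396745 * h7
    · linear_combination (256 * (v a ^ 8 * (v b ^ 8) ^ 7)) * hκ + (256 * (v b ^ 8) ^ 7) * ha +
        (1024 * ((v b ^ 8) ^ 6 + (v b ^ 8) ^ 5 * 4 + (v b ^ 8) ^ 4 * 16 + (v b ^ 8) ^ 3 * 64
          + (v b ^ 8) ^ 2 * 256 + (v b ^ 8) * 1024 + 4096)) * hb + 2396745 * h7
    · exact hκ
  have hdet : (Equiv.Perm.sign (Equiv.swap a b) : F) * ∏ i, f i = 1 := by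
    rw [Equiv.Perm.sign_swap hab, prod_four hab hac had hbc hbd hcd, hfa, hfb, hfc, hfd]
    push_cast
    linear_combination (-4 * v a ^ 8 * v b ^ 8) * h4 + (4 * v b ^ 8) * ha + 16 * hb + 9 * h7
  refine ⟨monEl (Equiv.swap a b) f hf hdet, hH _ (monEl_pres _ f hf hdet fun i j h => (Equiv.swap a b).injective h),
    fun x => funext fun i => ?_⟩
  rw [monEl_act, h3, Pi.add_apply, Pi.smul_apply, Pi.smul_apply, smul_eq_mul, smul_eq_mul, hermForm,
    sum_four hab hac had hbc hbd hcd, hc, hd, zero_pow (by omega : (7 : ℕ) ≠ 0)]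
  rcases cases_four hab hac had hbc hbd hcd i with h | h | h | h <;> subst h
  · rw [Equiv.swap_apply_left, hfb]
    linear_combination (2 * κ * x i) * ha + (κ * x i) * h7
  · rw [Equiv.swap_apply_right, hfa]
    linear_combination (2 * κ * x i) * hb + (κ * x i) * h7
  · rw [Equiv.swap_apply_of_ne_of_ne hac.symm hbc.symm, hfc, hc]; ring
  · rw [Equiv.swap_apply_of_ne_of_ne had.symm hbd.symm, hfd, hd]; ring

/-- Two norms with product two. -/
theorem good_of_prod (hF : Fintype.card F = 7 ^ 2) (hH : ∀ g, IsMon g → g ∈ M) {u : Fin 4 → F} (hu : Ax M u)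
    {a b c d : Fin 4} (hab : a ≠ b) (hac : a ≠ c) (had : a ≠ d) (hbc : b ≠ c) (hbd : b ≠ d) (hcd : c ≠ d)
    (ha : u a ≠ 0) (hb : u b ≠ 0) (hd : u d = 0) (hprod : u a ^ (7 + 1) * u c ^ (7 + 1) = 2) : Good M := by
  have h7 := seven_zero hF
  have h2 : (2 : F) ≠ 0 := fun h => one_ne_zero (α := F) (by linear_combination h7 - 3 * h)
  have hw := ax_refl hF hu (ax_single hF hH a)
  rw [herm_single_left] at hw
  refine good_of_norm_one hF hH (by omega) hw hbc.symm hcd hbd ?_ ?_ ?_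
  · simp only [Pi.sub_apply, Pi.smul_apply, smul_eq_mul, show (e a : Fin 4 → F) c = 0 from
      Pi.single_eq_of_ne hac.symm _, zero_sub, neg_norm hF, mul_pow]
    rw [show (u a ^ 7) ^ (7 + 1) = u a ^ (7 + 1) by
      rw [← pow_mul, mul_comm 7, pow_mul, norm_pow_q hF]]
    linear_combination 256 * hprod + 73 * h7
  · simp only [Pi.sub_apply, Pi.smul_apply, smul_eq_mul, show (e a : Fin 4 → F) b = 0 from
      Pi.single_eq_of_ne hab.symm _, zero_sub, neg_ne_zero]
    exact mul_ne_zero (mul_ne_zero h2 (pow_ne_zero _ ha)) hb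
  · simp only [Pi.sub_apply, Pi.smul_apply, smul_eq_mul, hd, mul_zero, sub_zero]
    exact Pi.single_eq_of_ne had.symm _

set_option maxHeartbeats 1000000 in
/-- A non-square discriminant. -/
theorem good_of_disc (hF : Fintype.card F = 7 ^ 2) (hH : ∀ g, IsMon g → g ∈ M) {u : Fin 4 → F} (hu : Ax M u)
    {a b c d : Fin 4} (hab : a ≠ b) (hac : a ≠ c) (had : a ≠ d) (hbc : b ≠ c) (hbd : b ≠ d) (hcd : c ≠ d)
    (ha : u a ≠ 0) (hb : u b ≠ 0) (hc : u c ≠ 0) (hd : u d = 0)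
    (hdisc : ((u a ^ (7 + 1) + u b ^ (7 + 1) + 3 * (u c ^ (7 + 1)) ^ 5) ^ 2
      + 3 * u a ^ (7 + 1) * u b ^ (7 + 1)) ^ 3 = -1) : Good M := by
  have h7 := seven_zero hF
  have h2 : (2 : F) ≠ 0 := fun h => one_ne_zero (α := F) (by linear_combination h7 - 3 * h)
  set A := u a ^ (7 + 1) with hA
  set B := u b ^ (7 + 1) with hB
  set C := u c ^ (7 + 1) with hC
  set S := A + B + 3 * C ^ 5 with hS
  set D := S ^ 2 + 3 * A * B with hD
  have hD0 : D ≠ 0 := fun h => by
    rw [h, zero_pow (by omega)] at hdisc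
    exact one_ne_zero (α := F) (by linear_combination hdisc)
  have hD24 : D ^ (Fintype.card F / 2) = 1 := by
    rw [hF, show (7 : ℕ) ^ 2 / 2 = 3 * 8 by norm_num, pow_mul, hdisc]
    norm_num
  have hchar : ringChar F ≠ 2 := fun h => h2 (by
    haveI := ringChar.charP F
    rw [show (2 : F) = ((2 : ℕ) : F) by norm_num, CharP.cast_eq_zero_iff F (ringChar F), h])
  obtain ⟨η, hη⟩ := (FiniteField.isSquare_iff hchar hD0).2 hD24
  have hη0 : η ≠ 0 := fun h => hD0 (by rw [hη, h, mul_zero])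
  have hηq : η ^ 7 = -η := by
    calc η ^ 7 = D ^ 3 * η := by rw [hη]; ring
      _ = -η := by rw [hdisc, neg_one_mul]
  have h2q : (2 : F) ^ 7 = 2 := by linear_combination 18 * h7
  have hAq : A ^ 7 = A := norm_pow_q hF _
  have hBq : B ^ 7 = B := norm_pow_q hF _
  have hCq : C ^ 7 = C := norm_pow_q hF _
  have hA0 : A ≠ 0 := pow_ne_zero _ ha
  have hC0 : C ≠ 0 := pow_ne_zero _ hc
  have hC6 : C * C ^ 5 = 1 := by
    have h1 : C * (C * C ^ 5) = C * 1 := by linear_combination hCq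
    exact mul_left_cancel₀ hC0 h1
  have hSq : S ^ 7 = S := by
    rw [hS, add_pow_q hF, add_pow_q hF, mul_pow, hAq, hBq, ← pow_mul, mul_comm 5 7, pow_mul, hCq]
    linear_combination (312 * C ^ 5) * h7
  set ψ := (S + η) / 2 with hψ
  have hψq : ψ ^ 7 = (S - η) / 2 := by
    rw [hψ, div_pow, add_pow_q hF, hSq, hηq, h2q, ← sub_eq_add_neg]
  have hψψ : ψ * ψ ^ 7 = A * B := by
    rw [hψq, hψ]
    field_simp
    linear_combination (norm := ring_nf) (0 : F) * h7
    rw [hD] at hη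
    linear_combination hη - (A * B) * h7
  have hψtr : ψ + ψ ^ 7 = S := by
    rw [hψq, hψ]
    field_simp
    ring
  -- the pair axis
  obtain ⟨k₀, hk⟩ := exists_norm_eq hF (a := (4 : F)) (by linear_combination 2340 * h7)
  have hk0 : k₀ ≠ 0 := fun h => by
    rw [h, zero_pow (by omega)] at hk
    exact mul_ne_zero h2 h2 (by linear_combination -hk)
  obtain ⟨y, hy⟩ : ∃ y, y = -4 * ψ := ⟨_, rfl⟩
  have hyN : y ^ (7 + 1) = 16 * (A * B) := by
    rw [hy, pow_succ, mul_pow, ← hψψ]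
    linear_combination (9360 * (ψ * ψ ^ 7)) * h7
  set vb := y ^ 7 / (k₀ ^ 7 * u a * u b ^ 7) with hvb
  have hden : k₀ ^ 7 * u a * u b ^ 7 ≠ 0 := mul_ne_zero (mul_ne_zero (pow_ne_zero _ hk0) ha) (pow_ne_zero _ hb)
  have hvN : vb ^ (7 + 1) = 4 := by
    rw [hvb, div_pow, mul_pow, mul_pow, ← pow_mul y, mul_comm 7, pow_mul, norm_pow_q hF, hyN,
      ← pow_mul k₀, mul_comm 7, pow_mul, norm_pow_q hF, hk, ← pow_mul, mul_comm 7, pow_mul, norm_pow_q hF,
      ← hA, ← hB]
    have hB0 : B ≠ 0 := pow_ne_zero _ hb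
    have h4 : (4 : F) ≠ 0 := fun h => mul_ne_zero h2 h2 (by linear_combination h)
    field_simp
    ring
  set v : Fin 4 → F := pv a b k₀ vb with hv
  have hva : v a = k₀ := pv_left hab _ _
  have hvbv : v b = vb := pv_right hab _ _
  have hvc : v c = 0 := pv_other hac.symm hbc.symm _ _
  have hvd : v d = 0 := pv_other had.symm hbd.symm _ _
  have hax := ax_pair hF hH hab hac had hbc hbd hcd (v := v) (by rw [hva, hk]) (by rw [hvbv, hvN])
    (pv_other hac.symm hbc.symm _ _) (pv_other had.symm hbd.symm _ _)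
  set X := hermForm 4 F 7 v u with hX
  have hXv : X = k₀ * u a ^ 7 + vb * u b ^ 7 := by
    rw [hX, hermForm, sum_four hab hac had hbc hbd hcd, hva, hvbv, hvc, hvd]
    ring
  have hy' : (k₀ * u a ^ 7) * (vb * u b ^ 7) ^ 7 = y := by
    have h1 : vb * (k₀ ^ 7 * u a * u b ^ 7) = y ^ 7 := div_mul_cancel₀ _ hden
    have h2 := congrArg (· ^ 7) h1
    simp only [mul_pow, pow_q_q hF] at h2
    rw [mul_pow, pow_q_q hF, ← h2]
    ring
  have hXN : X ^ (7 + 1) = 4 * (A + B) + (y + y ^ 7) := by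
    have e1 : (k₀ * u a ^ 7) ^ (7 + 1) = 4 * A := by
      rw [mul_pow, hk, ← pow_mul (u a), mul_comm 7, pow_mul, norm_pow_q hF]
    have e2 : (vb * u b ^ 7) ^ (7 + 1) = 4 * B := by
      rw [mul_pow, hvN, ← pow_mul (u b), mul_comm 7, pow_mul, norm_pow_q hF]
    rw [hXv, norm_add_eq hF, e1, e2, hy', mul_add]
  have hw := ax_refl hF hu hax
  rw [← hX] at hw
  refine good_of_norm_one hF hH (by omega) hw hac.symm hcd had ?_ ?_ ?_
  · simp only [Pi.sub_apply, Pi.smul_apply, smul_eq_mul, hvc, zero_sub, neg_norm hF,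
      mul_pow]
    rw [← hC, hXN, hy, mul_pow, show (-4 : F) ^ 7 = -4 by linear_combination -2340 * h7]
    linear_combination (-1024 * C) * hψtr - 3072 * hC6 + (-1024 * C) * hS - 439 * h7
  · simp only [Pi.sub_apply, Pi.smul_apply, smul_eq_mul, hva]
    intro h
    -- a vanishing coordinate makes the parameter fixed
    have h1 : k₀ * (1 - 2 * A) = 2 * vb * u b ^ 7 * u a := by
      rw [hXv] at h
      linear_combination h + (2 * k₀) * hA
    have h3 : y ^ 7 * 2 = 4 * (1 - 2 * A) := by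
      have h4 : vb * (k₀ ^ 7 * u a * u b ^ 7) = y ^ 7 := div_mul_cancel₀ _ hden
      rw [← h4, ← hk]
      linear_combination (-(k₀ ^ 7)) * h1
    have h5 := congrArg (· ^ 7) h3
    simp only [mul_pow, pow_q_q hF, h2q, sub_pow_q hF, one_pow, hAq,
      show (4 : F) ^ 7 = 4 by linear_combination 2340 * h7] at h5
    rw [hy, mul_pow, show (-4 : F) ^ 7 = -4 by linear_combination -2340 * h7, hψq] at h3
    rw [hy, hψ] at h5
    apply hη0
    have h9 : (8 : F) * η = 0 := by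
      field_simp at h3 h5
      linear_combination h3 - h5
    linear_combination h9 - η * h7
  · simp only [Pi.sub_apply, Pi.smul_apply, smul_eq_mul, hd, mul_zero, sub_zero, hvd]

/-- The possible norms. -/
theorem norm_cases : ∀ A B C : Fin 7, (A : ℕ) ≠ 0 → (B : ℕ) ≠ 0 → (C : ℕ) ≠ 0 →
    (A : ℕ) ≠ 1 → (B : ℕ) ≠ 1 → (C : ℕ) ≠ 1 → ((A : ℕ) + B + C) % 7 = 1 →
    ((A : ℕ) * B) % 7 = 2 ∨ ((A : ℕ) * C) % 7 = 2 ∨ ((B : ℕ) * C) % 7 = 2 ∨
    ((((A : ℕ) + B + 3 * C ^ 5) ^ 2 + 3 * A * B) ^ 3) % 7 = 6 ∨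
    ((((A : ℕ) + C + 3 * B ^ 5) ^ 2 + 3 * A * C) ^ 3) % 7 = 6 ∨
    ((((B : ℕ) + C + 3 * A ^ 5) ^ 2 + 3 * B * C) ^ 3) % 7 = 6 ∨
    ((A : ℕ) = 5 ∧ (B : ℕ) = 5 ∧ (C : ℕ) = 5) := by decide +kernel

/-- An axis with three non-zero coordinates gives a centre when `q = 7`. -/
theorem good_of_three_seven (hF : Fintype.card F = 7 ^ 2) (hH : ∀ g, IsMon g → g ∈ M) (h3 : Three M) :
    Good M := by
  obtain ⟨u, a, b, c, d, hab, hac, had, hbc, hbd, hcd, hu, ha, hb, hc, hd⟩ := h3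
  by_cases hA1 : u a ^ (7 + 1) = 1
  · exact good_of_norm_one hF hH (by omega) hu hab had hbd hA1 hb hd
  by_cases hB1 : u b ^ (7 + 1) = 1
  · exact good_of_norm_one hF hH (by omega) hu hab.symm hbd had hB1 ha hd
  by_cases hC1 : u c ^ (7 + 1) = 1
  · exact good_of_norm_one hF hH (by omega) hu hac.symm hcd had hC1 ha hd
  have h7 := seven_zero hF
  have hsum := hu.1
  rw [herm_self_sum, sum_four hab hac had hbc hbd hcd, hd, zero_pow (by omega : (7 + 1 : ℕ) ≠ 0), add_zero]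
    at hsum
  obtain ⟨A, hA⟩ := exists_nat_eq hF (norm_pow_q hF (u a))
  obtain ⟨B, hB⟩ := exists_nat_eq hF (norm_pow_q hF (u b))
  obtain ⟨C, hC⟩ := exists_nat_eq hF (norm_pow_q hF (u c))
  haveI : Fact (Nat.Prime 7) := ⟨by norm_num⟩
  haveI : CharP F 7 := charP_of_card_eq_prime_pow hF
  have hcast : ∀ n m : ℕ, n % 7 = m % 7 → (n : F) = m := fun n m h => (CharP.natCast_eq_natCast F 7).2 h
  have h0 : ∀ {i : Fin 4} {N : Fin 7}, u i ≠ 0 → u i ^ (7 + 1) = ((N : ℕ) : F) → (N : ℕ) ≠ 0 :=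
    fun hi hN h => hi (eq_zero_of_pow_eq_zero (by rw [hN, h, Nat.cast_zero]))
  have h1 : ∀ {i : Fin 4} {N : Fin 7}, ¬u i ^ (7 + 1) = 1 → u i ^ (7 + 1) = ((N : ℕ) : F) → (N : ℕ) ≠ 1 :=
    fun hi hN h => hi (by rw [hN, h, Nat.cast_one])
  have hs : ((A : ℕ) + B + C) % 7 = 1 := by
    have h : (((A : ℕ) + B + C : ℕ) : F) = ((1 : ℕ) : F) := by
      push_cast
      rw [← hA, ← hB, ← hC]
      exact hsum
    exact (CharP.natCast_eq_natCast F 7).1 h
  have hm1 : ((6 : ℕ) : F) = -1 := by push_cast; linear_combination h7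
  rcases norm_cases A B C (h0 ha hA) (h0 hb hB) (h0 hc hC) (h1 hA1 hA) (h1 hB1 hB) (h1 hC1 hC) hs with
    h | h | h | h | h | h | ⟨e1, e2, e3⟩
  · refine good_of_prod hF hH hu hac hab had hbc.symm hcd hbd ha hc hd ?_
    have := hcast _ 2 h
    push_cast at this
    rw [hA, hB, this]
  · refine good_of_prod hF hH hu hab hac had hbc hbd hcd ha hb hd ?_
    have := hcast _ 2 h
    push_cast at this
    rw [hA, hC, this]
  · refine good_of_prod hF hH hu hab.symm hbc hbd hac had hcd hb ha hd ?_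
    have := hcast _ 2 h
    push_cast at this
    rw [hB, hC, this]
  · refine good_of_disc hF hH hu hab hac had hbc hbd hcd ha hb hc hd ?_
    have := hcast _ 6 h
    rw [hm1] at this
    push_cast at this
    rw [hA, hB, hC, this]
  · refine good_of_disc hF hH hu hac hab had hbc.symm hcd hbd ha hc hb hd ?_
    have := hcast _ 6 h
    rw [hm1] at this
    push_cast at this
    rw [hA, hB, hC, this]
  · refine good_of_disc hF hH hu hbc hab.symm hbd hac.symm hcd had hb hc ha hd ?_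
    have := hcast _ 6 h
    rw [hm1] at this
    push_cast at this
    rw [hA, hB, hC, this]
  -- all three norms five: reflect once
  rw [e1, Nat.cast_ofNat] at hA
  rw [e2, Nat.cast_ofNat] at hB
  rw [e3, Nat.cast_ofNat] at hC
  have hw := ax_refl hF hu (ax_single hF hH a)
  rw [herm_single_left] at hw
  set w := (e a : Fin 4 → F) - (2 * u a ^ 7) • u
  have hua : (u a ^ 7) ^ (7 + 1) = 5 := by rw [← pow_mul, mul_comm 7, pow_mul, norm_pow_q hF, hA]
  have hwa : w a = -9 := by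
    simp only [w, Pi.sub_apply, Pi.smul_apply, smul_eq_mul, show (e a : Fin 4 → F) a = 1 from
      Pi.single_eq_same _ _]
    linear_combination -2 * hA
  have hwo : ∀ i, i ≠ a → w i = -(2 * u a ^ 7 * u i) := fun i hi => by
    simp only [w, Pi.sub_apply, Pi.smul_apply, smul_eq_mul, show (e a : Fin 4 → F) i = 0 from
      Pi.single_eq_of_ne hi _, zero_sub]
  have hwbN : w b ^ (7 + 1) = 2 := by
    rw [hwo b hab.symm, neg_norm hF, mul_pow, mul_pow, hua, hB]
    linear_combination 914 * h7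
  have hwcN : w c ^ (7 + 1) = 2 := by
    rw [hwo c hac.symm, neg_norm hF, mul_pow, mul_pow, hua, hC]
    linear_combination 914 * h7
  have hwaN : w a ^ (7 + 1) = 4 := by
    rw [hwa]
    linear_combination 6149531 * h7
  have h2 : (2 : F) ≠ 0 := fun h => one_ne_zero (α := F) (by linear_combination h7 - 3 * h)
  have hne : ∀ {i : Fin 4}, i ≠ a → u i ≠ 0 → w i ≠ 0 := fun hi hu' => by
    rw [hwo _ hi, neg_ne_zero]; exact mul_ne_zero (mul_ne_zero h2 (pow_ne_zero _ ha)) hu'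
  refine good_of_disc hF hH hw hab.symm hbc hbd hac had hcd (hne hab.symm hb) ?_ (hne hac.symm hc) ?_ ?_
  · rw [hwa]; intro h; exact h2 (by linear_combination -h - h7)
  · rw [hwo d had.symm, hd, mul_zero, neg_zero]
  · rw [hwbN, hwaN, hwcN]
    have := hcast (((2 + 4 + 3 * 2 ^ 5) ^ 2 + 3 * 2 * 4) ^ 3) 6 (by norm_num)
    rw [hm1] at this
    norm_num at this ⊢
    exact this

end Cfsg.Agent.UnitFourFrame77
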