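import Mathlib
import Cfsg.Agent.Lib.UnitFourFrame77Seven

/-!
Clause 3 of S5783: frames of four orthogonal lines in the unitary 4-space, `q ≠ 3`.
-/

set_option autoImplicit false
set_option linter.unusedSectionVars false

namespace Cfsg.Agent.UnitFourFrame77

open scoped Matrix MatrixGroups
open Cfsg.Agent.OrthUnitaryHerm
open Cfsg.Agent.OrthUnitaryTransvection
open Cfsg.Agent.OrthUnitarySubspaces
open Cfsg.Agent.OrthUnitaryMaximal
open Cfsg.Agent.UnitaryFrame84

variable {F : Type*} [Field F] [Fintype F] {q : ℕ}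

/-- Over four elements the pair transvections are monomial. -/
theorem pair_two (hF : Fintype.card F = 2 ^ 2) {M : Subgroup (SU 4 F 2)} (hH : ∀ g, IsMon g → g ∈ M)
    {a b : Fin 4} (hab : a ≠ b) {x y : F} (hx : x ≠ 0) (h : x ^ (2 + 1) + y ^ (2 + 1) = 0) :
    Centre M (pv a b x y) := by
  obtain ⟨ω, -, -, h2⟩ := exists_omega hF
  have hy : y ≠ 0 := fun h0 => by
    rw [h0, zero_pow (by omega : (2 + 1 : ℕ) ≠ 0), add_zero] at h
    exact hx (eq_zero_of_pow_eq_zero h)
  have hv : hermForm 4 F 2 (pv a b x y) (pv a b x y) = 0 := by rw [herm_pv_self hF hab, h]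
  refine (centre_iff hF hv).2 fun c hc => hH _ fun i j k l hij hk hl => ?_
  obtain rfl : i = j := hij
  have key : c = 0 ∨ c = 1 := by
    by_cases h0 : c = 0
    · exact Or.inl h0
    · right
      have h1 : c * (c + 1) = 0 := by linear_combination hc
      have := (mul_eq_zero.1 h1).resolve_left h0
      linear_combination this - h2
  have hval : ∀ m, act (tv hF (pv a b x y) c hv hc) (e i) m ≠ 0 →
      (c = 0 → m = i) ∧ (c = 1 → (i ≠ a → i ≠ b → m = i) ∧ (i = a → m = b) ∧ (i = b → m = a)) := by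
    intro m hm
    rw [tv_act, e, herm_single_left, Pi.add_apply, Pi.smul_apply, smul_eq_mul] at hm
    refine ⟨fun hc0 => ?_, fun hc1 => ⟨fun hia hib => ?_, fun hia => ?_, fun hib => ?_⟩⟩
    · by_contra hne
      rw [hc0, zero_mul, zero_mul, Pi.single_eq_of_ne hne, add_zero] at hm
      exact hm rfl
    · by_contra hne
      rw [pv_other hia hib, zero_pow (by omega), mul_zero, zero_mul, Pi.single_eq_of_ne hne, add_zero] at hm
      exact hm rfl
    · subst hia
      by_contra hne
      apply hm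
      by_cases hma : m = i
      · subst hma
        rw [Pi.single_eq_same, pv_left hab, hc1]
        linear_combination normOne_two hF hx + h2
      · rw [Pi.single_eq_of_ne hma, pv_other hma hne, mul_zero, add_zero]
    · subst hib
      by_contra hne
      apply hm
      by_cases hmb : m = i
      · subst hmb
        rw [Pi.single_eq_same, pv_right hab, hc1]
        linear_combination normOne_two hF hy + h2
      · rw [Pi.single_eq_of_ne hmb, pv_other hne hmb, mul_zero, add_zero]
  obtain ⟨k0, k1⟩ := hval k hk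
  obtain ⟨l0, l1⟩ := hval l hl
  show k = l
  rcases key with hc0 | hc1
  · rw [k0 hc0, l0 hc0]
  by_cases hia : i = a
  · rw [(k1 hc1).2.1 hia, (l1 hc1).2.1 hia]
  by_cases hib : i = b
  · rw [(k1 hc1).2.2 hib, (l1 hc1).2.2 hib]
  rw [(k1 hc1).1 hia hib, (l1 hc1).1 hia hib]

/-- Four elements: every isotropic vector is a centre. -/
theorem centres_two (hF : Fintype.card F = 2 ^ 2) {M : Subgroup (SU 4 F 2)} (hH : ∀ g, IsMon g → g ∈ M)
    {g : SU 4 F 2} (hg : g ∈ M) (hgm : ¬IsMon g) (v : Fin 4 → F) (hv : hermForm 4 F 2 v v = 0) :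
    Centre M v := by
  classical
  obtain ⟨ω, -, -, h2⟩ := exists_omega hF
  obtain ⟨a, b, hab, l, hl, hwide⟩ := exists_wide_pair hF le_rfl hgm
  have hp : Centre M (pv a b (1 : F) l) :=
    pair_two hF hH hab one_ne_zero (by rw [one_pow, hl]; linear_combination h2)
  set z := act g (pv a b (1 : F) l) with hz
  have hzC : Centre M z := centre_act hF hg hp
  have hnorm : ∀ (w : Fin 4 → F) i, w i ≠ 0 → w i ^ (2 + 1) = 1 := fun w i h => normOne_two hF h
  have h10 : (1 : F) ≠ 0 := one_ne_zero
  -- isotropic vectors have even support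
  have hodd : ∀ (w : Fin 4 → F), hermForm 4 F 2 w w = 0 → ∀ d, w d = 0 → ∀ i j, i ≠ d → j ≠ d → i ≠ j →
      w i ≠ 0 → w j ≠ 0 → ∀ k, k ≠ d → k ≠ i → k ≠ j → w k = 0 := by
    intro w hw d hd i j hid hjd hij hi hj k hkd hki hkj
    by_contra hk
    rw [herm_self_sum, sum_four hij hki.symm hid hkj.symm hjd hkd, hd, hnorm w i hi, hnorm w j hj, hnorm w k hk,
      zero_pow (by omega : (2 + 1 : ℕ) ≠ 0)] at hw
    exact h10 (by linear_combination hw - h2)
  have hz4 : ∀ i, z i ≠ 0 := by
    intro d hd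
    have hsub : suppF z ⊆ Finset.univ.erase d := fun i hi => Finset.mem_erase.2
      ⟨fun h => mem_suppF.1 hi (h ▸ hd), Finset.mem_univ i⟩
    have heq := Finset.eq_of_subset_of_card_le hsub (by
      rw [Finset.card_erase_of_mem (Finset.mem_univ d), Finset.card_univ, Fintype.card_fin]; exact hwide)
    obtain ⟨i, hi⟩ := exists_ne d
    obtain ⟨j, k, hdj, hdk, hij, hik, hjk⟩ := exists_two hi.symm
    have hm : ∀ i, i ≠ d → z i ≠ 0 := fun i hi => by
      rw [← mem_suppF, heq]; exact Finset.mem_erase.2 ⟨hi, Finset.mem_univ i⟩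
    exact hm k hdk.symm (hodd z hzC.1 d hd i j hi hdj.symm hij (hm i hi) (hm j hdj.symm) k hdk.symm hik.symm
      hjk.symm)
  by_cases hall : ∀ i, v i ≠ 0
  · let d : Fin 4 → F := fun i => v i / z i
    set P := ∏ i, d i with hP
    have hP0 : P ≠ 0 := Finset.prod_ne_zero_iff.2 fun i _ => div_ne_zero (hall i) (hz4 i)
    have hd1 : ∀ i, (d i / P) ^ (2 + 1) = 1 := fun i =>
      normOne_two hF (div_ne_zero (div_ne_zero (hall i) (hz4 i)) hP0)
    have hd2 : ∏ i, d i / P = 1 := by
      rw [Finset.prod_div_distrib, ← hP, Finset.prod_const, Finset.card_univ, Fintype.card_fin]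
      have := normOne_two hF hP0
      field_simp
      linear_combination -this
    have := centre_smul hF (centre_act hF (hH _ (diagEl_pres _ _ hd1 hd2)) hzC) P
    convert this using 1
    funext i
    rw [Pi.smul_apply, diagEl_act, smul_eq_mul, ← mul_assoc, mul_div_cancel₀ _ hP0]
    exact (div_mul_cancel₀ _ (hz4 i)).symm
  push Not at hall
  obtain ⟨d, hd⟩ := hall
  by_cases hv0 : v = 0
  · rw [hv0]; exact centre_zero hF M
  obtain ⟨i, hi⟩ := Function.ne_iff.1 hv0
  have hid : i ≠ d := fun h => hi (by rw [h, hd]; rfl)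
  by_cases hj : ∃ j, j ≠ i ∧ v j ≠ 0
  swap
  · push Not at hj
    exfalso
    rw [herm_self_sum, Finset.sum_eq_single i (fun j _ hji => by
      rw [hj j hji, zero_pow (by omega : (2 + 1 : ℕ) ≠ 0)]) (by simp), hnorm v i hi] at hv
    exact h10 hv
  obtain ⟨j, hji, hjv⟩ := hj
  have hjd : j ≠ d := fun h => hjv (by rw [h, hd])
  have heq : v = pv i j (v i) (v j) := eq_pv hji.symm fun k hki hkj => by
    by_cases hkd : k = d
    · rw [hkd, hd]
    · exact hodd v hv d hd i j hid hjd hji.symm hi hjv k hkd hki hkj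
  rw [heq]
  refine pair_two hF hH hji.symm hi ?_
  have h1 := hv
  rwa [heq, herm_pv_self hF hji.symm] at h1

/-- Every isotropic vector is a centre of an overgroup of the frame stabiliser. -/
theorem line_centres (hF : Fintype.card F = q ^ 2) (hq3 : q ≠ 3) (E : Fin 4 ≃ Fin 4 × Fin 1)
    (M : Subgroup (SU 4 F q)) (hH : ∀ g, Pres (part E) g → g ∈ M) (g : SU 4 F q) (hg : g ∈ M)
    (hgp : ¬Pres (part E) g) (v : Fin 4 → F) (hv : hermForm 4 F q v v = 0) : Centre M v := by
  have hH' : ∀ g : SU 4 F q, IsMon g → g ∈ M := fun g h => hH g ((isMon_iff E rfl g).1 h)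
  have hgm : ¬IsMon g := fun h => hgp ((isMon_iff E rfl g).1 h)
  have hq2 := two_le_q hF
  by_cases h2 : q = 2
  · subst h2
    exact centres_two hF hH' hg hgm v hv
  have hq : 4 ≤ q := by omega
  have h3 := exists_three hF hH' hq hg hgm
  obtain ⟨z, hz, hz0, c, hc⟩ : Good M := by
    by_cases h7 : q = 7
    · subst h7
      exact good_of_three_seven hF hH' h3
    · exact good_of_three hF hH' hq h7 h3
  obtain ⟨a, b, x, y, hab, hx, hC⟩ := cross_of_zero hF hH' hz hz0 hc
  have hne : part E a ≠ part E b := fun h => hab (E.injective (Prod.ext h (Subsingleton.elim _ _)))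
  exact centre_all hF (by omega) (fun a' b' hne' x' y' hx' h' =>
    centre_all_pairs hF hH (by omega) (exists_perm_pair E) hne hx hC hne' hx' h') v hv

/-- Clause 3: frames of four orthogonal non-degenerate lines, `q ≠ 3`. -/
theorem maximal_lines {F : Type*} [Field F] [Fintype F] (q : ℕ) (hF : Fintype.card F = q ^ 2) :
    q ≠ 3 → ∀ D : Fin 4 → Submodule F (Fin 4 → F), Cfsg.Geo.IsNondegenerateMDecomposition (Cfsg.hermForm 4 F q) 1 D → Cfsg.Geo.IsMaximalIn (Cfsg.GU 4 F q ⊓ Cfsg.Geo.specialLinear (Fin 4) F) (Cfsg.Geo.decompositionStabilizer D ⊓ (Cfsg.GU 4 F q ⊓ Cfsg.Geo.specialLinear (Fin 4) F)) :=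
  fun hq3 D hD => UnitFourPlanes77.maximal_of_centres hF le_rfl D hD fun E M hH g hg hgp v hv =>
    line_centres hF hq3 E M hH g hg hgp v hv

end Cfsg.Agent.UnitFourFrame77
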