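import Cfsg.Prelude.Def_GeometricClasses
import Cfsg.Agent.Lib.UnitaryTIPair22

set_option autoImplicit false
open Cfsg

namespace Cfsg.Agent.UnitFourPair83

open Cfsg.Agent.TransvectionMax Cfsg.Agent.UnitaryTIPair22
open scoped MatrixGroups Matrix

/-- A non-zero element fixed by the involution whose square is not one. -/
lemma exists_fixed_sq_ne_one {F : Type*} [Field F] [Fintype F] (q : ℕ) (hF : Fintype.card F = q ^ 2)
    (hq : 4 ≤ q) : ∃ t : F, t ≠ 0 ∧ t ^ 2 ≠ 1 ∧ t ^ q = t := by
  classical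
  obtain ⟨g, hg⟩ := IsCyclic.exists_generator (α := Fˣ)
  have ho : orderOf g = q ^ 2 - 1 := by
    rw [orderOf_eq_card_of_forall_mem_zpowers hg, Nat.card_eq_fintype_card, Fintype.card_units, hF]
  refine ⟨(g : F) ^ (q + 1), pow_ne_zero _ g.ne_zero, fun h => ?_, ?_⟩
  · have h1 : g ^ ((q + 1) * 2) = 1 := Units.ext (by
      rw [Units.val_pow_eq_pow_val, pow_mul, h, Units.val_one])
    have h2 := Nat.le_of_dvd (by omega) (ho ▸ orderOf_dvd_of_pow_eq_one h1)
    have h3 : 4 * q ≤ q ^ 2 := by nlinarith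
    omega
  · have h1 : (g : F) ^ q ^ 2 = g := by rw [← hF, FiniteField.pow_card]
    rw [← pow_mul, show (q + 1) * q = q ^ 2 + q by ring, pow_add, h1, pow_succ']

set_option maxHeartbeats 3200000

/-- For q ≥ 4 the stabiliser in SU_4(q) of two complementary totally isotropic 2-spaces is maximal. -/
theorem maximal_pair {F : Type*} [Field F] [Fintype F] (q : ℕ) (hF : Fintype.card F = q ^ 2) :
    4 ≤ q → ∀ D : Fin 2 → Submodule F (Fin 4 → F), Cfsg.Geo.IsMDecomposition 2 D → (∀ i, Cfsg.Geo.IsTotallySingularFor (Cfsg.hermForm 4 F q) (D i)) → Cfsg.Geo.IsMaximalIn (Cfsg.GU 4 F q ⊓ Cfsg.Geo.specialLinear (Fin 4) F) (Cfsg.Geo.decompositionStabilizer D ⊓ (Cfsg.GU 4 F q ⊓ Cfsg.Geo.specialLinear (Fin 4) F)) := by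
  intro hq D hD hts
  obtain ⟨τ, hτ, hf⟩ := TransvectionUnitaryGen.herm_isUnitaryForm (n := 4) hF
  obtain ⟨t, ht0, ht2, htq⟩ := exists_fixed_sq_ne_one q hF hq
  have htτ : τ t = t := (hτ t).trans htq
  have ht1 : t - 1 ≠ 0 := fun h => ht2 (by rw [sub_eq_zero.mp h, one_pow])
  have htn : t ^ 2 - 1 ≠ 0 := sub_ne_zero.mpr ht2
  have hti : t⁻¹ - t ≠ 0 := fun h => htn (by
    have h' := congrArg (t * ·) h
    simp only [mul_sub, mul_inv_cancel₀ ht0, mul_zero] at h'
    linear_combination -h')
  have hti1 : t⁻¹ - 1 ≠ 0 := fun h => ht1 (by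
    rw [sub_eq_zero, inv_eq_one] at h
    rw [h, sub_self])
  set f := Cfsg.hermForm 4 F q
  obtain ⟨-, hk0, hkd, hindep, htop⟩ := hD
  set U := D 0 with hUdef
  set W := D 1 with hWdef
  have hUts : Cfsg.Geo.IsTotallySingularFor f U := hts 0
  have hWts : Cfsg.Geo.IsTotallySingularFor f W := hts 1
  have hUk : Module.finrank F U = 2 := hkd 0
  have hWk : Module.finrank F W = 2 := hkd 1
  have hUW : IsCompl U W := by
    refine ⟨hindep.pairwiseDisjoint (show (0 : Fin 2) ≠ 1 by decide), codisjoint_iff.mpr (eq_top_iff.mpr ?_)⟩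
    rw [← htop]
    refine iSup_le fun i => ?_
    fin_cases i
    · exact le_sup_left
    · exact le_sup_right
  have hdis := Submodule.disjoint_def.mp hUW.disjoint
  set pU := U.projection W hUW
  set pW := W.projection U hUW.symm
  have hpUmem : ∀ x, pU x ∈ U := fun x => U.projection_apply_mem hUW x
  have hpWmem : ∀ x, pW x ∈ W := fun x => W.projection_apply_mem hUW.symm x
  have hpadd : ∀ x, pU x + pW x = x := fun x => U.projection_add_projection_eq_self hUW x
  have fU : ∀ {a} x, a ∈ U → f x a = f (pW x) a := fun {a} x ha => by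
    conv_lhs => rw [← hpadd x]
    rw [hf.add_left, hUts _ (hpUmem x) a ha, zero_add]
  have fW : ∀ {b} x, b ∈ W → f x b = f (pU x) b := fun {b} x hb => by
    conv_lhs => rw [← hpadd x]
    rw [hf.add_left, hWts _ (hpWmem x) b hb, add_zero]
  have skn : ∀ {x y}, f x y = 1 → f y x ≠ 0 := fun h => by
    rw [hf.herm, h, map_one]; exact one_ne_zero
  have sepU : ∀ {z Z}, z ∈ W → Z ≤ W → z ∉ Z → ∃ c ∈ U, (∀ x ∈ Z, f c x = 0) ∧ f c z = 1 :=
    fun hz hZ hzZ => dual_sep hf hUW hWts hz hZ hzZ
  have sepW : ∀ {z Z}, z ∈ U → Z ≤ U → z ∉ Z → ∃ c ∈ W, (∀ x ∈ Z, f c x = 0) ∧ f c z = 1 :=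
    fun hz hZ hzZ => dual_sep hf hUW.symm hUts hz hZ hzZ
  have spanLe1 : ∀ {X : Submodule F (Fin 4 → F)} {p}, p ∈ X → Submodule.span F {p} ≤ X :=
    fun hp => (Submodule.span_singleton_le_iff_mem _ _).mpr hp
  set K := Cfsg.GU 4 F q ⊓ Cfsg.Geo.specialLinear (Fin 4) F
  set H := Cfsg.Geo.decompositionStabilizer D ⊓ K
  have hDne : ∀ i j, D i = D j → i = j := by
    intro i j he
    by_contra hne
    have hdis : Disjoint (D i) (D j) := hindep.pairwiseDisjoint hne
    rw [he, disjoint_self] at hdis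
    have := hkd j
    rw [hdis, finrank_bot] at this
    omega
  have hmkH : ∀ {h : GL (Fin 4) F}, h ∈ K →
      (∀ i, ∃ j, ∀ v ∈ D i, (h : Matrix (Fin 4) (Fin 4) F) *ᵥ v ∈ D j) → h ∈ H := by
    intro h hh hmap
    choose σ hσ using hmap
    let T : (Fin 4 → F) →ₗ[F] (Fin 4 → F) := Matrix.toLin' (h : Matrix (Fin 4) (Fin 4) F)
    have hTi : Function.Injective T := fun a b hab =>
      act_injective h (by simpa [T, Matrix.toLin'_apply] using hab)
    have hTmap : ∀ i, (D i).map T = D (σ i) := fun i => by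
      refine Submodule.eq_of_le_of_finrank_eq ?_ ?_
      · rintro _ ⟨x, hx, rfl⟩
        rw [Matrix.toLin'_apply]
        exact hσ i x hx
      · rw [← (Submodule.equivMapOfInjective T hTi (D i)).finrank_eq, hkd, hkd]
    have hσi : Function.Injective σ := fun i j hij =>
      hDne i j (Submodule.map_injective_of_injective hTi (by rw [hTmap, hTmap, hij]))
    exact ⟨⟨Equiv.ofBijective σ (Finite.injective_iff_bijective.mp hσi), hTmap⟩, hh⟩
  have hS2H : ∀ {a b}, (a ∈ U ∧ b ∈ W ∨ a ∈ W ∧ b ∈ U) → f a b = 0 → sp2 f a b ∈ H := by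
    intro a b hmem hab
    have haa : f a a = 0 := by
      rcases hmem with h | h
      · exact hUts a h.1 a h.1
      · exact hWts a h.1 a h.1
    have hbb : f b b = 0 := by
      rcases hmem with h | h
      · exact hWts b h.2 b h.2
      · exact hUts b h.2 b h.2
    refine hmkH ⟨fun x y => sp2_iso hf haa hbb hab x y,
      Subgroup.mul_mem _ (ft_mem_sl f b a) (ft_mem_sl f a (-b))⟩ fun i => ⟨i, fun v hv => ?_⟩
    rw [sp2_act hf haa hab]
    fin_cases i
    · change v + f v a • b - f v b • a ∈ U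
      rcases hmem with h | h
      · rw [hUts v hv a h.1, zero_smul, add_zero]
        exact U.sub_mem hv (U.smul_mem _ h.1)
      · rw [hUts v hv b h.2, zero_smul, sub_zero]
        exact U.add_mem hv (U.smul_mem _ h.2)
    · change v + f v a • b - f v b • a ∈ W
      rcases hmem with h | h
      · rw [hWts v hv b h.2, zero_smul, sub_zero]
        exact W.add_mem hv (W.smul_mem _ h.2)
      · rw [hWts v hv a h.1, zero_smul, add_zero]
        exact W.sub_mem hv (W.smul_mem _ h.1)
  obtain ⟨c0, hc0, hc0'⟩ := TransvectionUnitary.exists_tz hf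
  have hplane : ∀ {X : Submodule F (Fin 4 → F)} {p r}, Module.finrank F X = 2 → p ∈ X → r ∈ X → p ≠ 0 →
      r ∉ Submodule.span F {p} → ∀ z ∈ X, ∃ x y : F, x • p + y • r = z := by
    intro X p r hX hp hr hp0 hrn z hz
    have hle : Submodule.span F {p, r} ≤ X :=
      Submodule.span_le.mpr (by simp [Set.insert_subset_iff, hp, hr])
    have heq : Submodule.span F {p, r} = X := by
      refine Submodule.eq_of_le_of_finrank_le hle ?_
      have hlt : Submodule.span F {p} < Submodule.span F {p, r} :=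
        lt_of_le_of_ne (Submodule.span_mono (by simp)) fun e => hrn (e.symm ▸ Submodule.subset_span (by simp))
      have := Submodule.finrank_lt_finrank_of_lt hlt
      rw [finrank_span_singleton hp0] at this
      omega
    exact Submodule.mem_span_pair.mp (heq.symm ▸ hz)
  have horth : ∀ {X : Submodule F (Fin 4 → F)}, Module.finrank F X = 2 → ∀ p, ∃ z ∈ X, z ≠ 0 ∧ f z p = 0 := by
    intro X hX p
    obtain ⟨z, hz, hz0⟩ := Submodule.exists_mem_ne_zero_of_ne_bot
      (p := X ⊓ TransvectionUnitary.perp hf (Submodule.span F {p})) fun e => by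
        have h1 := TransvectionUnitaryGen.finrank_inf_perp hf X (Submodule.span F {p})
        have h2 := fr1 p
        rw [e, finrank_bot] at h1
        omega
    exact ⟨z, hz.1, hz0, (TransvectionUnitary.mem_perp_singleton hf).mp hz.2⟩
  -- bases adapted to a non-orthogonal pair
  have hbase : ∀ {u w}, u ∈ U → w ∈ W → f u w ≠ 0 → ∃ e ∈ U, ∃ r ∈ W, f e w = 0 ∧ f u r = 0 ∧ f e r = 1 ∧
      (∀ x ∈ U, ∃ a b : F, a • u + b • e = x) ∧ ∀ y ∈ W, ∃ a b : F, a • w + b • r = y := by
    intro u w hu hw huw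
    obtain ⟨e, he, he0, hew⟩ := horth hUk w
    obtain ⟨r1, hr1, hr10, hr1u⟩ := horth hWk u
    have hu0 : u ≠ 0 := fun h => huw (by rw [h, TransvectionUnitary.zero_left hf])
    have hw0 : w ≠ 0 := fun h => huw (by rw [h, TransvectionUnitary.zero_right hf])
    have hen : e ∉ Submodule.span F {u} := fun h => by
      obtain ⟨s, rfl⟩ := Submodule.mem_span_singleton.mp h
      rw [hf.smul_left] at hew
      exact he0 (by rw [(mul_eq_zero.mp hew).resolve_right huw, zero_smul])
    have hrn : r1 ∉ Submodule.span F {w} := fun h => by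
      obtain ⟨s, rfl⟩ := Submodule.mem_span_singleton.mp h
      rw [hf.smul_left] at hr1u
      exact hr10 (by rw [(mul_eq_zero.mp hr1u).resolve_right (TransvectionUnitary.skew_ne hf huw), zero_smul])
    have her : f r1 e ≠ 0 := fun h => by
      obtain ⟨d, hd, -, hd1⟩ := sepU hr1 (bot_le : ⊥ ≤ W) (by simpa using hr10)
      obtain ⟨a, b, rfl⟩ := hplane hUk hu he hu0 hen d hd
      rw [hf.add_left, hf.smul_left, hf.smul_left, TransvectionUnitary.skew_zero hf hr1u,
        TransvectionUnitary.skew_zero hf h, mul_zero, mul_zero, add_zero] at hd1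
      exact zero_ne_one hd1
    refine ⟨e, he, (f r1 e)⁻¹ • r1, W.smul_mem _ hr1, hew, ?_, ?_, hplane hUk hu he hu0 hen,
      hplane hWk hw (W.smul_mem _ hr1) hw0 fun h => hrn ?_⟩
    · rw [TransvectionUnitary.smul_right hf, TransvectionUnitary.skew_zero hf hr1u, mul_zero]
    · rw [TransvectionUnitary.smul_right hf, map_inv₀, ← hf.herm]
      exact inv_mul_cancel₀ (TransvectionUnitary.skew_ne hf her)
    · have := Submodule.smul_mem _ (f r1 e) h
      rwa [smul_inv_smul₀ her] at this
  -- the element exchanging a hyperbolic pair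
  have hWel : ∀ {e r}, f e e = 0 → f r r = 0 → f e r = 1 → ∀ {c}, τ c = -c → c ≠ 0 → ∃ w ∈ K,
      (w : Matrix (Fin 4) (Fin 4) F) *ᵥ e = (-c⁻¹) • r ∧ (w : Matrix (Fin 4) (Fin 4) F) *ᵥ r = c • e ∧
      ∀ x, f x e = 0 → f x r = 0 → (w : Matrix (Fin 4) (Fin 4) F) *ᵥ x = x := by
    intro e r hee hrr her c hc hc1
    have hre : f r e = 1 := by rw [hf.herm, her, map_one]
    have htz : τ (-c⁻¹) = -(-c⁻¹) := by rw [map_neg, map_inv₀, hc, inv_neg]
    have hK : ∀ {b d}, f b b = 0 → τ d = -d → ft f b (τ d • b) ∈ K := fun hbb hd =>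
      ⟨fun x y => TransvectionUnitary.ut_preserves hf hbb hd x y, ft_mem_sl f _ _⟩
    refine ⟨ft f e (τ c • e) * ft f r (τ (-c⁻¹) • r) * ft f e (τ c • e),
      K.mul_mem (K.mul_mem (hK hee hc) (hK hrr htz)) (hK hee hc), ?_, ?_, fun x hxe hxr => ?_⟩
    · simp only [mul_act, TransvectionUnitary.ut_act hf hee, TransvectionUnitary.ut_act hf hrr,
        hf.add_left, hf.smul_left, hee, her, hre, hrr, mul_zero, zero_smul, add_zero, mul_one,
        zero_add, mul_neg, mul_inv_cancel₀ hc1]
      module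
    · simp only [mul_act, TransvectionUnitary.ut_act hf hee, TransvectionUnitary.ut_act hf hrr,
        hf.add_left, hf.smul_left, hee, her, hre, hrr, mul_zero, zero_smul, add_zero, mul_one,
        zero_add, neg_mul, inv_mul_cancel₀ hc1]
      module
    · simp only [mul_act, TransvectionUnitary.ut_act hf hee, TransvectionUnitary.ut_act hf hrr, hxe, hxr,
        mul_zero, zero_smul, add_zero]
  -- scaling a hyperbolic pair
  have hD : ∀ e ∈ U, ∀ r ∈ W, f e r = 1 → ∃ h ∈ H, ∀ x, (h : Matrix (Fin 4) (Fin 4) F) *ᵥ x =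
      x + ((t - 1) * f x r) • e + ((t⁻¹ - 1) * f x e) • r := by
    intro e he r hr her
    have hee := hUts e he e he
    have hrr := hWts r hr r hr
    have hre : f r e = 1 := by rw [hf.herm, her, map_one]
    obtain ⟨w1, hw1, hw1e, hw1r, hw1f⟩ := hWel hee hrr her hc0' hc0
    obtain ⟨w2, hw2, hw2e, hw2r, hw2f⟩ := hWel hee hrr her (c := -(t * c0))
      (by rw [map_neg, map_mul, htτ, hc0', mul_neg]) (neg_ne_zero.mpr (mul_ne_zero ht0 hc0))
    have hx : ∀ x, ((w2 * w1 : GL (Fin 4) F) : Matrix (Fin 4) (Fin 4) F) *ᵥ x =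
        x + ((t - 1) * f x r) • e + ((t⁻¹ - 1) * f x e) • r := by
      intro x
      set x0 := x - f x r • e - f x e • r with hx0
      have e1 : f x0 e = 0 := by
        simp [x0, TransvectionUnitary.sub_left hf, hf.smul_left, hee, hre]
      have e2 : f x0 r = 0 := by
        simp [x0, TransvectionUnitary.sub_left hf, hf.smul_left, hrr, her]
      rw [show x = x0 + f x r • e + f x e • r by rw [hx0]; module]
      simp only [mul_act, Matrix.mulVec_add, Matrix.mulVec_smul, hw1e, hw1r, hw1f x0 e1 e2, hw2e, hw2r,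
        hw2f x0 e1 e2, hf.add_left, hf.smul_left, e1, e2, hee, hrr, her, hre]
      match_scalars <;> field_simp <;> ring
    refine ⟨w2 * w1, hmkH (K.mul_mem hw2 hw1) fun i => ⟨i, fun v hv => ?_⟩, hx⟩
    rw [hx]
    fin_cases i
    · change v + _ + _ ∈ U
      rw [hUts v hv e he, mul_zero, zero_smul, add_zero]
      exact U.add_mem hv (U.smul_mem _ he)
    · change v + _ + _ ∈ W
      rw [hWts v hv r hr, mul_zero, zero_smul, add_zero]
      exact W.add_mem hv (W.smul_mem _ hr)
  obtain ⟨u0, hu0, hu00⟩ := Submodule.exists_mem_ne_zero_of_ne_bot (p := U) fun e => by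
    rw [e, finrank_bot] at hUk; omega
  obtain ⟨w0, hw0, -, hwu0⟩ := sepW hu0 (bot_le : ⊥ ≤ U) (by simpa using hu00)
  -- an element exchanging the two subspaces
  obtain ⟨J, hJH, hJU, hJW⟩ : ∃ J ∈ H, (∀ v ∈ U, (J : Matrix (Fin 4) (Fin 4) F) *ᵥ v ∈ W) ∧
      (∀ v ∈ W, (J : Matrix (Fin 4) (Fin 4) F) *ᵥ v ∈ U) := by
    have huw : f u0 w0 = 1 := by rw [hf.herm, hwu0, map_one]
    obtain ⟨e, he, r, hr, hew, hur, her, hspU, hspW⟩ := hbase hu0 hw0 (by rw [huw]; exact one_ne_zero)
    obtain ⟨w1, hw1, hw1e, hw1r, hw1f⟩ := hWel (hUts u0 hu0 u0 hu0) (hWts w0 hw0 w0 hw0) huw hc0' hc0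
    obtain ⟨w2, hw2, hw2e, hw2r, hw2f⟩ := hWel (hUts e he e he) (hWts r hr r hr) her hc0' hc0
    have h1 := hw1f e (hUts e he u0 hu0) hew
    have h2 := hw1f r (TransvectionUnitary.skew_zero hf hur) (hWts r hr w0 hw0)
    have h3 := hw2f u0 (hUts u0 hu0 e he) hur
    have h4 := hw2f w0 (TransvectionUnitary.skew_zero hf hew) (hWts w0 hw0 r hr)
    have hJU : ∀ v ∈ U, ((w2 * w1 : GL (Fin 4) F) : Matrix (Fin 4) (Fin 4) F) *ᵥ v ∈ W := fun v hv => by
      obtain ⟨a, b, rfl⟩ := hspU v hv
      simp only [mul_act, Matrix.mulVec_add, Matrix.mulVec_smul, hw1e, h1, h4, hw2e]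
      exact W.add_mem (W.smul_mem _ (W.smul_mem _ hw0)) (W.smul_mem _ (W.smul_mem _ hr))
    have hJW : ∀ v ∈ W, ((w2 * w1 : GL (Fin 4) F) : Matrix (Fin 4) (Fin 4) F) *ᵥ v ∈ U := fun v hv => by
      obtain ⟨a, b, rfl⟩ := hspW v hv
      simp only [mul_act, Matrix.mulVec_add, Matrix.mulVec_smul, hw1r, h2, h3, hw2r]
      exact U.add_mem (U.smul_mem _ (U.smul_mem _ hu0)) (U.smul_mem _ (U.smul_mem _ he))
    refine ⟨w2 * w1, hmkH (K.mul_mem hw2 hw1) fun i => ?_, hJU, hJW⟩
    fin_cases i
    · exact ⟨1, hJU⟩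
    · exact ⟨0, hJW⟩
  refine ⟨lt_of_le_of_ne inf_le_right ?_, fun M hHM hMK => ?_⟩
  · intro he
    have huw : f u0 w0 = 1 := by rw [hf.herm, hwu0, map_one]
    set b := u0 + c0 • w0
    have hbb : f b b = 0 := by
      simp only [b, hf.add_left, TransvectionUnitary.add_right hf, hf.smul_left,
        TransvectionUnitary.smul_right hf, hUts u0 hu0 u0 hu0, hWts w0 hw0 w0 hw0, huw, hwu0, hc0']
      ring
    obtain ⟨u1, hu1, hu10⟩ := Submodule.exists_mem_ne_zero_of_ne_bot
      (p := U ⊓ TransvectionUnitary.perp hf (Submodule.span F {w0})) fun h => by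
        have h1 := TransvectionUnitaryGen.finrank_inf_perp hf U (Submodule.span F {w0})
        have h2 := fr1 w0
        rw [h, finrank_bot] at h1
        omega
    have ht : ft f b (τ c0 • b) ∈ H := he.symm ▸ (⟨fun x y =>
      TransvectionUnitary.ut_preserves hf hbb hc0' x y, ft_mem_sl f b _⟩ : ft f b (τ c0 • b) ∈ K)
    obtain ⟨σ, hσ⟩ := ht.1
    have hσ0 : σ 0 = 0 := by
      by_contra h
      have h' : σ 0 = 1 := by omega
      have hfix : (ft f b (τ c0 • b) : Matrix (Fin 4) (Fin 4) F) *ᵥ u1 = u1 := by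
        rw [TransvectionUnitary.ut_act hf hbb, TransvectionUnitary.add_right hf, hUts u1 hu1.1 u0 hu0,
          TransvectionUnitary.smul_right hf, (TransvectionUnitary.mem_perp_singleton hf).mp hu1.2]
        simp
      have : u1 ∈ D (σ 0) := by
        rw [← hσ 0]
        exact ⟨u1, hu1.1, (Matrix.toLin'_apply _ _).trans hfix⟩
      rw [h'] at this
      exact hu10 (hdis u1 hu1.1 this)
    have h1 : u0 + (c0 * τ c0) • (u0 + c0 • w0) ∈ D (σ 0) := by
      rw [← hσ 0]
      refine ⟨u0, hu0, ?_⟩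
      rw [Matrix.toLin'_apply, TransvectionUnitary.ut_act hf hbb, TransvectionUnitary.add_right hf,
        hUts u0 hu0 u0 hu0, TransvectionUnitary.smul_right hf, huw, zero_add, mul_one]
    rw [hσ0, ← hUdef, smul_add, ← add_assoc, U.add_mem_iff_right (U.add_mem hu0 (U.smul_mem _ hu0)),
      smul_smul] at h1
    have h2 := hdis _ h1 (W.smul_mem _ hw0)
    rw [smul_eq_zero] at h2
    rcases h2 with h2 | h2
    · simp [hc0, hc0'] at h2
    · rw [h2, TransvectionUnitary.zero_right hf] at huw
      exact zero_ne_one huw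
  by_cases hMH : M ≤ Cfsg.Geo.decompositionStabilizer D
  · exact Or.inl (le_antisymm (le_inf hMH hMK) hHM)
  refine Or.inr (le_antisymm hMK ?_)
  obtain ⟨g, hgM, hgn⟩ := Set.not_subset.mp hMH
  have hiso : ∀ {h : GL (Fin 4) F}, h ∈ M → ∀ x y,
      f ((h : Matrix (Fin 4) (Fin 4) F) *ᵥ x) ((h : Matrix (Fin 4) (Fin 4) F) *ᵥ y) = f x y :=
    fun hh x y => (hMK hh).1 x y
  have hconjS2 : ∀ {h : GL (Fin 4) F}, h ∈ M → ∀ {a b}, f a b = 0 → sp2 f a b ∈ M →
      sp2 f ((h : Matrix (Fin 4) (Fin 4) F) *ᵥ a) ((h : Matrix (Fin 4) (Fin 4) F) *ᵥ b) ∈ M := by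
    intro h hh a b hab hM
    have h1 : h * sp2 f a b * h⁻¹ =
        sp2 f ((h : Matrix (Fin 4) (Fin 4) F) *ᵥ a) ((h : Matrix (Fin 4) (Fin 4) F) *ᵥ b) := by
      rw [sp2, sp2, ← Matrix.mulVec_neg, ← TransvectionUnitary.ft_conj hf (hiso hh)
        (TransvectionUnitary.skew_zero hf hab), ← TransvectionUnitary.ft_conj hf (hiso hh)
        (by rw [TransvectionUnitary.neg_right hf, hab, neg_zero])]
      group
    rw [← h1]
    exact M.mul_mem (M.mul_mem hh hM) (M.inv_mem hh)
  set T := Matrix.toLin' (g : Matrix (Fin 4) (Fin 4) F)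
  have hTi : Function.Injective T := fun a b hab =>
    act_injective g (by simpa [T, Matrix.toLin'_apply] using hab)
  have hTf : ∀ a b, f (T a) (T b) = f a b := fun a b => by
    simp only [T, Matrix.toLin'_apply]
    exact hiso hgM a b
  obtain ⟨l, hl⟩ := TransvectionUnitary.exists_trace_eq hf (a := (1 : F)) (map_one τ)
  have hval : ∀ (c δ : F), τ c = -c → δ ≠ 0 → ∃ s, τ s * δ - s * τ δ = c := fun c δ hc hδ =>
    ⟨τ (c * l / δ), by
      rw [TransvectionUnitary.sigma_sigma hf, div_mul_cancel₀ _ hδ, ← map_mul, div_mul_cancel₀ _ hδ,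
        map_mul, hc]
      linear_combination c * hl⟩
  -- a full transvection group in M
  obtain ⟨A, hA0, hAA, hAM⟩ :
      ∃ A, A ≠ 0 ∧ f A A = 0 ∧ ∀ c, τ c = -c → ft f A (τ c • A) ∈ M := by
    by_contra! hcon
    -- two root elements at one centre, one of them with all multiples
    have key1 : ∀ A B B', A ≠ 0 → f A A = 0 → f A B = 0 → f A B' = 0 →
        (∀ s : F, sp2 f A (s • B) ∈ M) → sp2 f A B' ∈ M → f B B' = 0 := by
      intro A B B' hA hAA hAB hAB' hM hM'
      by_contra hne
      obtain ⟨c, hc, hcM⟩ := hcon A hA hAA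
      obtain ⟨s, hs⟩ := hval c (f B B') hc hne
      apply hcM
      have h0 : f A (τ s • B) = 0 := by rw [TransvectionUnitary.smul_right hf, hAB, mul_zero]
      have hv : f (τ s • B) B' - f B' (τ s • B) = c := by
        rw [hf.smul_left, TransvectionUnitary.smul_right hf, TransvectionUnitary.sigma_sigma hf,
          hf.herm B' B, hs]
      have hid : sp2 f A (τ s • B) * sp2 f A B' =
          ft f A (τ c • A) * (sp2 f A B' * sp2 f A (τ s • B)) := gl_ext fun x => by
        simp only [mul_act, sp2_act hf hAA h0, sp2_act hf hAA hAB', TransvectionUnitary.ut_act hf hAA]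
        generalize hC : τ s • B = C at hv h0 ⊢
        simp only [TransvectionUnitary.sub_left hf, hf.add_left, hf.smul_left, hAA, h0, hAB',
          TransvectionUnitary.skew_zero hf h0, TransvectionUnitary.skew_zero hf hAB', ← hv]
        module
      have h := M.mul_mem (M.mul_mem (hM (τ s)) hM') (M.inv_mem (M.mul_mem hM' (hM (τ s))))
      rwa [hid, mul_inv_cancel_right] at h
    have hside : ∀ {X Y : Submodule F (Fin 4 → F)} {a b}, (X = U ∧ Y = W ∨ X = W ∧ Y = U) →
        a ∈ X → b ∈ Y → (a ∈ U ∧ b ∈ W ∨ a ∈ W ∧ b ∈ U) := by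
      rintro X Y a b (⟨rfl, rfl⟩ | ⟨rfl, rfl⟩) ha hb
      · exact Or.inl ⟨ha, hb⟩
      · exact Or.inr ⟨ha, hb⟩
    have hself : ∀ {X Y : Submodule F (Fin 4 → F)}, (X = U ∧ Y = W ∨ X = W ∧ Y = U) →
        Cfsg.Geo.IsTotallySingularFor f X ∧ Cfsg.Geo.IsTotallySingularFor f Y ∧
        (∀ x, ∃ u ∈ X, ∃ w ∈ Y, x = u + w) ∧
        (∀ {z Z}, z ∈ X → Z ≤ X → z ∉ Z → ∃ c ∈ Y, (∀ x ∈ Z, f c x = 0) ∧ f c z = 1) := by
      rintro X Y (⟨rfl, rfl⟩ | ⟨rfl, rfl⟩)
      · exact ⟨hUts, hWts, fun x => ⟨_, hpUmem x, _, hpWmem x, (hpadd x).symm⟩, sepW⟩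
      · exact ⟨hWts, hUts, fun x => ⟨_, hpWmem x, _, hpUmem x, by rw [add_comm]; exact (hpadd x).symm⟩, sepU⟩
    -- at a pure centre the other vector is pure
    have memX : ∀ {X Y : Submodule F (Fin 4 → F)}, (X = U ∧ Y = W ∨ X = W ∧ Y = U) → ∀ A B,
        A ∈ X → A ≠ 0 → f A B = 0 → (∀ s : F, sp2 f A (s • B) ∈ M) → B ∈ Y := by
      intro X Y hXY A B hA hA0 hAB hM
      obtain ⟨hXts, hYts, hdec, sepX⟩ := hself hXY
      obtain ⟨u, hu, w, hw, rfl⟩ := hdec B
      have hAA : f A A = 0 := hXts A hA A hA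
      have hu' : u ∈ Submodule.span F {A} := by
        by_contra hnot
        obtain ⟨d, hd, hdA, hdu⟩ := sepX hu (spanLe1 hA) hnot
        have hAd : f A d = 0 :=
          TransvectionUnitary.skew_zero hf (hdA A (Submodule.mem_span_singleton_self A))
        have h := key1 A (u + w) d hA0 hAA hAB hAd hM (hHM (hS2H (hside hXY hA hd) hAd))
        rw [hf.add_left, hYts w hw d hd, add_zero] at h
        exact skn hdu h
      obtain ⟨μ, rfl⟩ := Submodule.mem_span_singleton.mp hu'
      rcases eq_or_ne μ 0 with rfl | hμ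
      · simpa using hw
      exfalso
      obtain ⟨c, hc, hcM⟩ := hcon A hA0 hAA
      obtain ⟨s, hs⟩ := hval c μ hc hμ
      apply hcM
      have hAw0 : f A w = 0 := by
        rwa [TransvectionUnitary.add_right hf, TransvectionUnitary.smul_right hf, hAA, mul_zero,
          zero_add] at hAB
      have hAw : f A (τ s • w) = 0 := by rw [TransvectionUnitary.smul_right hf, hAw0, mul_zero]
      have hAB' : f A (τ s • (μ • A + w)) = 0 := by
        rw [TransvectionUnitary.smul_right hf, hAB, mul_zero]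
      have hid : sp2 f A (τ s • (μ • A + w)) = ft f A (τ c • A) * sp2 f A (τ s • w) :=
        gl_ext fun x => by
          simp only [mul_act, sp2_act hf hAA hAB', sp2_act hf hAA hAw, TransvectionUnitary.ut_act hf hAA,
            TransvectionUnitary.sub_left hf, hf.add_left, hf.smul_left, hAA,
            TransvectionUnitary.skew_zero hf hAw0, ← hs, TransvectionUnitary.smul_right hf,
            TransvectionUnitary.add_right hf, map_mul, TransvectionUnitary.sigma_sigma hf]
          module
      have h := M.mul_mem (hM (τ s)) (M.inv_mem (hHM (hS2H (hside hXY hA (Y.smul_mem (τ s) hw)) hAw)))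
      rwa [hid, mul_inv_cancel_right] at h
    have hgS2 : ∀ {a b}, f a b = 0 → a ∈ U ∧ b ∈ W ∨ a ∈ W ∧ b ∈ U → sp2 f (T a) (T b) ∈ M := by
      intro a b hab h
      simp only [T, Matrix.toLin'_apply]
      exact hconjS2 hgM hab (hHM (hS2H h hab))
    have hgS2s : ∀ {a b}, f a b = 0 → a ∈ U ∧ b ∈ W ∨ a ∈ W ∧ b ∈ U →
        ∀ s : F, sp2 f (T a) (s • T b) ∈ M := by
      intro a b hab h s
      rw [← map_smul]
      refine hgS2 (by rw [TransvectionUnitary.smul_right hf, hab, mul_zero]) ?_
      rcases h with h | h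
      · exact Or.inl ⟨h.1, W.smul_mem s h.2⟩
      · exact Or.inr ⟨h.1, U.smul_mem s h.2⟩
    have hne : ∀ {x}, x ≠ 0 → T x ≠ 0 := fun hx e => hx (hTi (by rw [e, map_zero]))
    have hsym : ∀ {A B}, f A A = 0 → f B B = 0 → f A B = 0 → (∀ s : F, sp2 f A (s • B) ∈ M) →
        ∀ s : F, sp2 f B (s • A) ∈ M := by
      intro A B hAA hBB hAB hall s
      have h := hall (-τ s)
      have e1 : f A ((-τ s) • B) = 0 := by rw [TransvectionUnitary.smul_right hf, hAB, mul_zero]
      have e2 : f B (s • A) = 0 := by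
        rw [TransvectionUnitary.smul_right hf, TransvectionUnitary.skew_zero hf hAB, mul_zero]
      rw [show sp2 f B (s • A) = sp2 f A ((-τ s) • B) from gl_ext fun x => by
        rw [sp2_act hf hBB e2, sp2_act hf hAA e1, TransvectionUnitary.smul_right hf,
          TransvectionUnitary.smul_right hf, map_neg, TransvectionUnitary.sigma_sigma hf]
        module]
      exact h
    -- a partner in the line of the centre gives a full transvection group
    have noA : ∀ {A B B'}, A ≠ 0 → f A A = 0 → f A B = 0 → f A B' = 0 → f B B' = 0 → ∀ {κ : F}, κ ≠ 0 →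
        B + B' = κ • A → (∀ s : F, sp2 f A (s • B) ∈ M) → (∀ s : F, sp2 f A (s • B') ∈ M) → False := by
      intro A B B' hA0 hAA hAB hAB' hBB' κ hκ hsum hB hB'
      obtain ⟨c, hc, hcM⟩ := hcon A hA0 hAA
      apply hcM
      set s := c * l / κ
      have e1 : f A (s • B) = 0 := by rw [TransvectionUnitary.smul_right hf, hAB, mul_zero]
      have e2 : f A (s • B') = 0 := by rw [TransvectionUnitary.smul_right hf, hAB', mul_zero]
      have e3 : f (s • B') (s • B) = 0 := by
        rw [hf.smul_left, TransvectionUnitary.smul_right hf, TransvectionUnitary.skew_zero hf hBB', mul_zero,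
          mul_zero]
      have hv : s * κ - τ (s * κ) = c := by
        rw [show s * κ = c * l from div_mul_cancel₀ _ hκ, map_mul, hc]
        linear_combination c * hl
      have hB'' : B' = κ • A - B := by rw [← hsum]; abel
      have hBBz : f B B = 0 := by
        have h := hBB'
        rw [hB'', TransvectionUnitary.sub_right hf, TransvectionUnitary.smul_right hf,
          TransvectionUnitary.skew_zero hf hAB, mul_zero, zero_sub, neg_eq_zero] at h
        exact h
      have hid : sp2 f A (s • B) * sp2 f A (s • B') = ft f A (τ c • A) := gl_ext fun x => by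
        simp only [mul_act, sp2_act hf hAA e1, sp2_act hf hAA e2, TransvectionUnitary.ut_act hf hAA,
          hf.add_left, TransvectionUnitary.sub_left hf, hf.smul_left, e3, hAA, e1,
          TransvectionUnitary.skew_zero hf e2]
        rw [hB'']
        simp only [TransvectionUnitary.sub_right hf, TransvectionUnitary.smul_right hf, hf.smul_left,
          TransvectionUnitary.sub_left hf, hAA, hAB, hBBz, TransvectionUnitary.skew_zero hf hAB, ← hv, map_mul]
        module
      have h := M.mul_mem (hB s) (hB' s)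
      rwa [hid] at h
    have hmove : ∀ {h : GL (Fin 4) F}, h ∈ H → ∀ {A B}, f A B = 0 →
        (h : Matrix (Fin 4) (Fin 4) F) *ᵥ A = A → (∀ s : F, sp2 f A (s • B) ∈ M) →
        ∀ s : F, sp2 f A (s • ((h : Matrix (Fin 4) (Fin 4) F) *ᵥ B)) ∈ M := by
      intro h hh A B hAB hfix hall s
      have h1 := hconjS2 (hHM hh) (by rw [TransvectionUnitary.smul_right hf, hAB, mul_zero]) (hall s)
      rwa [hfix, Matrix.mulVec_smul] at h1
    -- a mixed member of an invariant pair has orthogonal halves
    have hskew : ∀ {A B}, f A A = 0 → f B B = 0 → f A B = 0 → pU A ≠ 0 → pU B ≠ 0 → pW B ≠ 0 →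
        (∀ s : F, sp2 f A (s • B) ∈ M) → f (pU A) (pW A) = 0 := by
      intro A B hAA hBB hAB huA huB hwB hall
      by_contra hT
      set u1 := pU A with hu1
      set w1 := pW A with hw1
      have hu1m : u1 ∈ U := hpUmem A
      have hw1m : w1 ∈ W := hpWmem A
      have eA : u1 + w1 = A := hpadd A
      have hA0 : A ≠ 0 := fun h => huA (by rw [hu1, h, map_zero])
      obtain ⟨e, he, r, hr, hew, hur, her, hspU, hspW⟩ := hbase hu1m hw1m hT
      obtain ⟨a, b, hab⟩ := hspU (pU B) (hpUmem B)
      obtain ⟨a', d, hcd⟩ := hspW (pW B) (hpWmem B)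
      have hre : f r e = 1 := by rw [hf.herm, her, map_one]
      have hwe : f w1 e = 0 := TransvectionUnitary.skew_zero hf hew
      have hru : f r u1 = 0 := TransvectionUnitary.skew_zero hf hur
      have hee := hUts e he e he
      have hrr := hWts r hr r hr
      have hAe : f A e = 0 := by rw [← eA, hf.add_left, hUts u1 hu1m e he, hwe, add_zero]
      have hAr : f A r = 0 := by rw [← eA, hf.add_left, hWts w1 hw1m r hr, hur, add_zero]
      have hTT : τ (f u1 w1) = - f u1 w1 := by
        have h := hAA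
        rw [← eA, hf.add_left, TransvectionUnitary.add_right hf, TransvectionUnitary.add_right hf,
          hUts u1 hu1m u1 hu1m, hWts w1 hw1m w1 hw1m, hf.herm w1 u1] at h
        linear_combination h
      have haa : a' = a := by
        have h := hAB
        rw [← eA, ← hpadd B] at h
        change f (u1 + w1) (pU B + pW B) = 0 at h
        rw [← hab, ← hcd] at h
        simp only [hf.add_left, TransvectionUnitary.add_right hf, TransvectionUnitary.smul_right hf,
          hUts u1 hu1m u1 hu1m, hUts u1 hu1m e he, hWts w1 hw1m w1 hw1m, hWts w1 hw1m r hr, hur, hwe,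
          hf.herm w1 u1, hTT] at h
        apply τ.injective
        exact mul_right_cancel₀ hT (by linear_combination h)
      subst haa
      have eB : B = a' • A + b • e + d • r := by
        rw [← hpadd B]
        change pU B + pW B = _
        rw [← hab, ← hcd, ← eA]; module
      obtain ⟨h, hh, hhx⟩ := hD e he r hr her
      have hhA : (h : Matrix (Fin 4) (Fin 4) F) *ᵥ A = A := by rw [hhx, hAe, hAr]; simp
      set B' := a' • A + (t * b) • e + (t⁻¹ * d) • r with hB'
      have hhB : (h : Matrix (Fin 4) (Fin 4) F) *ᵥ B = B' := by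
        rw [hhx, eB, hB']
        simp only [hf.add_left, hf.smul_left, hAe, hAr, hee, hrr, her, hre]
        module
      have hB'M : ∀ s : F, sp2 f A (s • B') ∈ M := fun s => hhB ▸ hmove hh hAB hhA hall s
      have hAB' : f A B' = 0 := by
        simp [B', TransvectionUnitary.add_right hf, TransvectionUnitary.smul_right hf, hAA, hAe, hAr]
      have hBB0 : f B B' = 0 := key1 A B B' hA0 hAA hAB hAB' hall (by simpa using hB'M 1)
      have eBB := hBB
      rw [eB] at eBB
      have eBB' := hBB0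
      rw [eB, hB'] at eBB'
      simp only [hf.add_left, TransvectionUnitary.add_right hf, hf.smul_left, TransvectionUnitary.smul_right hf,
        hAA, hAe, hAr, TransvectionUnitary.skew_zero hf hAe, TransvectionUnitary.skew_zero hf hAr, hee, hrr,
        her, hre, map_mul, map_inv₀, htτ] at eBB eBB'
      have hbd : b * τ d * (t⁻¹ - t) = 0 := by linear_combination eBB' - t * eBB
      have hA0' : ∀ s : F, f A (s • B) = 0 := fun s => by
        rw [TransvectionUnitary.smul_right hf, hAB, mul_zero]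
      have hA1' : ∀ s : F, f A (s • B') = 0 := fun s => by
        rw [TransvectionUnitary.smul_right hf, hAB', mul_zero]
      have hBs : ∀ r s : F, f (r • B) (s • B') = 0 := fun r s => by
        rw [hf.smul_left, TransvectionUnitary.smul_right hf, hBB0, mul_zero, mul_zero]
      have hallr : ∀ r s : F, sp2 f A (s • r • B) ∈ M := fun r s => by rw [smul_smul]; exact hall _
      have hallr' : ∀ r s : F, sp2 f A (s • r • B') ∈ M := fun r s => by rw [smul_smul]; exact hB'M _
      have ha0 : b = 0 ∨ d = 0 → a' ≠ 0 := by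
        rintro (rfl | rfl) rfl
        · exact huB (by rw [← hab]; simp)
        · exact hwB (by rw [← hcd]; simp)
      rcases mul_eq_zero.mp hbd with h' | h'
      swap
      · exact hti h'
      rcases mul_eq_zero.mp h' with hb | hd
      · refine noA hA0 hAA (hA0' (-1)) (hA1' t) (hBs _ _) (κ := (t - 1) * a')
          (mul_ne_zero ht1 (ha0 (Or.inl hb))) ?_ (hallr _) (hallr' _)
        rw [eB, hB', hb]
        match_scalars <;> field_simp <;> ring
      · have hd : d = 0 := (map_eq_zero τ).mp hd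
        refine noA hA0 hAA (hA0' (-t)) (hA1' 1) (hBs _ _) (κ := (1 - t) * a')
          (mul_ne_zero (fun h => ht1 (by linear_combination -h)) (ha0 (Or.inr hd))) ?_ (hallr _) (hallr' _)
        rw [eB, hB', hd]
        module
    have hline : ∀ {X Y : Submodule F (Fin 4 → F)}, (X = U ∧ Y = W ∨ X = W ∧ Y = U) → ∀ {p x y}, p ∈ X → p ≠ 0 →
        y ∈ Y → y ≠ 0 → f x p = 0 → x ∈ Y → f y p = 0 → x ∈ Submodule.span F {y} := by
      intro X Y hXY p x y hp hp0 hy hy0 hxp hx hyp
      by_contra hn
      obtain ⟨-, -, -, sepX⟩ := hself hXY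
      obtain ⟨c, hc, -, hcp⟩ := sepX hp (bot_le : ⊥ ≤ X) (by simpa using hp0)
      have hY : Module.finrank F Y = 2 := by rcases hXY with ⟨rfl, rfl⟩ | ⟨rfl, rfl⟩ <;> assumption
      obtain ⟨a, b, rfl⟩ := hplane hY hy hx hy0 hn c hc
      rw [hf.add_left, hf.smul_left, hf.smul_left, hxp, hyp, mul_zero, mul_zero, add_zero] at hcp
      exact zero_ne_one hcp
    -- invariant pairs are pure
    have pure : ∀ {A B}, A ≠ 0 → B ≠ 0 → f A A = 0 → f B B = 0 → f A B = 0 →
        (∀ s : F, sp2 f A (s • B) ∈ M) → A ∈ U ∧ B ∈ W ∨ A ∈ W ∧ B ∈ U := by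
      intro A B hA0 hB0 hAA hBB hAB hall
      have hin : ∀ x, pU x = 0 → x ∈ W := fun x h => by
        have := hpadd x; rw [h, zero_add] at this; exact this ▸ hpWmem x
      have hin' : ∀ x, pW x = 0 → x ∈ U := fun x h => by
        have := hpadd x; rw [h, add_zero] at this; exact this ▸ hpUmem x
      have hBA := TransvectionUnitary.skew_zero hf hAB
      have hall' := hsym hAA hBB hAB hall
      by_cases huA : pU A = 0
      · exact Or.inr ⟨hin A huA, memX (Or.inr ⟨rfl, rfl⟩) A B (hin A huA) hA0 hAB hall⟩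
      by_cases hwA : pW A = 0
      · exact Or.inl ⟨hin' A hwA, memX (Or.inl ⟨rfl, rfl⟩) A B (hin' A hwA) hA0 hAB hall⟩
      by_cases huB : pU B = 0
      · exact Or.inl ⟨memX (Or.inr ⟨rfl, rfl⟩) B A (hin B huB) hB0 hBA hall', hin B huB⟩
      by_cases hwB : pW B = 0
      · exact Or.inr ⟨memX (Or.inl ⟨rfl, rfl⟩) B A (hin' B hwB) hB0 hBA hall', hin' B hwB⟩
      exfalso
      have hT := hskew hAA hBB hAB huA huB hwB hall
      set u1 := pU A with hu1
      set w1 := pW A with hw1
      have hu1m : u1 ∈ U := hpUmem A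
      have hw1m : w1 ∈ W := hpWmem A
      have eA : u1 + w1 = A := hpadd A
      have hwu : f w1 u1 = 0 := TransvectionUnitary.skew_zero hf hT
      have hAu : f A u1 = 0 := by rw [← eA, hf.add_left, hUts u1 hu1m u1 hu1m, hwu, add_zero]
      have hAw : f A w1 = 0 := by rw [← eA, hf.add_left, hWts w1 hw1m w1 hw1m, hT, add_zero]
      -- a short root element moves the partner
      obtain ⟨hg1, hg2⟩ : f B u1 = 0 ∧ f B w1 = 0 := by
        have hsum : f B u1 + f B w1 = 0 := by rw [← TransvectionUnitary.add_right hf, eA, hBA]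
        obtain ⟨s, hs⟩ := TransvectionUnitary.exists_not_fixed hf.ne_refl
        have e1 : f u1 (s • w1) = 0 := by rw [TransvectionUnitary.smul_right hf, hT, mul_zero]
        have hmem := hS2H (Or.inl ⟨hu1m, W.smul_mem s hw1m⟩) e1
        have hhA : (sp2 f u1 (s • w1) : Matrix (Fin 4) (Fin 4) F) *ᵥ A = A := by
          rw [sp2_act hf (hUts u1 hu1m u1 hu1m) e1, TransvectionUnitary.smul_right hf, hAu, hAw]; simp
        have hM1 : sp2 f A ((sp2 f u1 (s • w1) : Matrix (Fin 4) (Fin 4) F) *ᵥ B) ∈ M := by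
          simpa using hmove hmem hAB hhA hall 1
        have e2 : f A ((sp2 f u1 (s • w1) : Matrix (Fin 4) (Fin 4) F) *ᵥ B) = 0 := by
          simp [sp2_act hf (hUts u1 hu1m u1 hu1m) e1, TransvectionUnitary.add_right hf,
            TransvectionUnitary.sub_right hf, TransvectionUnitary.smul_right hf, hAB, hAu, hAw]
        have h := key1 A B _ hA0 hAA hAB e2 hall hM1
        simp only [sp2_act hf (hUts u1 hu1m u1 hu1m) e1, TransvectionUnitary.sub_right hf,
          TransvectionUnitary.add_right hf, hBB, TransvectionUnitary.smul_right hf,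
          eq_neg_of_add_eq_zero_right hsum, map_mul, map_neg, TransvectionUnitary.sigma_sigma hf] at h
        have h0 : f B u1 * τ (f B u1) * (s - τ s) = 0 := by linear_combination h
        rcases mul_eq_zero.mp h0 with h' | h'
        · have hg : f B u1 = 0 := by simpa using h'
          exact ⟨hg, by rw [eq_neg_of_add_eq_zero_right hsum, hg, neg_zero]⟩
        · exact absurd (sub_eq_zero.mp h').symm hs
      rw [fU B hu1m] at hg1
      rw [fW B hw1m] at hg2
      obtain ⟨p, hp⟩ := Submodule.mem_span_singleton.mp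
        (hline (Or.inr ⟨rfl, rfl⟩) hw1m hwA hu1m huA hg2 (hpUmem B) hT)
      obtain ⟨m, hm⟩ := Submodule.mem_span_singleton.mp
        (hline (Or.inl ⟨rfl, rfl⟩) hu1m huA hw1m hwA hg1 (hpWmem B) hwu)
      have hp0 : p ≠ 0 := fun h => huB (by rw [← hp, h, zero_smul])
      have eB : B = p • u1 + m • w1 := by rw [hp, hm]; exact (hpadd B).symm
      obtain ⟨c, hc, hcM⟩ := hcon u1 huA (hUts u1 hu1m u1 hu1m)
      apply hcM
      set cc := c / (t ^ 2 - 1)
      have hcc : τ cc = -cc := by
        simp only [cc, map_div₀, map_sub, map_pow, map_one, htτ, hc, neg_div]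
      set s := cc * l / p
      have hsp : s * p = cc * l := div_mul_cancel₀ _ hp0
      have hcp : s * p - τ (s * p) = cc := by rw [hsp, map_mul, hcc]; linear_combination cc * hl
      set cm := s * m - τ (s * m)
      set κ := s * m - τ (s * p)
      have hκ : f u1 (κ • w1) = 0 := by rw [TransvectionUnitary.smul_right hf, hT, mul_zero]
      have huu := hUts u1 hu1m u1 hu1m
      have hww := hWts w1 hw1m w1 hw1m
      have hAsB : f A (s • B) = 0 := by rw [TransvectionUnitary.smul_right hf, hAB, mul_zero]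
      have hid : sp2 f A (s • B) = ft f u1 (τ cc • u1) * ft f w1 (τ cm • w1) * sp2 f u1 (κ • w1) :=
        gl_ext fun x => by
          simp only [mul_act, sp2_act hf hAA hAsB, sp2_act hf huu hκ, TransvectionUnitary.ut_act hf huu,
            TransvectionUnitary.ut_act hf hww]
          rw [← hcp, eB, ← eA]
          simp only [cm, κ, hf.add_left, TransvectionUnitary.sub_left hf, hf.smul_left,
            TransvectionUnitary.add_right hf, TransvectionUnitary.smul_right hf, huu, hww, hT, hwu,
            map_mul, map_sub, TransvectionUnitary.sigma_sigma hf]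
          module
      have hE : ft f u1 (τ cc • u1) * ft f w1 (τ cm • w1) ∈ M := by
        have h := M.mul_mem (hall s) (M.inv_mem (hHM (hS2H (Or.inl ⟨hu1m, W.smul_mem κ hw1m⟩) hκ)))
        rwa [hid, mul_inv_cancel_right] at h
      obtain ⟨r, hr, -, hru⟩ := sepW hu1m (bot_le : ⊥ ≤ U) (by simpa using huA)
      have hur : f u1 r = 1 := by rw [hf.herm, hru, map_one]
      obtain ⟨h, hh, hhx⟩ := hD u1 hu1m r hr hur
      have hhu : (h : Matrix (Fin 4) (Fin 4) F) *ᵥ u1 = t • u1 := by rw [hhx, hur, huu]; module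
      have hhw : (h : Matrix (Fin 4) (Fin 4) F) *ᵥ w1 = w1 := by rw [hhx, hwu, hWts w1 hw1m r hr]; simp
      have hEt := M.mul_mem (M.mul_mem (hHM hh) hE) (M.inv_mem (hHM hh))
      have e1 : f u1 (τ cc • u1) = 0 := by rw [TransvectionUnitary.smul_right hf, huu, mul_zero]
      have e2 : f w1 (τ cm • w1) = 0 := by rw [TransvectionUnitary.smul_right hf, hww, mul_zero]
      have e3 : h * (ft f u1 (τ cc • u1) * ft f w1 (τ cm • w1)) * h⁻¹ =
          ft f (t • u1) (τ cc • t • u1) * ft f w1 (τ cm • w1) := by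
        have c1 := TransvectionUnitary.ft_conj hf (hiso (hHM hh)) e1
        have c2 := TransvectionUnitary.ft_conj hf (hiso (hHM hh)) e2
        rw [Matrix.mulVec_smul, hhu] at c1
        rw [Matrix.mulVec_smul, hhw] at c2
        exact (conj_mul).symm.trans (congrArg₂ (· * ·) c1 c2)
      rw [e3] at hEt
      have htu : f (t • u1) (t • u1) = 0 := by
        rw [hf.smul_left, TransvectionUnitary.smul_right hf, huu, mul_zero, mul_zero]
      have e4 : ft f (t • u1) (τ cc • t • u1) * ft f w1 (τ cm • w1) =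
          ft f u1 (τ c • u1) * (ft f u1 (τ cc • u1) * ft f w1 (τ cm • w1)) := gl_ext fun x => by
        have hc' : c = cc * (t ^ 2 - 1) := (div_mul_cancel₀ c htn).symm
        simp only [mul_act, TransvectionUnitary.ut_act hf htu, TransvectionUnitary.ut_act hf huu,
          TransvectionUnitary.ut_act hf hww, hf.add_left, hf.smul_left, TransvectionUnitary.smul_right hf,
          huu, hwu, htτ, hc']
        module
      rw [e4] at hEt
      exact (M.mul_mem_cancel_right hE).mp hEt
    have himg : ∀ a ∈ U, ∀ b ∈ W, a ≠ 0 → b ≠ 0 → f a b = 0 → T a ∈ U ∧ T b ∈ W ∨ T a ∈ W ∧ T b ∈ U :=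
      fun a ha b hb ha0 hb0 hab => pure (hne ha0) (hne hb0) ((hTf a a).trans (hUts a ha a ha))
        ((hTf b b).trans (hWts b hb b hb)) ((hTf a b).trans hab) (hgS2s hab (Or.inl ⟨ha, hb⟩))
    have hUside : ∀ a ∈ U, T a ∈ U ∨ T a ∈ W := fun a ha => by
      rcases eq_or_ne a 0 with rfl | ha0
      · exact Or.inl (by simp)
      obtain ⟨b, hb, hb0, hba⟩ := horth hWk a
      exact (himg a ha b hb ha0 hb0 (TransvectionUnitary.skew_zero hf hba)).imp (·.1) (·.1)
    apply hgn
    refine (hmkH (hMK hgM) fun i => ?_).1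
    rcases TransvectionSymp.le_or_le_of_forall (X := U) (A := U.comap T) (B := W.comap T) hUside with h | h
    · have hW' : ∀ b ∈ W, T b ∈ W := fun b hb => by
        rcases eq_or_ne b 0 with rfl | hb0
        · simp
        obtain ⟨a, ha, ha0, hab⟩ := horth hUk b
        rcases himg a ha b hb ha0 hb0 hab with h' | h'
        · exact h'.2
        · exact absurd (hTi ((hdis _ (h ha) h'.1).trans (map_zero T).symm)) ha0
      fin_cases i
      · exact ⟨0, fun v hv => by simpa [T] using h hv⟩
      · exact ⟨1, fun v hv => by simpa [T] using hW' v hv⟩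
    · have hW' : ∀ b ∈ W, T b ∈ U := fun b hb => by
        rcases eq_or_ne b 0 with rfl | hb0
        · simp
        obtain ⟨a, ha, ha0, hab⟩ := horth hUk b
        rcases himg a ha b hb ha0 hb0 hab with h' | h'
        · exact absurd (hTi ((hdis _ h'.1 (h ha)).trans (map_zero T).symm)) ha0
        · exact h'.2
      fin_cases i
      · exact ⟨1, fun v hv => by simpa [T] using h hv⟩
      · exact ⟨0, fun v hv => by simpa [T] using hW' v hv⟩
  -- growing the set of centres
  let S : (Fin 4 → F) → Prop := fun v => f v v = 0 ∧ ∀ c, τ c = -c → ft f v (τ c • v) ∈ M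
  have hSconj : ∀ {h : GL (Fin 4) F}, h ∈ M → ∀ {v}, S v →
      S ((h : Matrix (Fin 4) (Fin 4) F) *ᵥ v) := by
    intro h hh v hv
    refine ⟨by rw [hiso hh, hv.1], fun c hc => ?_⟩
    have hvc : f v (τ c • v) = 0 := by rw [TransvectionUnitary.smul_right hf, hv.1, mul_zero]
    have := TransvectionUnitary.ft_conj hf (hiso hh) hvc
    rw [Matrix.mulVec_smul] at this
    rw [← this]
    exact M.mul_mem (M.mul_mem hh (hv.2 c hc)) (M.inv_mem hh)
  have hSsmul : ∀ (s : F) {v}, S v → S (s • v) := by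
    intro s v hv
    have hz : f (s • v) (s • v) = 0 := by
      rw [hf.smul_left, TransvectionUnitary.smul_right hf, hv.1, mul_zero, mul_zero]
    refine ⟨hz, fun c hc => ?_⟩
    have hc' : τ (c * τ s * s) = -(c * τ s * s) := by
      rw [map_mul, map_mul, hc, TransvectionUnitary.sigma_sigma hf]; ring
    have : ft f (s • v) (τ c • s • v) = ft f v (τ (c * τ s * s) • v) := gl_ext fun x => by
      rw [TransvectionUnitary.ut_act hf hz, TransvectionUnitary.ut_act hf hv.1,
        TransvectionUnitary.smul_right hf, smul_smul]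
      congr 2
      ring
    rw [this]
    exact hv.2 _ hc'
  have hShift : ∀ {v w}, S w → S v → ∀ c, τ c = -c → S (v + (c * f v w) • w) := by
    intro v w hw hv c hc
    have := hSconj (hw.2 c hc) hv
    rwa [TransvectionUnitary.ut_act hf hw.1] at this
  have hS2act : ∀ {a b v}, (a ∈ U ∧ b ∈ W ∨ a ∈ W ∧ b ∈ U) → f a b = 0 → S v →
      S (v + f v a • b - f v b • a) := by
    intro a b v hm hab hv
    have haa : f a a = 0 := by
      rcases hm with h | h
      · exact hUts a h.1 a h.1
      · exact hWts a h.1 a h.1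
    have := hSconj (hHM (hS2H hm hab)) hv
    rwa [sp2_act hf haa hab] at this
  have hUall : ∀ {a}, a ∈ U → a ≠ 0 → S a → ∀ v ∈ U, S v := by
    intro a ha ha0 haS v hv
    by_cases hva : v ∈ Submodule.span F {a}
    · obtain ⟨s, rfl⟩ := Submodule.mem_span_singleton.mp hva
      exact hSsmul s haS
    have hav := notMem_span_sub ha0 hva
    obtain ⟨d, hd, hdz, hda⟩ := sepW ha (spanLe1 (U.sub_mem hv ha)) hav
    have hcd : f (v - a) ((-1 : F) • d) = 0 := by
      rw [TransvectionUnitary.smul_right hf,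
        TransvectionUnitary.skew_zero hf (hdz _ (Submodule.mem_span_singleton_self _)), mul_zero]
    have := hS2act (Or.inl ⟨U.sub_mem hv ha, W.smul_mem (-1) hd⟩) hcd haS
    rw [hUts a ha _ (U.sub_mem hv ha), zero_smul, add_zero, TransvectionUnitary.smul_right hf,
      show f a d = 1 by rw [hf.herm, hda, map_one], mul_one, map_neg, map_one, neg_smul, one_smul,
      sub_neg_eq_add, add_sub_cancel] at this
    exact this
  have hSJ : ∀ {v}, S v → S ((J : Matrix (Fin 4) (Fin 4) F) *ᵥ v) := fun hv => hSconj (hHM hJH) hv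
  have hAdd : ∀ {v w}, S v → S w → f v w ≠ 0 → τ (f v w) = - f v w → S (v + w) := by
    intro v w hv hw h0 htz
    have := hShift hw hv (f v w)⁻¹ (by rw [map_inv₀, htz, inv_neg])
    rwa [inv_mul_cancel₀ h0, one_smul] at this
  obtain ⟨a, ha, ha0, haS⟩ : ∃ a ∈ U, a ≠ 0 ∧ S a := by
    have hAS : S A := ⟨hAA, hAM⟩
    by_cases hU0 : pU A = 0
    · have hAW : A ∈ W := by have := hpadd A; rw [hU0, zero_add] at this; exact this ▸ hpWmem A
      exact ⟨_, hJW A hAW, act_ne_zero J hA0, hSJ hAS⟩
    by_cases hW0 : pW A = 0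
    · have hAU : A ∈ U := by have := hpadd A; rw [hW0, add_zero] at this; exact this ▸ hpUmem A
      exact ⟨A, hAU, hA0, hAS⟩
    -- a mixed centre with non-orthogonal halves reaches U
    have hnon : ∀ u ∈ U, ∀ w ∈ W, f u w ≠ 0 → S (u + w) → ∃ a ∈ U, a ≠ 0 ∧ S a := by
      intro u hu w hw huw hS0
      have huu := hUts u hu u hu
      have hww := hWts w hw w hw
      have hTT : τ (f u w) = - f u w := by
        have h := hS0.1
        rw [hf.add_left, TransvectionUnitary.add_right hf, TransvectionUnitary.add_right hf, huu, hww,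
          hf.herm w u] at h
        linear_combination h
      have hwu : f w u = - f u w := by rw [hf.herm, hTT]
      set κ := τ (f u w)⁻¹
      have hur : f u (κ • w) = 1 := by
        rw [TransvectionUnitary.smul_right hf, TransvectionUnitary.sigma_sigma hf, inv_mul_cancel₀ huw]
      obtain ⟨h, hh, hhx⟩ := hD u hu _ (W.smul_mem κ hw) hur
      have hκ : τ (f u w) * κ = 1 := by
        simp only [κ, ← map_mul, mul_inv_cancel₀ huw, map_one]
      have hh2 : (h : Matrix (Fin 4) (Fin 4) F) *ᵥ (u + w) = t • u + t⁻¹ • w := by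
        rw [hhx, hf.add_left (u) (w), hf.add_left (u) (w), hur, huu, hWts w hw _ (W.smul_mem κ hw), hwu,
          ← hTT, smul_smul, zero_add, mul_assoc, hκ]
        module
      have hS1 : S (t • u + t⁻¹ • w) := hh2 ▸ hSconj (hHM hh) hS0
      have hu0 : u ≠ 0 := fun e => huw (by rw [e, TransvectionUnitary.zero_left hf])
      refine ⟨(t - t⁻¹) • u, U.smul_mem _ hu, smul_ne_zero (fun e => hti (by linear_combination -e)) hu0, ?_⟩
      have hv : f ((-t⁻¹) • (u + w)) (t • u + t⁻¹ • w) = -t⁻¹ * (t⁻¹ - t) * f u w := by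
        simp only [hf.add_left, hf.smul_left, TransvectionUnitary.add_right hf,
          TransvectionUnitary.smul_right hf, huu, hww, hwu, map_inv₀, htτ]
        ring
      have h3 := hAdd (hSsmul (-t⁻¹) hS0) hS1
        (by rw [hv]; exact mul_ne_zero (mul_ne_zero (neg_ne_zero.mpr (inv_ne_zero ht0)) hti) huw)
        (by rw [hv, map_mul, map_mul, map_neg, map_sub, map_inv₀, htτ, hTT]; ring)
      rwa [show (-t⁻¹) • (u + w) + (t • u + t⁻¹ • w) = (t - t⁻¹) • u by module] at h3
    set u := pU A with hudef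
    set w := pW A with hwdef
    have hu : u ∈ U := hpUmem A
    have hw : w ∈ W := hpWmem A
    have eA : u + w = A := hpadd A
    by_cases huw : f u w = 0
    swap
    · exact hnon u hu w hw huw (eA ▸ hAS)
    -- a scaled copy of the centre
    obtain ⟨e, he, -, hew⟩ := sepU hw (bot_le : ⊥ ≤ W) (by simpa using hW0)
    obtain ⟨r, hr, -, hru⟩ := sepW hu (bot_le : ⊥ ≤ U) (by simpa using hU0)
    have hur : f u r = 1 := by rw [hf.herm, hru, map_one]
    set p := (-c0) • e + (1 + c0 * f e r) • u with hpdef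
    have hp : p ∈ U := U.add_mem (U.smul_mem _ he) (U.smul_mem _ hu)
    have hpr : f p r = 1 := by
      rw [hpdef, hf.add_left, hf.smul_left, hf.smul_left, hur]; ring
    have hpw : f p w = -c0 := by
      rw [hpdef, hf.add_left, hf.smul_left, hf.smul_left, huw, hew]; ring
    have hwp : f w p = c0 := by rw [hf.herm, hpw, map_neg, hc0', neg_neg]
    obtain ⟨h, hh, hhx⟩ := hD p hp r hr hpr
    have hAr : f A r = 1 := by rw [← eA, hf.add_left, hur, hWts w hw r hr, add_zero]
    have hAp : f A p = c0 := by rw [← eA, hf.add_left, hwp, hUts u hu p hp, zero_add]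
    have hval : f A ((h : Matrix (Fin 4) (Fin 4) F) *ᵥ A) = c0 * (t - t⁻¹) := by
      rw [hhx, TransvectionUnitary.add_right hf, TransvectionUnitary.add_right hf,
        TransvectionUnitary.smul_right hf, TransvectionUnitary.smul_right hf, hAA, hAr, hAp]
      simp only [map_mul, map_sub, map_one, map_inv₀, htτ, hc0']
      ring
    have h1 := hAdd hAS (hSconj (hHM hh) hAS)
      (by rw [hval]; exact mul_ne_zero hc0 fun e => hti (by linear_combination -e))
      (by rw [hval, map_mul, map_sub, map_inv₀, htτ, hc0', neg_mul])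
    refine hnon (u + u + (t - 1) • p) (U.add_mem (U.add_mem hu hu) (U.smul_mem _ hp))
      (w + w + ((t⁻¹ - 1) * c0) • r) (W.add_mem (W.add_mem hw hw) (W.smul_mem _ hr)) ?_ ?_
    · have e' : f (u + u + (t - 1) • p) (w + w + ((t⁻¹ - 1) * c0) • r) = c0 * (t - 1) * (t⁻¹ - 1) := by
        simp only [hf.add_left, TransvectionUnitary.add_right hf, hf.smul_left,
          TransvectionUnitary.smul_right hf, huw, hur, hpr, hpw, map_mul, map_sub, map_one, map_inv₀, htτ, hc0']
        field_simp
        ring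
      rw [e']
      exact mul_ne_zero (mul_ne_zero hc0 ht1) hti1
    · convert h1 using 1
      rw [hhx, hAr, hAp, ← eA]
      module
  have hSU : ∀ v ∈ U, S v := hUall ha ha0 haS
  have hSW : ∀ v ∈ W, S v := by
    intro v hv
    have h1 : U.map (Matrix.toLin' (J : Matrix (Fin 4) (Fin 4) F)) = W := by
      refine Submodule.eq_of_le_of_finrank_eq ?_ ?_
      · rintro _ ⟨x, hx, rfl⟩
        rw [Matrix.toLin'_apply]
        exact hJU x hx
      · rw [← (Submodule.equivMapOfInjective _ (fun a b hab => act_injective J (by simpa using hab)) U).finrank_eq,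
          hUk, hWk]
    rw [← h1] at hv
    obtain ⟨x, hx, rfl⟩ := hv
    rw [Matrix.toLin'_apply]
    exact hSJ (hSU x hx)
  have htzpair : ∀ {u w}, u ∈ U → w ∈ W → f (u + w) (u + w) = 0 → τ (f u w) = - f u w := by
    intro u w hu hw h
    rw [hf.add_left, TransvectionUnitary.add_right hf, TransvectionUnitary.add_right hf, hUts u hu u hu,
      hWts w hw w hw, ← TransvectionUnitary.sigma_f hf u w] at h
    linear_combination h
  have hpairs : ∀ {u w}, u ∈ U → w ∈ W → f (u + w) (u + w) = 0 → f u w ≠ 0 → S (u + w) :=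
    fun hu hw h hne => hAdd (hSU _ hu) (hSW _ hw) hne (htzpair hu hw h)
  intro g' hg'
  refine TransvectionUnitaryGen.su_mem_of_even hf (by rw [Fintype.card_fin]; exact ⟨2, by omega⟩)
    (fun v c hv hc => ?_) hg'.1 hg'.2
  suffices h : S v from h.2 c hc
  by_cases hu : pU v = 0
  · have := hpadd v; rw [hu, zero_add] at this
    exact this ▸ hSW _ (hpWmem v)
  by_cases hw : pW v = 0
  · have := hpadd v; rw [hw, add_zero] at this
    exact this ▸ hSU _ (hpUmem v)
  have hiso0 : f (pU v + pW v) (pU v + pW v) = 0 := by rw [hpadd, hv]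
  by_cases huw : f (pU v) (pW v) = 0
  · obtain ⟨e, he, -, hew⟩ := sepU (hpWmem v) (bot_le : ⊥ ≤ W) (by simpa using hw)
    have hwe : f (pW v) e = 1 := by rw [hf.herm, hew, map_one]
    have h1 : S ((pU v + (-c0) • e) + pW v) := by
      refine hpairs (U.add_mem (hpUmem v) (U.smul_mem _ he)) (hpWmem v) ?_ ?_
      · simp only [hf.add_left, TransvectionUnitary.add_right hf, hf.smul_left,
          TransvectionUnitary.smul_right hf, hUts _ (hpUmem v) _ (hpUmem v), hUts _ (hpUmem v) _ he,
          hUts _ he _ (hpUmem v), hUts _ he _ he, hWts _ (hpWmem v) _ (hpWmem v), huw,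
          TransvectionUnitary.skew_zero hf huw, hew, hwe, map_neg, hc0']
        ring
      · rw [hf.add_left, hf.smul_left, huw, hew, zero_add, mul_one]
        exact neg_ne_zero.mpr hc0
    have h2 := hShift (hSU e he) h1 c0 hc0'
    rw [hf.add_left, hf.add_left, hf.smul_left, hUts _ (hpUmem v) _ he, hUts _ he _ he, hwe, mul_zero,
      zero_add, zero_add, mul_one] at h2
    have h3 : pU v + (-c0) • e + pW v + c0 • e = v := by
      conv_rhs => rw [← hpadd v]
      module
    rwa [h3] at h2
  · have := hpairs (hpUmem v) (hpWmem v) hiso0 huw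
    rwa [hpadd] at this

end Cfsg.Agent.UnitFourPair83
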