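import Cfsg.Agent.Lib.UnitarySubfieldRoot
import Cfsg.Agent.Lib.SL2SylowSubfield
import Cfsg.Agent.Lib.OrthUnitaryTransvection

set_option autoImplicit false
set_option linter.unusedSectionVars false
open Cfsg

namespace Cfsg.Agent.UnitFourSubfield38

open Cfsg.Agent.TransvectionMax (gl_ext mul_act one_act act_inv_act inv_act_act act_injective act_ne_zero
  ft_mem_sl)
open Cfsg.Agent.TransvectionUnitary (perp exists_tz exists_trace_eq exists_perp_val mem_perp_singleton
  mem_perp_pair skew_zero sigma_f sigma_sigma exists_not_fixed)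
open Cfsg.Agent.SubfieldRational (emb rat)
open Cfsg.Agent.UnitarySubfieldRoot
open scoped MatrixGroups Matrix

/-! ### A comparison of the two root groups of a subgroup of SL(2) -/

open Cfsg.Agent.QuadPairSL2 (up lo) in
lemma sylow_le {F : Type*} [Field F] [Finite F] (J : Subgroup SL(2, F)) {t : F} (ht : t ≠ 0)
    (htJ : up t ∈ J) : Nat.card {y : F // lo y ∈ J} ≤ Nat.card {x : F // up x ∈ J} := by
  classical
  obtain ⟨p, hchar⟩ := CharP.exists F
  haveI : Fact p.Prime := ⟨CharP.char_is_prime F p⟩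
  have hpow : (⟨up t, htJ⟩ : J) ^ p = 1 := Subtype.ext (by
    rw [SubmonoidClass.coe_pow, SL2SylowSubfield.up_pow, CharP.cast_eq_zero, zero_mul,
      QuadPairSL2.up_zero]; rfl)
  have hz : IsPGroup p (Subgroup.zpowers (⟨up t, htJ⟩ : J)) := by
    rintro ⟨g, m, rfl⟩
    refine ⟨1, Subtype.ext ?_⟩
    simp only [pow_one, SubmonoidClass.coe_pow, OneMemClass.coe_one]
    rw [← zpow_natCast, ← _root_.zpow_mul, mul_comm, _root_.zpow_mul, zpow_natCast, hpow, _root_.one_zpow]
  obtain ⟨P, hP⟩ := hz.exists_le_sylow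
  have htP : (⟨up t, htJ⟩ : J) ∈ (P : Subgroup J) := hP (Subgroup.mem_zpowers _)
  haveI : Nontrivial (P : Subgroup J) := ⟨⟨⟨_, htP⟩, 1, fun h => ht (by
    have h' := congrArg (fun m : (P : Subgroup J) => ((m : J) : SL(2, F)).1 0 1) h
    simpa [up] using h')⟩⟩
  haveI := P.isPGroup'.center_nontrivial
  obtain ⟨z, hz1⟩ := exists_ne (1 : Subgroup.center (P : Subgroup J))
  set z' : SL(2, F) := (((z : (P : Subgroup J)) : J) : SL(2, F))
  have hcomm : ∀ g : (P : Subgroup J), ((g : J) : SL(2, F)) * z' = z' * ((g : J) : SL(2, F)) := fun g =>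
    congrArg (fun m : (P : Subgroup J) => ((m : J) : SL(2, F))) (Subgroup.mem_center_iff.mp z.2 g)
  have hpel : ∀ g : (P : Subgroup J), ∃ k, ((g : J) : SL(2, F)) ^ p ^ k = 1 := fun g => by
    obtain ⟨k, hk⟩ := P.isPGroup' g
    exact ⟨k, by simpa using congrArg (fun m : (P : Subgroup J) => ((m : J) : SL(2, F))) hk⟩
  have hzu : z' = up (z'.1 0 1) := by
    obtain ⟨h1, h2⟩ := SL2SylowSubfield.of_commute_up ht (hcomm ⟨_, htP⟩).symm
    obtain ⟨k, hk⟩ := hpel z
    exact SL2SylowSubfield.eq_up_of_pow_eq_one h1 h2 hk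
  have hz0 : z'.1 0 1 ≠ 0 := fun h => by
    apply hz1
    rw [h, QuadPairSL2.up_zero] at hzu
    exact Subtype.ext (Subtype.ext (Subtype.ext hzu))
  have hPup : ∀ g : (P : Subgroup J), ((g : J) : SL(2, F)) = up (((g : J) : SL(2, F)).1 0 1) := fun g => by
    have hg : ((g : J) : SL(2, F)) * up (z'.1 0 1) = up (z'.1 0 1) * ((g : J) : SL(2, F)) := hzu ▸ hcomm g
    obtain ⟨h1, h2⟩ := SL2SylowSubfield.of_commute_up hz0 hg
    obtain ⟨k, hk⟩ := hpel g
    exact SL2SylowSubfield.eq_up_of_pow_eq_one h1 h2 hk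
  let L : Subgroup J :=
    { carrier := {g | ∃ y, (g : SL(2, F)) = lo y}
      one_mem' := ⟨0, by rw [QuadPairSL2.lo_zero]; rfl⟩
      mul_mem' := fun {a b} ha hb => by
        obtain ⟨y, hy⟩ := ha
        obtain ⟨z, hz⟩ := hb
        exact ⟨y + z, by rw [Subgroup.coe_mul, hy, hz, QuadPairSL2.lo_mul]⟩
      inv_mem' := fun {a} ha => by
        obtain ⟨y, hy⟩ := ha
        exact ⟨-y, by rw [Subgroup.coe_inv, hy, QuadPairSL2.lo_inv]⟩ }
  have hL : IsPGroup p L := by
    rintro ⟨g, y, hy⟩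
    refine ⟨1, Subtype.ext (Subtype.ext ?_)⟩
    rw [pow_one, SubmonoidClass.coe_pow, SubmonoidClass.coe_pow, hy, SL2SylowSubfield.lo_pow, CharP.cast_eq_zero,
      zero_mul, QuadPairSL2.lo_zero]
    rfl
  obtain ⟨Q, hQ⟩ := hL.exists_le_sylow
  have hPQ : Nat.card (P : Subgroup J) = Nat.card (Q : Subgroup J) := by
    rw [P.card_eq_multiplicity, Q.card_eq_multiplicity]
  calc Nat.card {y : F // lo y ∈ J} ≤ Nat.card L :=
        Nat.card_le_card_of_injective (fun y => (⟨⟨lo y.1, y.2⟩, y.1, rfl⟩ : L)) fun a b h => by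
          have := congrArg (fun m : L => ((m : J) : SL(2, F)).1 1 0) h
          exact Subtype.ext (by simpa [lo] using this)
    _ ≤ Nat.card (Q : Subgroup J) := Nat.le_of_dvd Nat.card_pos (Subgroup.card_dvd_of_le hQ)
    _ = Nat.card (P : Subgroup J) := hPQ.symm
    _ ≤ _ := Nat.card_le_card_of_injective
      (fun g => (⟨((g : J) : SL(2, F)).1 0 1, hPup g ▸ (g : J).2⟩ : {x : F // up x ∈ J})) fun g h he => by
        have he' : ((g : J) : SL(2, F)).1 0 1 = ((h : J) : SL(2, F)).1 0 1 := congrArg Subtype.val he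
        exact Subtype.ext (Subtype.ext (by rw [hPup g, hPup h, he']))

/-! ### The setting -/

variable {ι : Type} [Fintype ι] [DecidableEq ι] {F : Type*} [Field F] [Fintype F] {F₀ : Subfield F}

noncomputable local instance : Fintype F₀ := Fintype.ofFinite _

lemma exists_perp_partner {K : Type*} [Field K] [Fintype K] {σ : K ≃+* K} {f : (ι → K) → (ι → K) → K}
    (hf : Cfsg.Geo.IsUnitaryForm σ f) {e y : ι → K} (hy : f y y = 0) (hye : f y e = 0)
    (hi : y ∉ Submodule.span K {e}) : ∃ z, f z z = 0 ∧ f z e = 0 ∧ f z y = 1 := by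
  obtain ⟨z, hz, hzy⟩ := exists_perp_val hf hi 1
  rw [mem_perp_singleton hf] at hz
  obtain ⟨μ, hμ⟩ := exists_trace_eq hf (a := -(f z z)) (by rw [map_neg, sigma_f hf])
  have hyz : f y z = 1 := by rw [hf.herm, hzy, map_one]
  refine ⟨z + μ • y, ?_, by rw [hf.add_left, hf.smul_left, hz, hye, mul_zero, add_zero],
    by rw [hf.add_left, hf.smul_left, hzy, hy, mul_zero, add_zero]⟩
  simp only [hf.add_left, TransvectionUnitary.add_right hf, hf.smul_left, TransvectionUnitary.smul_right hf,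
    hzy, hyz, hy]
  linear_combination hμ

lemma iso_pair_low {K : Type*} [Field K] [Fintype K] {σ : K ≃+* K} {f : (ι → K) → (ι → K) → K}
    (hf : Cfsg.Geo.IsUnitaryForm σ f) {W : Submodule K (ι → K)}
    (hn : 2 * Module.finrank K W + 4 ≤ Fintype.card ι) {u : ι → K} (hu : u ∈ perp hf W) :
    ∃ z ∈ perp hf W, ∃ z' ∈ perp hf W, f z z = 0 ∧ f z' z' = 0 ∧ u = z + z' := by
  by_cases huu : f u u = 0
  · exact ⟨u, hu, 0, (perp hf W).zero_mem, huu, TransvectionUnitary.zero_left hf _, (add_zero u).symm⟩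
  obtain ⟨p, hp, r, hr, μ, -, -, -, hup, hur, hz⟩ :=
    TransvectionUnitary.iso_adjust hf (W := W) (by omega) u
  set z := u + p + μ • r with hzdef
  have hzW : z ∈ perp hf W := (perp hf W).add_mem ((perp hf W).add_mem hu hp) ((perp hf W).smul_mem _ hr)
  have huz : f u z = f u u := by
    rw [hzdef, TransvectionUnitary.add_right hf, TransvectionUnitary.add_right hf,
      TransvectionUnitary.smul_right hf, hup, hur, mul_zero, add_zero, add_zero]
  obtain ⟨a, ha⟩ := exists_trace_eq hf (a := (1 : K)) (map_one σ)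
  have hzu : f z u = f u u := by rw [hf.herm, huz, TransvectionUnitary.sigma_f hf]
  refine ⟨a • z, (perp hf W).smul_mem _ hzW, u - a • z, (perp hf W).sub_mem hu ((perp hf W).smul_mem _ hzW),
    by rw [hf.smul_left, TransvectionUnitary.smul_right hf, hz, mul_zero, mul_zero], ?_,
    (add_sub_cancel _ _).symm⟩
  simp only [TransvectionUnitary.sub_left hf, TransvectionUnitary.sub_right hf, hf.smul_left,
    TransvectionUnitary.smul_right hf, hz, huz, hzu]
  linear_combination (-(f u u)) * ha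

lemma iso_notMem_low {K : Type*} [Field K] [Fintype K] {σ : K ≃+* K} {f : (ι → K) → (ι → K) → K}
    (hf : Cfsg.Geo.IsUnitaryForm σ f) {W : Submodule K (ι → K)}
    (hn : 2 * Module.finrank K W + 4 ≤ Fintype.card ι)
    {S : Submodule K (ι → K)} (hS : Module.finrank K S + Module.finrank K W < Fintype.card ι) :
    ∃ y ∈ perp hf W, f y y = 0 ∧ y ∉ S := by
  by_contra! h
  have hle : perp hf W ≤ S := fun u hu => by
    obtain ⟨z, hz, z', hz', hzz, hzz', rfl⟩ := iso_pair_low hf hn hu
    exact S.add_mem (h z hz hzz) (h z' hz' hzz')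
  have h1 := Submodule.finrank_mono hle
  have h2 := TransvectionUnitary.finrank_perp hf W
  omega

/-- In dimension four the perp of an isotropic vector is spanned by it and a hyperbolic pair. -/
lemma decomp_four {K : Type*} [Field K] [Fintype K] {σ : K ≃+* K} {f : (ι → K) → (ι → K) → K}
    (hf : Cfsg.Geo.IsUnitaryForm σ f) (hn : Fintype.card ι = 4) {e k m : ι → K} (he : e ≠ 0)
    (hee : f e e = 0) (hkk : f k k = 0) (hmm : f m m = 0) (hke : f k e = 0) (hme : f m e = 0)
    (hmk : f m k = 1) {u : ι → K} (hu : f u e = 0) :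
    ∃ a : K, u = a • e + f u m • k + f u k • m := by
  have hkm : f k m = 1 := by rw [hf.herm, hmk, map_one]
  have hek := skew_zero hf hke
  have hem := skew_zero hf hme
  set W := perp hf (Submodule.span K {e})
  have hW : Module.finrank K W ≤ 3 := by
    have hne : W ≠ ⊤ := fun h => by
      obtain ⟨y, hy⟩ := (hf.nondegenerate e he).1
      refine hy ?_
      exact (mem_perp_singleton hf).mp (show y ∈ W from h ▸ Submodule.mem_top)
    have h1 := Submodule.finrank_lt hne
    rw [Module.finrank_fintype_fun_eq_card] at h1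
    omega
  have hli : LinearIndependent K ![e, k, m] := by
    refine Fintype.linearIndependent_iff.mpr fun c hc => ?_
    simp only [Fin.sum_univ_three, Matrix.cons_val] at hc
    have h1 := congrArg (f · m) hc
    have h2 := congrArg (f · k) hc
    simp only [hf.add_left, hf.smul_left, TransvectionUnitary.zero_left hf, hem, hkm, hmm, hek, hkk, hmk,
      mul_zero, zero_add, add_zero, mul_one] at h1 h2
    rw [h1, h2, zero_smul, zero_smul, add_zero, add_zero, smul_eq_zero] at hc
    intro i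
    fin_cases i
    · exact hc.resolve_right he
    · exact h1
    · exact h2
  have hle : Submodule.span K (Set.range ![e, k, m]) ≤ W := Submodule.span_le.mpr (by
    rintro _ ⟨i, rfl⟩
    fin_cases i <;> exact (mem_perp_singleton hf).mpr (by assumption))
  have heq := Submodule.eq_of_le_of_finrank_le hle (by
    rw [finrank_span_eq_card hli, Fintype.card_fin]; exact hW)
  have huW : u ∈ Submodule.span K (Set.range ![e, k, m]) := heq ▸ (mem_perp_singleton hf).mpr hu
  obtain ⟨c, hc⟩ := (Submodule.mem_span_range_iff_exists_fun K).mp huW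
  simp only [Fin.sum_univ_three, Matrix.cons_val] at hc
  refine ⟨c 0, ?_⟩
  have h1 := congrArg (f · m) hc
  have h2 := congrArg (f · k) hc
  simp only [hf.add_left, hf.smul_left, hem, hkm, hmm, hek, hkk, hmk,
    mul_zero, zero_add, add_zero, mul_one] at h1 h2
  rw [← h1, ← h2, hc]

/-- In dimension four the perp of an isotropic vector contains a hyperbolic pair. -/
lemma iso_line {K : Type*} [Field K] [Fintype K] {σ : K ≃+* K} {f : (ι → K) → (ι → K) → K}
    (hf : Cfsg.Geo.IsUnitaryForm σ f) (hn : Fintype.card ι = 4) {e : ι → K} (he : e ≠ 0) :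
    ∃ k m : ι → K, k ∉ Submodule.span K {e} ∧ f k k = 0 ∧ f m m = 0 ∧ f k e = 0 ∧ f m e = 0 ∧ f m k = 1 := by
  set W := Submodule.span K {e}
  obtain ⟨C, hC⟩ := Submodule.exists_isCompl W
  have hd : 2 ≤ Module.finrank K (perp hf W ⊓ C : Submodule K (ι → K)) := by
    have h1 := Submodule.finrank_sup_add_finrank_inf_eq (perp hf W) C
    have h2 := Submodule.finrank_le (perp hf W ⊔ C)
    have h3 := Submodule.finrank_add_eq_of_isCompl hC
    have h4 : Module.finrank K W = 1 := finrank_span_singleton he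
    have h5 := TransvectionUnitary.finrank_perp hf W
    rw [Module.finrank_fintype_fun_eq_card] at h2 h3
    omega
  obtain ⟨k, ⟨hkP, hkC⟩, hk0, hkk⟩ := TransvectionUnitary.exists_isotropic hf hd
  have hkW : k ∉ W := fun h => hk0 (Submodule.disjoint_def.mp hC.disjoint k h hkC)
  have hke : f k e = 0 := (mem_perp_singleton hf).mp hkP
  obtain ⟨m, hmm, hme, hmk⟩ := exists_perp_partner hf hkk hke hkW
  exact ⟨k, m, hkW, hkk, hmm, hke, hme, hmk⟩

lemma iso_pair_line {K : Type*} [Field K] [Fintype K] {σ : K ≃+* K} {f : (ι → K) → (ι → K) → K}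
    (hf : Cfsg.Geo.IsUnitaryForm σ f) (hn : Fintype.card ι = 4) {e : ι → K} (he : e ≠ 0) (hee : f e e = 0)
    {u : ι → K} (hu : u ∈ perp hf (Submodule.span K {e})) :
    ∃ z ∈ perp hf (Submodule.span K {e}), ∃ z' ∈ perp hf (Submodule.span K {e}),
      f z z = 0 ∧ f z' z' = 0 ∧ u = z + z' := by
  obtain ⟨k, m, -, hkk, hmm, hke, hme, hmk⟩ := iso_line hf hn he
  obtain ⟨a, ha⟩ := decomp_four hf hn he hee hkk hmm hke hme hmk ((mem_perp_singleton hf).mp hu)
  refine ⟨a • e + f u m • k, ?_, f u k • m, ?_, ?_, ?_, ha⟩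
  · rw [mem_perp_singleton hf, hf.add_left, hf.smul_left, hf.smul_left, hee, hke, mul_zero, mul_zero, add_zero]
  · rw [mem_perp_singleton hf, hf.smul_left, hme, mul_zero]
  · simp only [hf.add_left, TransvectionUnitary.add_right hf, hf.smul_left, TransvectionUnitary.smul_right hf,
      hee, hke, hkk, skew_zero hf hke]
    ring
  · rw [hf.smul_left, TransvectionUnitary.smul_right hf, hmm, mul_zero, mul_zero]

/-- In a field with a subfield, two skew relations of a scalar force it into the subfield. -/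
lemma mem_of_quadratic {K : Type*} [Field K] [Finite K] {K₀ : Subfield K} {z : K} {r₁ r₂ : K} (h₁ : r₁ ∈ K₀)
    (h₂ : r₂ ∈ K₀) (h : 2 * z = r₁ + r₂ * z ^ 2) (hz : z ^ 2 ∈ K₀) : z ∈ K₀ := by
  haveI : Fintype K₀ := Fintype.ofFinite _
  by_cases h20 : (2 : K) = 0
  · have hsq : Function.Injective (fun s : K₀ => s ^ 2) := fun a b hab => by
      have hab' : (a : K) ^ 2 = (b : K) ^ 2 := congrArg Subtype.val hab
      have : ((a : K) - b) ^ 2 = 0 := by linear_combination hab' + ((b : K) ^ 2 - a * b) * h20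
      exact Subtype.ext (sub_eq_zero.mp (pow_eq_zero_iff two_ne_zero |>.mp this))
    obtain ⟨s, hs⟩ := (Finite.injective_iff_surjective.mp hsq) ⟨z ^ 2, hz⟩
    have hs' : (s : K) ^ 2 = z ^ 2 := congrArg Subtype.val hs
    have : (z - s) ^ 2 = 0 := by linear_combination -hs' + ((s : K) ^ 2 - z * s) * h20
    rw [sub_eq_zero.mp (pow_eq_zero_iff two_ne_zero |>.mp this)]
    exact s.2
  · rw [← mul_div_cancel_left₀ z h20, h]
    exact K₀.div_mem (K₀.add_mem h₁ (K₀.mul_mem h₂ hz)) (ofNat_mem K₀ 2)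

/-- A unitary form taking values in F₀ on the rational vectors and a group containing the rational transvections. -/
structure Ctx (σ : F ≃+* F) (f : (ι → F) → (ι → F) → F) (P : GL ι F) (τ0 : F₀ ≃+* F₀)
    (f0 : (ι → F₀) → (ι → F₀) → F₀) (M : Subgroup (GL ι F)) : Prop where
  hf : Cfsg.Geo.IsUnitaryForm σ f
  hf0 : Cfsg.Geo.IsUnitaryForm τ0 f0
  hσ0 : ∀ x : F₀, (τ0 x : F) = σ x
  hf0c : ∀ u v, (f0 u v : F) = f (rat P u) (rat P v)
  hn : Fintype.card ι = 4
  hlift : ∀ (a : ι → F₀) (t : F₀), f0 a a = 0 → τ0 t = -t → Tg σ f (rat P a) (t : F) ∈ M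
  hiso : ∀ g ∈ M, TransvectionUnitaryGen.Iso f g

/-- All transvections with rational isotropic centre and scalar c lie in M. -/
def Cen (σ : F ≃+* F) (f : (ι → F) → (ι → F) → F) (P : GL ι F) (f0 : (ι → F₀) → (ι → F₀) → F₀)
    (M : Subgroup (GL ι F)) (c : F) : Prop :=
  σ c = -c ∧ ∀ a : ι → F₀, a ≠ 0 → f0 a a = 0 → Tg σ f (rat P a) c ∈ M

/-- The multiples by δ of rational orthogonal isotropic pairs give root elements of M. -/
def Dir (f : (ι → F) → (ι → F) → F) (P : GL ι F) (f0 : (ι → F₀) → (ι → F₀) → F₀)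
    (M : Subgroup (GL ι F)) (δ : F) : Prop :=
  ∀ w v : ι → F₀, w ≠ 0 → f0 w w = 0 → f0 v v = 0 → f0 v w = 0 → v ∉ Submodule.span F₀ {w} →
    ∃ s, InE f M (rat P w) (δ • rat P v) s

section Props

variable {σ : F ≃+* F} {f : (ι → F) → (ι → F) → F} {P : GL ι F} {τ0 : F₀ ≃+* F₀}
  {f0 : (ι → F₀) → (ι → F₀) → F₀} {M : Subgroup (GL ι F)} (X : Ctx σ f P τ0 f0 M)
include X

lemma Ctx.zero_of {a b : ι → F₀} (h : f0 a b = 0) : f (rat P a) (rat P b) = 0 := by
  rw [← X.hf0c, h]; rfl

lemma Ctx.one_of {a b : ι → F₀} (h : f0 a b = 1) : f (rat P a) (rat P b) = 1 := by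
  rw [← X.hf0c, h]; rfl

lemma Ctx.tz {t : F₀} (ht : τ0 t = -t) : σ (t : F) = -(t : F) := by
  rw [← X.hσ0, ht]; rfl

lemma Ctx.lift_tg {b : ι → F₀} (hb : f0 b b = 0) (t : F₀) :
    SubfieldRational.lift P (Tg τ0 f0 b t) = Tg σ f (rat P b) (t : F) :=
  SubfieldRational.ext_rat P fun u => by
    rw [SubfieldRational.lift_act, tg_act X.hf0 hb, tg_act X.hf (X.zero_of hb), SubfieldRational.rat_add,
      SubfieldRational.rat_smul]
    congr 2
    push_cast
    rw [X.hf0c]

lemma Ctx.cen_of_one {e : ι → F₀} (he0 : e ≠ 0) (hee : f0 e e = 0) {c : F} (hc : σ c = -c)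
    (hM : Tg σ f (rat P e) c ∈ M) : Cen σ f P f0 M c := by
  refine ⟨hc, fun a ha haa => ?_⟩
  have htop : Cfsg.Geo.IsNondegenerateOn f0 (⊤ : Submodule F₀ (ι → F₀)) := fun w _ hw => by
    obtain ⟨⟨x, hx⟩, ⟨y, hy⟩⟩ := X.hf0.nondegenerate w hw
    exact ⟨⟨x, trivial, hx⟩, ⟨y, trivial, hy⟩⟩
  have hn := X.hn
  obtain ⟨h, hh, hhe⟩ := TransvectionUnitaryGen.move_iso X.hf0 htop
    (by rw [finrank_top, Module.finrank_fintype_fun_eq_card]; omega)
    (v := e) (w := a) trivial trivial hee haa he0 ha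
  have hle : TransvectionUnitaryGen.transGroup τ0 f0 ⊤ ≤ M.comap (SubfieldRational.lift P) :=
    TransvectionUnitaryGen.transGroup_le X.hf0 fun b _ t hbb ht => by
      show SubfieldRational.lift P (Tg τ0 f0 b t) ∈ M
      rw [X.lift_tg hbb]
      exact X.hlift b t hbb ht
  have hm : SubfieldRational.lift P h ∈ M := hle hh
  have h1 := M.mul_mem (M.mul_mem hm hM) (M.inv_mem hm)
  rwa [tg_conj X.hf (X.hiso _ hm) (X.zero_of hee), SubfieldRational.lift_act, hhe] at h1

lemma Ctx.rat_root {e y : ι → F₀} (hee : f0 e e = 0) (hyy : f0 y y = 0) (hye : f0 y e = 0) (t : F₀) :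
    ∃ s, InE f M (rat P e) ((t : F) • rat P y) s := by
  obtain ⟨c0, hc0, hc0'⟩ := exists_tz X.hf0
  set l := τ0 (t / c0) with hl
  have hiso : f0 (y + l • e) (y + l • e) = 0 := by
    simp only [X.hf0.add_left, TransvectionUnitary.add_right X.hf0, X.hf0.smul_left,
      TransvectionUnitary.smul_right X.hf0, hyy, hee, hye, skew_zero X.hf0 hye]
    ring
  have h1 := X.hlift _ c0 hiso hc0'
  rw [SubfieldRational.rat_add, SubfieldRational.rat_smul] at h1
  have h2 := inE_pair X.hf (X.zero_of hyy) (X.zero_of hee) (X.zero_of hye) (X.tz hc0') h1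
    (X.hlift y c0 hyy hc0')
  refine ⟨(c0 : F) * ((l : F) * σ l), ?_⟩
  have : (c0 : F) * σ (l : F) = (t : F) := by
    rw [← X.hσ0, hl, sigma_sigma X.hf0, ← Subfield.coe_mul, mul_div_cancel₀ _ hc0]
  rwa [this] at h2

lemma Ctx.dir_rat (t : F₀) : Dir f P f0 M (t : F) := fun _ _ _ hww hvv hvw _ => X.rat_root hww hvv hvw t

/-- From a root element with parameter δ on one pair, all traces of rational multiples of δ are centres. -/
lemma Ctx.cen_of_pair {e y : ι → F₀} (he0 : e ≠ 0) (hee : f0 e e = 0) (hyy : f0 y y = 0) (hye : f0 y e = 0)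
    (hy : y ∉ Submodule.span F₀ {e}) {δ s : F} (h : InE f M (rat P e) (δ • rat P y) s) (t : F₀) :
    Cen σ f P f0 M (δ * t - σ (δ * t)) := by
  obtain ⟨y', hy'y', hy'e, hy'y⟩ := exists_perp_partner X.hf0 hyy hye hy
  obtain ⟨s', h'⟩ := X.rat_root hee hy'y' hy'e (τ0 t)
  have hye' : f (δ • rat P y) (rat P e) = 0 := by rw [X.hf.smul_left, X.zero_of hye, mul_zero]
  have hy'e' : f ((τ0 t : F) • rat P y') (rat P e) = 0 := by
    rw [X.hf.smul_left, X.zero_of hy'e, mul_zero]
  have hM := inE_comm X.hf (X.zero_of hee) hye' hy'e' h h'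
  refine X.cen_of_one he0 hee (by rw [map_sub, sigma_sigma X.hf, neg_sub]) ?_
  convert hM using 2
  rw [X.hf.smul_left, X.hf.smul_left, TransvectionUnitary.smul_right X.hf, TransvectionUnitary.smul_right X.hf,
    X.one_of hy'y, X.hf.herm (rat P y) (rat P y'), X.one_of hy'y, map_one, X.hσ0, sigma_sigma X.hf, map_mul]
  ring

lemma Ctx.irr_trace {δ : F} (hδ : δ ∉ F₀) : ∃ t : F₀, δ * t - σ (δ * t) ∉ F₀ := by
  by_contra! h
  obtain ⟨θ, hθ⟩ := exists_not_fixed X.hf0.ne_refl
  refine hδ ?_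
  have h1 : δ * ((θ - τ0 θ : F₀) : F) ∈ F₀ := by
    have e1 : δ * ((θ - τ0 θ : F₀) : F) =
        (δ * θ - σ (δ * θ)) - (τ0 θ : F) * (δ * (1 : F₀) - σ (δ * (1 : F₀))) := by
      push_cast
      rw [X.hσ0, map_mul, mul_one]
      ring
    rw [e1]
    exact F₀.sub_mem (h θ) (F₀.mul_mem (τ0 θ).2 (h 1))
  have h2 : ((θ - τ0 θ : F₀) : F) ≠ 0 := fun h0 =>
    hθ (sub_eq_zero.mp (Subtype.ext h0 : θ - τ0 θ = 0)).symm
  rw [← mul_div_cancel_right₀ δ h2]
  exact F₀.div_mem h1 (θ - τ0 θ).2

lemma Ctx.irr_of_pair {e y : ι → F₀} (he0 : e ≠ 0) (hee : f0 e e = 0) (hyy : f0 y y = 0) (hye : f0 y e = 0)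
    (hy : y ∉ Submodule.span F₀ {e}) {δ s : F} (h : InE f M (rat P e) (δ • rat P y) s) (hδ : δ ∉ F₀) :
    ∃ c, Cen σ f P f0 M c ∧ c ∉ F₀ := by
  obtain ⟨t, ht⟩ := X.irr_trace hδ
  exact ⟨_, X.cen_of_pair he0 hee hyy hye hy h t, ht⟩

lemma Ctx.exists_pair : ∃ e y : ι → F₀, e ≠ 0 ∧ f0 e e = 0 ∧ f0 y y = 0 ∧ f0 y e = 0 ∧
    y ∉ Submodule.span F₀ {e} := by
  have hn := X.hn
  obtain ⟨e, -, he0, hee⟩ := TransvectionUnitary.exists_isotropic X.hf0 (X := ⊤)
    (by rw [finrank_top, Module.finrank_fintype_fun_eq_card]; omega)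
  obtain ⟨y, -, hy, hyy, -, hye, -, -⟩ := iso_line X.hf0 hn he0
  exact ⟨e, y, he0, hee, hyy, hye, hy⟩

/-- An irrational centre gives every transvection. -/
lemma Ctx.all_of_irr {r : ℕ} (hr : r.Prime) (hcard : Fintype.card F = Nat.card F₀ ^ r) {c1 : F}
    (hc1 : Cen σ f P f0 M c1) (hc1' : c1 ∉ F₀) {x : ι → F} (hxx : f x x = 0) {c : F} (hc : σ c = -c) :
    Tg σ f x c ∈ M := by
  have hn := X.hn
  have hf := X.hf
  have hmulD : ∀ {c δ : F}, Cen σ f P f0 M c → Dir f P f0 M δ → Dir f P f0 M (-(c * δ)) := by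
    intro c δ hc hδ w v hw0 hww hvv hvw hvi
    obtain ⟨z, hzz, hzw, hzv⟩ := exists_perp_partner X.hf0 hvv hvw hvi
    have hzi : z ∉ Submodule.span F₀ {w} := fun h => by
      obtain ⟨t, rfl⟩ := Submodule.mem_span_singleton.mp h
      rw [X.hf0.smul_left, skew_zero X.hf0 hvw, mul_zero] at hzv
      exact zero_ne_one hzv
    obtain ⟨s, h, hhM, hE⟩ := hδ w z hw0 hww hzz hzw hzi
    have hv0 : v ≠ 0 := fun h => hvi (h ▸ Submodule.zero_mem _)
    have hvz : f0 v z = 1 := by rw [X.hf0.herm, hzv, map_one]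
    have himg : (h : Matrix ι ι F) *ᵥ rat P v = rat P v + (-σ δ) • rat P w := by
      rw [hE, X.zero_of hvw, TransvectionUnitary.smul_right hf, X.one_of hvz]
      module
    have h1 := M.mul_mem (M.mul_mem hhM (hc.2 v hv0 hvv)) (M.inv_mem hhM)
    rw [tg_conj hf (X.hiso _ hhM) (X.zero_of hvv), himg] at h1
    have h2 := inE_pair hf (X.zero_of hvv) (X.zero_of hww) (X.zero_of hvw) hc.1 h1 (hc.2 v hv0 hvv)
    rw [map_neg, sigma_sigma hf, mul_neg] at h2
    exact ⟨_, h2⟩
  have hwe : ∀ {w v : ι → F₀} (δ : F), f0 v w = 0 → f (δ • rat P v) (rat P w) = 0 := fun δ h => by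
    rw [hf.smul_left, X.zero_of h, mul_zero]
  have hDneg : ∀ {δ : F}, Dir f P f0 M δ → Dir f P f0 M (-δ) := by
    intro δ hδ w v hw0 hww hvv hvw hvi
    obtain ⟨s, h⟩ := hδ w v hw0 hww hvv hvw hvi
    have := inE_neg hf (X.zero_of hww) (hwe δ hvw) h
    rw [← neg_smul] at this
    exact ⟨_, this⟩
  have hDadd : ∀ {a b : F}, Dir f P f0 M a → Dir f P f0 M b → Dir f P f0 M (a + b) := by
    intro a b ha hb w v hw0 hww hvv hvw hvi
    obtain ⟨s, h⟩ := ha w v hw0 hww hvv hvw hvi
    obtain ⟨s', h'⟩ := hb w v hw0 hww hvv hvw hvi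
    have := inE_add hf (X.zero_of hww) (hwe a hvw) (hwe b hvw) h h'
    rw [← add_smul] at this
    exact ⟨_, this⟩
  have hD0 : Dir f P f0 M 0 := by simpa using X.dir_rat 0
  have hDsc : ∀ (t : F₀) {δ : F}, Dir f P f0 M δ → Dir f P f0 M (δ * t) := by
    intro t δ hδ w v hw0 hww hvv hvw hvi
    rcases eq_or_ne t 0 with rfl | ht
    · rw [show δ * ((0 : F₀) : F) = 0 from mul_zero δ]
      exact hD0 w v hw0 hww hvv hvw hvi
    obtain ⟨s, h⟩ := hδ w (t • v) hw0 hww
      (by rw [X.hf0.smul_left, TransvectionUnitary.smul_right X.hf0, hvv, mul_zero, mul_zero])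
      (by rw [X.hf0.smul_left, hvw, mul_zero])
      (fun h => hvi ((Submodule.smul_mem_iff _ ht).mp h))
    rw [SubfieldRational.rat_smul, smul_smul] at h
    exact ⟨s, h⟩
  let S : Subalgebra F₀ F :=
    { carrier := {x | ∀ δ, Dir f P f0 M δ → Dir f P f0 M (x * δ)}
      mul_mem' := fun {a b} ha hb δ hδ => by rw [mul_assoc]; exact ha _ (hb _ hδ)
      add_mem' := fun {a b} ha hb δ hδ => by rw [add_mul]; exact hDadd (ha _ hδ) (hb _ hδ)
      one_mem' := fun δ hδ => by rwa [one_mul]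
      zero_mem' := fun δ _ => by rw [zero_mul]; exact hD0
      algebraMap_mem' := fun t δ hδ => by rw [mul_comm]; exact hDsc t hδ }
  have hc1S : c1 ∈ S := fun δ hδ => by simpa using hDneg (hmulD hc1 hδ)
  have hDall : ∀ δ : F, Dir f P f0 M δ := fun δ => by
    have hS : δ ∈ S := SubfieldRational.subalgebra_eq_top hr hcard S hc1S hc1' ▸ Algebra.mem_top
    have := hS _ (X.dir_rat 1)
    simpa using this
  obtain ⟨e1, y1, he10, he11, hy11, hy1e, hy1⟩ := X.exists_pair
  obtain ⟨l, hl⟩ := exists_trace_eq hf (a := (1 : F)) (map_one σ)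
  have hCall : ∀ z : F, σ z = -z → Cen σ f P f0 M z := fun z hz => by
    obtain ⟨s, h⟩ := hDall (z * l) e1 y1 he10 he11 hy11 hy1e hy1
    have := X.cen_of_pair he10 he11 hy11 hy1e hy1 h 1
    rwa [show z * l * ((1 : F₀) : F) - σ (z * l * ((1 : F₀) : F)) = z by
      rw [OneMemClass.coe_one, mul_one, map_mul, hz]
      linear_combination z * hl] at this
  have key : ∀ (e : ι → F₀) (x : ι → F), e ≠ 0 → f0 e e = 0 → f x x = 0 → f x (rat P e) = 1 →
      ∀ c, σ c = -c → Tg σ f x c ∈ M := by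
    intro e x he0 hee hxx hxe c hc
    have htop : Cfsg.Geo.IsNondegenerateOn f0 (⊤ : Submodule F₀ (ι → F₀)) := fun w _ hw => by
      obtain ⟨⟨x, hx⟩, ⟨y, hy⟩⟩ := X.hf0.nondegenerate w hw
      exact ⟨⟨x, trivial, hx⟩, ⟨y, trivial, hy⟩⟩
    obtain ⟨rr, -, hrr, herr⟩ := TransvectionUnitaryGen.exists_partner X.hf0 htop trivial he0 hee
    have hre : f0 rr e = 1 := by rw [X.hf0.herm, herr, map_one]
    let Q : (ι → F) → Prop := fun w => f w (rat P e) = 0 ∧ ∃ s, InE f M (rat P e) w s
    have hQadd : ∀ a b, Q a → Q b → Q (a + b) := by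
      rintro a b ⟨ha, s, h⟩ ⟨hb, s', h'⟩
      exact ⟨by rw [hf.add_left, ha, hb, add_zero], _, inE_add hf (X.zero_of hee) ha hb h h'⟩
    have hQe : ∀ δ : F, Q (δ • rat P e) := fun δ => by
      refine ⟨hwe δ hee, σ δ - δ, 1, M.one_mem, fun z => ?_⟩
      rw [one_act, TransvectionUnitary.smul_right hf]
      module
    have hQ0 : Q 0 := by simpa using hQe 0
    have hQiso : ∀ (δ : F) {u : ι → F₀}, f0 u u = 0 → f0 u e = 0 → Q (δ • rat P u) := by
      intro δ u huu hue
      by_cases hu : u ∈ Submodule.span F₀ {e}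
      · obtain ⟨t, rfl⟩ := Submodule.mem_span_singleton.mp hu
        rw [SubfieldRational.rat_smul, smul_smul]
        exact hQe _
      · exact ⟨hwe δ hue, hDall δ e u he0 hee huu hue hu⟩
    set w := x - rat P rr - f x (rat P rr) • rat P e with hwdef
    have hwe' : f w (rat P e) = 0 := by
      rw [hwdef, TransvectionUnitary.sub_left hf, TransvectionUnitary.sub_left hf, hf.smul_left, hxe,
        X.one_of hre, X.zero_of hee]
      ring
    have hQw : Q w := by
      obtain ⟨y, hy⟩ := SubfieldRational.exists_combination (F₀ := F₀) P w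
      set b : ι → (ι → F₀) := fun i => Pi.single i 1
      have hdec : w = ∑ i, y i • rat P (b i - f0 (b i) e • rr) := by
        have h0 : ∑ i, y i * (f0 (b i) e : F) = 0 := by
          rw [← hwe', show f w (rat P e) = (TransvectionUnitary.uLeft hf (rat P e)) w from rfl, hy, map_sum]
          refine Finset.sum_congr rfl fun i _ => ?_
          rw [map_smul, smul_eq_mul, X.hf0c]
          rfl
        calc w = w - (∑ i, y i * (f0 (b i) e : F)) • rat P rr := by rw [h0, zero_smul, sub_zero]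
          _ = _ := by
            rw [Finset.sum_smul]
            conv_lhs => arg 1; rw [hy]
            rw [← Finset.sum_sub_distrib]
            refine Finset.sum_congr rfl fun i _ => ?_
            rw [SubfieldRational.rat_sub, SubfieldRational.rat_smul, smul_sub, smul_smul]
      rw [hdec]
      refine Finset.sum_induction _ Q hQadd hQ0 fun i _ => ?_
      obtain ⟨z, hz, z', hz', hzz, hzz', he'⟩ := iso_pair_line X.hf0 X.hn he0 hee
        (u := b i - f0 (b i) e • rr) ((mem_perp_singleton X.hf0).mpr (by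
          rw [TransvectionUnitary.sub_left X.hf0, X.hf0.smul_left, hre, mul_one, sub_self]))
      rw [he', SubfieldRational.rat_add, smul_add]
      exact hQadd _ _ (hQiso _ hzz ((mem_perp_singleton X.hf0).mp hz))
        (hQiso _ hzz' ((mem_perp_singleton X.hf0).mp hz'))
    obtain ⟨-, s, g, hgM, hE⟩ := hQw
    set a := f x (rat P rr)
    have htr := EAct.trace hf (X.hiso _ hgM) hE (X.zero_of hee) (X.zero_of hrr) (X.one_of hre) hwe'
    have her := X.one_of herr
    have hwr : f w (rat P rr) = 0 := by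
      rw [hwdef, TransvectionUnitary.sub_left hf, TransvectionUnitary.sub_left hf, hf.smul_left, her,
        X.zero_of hrr]
      ring
    have ha : f w w + a + σ a = 0 := by
      have h := hxx
      rw [show x = w + rat P rr + a • rat P e by rw [hwdef]; abel] at h
      simp only [hf.add_left, TransvectionUnitary.add_right hf, hf.smul_left, TransvectionUnitary.smul_right hf,
        hwr, hwe', skew_zero hf hwr, skew_zero hf hwe', X.zero_of hrr, X.zero_of hee, her, X.one_of hre] at h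
      linear_combination h
    have hd : σ (a - s) = -(a - s) := by
      rw [map_sub]; linear_combination ha - htr
    obtain ⟨g', hg'M, hE'⟩ := inE_shift hf (X.zero_of hee) hwe' ⟨g, hgM, hE⟩ ((hCall _ hd).2 e he0 hee)
    have hr0 : rr ≠ 0 := fun h => by
      rw [h, TransvectionUnitary.zero_left X.hf0] at hre
      exact zero_ne_one hre
    have himg : (g' : Matrix ι ι F) *ᵥ rat P rr = x := by
      rw [hE', X.one_of hre, skew_zero hf hwr, hwdef]
      module
    have h1 := M.mul_mem (M.mul_mem hg'M ((hCall c hc).2 rr hr0 hrr)) (M.inv_mem hg'M)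
    rwa [tg_conj hf (X.hiso _ hg'M) (X.zero_of hrr), himg] at h1
  rcases eq_or_ne x 0 with rfl | hx0
  · convert M.one_mem
    exact gl_ext fun z => by rw [tg_act hf hxx, one_act, smul_zero, add_zero]
  obtain ⟨e, hee, hxe⟩ : ∃ e : ι → F₀, f0 e e = 0 ∧ f x (rat P e) ≠ 0 := by
    by_contra! h
    have hall : ∀ u : ι → F₀, f (rat P u) x = 0 := fun u => by
      obtain ⟨z, -, z', -, hzz, hzz', rfl⟩ := iso_pair_low X.hf0
        (W := (⊥ : Submodule F₀ (ι → F₀))) (hn := by rw [finrank_bot]; omega)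
        (u := u) (fun w hw => by rw [(Submodule.mem_bot F₀).mp hw, TransvectionUnitary.zero_right X.hf0])
      rw [SubfieldRational.rat_add, hf.add_left, skew_zero hf (h z hzz), skew_zero hf (h z' hzz'), add_zero]
    obtain ⟨y, hy⟩ := (hf.nondegenerate x hx0).1
    exact hy (SubfieldRational.eq_zero_of_rat P (TransvectionUnitary.uLeft hf x) hall y)
  have he0 : e ≠ 0 := fun h => hxe (by rw [h, SubfieldRational.rat_zero, TransvectionUnitary.zero_right hf])
  set l' := f x (rat P e)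
  have h1 := key e (l'⁻¹ • x) he0 hee
    (by rw [hf.smul_left, TransvectionUnitary.smul_right hf, hxx, mul_zero, mul_zero])
    (by rw [hf.smul_left, inv_mul_cancel₀ hxe]) (c * l' * σ l')
    (by rw [map_mul, map_mul, hc, sigma_sigma hf]; ring)
  rw [tg_smul hf hxx] at h1
  rwa [show c * l' * σ l' * l'⁻¹ * σ l'⁻¹ = c by
    rw [map_inv₀]; field_simp [(map_ne_zero σ).mpr hxe]] at h1

lemma Ctx.top_nondeg : Cfsg.Geo.IsNondegenerateOn f0 (⊤ : Submodule F₀ (ι → F₀)) := fun w _ hw => by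
  obtain ⟨⟨x, hx⟩, ⟨y, hy⟩⟩ := X.hf0.nondegenerate w hw
  exact ⟨⟨x, trivial, hx⟩, ⟨y, trivial, hy⟩⟩

lemma Ctx.eq_zero_of_iso {v : ι → F} (h : ∀ y : ι → F₀, f0 y y = 0 → f v (rat P y) = 0) : v = 0 := by
  have hn := X.hn
  have hall : ∀ u : ι → F₀, f (rat P u) v = 0 := fun u => by
    obtain ⟨z, -, z', -, hzz, hzz', rfl⟩ := iso_pair_low X.hf0
      (W := (⊥ : Submodule F₀ (ι → F₀))) (hn := by rw [finrank_bot]; omega)
      (u := u) (fun w hw => by rw [(Submodule.mem_bot F₀).mp hw, TransvectionUnitary.zero_right X.hf0])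
    rw [SubfieldRational.rat_add, X.hf.add_left, skew_zero X.hf (h z hzz), skew_zero X.hf (h z' hzz'), add_zero]
  by_contra h0
  obtain ⟨y, hy⟩ := (X.hf.nondegenerate v h0).1
  exact hy (SubfieldRational.eq_zero_of_rat P (TransvectionUnitary.uLeft X.hf v) hall y)

/-- A vector orthogonal to e with rational values, up to ρ, on the isotropic vectors orthogonal to e. -/
lemma Ctx.hmod {e : ι → F₀} (he0 : e ≠ 0) (hee : f0 e e = 0) {u : ι → F} (hue : f u (rat P e) = 0) {ρ : F}
    (hρ : ρ ≠ 0) (h : ∀ y : ι → F₀, f0 y y = 0 → f0 y e = 0 → f u (rat P y) / ρ ∈ F₀) :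
    ∃ (α : F) (w : ι → F₀), u = α • rat P e + ρ • rat P w ∧ f0 w e = 0 := by
  have hf := X.hf
  have hn := X.hn
  obtain ⟨rr, -, hrr, herr⟩ := TransvectionUnitaryGen.exists_partner X.hf0 X.top_nondeg trivial he0 hee
  have hre : f0 rr e = 1 := by rw [X.hf0.herm, herr, map_one]
  have her : f (rat P e) (rat P rr) = 1 := X.one_of herr
  set α := f u (rat P rr)
  set u' := u - α • rat P e with hu'
  have hperp : ∀ v : ι → F₀, f0 v e = 0 → f u (rat P v) / ρ ∈ F₀ := fun v hv => by
    obtain ⟨z, hz, z', hz', hzz, hzz', rfl⟩ := iso_pair_line X.hf0 X.hn he0 hee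
      ((mem_perp_singleton X.hf0).mpr hv)
    rw [SubfieldRational.rat_add, TransvectionUnitary.add_right hf, add_div]
    exact F₀.add_mem (h z hzz ((mem_perp_singleton X.hf0).mp hz))
      (h z' hzz' ((mem_perp_singleton X.hf0).mp hz'))
  have hval : ∀ x : ι → F₀, f (rat P x) u' / σ ρ ∈ F₀ := fun x => by
    set p := x - f0 x e • rr with hp
    have h1 : f u' (rat P x) = f u (rat P p) := by
      rw [hu', TransvectionUnitary.sub_left hf, hf.smul_left, hp, SubfieldRational.rat_sub,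
        SubfieldRational.rat_smul, TransvectionUnitary.sub_right hf, TransvectionUnitary.smul_right hf, X.hf0c,
        sigma_f hf]
      ring
    have h2 := hperp p (by rw [hp, TransvectionUnitary.sub_left X.hf0, X.hf0.smul_left, hre, mul_one, sub_self])
    rw [hf.herm, h1, ← map_div₀]
    exact X.hσ0 ⟨_, h2⟩ ▸ (τ0 ⟨_, h2⟩).2
  let ψ : (ι → F₀) →ₗ[F₀] F₀ :=
    { toFun := fun x => ⟨_, hval x⟩
      map_add' := fun x y => Subtype.ext (by
        show _ / _ = _ / _ + _ / _
        rw [SubfieldRational.rat_add, hf.add_left, add_div])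
      map_smul' := fun t x => Subtype.ext (by
        show _ / _ = (t : F) * (_ / _)
        rw [SubfieldRational.rat_smul, hf.smul_left, mul_div_assoc]) }
  obtain ⟨w, hw⟩ := TransvectionUnitary.exists_row X.hf0 (fun i => ψ (Pi.single i 1))
  have hψ : ∀ x, ψ x = f0 x w := fun x => by
    rw [← hw, LinearMap.pi_apply_eq_sum_univ ψ x, dotProduct]
    refine Finset.sum_congr rfl fun i _ => ?_
    rw [smul_eq_mul, mul_comm]
    congr 2
    funext k
    simp [Pi.single_apply, eq_comm]
  have hz : u' - ρ • rat P w = 0 := by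
    by_contra h0
    obtain ⟨y, hy⟩ := (hf.nondegenerate _ h0).1
    refine hy (SubfieldRational.eq_zero_of_rat (F₀ := F₀) P (TransvectionUnitary.uLeft hf _) (fun x => ?_) y)
    show f (rat P x) (u' - ρ • rat P w) = 0
    have h1 : f (rat P x) u' / σ ρ = f (rat P x) (rat P w) := by
      rw [← X.hf0c, ← hψ]; rfl
    rw [div_eq_iff ((map_ne_zero σ).mpr hρ)] at h1
    rw [TransvectionUnitary.sub_right hf, TransvectionUnitary.smul_right hf, h1]
    ring
  have hu : u = α • rat P e + ρ • rat P w := by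
    rw [sub_eq_zero] at hz
    rw [← hz, hu', add_sub_cancel]
  refine ⟨α, w, hu, Subtype.ext ?_⟩
  have h1 := hue
  rw [hu, hf.add_left, hf.smul_left, hf.smul_left, X.zero_of hee, mul_zero, zero_add, mul_eq_zero] at h1
  rw [X.hf0c]
  exact h1.resolve_left hρ

section NoIrr

variable (hno : ∀ c, Cen σ f P f0 M c → c ∈ F₀)
include hno

/-- The root elements at a rational vector have rational products with rational isotropic vectors. -/
lemma Ctx.val_rat {e y : ι → F₀} (he0 : e ≠ 0) (hee : f0 e e = 0) (hyy : f0 y y = 0) (hye : f0 y e = 0)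
    {w : ι → F} {s : F} (hw : f w (rat P e) = 0) (h : InE f M (rat P e) w s) : f w (rat P y) ∈ F₀ := by
  by_cases hy : y ∈ Submodule.span F₀ {e}
  · obtain ⟨t, rfl⟩ := Submodule.mem_span_singleton.mp hy
    rw [SubfieldRational.rat_smul, TransvectionUnitary.smul_right X.hf, hw, mul_zero]
    exact F₀.zero_mem
  obtain ⟨c0, hc0, hc0'⟩ := exists_tz X.hf0
  obtain ⟨s', h'⟩ := inE_conj_div X.hf (X.zero_of hee) hw (X.zero_of hyy) (X.zero_of hye) (X.tz hc0')
    (X.hlift y c0 hyy hc0') h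
  have h1 : (c0 : F) * f w (rat P y) ∈ F₀ := by
    by_contra hirr
    obtain ⟨c, hc, hcirr⟩ := X.irr_of_pair he0 hee hyy hye hy h' hirr
    exact hcirr (hno c hc)
  have hc0F : (c0 : F) ≠ 0 := fun h0 => hc0 (Subtype.ext h0)
  rw [← mul_div_cancel_left₀ (f w (rat P y)) hc0F]
  exact F₀.div_mem h1 c0.2

/-- The centre of an irrational transvection is not orthogonal to a rational isotropic vector. -/
lemma Ctx.centre_ne {u : ι → F} (hu : ¬ ∃ (k : F) (z : ι → F₀), u = k • rat P z) (huu : f u u = 0) {c : F}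
    (hc : σ c = -c) (hc0 : c ≠ 0) (hM : Tg σ f u c ∈ M) {e : ι → F₀} (he0 : e ≠ 0) (hee : f0 e e = 0) :
    f u (rat P e) ≠ 0 := by
  intro hue
  have hf := X.hf
  have hval : ∀ k : ι → F₀, f0 k k = 0 → f0 k e = 0 → ∀ y : ι → F₀, f0 y y = 0 → f0 y e = 0 →
      c * σ (f u (rat P k)) * f u (rat P y) ∈ F₀ := by
    intro k hkk hke y hyy hye
    obtain ⟨s0, h, hhM, hE⟩ := X.rat_root hee hkk hke 1
    have himg : (h : Matrix ι ι F) *ᵥ u = u + (-f u (rat P k)) • rat P e := by
      rw [hE, hue, OneMemClass.coe_one, one_smul]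
      module
    have h1 := M.mul_mem (M.mul_mem hhM hM) (M.inv_mem hhM)
    rw [tg_conj hf (X.hiso _ hhM) huu, himg] at h1
    have h2 := inE_pair hf huu (X.zero_of hee) hue hc h1 hM
    have h3 := X.val_rat hno he0 hee hyy hye (by rw [hf.smul_left, hue, mul_zero]) h2
    rw [hf.smul_left, map_neg] at h3
    simpa using F₀.neg_mem h3
  by_cases hall : ∀ k : ι → F₀, f0 k k = 0 → f0 k e = 0 → f u (rat P k) = 0
  · obtain ⟨θ, hθ⟩ : ∃ θ : F, θ ∉ F₀ := by
      by_contra! h
      exact hu ⟨1, fun i => ⟨(((P⁻¹ : GL ι F) : Matrix ι ι F) *ᵥ u) i, h _⟩,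
        ((one_smul F _).trans (act_inv_act P u)).symm⟩
    have hz : ∀ (ρ : F) (y : ι → F₀), f0 y y = 0 → f0 y e = 0 → f u (rat P y) / ρ ∈ F₀ := fun ρ y hyy hye => by
      rw [hall y hyy hye, zero_div]; exact F₀.zero_mem
    have hθ0 : θ ≠ 0 := fun h => hθ (h ▸ F₀.zero_mem)
    obtain ⟨α, w, hw, hwe⟩ := X.hmod he0 hee hue one_ne_zero (hz 1)
    obtain ⟨α', w', hw', hwe'⟩ := X.hmod he0 hee hue hθ0 (hz θ)
    have hw0 : w' = 0 := by
      by_contra h0
      by_cases hdep : w' ∈ Submodule.span F₀ {e}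
      · obtain ⟨t, rfl⟩ := Submodule.mem_span_singleton.mp hdep
        exact hu ⟨α' + θ * t, e, by rw [hw', SubfieldRational.rat_smul, smul_smul, add_smul]⟩
      · have h2 : θ • rat P w' + (α' - α) • rat P e = rat P w := by
          linear_combination (norm := module) hw - hw'
        exact hθ (SubfieldRational.rat_coeff_mem P he0 hdep h2).1
    refine hu ⟨α', e, ?_⟩
    rw [hw', hw0, SubfieldRational.rat_zero, smul_zero, add_zero]
  push Not at hall
  obtain ⟨k0, hk0, hk0e, hρ⟩ := hall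
  set ρ := f u (rat P k0)
  have hcρ : c * σ ρ * ρ ∈ F₀ := hval k0 hk0 hk0e k0 hk0 hk0e
  have hσρ : σ ρ ≠ 0 := (map_ne_zero σ).mpr hρ
  obtain ⟨α, w, hw, hwe⟩ := X.hmod he0 hee hue hρ fun y hyy hye => by
    rw [show f u (rat P y) / ρ = c * σ ρ * f u (rat P y) / (c * σ ρ * ρ) by field_simp]
    exact F₀.div_mem (hval k0 hk0 hk0e y hyy hye) hcρ
  have hwi : w ∉ Submodule.span F₀ {e} := fun h => by
    obtain ⟨t, rfl⟩ := Submodule.mem_span_singleton.mp h
    exact hu ⟨α + ρ * t, e, by rw [hw, SubfieldRational.rat_smul, smul_smul, add_smul]⟩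
  have hww : f0 w w = 0 := by
    have h := huu
    simp only [hw, hf.add_left, TransvectionUnitary.add_right hf, hf.smul_left, TransvectionUnitary.smul_right hf,
      X.zero_of hee, X.zero_of hwe, skew_zero hf (X.zero_of hwe), mul_zero, add_zero, zero_add, mul_eq_zero, hρ,
      hσρ, false_or] at h
    exact Subtype.ext (by rw [X.hf0c]; exact h)
  set a := α / ρ with ha
  have haF : a ∉ F₀ := fun h => hu ⟨ρ, (⟨a, h⟩ : F₀) • e + w, by
    rw [hw, SubfieldRational.rat_add, SubfieldRational.rat_smul, smul_add, smul_smul]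
    show _ = (ρ * a) • _ + _
    rw [ha, mul_div_cancel₀ _ hρ]⟩
  have hu2 : u = ρ • (rat P w + a • rat P e) := by
    rw [hw, smul_add, smul_smul, ha, mul_div_cancel₀ _ hρ, add_comm]
  have hiso : f (rat P w + a • rat P e) (rat P w + a • rat P e) = 0 := by
    simp only [hf.add_left, TransvectionUnitary.add_right hf, hf.smul_left, TransvectionUnitary.smul_right hf,
      X.zero_of hww, X.zero_of hee, X.zero_of hwe, skew_zero hf (X.zero_of hwe)]
    ring
  rw [hu2, tg_smul hf hiso] at hM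
  set c' : F₀ := ⟨c * σ ρ * ρ, hcρ⟩
  have hc' : τ0 c' = -c' := Subtype.ext (by
    rw [X.hσ0]
    show σ (c * σ ρ * ρ) = -(c * σ ρ * ρ)
    rw [map_mul, map_mul, hc, sigma_sigma hf]
    ring)
  rw [show c * ρ * σ ρ = (c' : F) by show _ = c * σ ρ * ρ; ring] at hM
  have h2 := inE_pair hf (X.zero_of hww) (X.zero_of hee) (X.zero_of hwe) (X.tz hc') hM (X.hlift w c' hww hc')
  have h3 : (c' : F) * σ a ∈ F₀ := by
    by_contra hirr
    obtain ⟨c, hc, hcirr⟩ := X.irr_of_pair he0 hee hww hwe hwi h2 hirr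
    exact hcirr (hno c hc)
  have hc'0 : (c' : F) ≠ 0 := mul_ne_zero (mul_ne_zero hc0 hσρ) hρ
  have h4 : σ a ∈ F₀ := by
    rw [← mul_div_cancel_left₀ (σ a) hc'0]; exact F₀.div_mem h3 c'.2
  exact haF (sigma_sigma hf a ▸ X.hσ0 ⟨_, h4⟩ ▸ (τ0 ⟨_, h4⟩).2)

end NoIrr

set_option maxHeartbeats 2000000 in
/-- An overgroup of the rational group not preserving the rational lines has an irrational centre. -/
theorem Ctx.exists_irr {g : GL ι F} (hgM : g ∈ M)
    (hg : g ∉ Cfsg.Geo.subfieldSubgroup F₀ P) : ∃ c, Cen σ f P f0 M c ∧ c ∉ F₀ := by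
  classical
  by_contra hcon
  have hno : ∀ c, Cen σ f P f0 M c → c ∈ F₀ := fun c hc => by_contra fun h => hcon ⟨c, hc, h⟩
  have hf := X.hf
  have hf0 := X.hf0
  have hn := X.hn
  haveI : Nonempty ι := Fintype.card_pos_iff.mp (by omega)
  obtain ⟨c0, hc0, hc0'⟩ := exists_tz hf0
  have hc0F : (c0 : F) ≠ 0 := fun h0 => hc0 (Subtype.ext h0)
  have hcz : σ (c0 : F) = -(c0 : F) := X.tz hc0'
  let Line : (ι → F) → Prop := fun v => ∃ (k : F) (z : ι → F₀), v = k • rat P z
  have hA : ∀ {u : ι → F}, ¬ Line u → f u u = 0 → Tg σ f u (c0 : F) ∈ M → ∀ {e : ι → F₀}, e ≠ 0 →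
      f0 e e = 0 → f u (rat P e) ≠ 0 :=
    fun h1 h2 h3 _ he0 hee => X.centre_ne hno h1 h2 hcz hc0F h3 he0 hee
  have hgi := X.hiso g hgM
  have hTg : ∀ (b : ι → F₀), f0 b b = 0 → ∀ c : F₀, τ0 c = -c →
      Tg σ f ((g : Matrix ι ι F) *ᵥ rat P b) (c : F) ∈ M := fun b hb c hc => by
    rw [← tg_conj hf hgi (X.zero_of hb)]
    exact M.mul_mem (M.mul_mem hgM (X.hlift b c hb hc)) (M.inv_mem hgM)
  -- an irrational image of an isotropic vector
  obtain ⟨a, ha0, haa, hairr⟩ : ∃ a : ι → F₀, a ≠ 0 ∧ f0 a a = 0 ∧ ¬ Line ((g : Matrix ι ι F) *ᵥ rat P a) := by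
    by_contra! h
    refine hg ((SubfieldRational.mem_subfieldSubgroup_iff P g).mpr fun x => ?_)
    have hl : ∀ b : ι → F₀, f0 b b = 0 → Line ((g : Matrix ι ι F) *ᵥ rat P b) := fun b hb => by
      rcases eq_or_ne b 0 with rfl | hb0
      · exact ⟨0, 0, by rw [SubfieldRational.rat_zero, Matrix.mulVec_zero, zero_smul]⟩
      · exact h b hb0 hb
    obtain ⟨z, -, z', -, hzz, hzz', rfl⟩ := iso_pair_low hf0
      (W := (⊥ : Submodule F₀ (ι → F₀))) (hn := by rw [finrank_bot]; omega)
      (u := x) (fun w hw => by rw [(Submodule.mem_bot F₀).mp hw, TransvectionUnitary.zero_right hf0])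
    by_cases hxx : f0 (z + z') (z + z') = 0
    · exact hl _ hxx
    set β := f0 z z' with hβ
    have hβ' : f0 z' z = τ0 β := hf0.herm z' z
    have hsum : β + τ0 β ≠ 0 := by
      intro h0
      apply hxx
      rw [hf0.add_left, TransvectionUnitary.add_right hf0, TransvectionUnitary.add_right hf0, hzz, hzz', hβ',
        ← hβ]
      linear_combination h0
    have hβ0 : β ≠ 0 := fun h0 => hsum (by rw [h0, map_zero, add_zero])
    set t := c0 * β
    have ht : t ≠ 0 := mul_ne_zero hc0 hβ0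
    have h3 : f0 (z + t • z') (z + t • z') = 0 := by
      simp only [hf0.add_left, TransvectionUnitary.add_right hf0, hf0.smul_left, TransvectionUnitary.smul_right hf0,
        hzz, hzz', hβ', ← hβ, t, map_mul, hc0']
      ring
    obtain ⟨k1, A, hA1⟩ := hl z hzz
    obtain ⟨k2, B, hB1⟩ := hl z' hzz'
    obtain ⟨k3, D, hD1⟩ := hl _ h3
    rw [SubfieldRational.rat_add, SubfieldRational.rat_smul, Matrix.mulVec_add, Matrix.mulVec_smul, hA1, hB1] at hD1
    rw [SubfieldRational.rat_add, Matrix.mulVec_add, hA1, hB1]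
    have hz'0 : z' ≠ 0 := fun h0 => hxx (by rw [h0, add_zero, hzz])
    have hzi : z ∉ Submodule.span F₀ {z'} := fun h0 => by
      obtain ⟨m, rfl⟩ := Submodule.mem_span_singleton.mp h0
      apply hxx
      simp only [hf0.add_left, TransvectionUnitary.add_right hf0, hf0.smul_left,
        TransvectionUnitary.smul_right hf0, hzz']
      ring
    have hind : ∀ s s' : F, s • (k1 • rat P A) + s' • (k2 • rat P B) = 0 → s = 0 ∧ s' = 0 := fun s s' h0 => by
      refine SubfieldRational.rat_indep P hz'0 hzi (act_injective g ?_)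
      simpa [Matrix.mulVec_add, Matrix.mulVec_smul, hA1, hB1] using h0
    have hk1 : k1 ≠ 0 := fun h0 => one_ne_zero (hind 1 0 (by rw [h0]; simp)).1
    have hk2 : k2 ≠ 0 := fun h0 => one_ne_zero (hind 0 1 (by rw [h0]; simp)).2
    have hB0 : B ≠ 0 := fun h0 => one_ne_zero (hind 0 1 (by rw [h0, SubfieldRational.rat_zero]; simp)).2
    have hAi : A ∉ Submodule.span F₀ {B} := fun h0 => by
      obtain ⟨m, hm⟩ := Submodule.mem_span_singleton.mp h0
      refine one_ne_zero (hind 1 (-(k1 * m / k2)) ?_).1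
      rw [← hm, SubfieldRational.rat_smul, smul_smul, smul_smul, smul_smul, one_mul, neg_mul,
        div_mul_cancel₀ _ hk2, neg_smul, add_neg_cancel]
    have hk3 : k3 ≠ 0 := fun h0 => one_ne_zero (hind 1 (t : F) (by rw [one_smul, hD1, h0, zero_smul])).1
    obtain ⟨m1, m2⟩ := SubfieldRational.rat_coeff_mem P hB0 hAi (a := k1 / k3) (b := (t : F) * k2 / k3)
      (z := D) (by
        rw [div_eq_inv_mul, div_eq_inv_mul, ← smul_smul, ← smul_smul, ← smul_smul (t : F), ← smul_add, hD1,
          smul_smul, inv_mul_cancel₀ hk3, one_smul])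
    have htF : (t : F) ≠ 0 := fun h0 => ht (Subtype.ext h0)
    have hratio : k2 / k1 ∈ F₀ := by
      rw [show k2 / k1 = ((t : F) * k2 / k3) / (k1 / k3) / (t : F) by field_simp]
      exact F₀.div_mem (F₀.div_mem m2 m1) t.2
    refine ⟨k1, A + (⟨_, hratio⟩ : F₀) • B, ?_⟩
    rw [SubfieldRational.rat_add, SubfieldRational.rat_smul, smul_add, smul_smul]
    show _ = _ + (k1 * (k2 / k1)) • _
    rw [mul_div_cancel₀ _ hk1]
  obtain ⟨a', -, ha'i, ha'a', -, ha'a, -, -⟩ := iso_line hf0 hn ha0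
  set u := (g : Matrix ι ι F) *ᵥ rat P a with hudef
  set u' := (g : Matrix ι ι F) *ᵥ rat P a' with hu'def
  have huu : f u u = 0 := by rw [hgi]; exact X.zero_of haa
  have hu'u' : f u' u' = 0 := by rw [hgi]; exact X.zero_of ha'a'
  have hu'u : f u' u = 0 := by rw [hgi]; exact X.zero_of ha'a
  have huu' : f u u' = 0 := skew_zero hf hu'u
  have hTu : Tg σ f u (c0 : F) ∈ M := hTg a haa c0 hc0'
  have hue : ∀ {e : ι → F₀}, e ≠ 0 → f0 e e = 0 → f u (rat P e) ≠ 0 := fun he0 hee => hA hairr huu hTu he0 hee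
  have hcomb : ∀ (p q : F₀) {e : ι → F₀}, e ≠ 0 → f0 e e = 0 →
      (p : F) * f u (rat P e) + (q : F) * f u' (rat P e) = 0 → p = 0 ∧ q = 0 := by
    intro p q e he0 hee h0
    by_contra hne
    set v := p • a + q • a' with hv
    have hvv : f0 v v = 0 := by
      simp only [hv, hf0.add_left, TransvectionUnitary.add_right hf0, hf0.smul_left,
        TransvectionUnitary.smul_right hf0, haa, ha'a', ha'a, skew_zero hf0 ha'a]
      ring
    have hz : (g : Matrix ι ι F) *ᵥ rat P v = (p : F) • u + (q : F) • u' := by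
      rw [hv, SubfieldRational.rat_add, SubfieldRational.rat_smul, SubfieldRational.rat_smul, Matrix.mulVec_add,
        Matrix.mulVec_smul, Matrix.mulVec_smul]
    have hv0 : v ≠ 0 := by
      intro h
      rcases eq_or_ne q 0 with rfl | hq
      · rw [hv, zero_smul, add_zero, smul_eq_zero] at h
        exact hne ⟨h.resolve_right ha0, rfl⟩
      · refine ha'i (Submodule.mem_span_singleton.mpr ⟨-(q⁻¹ * p), ?_⟩)
        rw [neg_smul, ← smul_smul, show p • a = -(q • a') from eq_neg_of_add_eq_zero_left h, smul_neg, neg_neg,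
          smul_smul, inv_mul_cancel₀ hq, one_smul]
    set z := (g : Matrix ι ι F) *ᵥ rat P v
    have hzz : f z z = 0 := by rw [hgi]; exact X.zero_of hvv
    have hzl : ¬ Line z := by
      rintro ⟨k, w, hkw⟩
      have hz0 : z ≠ 0 := act_ne_zero g fun h => hv0 (SubfieldRational.rat_eq_zero P h)
      have hk : k ≠ 0 := fun h => hz0 (by rw [hkw, h, zero_smul])
      have hw0 : w ≠ 0 := fun h => hz0 (by rw [hkw, h, SubfieldRational.rat_zero, smul_zero])
      have hww : f0 w w = 0 := by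
        have := hzz
        rw [hkw, hf.smul_left, TransvectionUnitary.smul_right hf] at this
        simp only [mul_eq_zero, hk, map_eq_zero, false_or] at this
        exact Subtype.ext (by rw [X.hf0c]; exact this)
      refine hue hw0 hww ?_
      have h1 : f u z = 0 := by
        rw [hz, TransvectionUnitary.add_right hf, TransvectionUnitary.smul_right hf,
          TransvectionUnitary.smul_right hf, huu, huu']
        ring
      rw [hkw, TransvectionUnitary.smul_right hf, mul_eq_zero, map_eq_zero] at h1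
      exact h1.resolve_left hk
    refine hA hzl hzz (hTg v hvv c0 hc0') he0 hee ?_
    rw [hz, hf.add_left, hf.smul_left, hf.smul_left, h0]
  let αf : (ι → F₀) → F := fun e => f u' (rat P e) / f u (rat P e)
  let rf : (ι → F₀) → ι → F := fun e => u' - αf e • u
  have hαirr : ∀ {e : ι → F₀}, e ≠ 0 → f0 e e = 0 → αf e ∉ F₀ := by
    intro e he0 hee h
    have := hcomb (-⟨_, h⟩) 1 he0 hee (by
      show -(αf e) * _ + 1 * _ = 0
      simp only [αf, neg_mul, div_mul_cancel₀ _ (hue he0 hee), one_mul, neg_add_cancel])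
    exact one_ne_zero this.2
  have hru : ∀ e, f (rf e) u = 0 := fun e => by
    simp only [rf, TransvectionUnitary.sub_left hf, hf.smul_left, hu'u, huu]; ring
  have hre : ∀ {e : ι → F₀}, e ≠ 0 → f0 e e = 0 → f (rf e) (rat P e) = 0 := fun he0 hee => by
    simp only [rf, αf, TransvectionUnitary.sub_left hf, hf.smul_left, div_mul_cancel₀ _ (hue he0 hee), sub_self]
  have hrr : ∀ e, f (rf e) (rf e) = 0 := fun e => by
    simp only [rf, TransvectionUnitary.sub_left hf, TransvectionUnitary.sub_right hf, hf.smul_left,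
      TransvectionUnitary.smul_right hf, hu'u', hu'u, huu', huu]
    ring
  have hr0 : ∀ e, rf e ≠ 0 := fun e h => by
    rw [sub_eq_zero] at h
    have h1 : (1 : F) • rat P a' + (-αf e) • rat P a = 0 := act_injective g (by
      show (g : Matrix ι ι F) *ᵥ _ = (g : Matrix ι ι F) *ᵥ 0
      rw [Matrix.mulVec_add, Matrix.mulVec_smul, Matrix.mulVec_smul, Matrix.mulVec_zero, ← hudef, ← hu'def, h]
      module)
    exact one_ne_zero (SubfieldRational.rat_indep P ha0 ha'i h1).1
  have hrline : ∀ e, ¬ Line (rf e) := by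
    rintro e ⟨k, w, hkw⟩
    have hk : k ≠ 0 := fun h => hr0 e (by rw [hkw, h, zero_smul])
    have hw0 : w ≠ 0 := fun h => hr0 e (by rw [hkw, h, SubfieldRational.rat_zero, smul_zero])
    have h1 := hrr e
    rw [hkw, hf.smul_left, TransvectionUnitary.smul_right hf] at h1
    simp only [mul_eq_zero, hk, map_eq_zero, false_or] at h1
    have h2 := hru e
    rw [hkw, hf.smul_left, mul_eq_zero] at h2
    exact hue hw0 (Subtype.ext (by rw [X.hf0c]; exact h1)) (skew_zero hf (h2.resolve_left hk))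
  -- a good vector
  let Bad : (ι → F₀) → Prop := fun e => ∃ (p q : F) (w : ι → F₀), rf e = p • rat P e + q • rat P w
  obtain ⟨e, he0, hee, hgood⟩ : ∃ e : ι → F₀, e ≠ 0 ∧ f0 e e = 0 ∧ ¬ Bad e := by
    by_contra! hbad
    obtain ⟨e1, -, he10, he11, -, -, -⟩ := X.exists_pair
    obtain ⟨p1, q1, w1, hb1⟩ := hbad e1 he10 he11
    set L1 := Submodule.span F₀ (Set.range ![e1, w1])
    have hL1 : Module.finrank F₀ L1 ≤ 2 := (finrank_range_le_card _).trans_eq (Fintype.card_fin 2)
    obtain ⟨e2, -, he22, he2n⟩ := iso_notMem_low hf0 (W := (⊥ : Submodule F₀ (ι → F₀)))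
      (S := L1) (by rw [finrank_bot]; omega) (by rw [finrank_bot]; omega)
    have he20 : e2 ≠ 0 := fun h => he2n (h ▸ Submodule.zero_mem _)
    obtain ⟨p2, q2, w2, hb2⟩ := hbad e2 he20 he22
    have hm : ∀ {S : Submodule F₀ (ι → F₀)} {e w : ι → F₀} (p q : F), e ∈ S → w ∈ S →
        p • rat P e + q • rat P w ∈ ext P S := fun p q he hw =>
      (ext P _).add_mem ((ext P _).smul_mem _ (rat_mem_ext P he)) ((ext P _).smul_mem _ (rat_mem_ext P hw))
    by_cases hα : αf e1 = αf e2
    · have hx : rf e2 ∈ ext P L1 := by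
        rw [show rf e2 = rf e1 by simp only [rf, hα], hb1]
        exact hm _ _ (Submodule.subset_span ⟨0, rfl⟩) (Submodule.subset_span ⟨1, rfl⟩)
      obtain ⟨z, hz⟩ := reduce P hx (ext P L1).zero_mem he2n (q1 := p2) (q2 := q2) (w := w2)
        (by rw [hb2, zero_add])
      exact hrline e2 ⟨q2, z, by rw [hz, zero_add]⟩
    have hBf : ∀ {e w : ι → F₀} {p q : F}, e ≠ 0 → f0 e e = 0 → rf e = p • rat P e + q • rat P w →
        q ≠ 0 ∧ f0 w e = 0 ∧ f0 w w = 0 ∧ w ∉ Submodule.span F₀ {e} := by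
      intro e w p q he0 hee hb
      have hq : q ≠ 0 := fun h => hrline e ⟨p, e, by rw [hb, h, zero_smul, add_zero]⟩
      have h1 := hre he0 hee
      rw [hb, hf.add_left, hf.smul_left, hf.smul_left, X.zero_of hee, mul_zero, zero_add, mul_eq_zero] at h1
      have hwe : f0 w e = 0 := Subtype.ext (by rw [X.hf0c]; exact h1.resolve_left hq)
      have h2 := hrr e
      simp only [hb, hf.add_left, TransvectionUnitary.add_right hf, hf.smul_left,
        TransvectionUnitary.smul_right hf, X.zero_of hee, X.zero_of hwe, skew_zero hf (X.zero_of hwe),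
        mul_zero, add_zero, zero_add, mul_eq_zero, hq, map_eq_zero, false_or] at h2
      refine ⟨hq, hwe, Subtype.ext (by rw [X.hf0c]; exact h2), fun hm => ?_⟩
      obtain ⟨c, rfl⟩ := Submodule.mem_span_singleton.mp hm
      exact hrline e ⟨p + q * c, e, by rw [hb, SubfieldRational.rat_smul, smul_smul, add_smul]⟩
    obtain ⟨hq1, hw1e, hw11, hw1n⟩ := hBf he10 he11 hb1
    obtain ⟨hq2, hw2e, hw22, hw2n⟩ := hBf he20 he22 hb2
    -- two classes with different ratios span u
    have hdiff : αf e2 - αf e1 ≠ 0 := sub_ne_zero.mpr (Ne.symm hα)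
    have hu12 : ∀ {x : ι → F₀}, f (rf e1) (rat P x) = 0 → f (rf e2) (rat P x) = 0 →
        f u (rat P x) = 0 := fun {x} h1 h2 => by
      simp only [rf, TransvectionUnitary.sub_left hf, hf.smul_left] at h1 h2
      exact (mul_eq_zero.mp (show (αf e2 - αf e1) * f u (rat P x) = 0 by
        linear_combination h1 - h2)).resolve_left hdiff
    have hsame : ∀ {x : ι → F₀}, x ≠ 0 → f0 x x = 0 → ∀ {e' : ι → F₀},
        f (rf e') (rat P x) = 0 → αf e' = αf x := fun {x} hx0 hxx e' h => by
      simp only [rf, TransvectionUnitary.sub_left hf, hf.smul_left] at h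
      show αf e' = f u' (rat P x) / f u (rat P x)
      rw [eq_div_iff (hue hx0 hxx)]
      linear_combination -h
    -- the second plane
    set A := f0 e1 e2
    set B := f0 e1 w2
    have hAB : A ≠ 0 ∨ B ≠ 0 := by
      by_contra! h
      refine hue he10 he11 (hu12 (hre he10 he11) ?_)
      rw [hb2, hf.add_left, hf.smul_left, hf.smul_left, skew_zero hf (X.zero_of h.1),
        skew_zero hf (X.zero_of h.2), mul_zero, mul_zero, add_zero]
    have hP2 : ∀ x ∈ Submodule.span F₀ {e2, w2}, f0 x x = 0 ∧ f (rf e2) (rat P x) = 0 := by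
      intro x hx
      obtain ⟨c, d, rfl⟩ := Submodule.mem_span_pair.mp hx
      constructor
      · simp only [hf0.add_left, TransvectionUnitary.add_right hf0, hf0.smul_left,
          TransvectionUnitary.smul_right hf0, he22, hw22, hw2e, skew_zero hf0 hw2e]
        ring
      · simp only [hb2, SubfieldRational.rat_add, SubfieldRational.rat_smul, hf.add_left,
          TransvectionUnitary.add_right hf, hf.smul_left, TransvectionUnitary.smul_right hf,
          X.zero_of he22, X.zero_of hw22, X.zero_of hw2e, skew_zero hf (X.zero_of hw2e)]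
        ring
    have hP22 : ∀ x ∈ Submodule.span F₀ {e2, w2}, ∀ y ∈ Submodule.span F₀ {e2, w2}, f0 x y = 0 := by
      intro x hx y hy
      obtain ⟨c, d, rfl⟩ := Submodule.mem_span_pair.mp hx
      obtain ⟨c', d', rfl⟩ := Submodule.mem_span_pair.mp hy
      simp only [hf0.add_left, TransvectionUnitary.add_right hf0, hf0.smul_left,
        TransvectionUnitary.smul_right hf0, he22, hw22, hw2e, skew_zero hf0 hw2e]
      ring
    obtain ⟨z2, hz2, hz21⟩ : ∃ z2 ∈ Submodule.span F₀ {e2, w2}, f0 e1 z2 = 1 := by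
      rcases hAB with h | h
      · exact ⟨τ0 A⁻¹ • e2, Submodule.smul_mem _ _ (Submodule.subset_span (by simp)), by
          rw [TransvectionUnitary.smul_right hf0, sigma_sigma hf0, inv_mul_cancel₀ h]⟩
      · exact ⟨τ0 B⁻¹ • w2, Submodule.smul_mem _ _ (Submodule.subset_span (by simp)), by
          rw [TransvectionUnitary.smul_right hf0, sigma_sigma hf0, inv_mul_cancel₀ h]⟩
    set v2 := τ0 B • e2 - τ0 A • w2 with hv2def
    have hv2 : v2 ∈ Submodule.span F₀ {e2, w2} :=
      Submodule.sub_mem _ (Submodule.smul_mem _ _ (Submodule.subset_span (by simp)))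
        (Submodule.smul_mem _ _ (Submodule.subset_span (by simp)))
    have hv2e1 : f0 e1 v2 = 0 := by
      rw [hv2def, TransvectionUnitary.sub_right hf0, TransvectionUnitary.smul_right hf0,
        TransvectionUnitary.smul_right hf0, sigma_sigma hf0, sigma_sigma hf0]
      ring
    have hv20 : v2 ≠ 0 := fun h => by
      rw [hv2def, sub_eq_zero] at h
      rcases eq_or_ne (τ0 A) 0 with hA0 | hA0
      · rw [hA0, zero_smul, smul_eq_zero] at h
        exact hAB.elim (fun hA => hA ((map_eq_zero τ0).mp hA0))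
          fun hB => hB ((map_eq_zero τ0).mp (h.resolve_right he20))
      · exact hw2n (Submodule.mem_span_singleton.mpr ⟨(τ0 A)⁻¹ * τ0 B, by
          rw [← smul_smul, h, smul_smul, inv_mul_cancel₀ hA0, one_smul]⟩)
    obtain ⟨hv22, hv2r⟩ := hP2 v2 hv2
    obtain ⟨hz22, hz2r⟩ := hP2 z2 hz2
    set w1' := w1 - f0 w1 z2 • e1 with hw1'def
    set p1' := p1 + q1 * (f0 w1 z2 : F) with hp1'def
    have hb1' : rf e1 = p1' • rat P e1 + q1 • rat P w1' := by
      rw [hb1, hw1'def, hp1'def, SubfieldRational.rat_sub, SubfieldRational.rat_smul]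
      module
    obtain ⟨-, hw1'e, hw1'w, -⟩ := hBf he10 he11 hb1'
    have hw1'z : f0 w1' z2 = 0 := by
      rw [hw1'def, TransvectionUnitary.sub_left hf0, hf0.smul_left, hz21, mul_one, sub_self]
    have hp1 : p1' ≠ 0 := fun h => hrline e1 ⟨q1, w1', by rw [hb1', h, zero_smul, zero_add]⟩
    obtain ⟨mm, hmm⟩ : ∃ mm : F₀, f0 w1' v2 = mm := ⟨_, rfl⟩
    have hmm0 : mm ≠ 0 := fun h => by
      refine hue hv20 hv22 (hu12 ?_ hv2r)
      rw [hb1', hf.add_left, hf.smul_left, hf.smul_left, X.zero_of hv2e1, ← X.hf0c w1', hmm, h]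
      simp
    obtain ⟨t, ht⟩ := X.irr_trace (δ := p1' / q1 * (mm : F)⁻¹) fun h => by
      refine hrline e1 ⟨q1, (⟨_, h⟩ : F₀) • (mm • e1) + w1', ?_⟩
      rw [hb1', SubfieldRational.rat_add, SubfieldRational.rat_smul, SubfieldRational.rat_smul, smul_add,
        smul_smul, smul_smul]
      congr 2
      show p1' = q1 * (p1' / q1 * (mm : F)⁻¹) * (mm : F)
      have : (mm : F) ≠ 0 := fun h0 => hmm0 (Subtype.ext h0)
      field_simp
    refine ht ?_
    have ht0 : t ≠ 0 := fun h => ht (by simp [h])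
    set e3 := e1 + t • v2 with he3def
    have he33 : f0 e3 e3 = 0 := by
      simp only [he3def, hf0.add_left, TransvectionUnitary.add_right hf0, hf0.smul_left,
        TransvectionUnitary.smul_right hf0, he11, hv22, hv2e1, skew_zero hf0 hv2e1]
      ring
    have he30 : e3 ≠ 0 := fun h => by
      have h1 := congrArg (f0 · z2) h
      simp only [he3def, hf0.add_left, hf0.smul_left, hz21, hP22 v2 hv2 z2 hz2,
        TransvectionUnitary.zero_left hf0, mul_zero, add_zero] at h1
      exact one_ne_zero h1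
    obtain ⟨p3, q3, w3, hb3⟩ := hbad e3 he30 he33
    obtain ⟨hq3, hw3e, -, -⟩ := hBf he30 he33 hb3
    set cA := (αf e2 - αf e3) / (αf e2 - αf e1)
    have hr3 : rf e3 = cA • rf e1 + (1 - cA) • rf e2 := by
      have h : cA * αf e1 + (1 - cA) * αf e2 = αf e3 := by
        simp only [cA]; field_simp; ring
      simp only [rf]
      linear_combination (norm := module) h • u
    have hcA : cA ≠ 0 := fun h => hdiff (by
      have h23 : αf e2 = αf e3 := sub_eq_zero.mp ((div_eq_zero_iff.mp h).resolve_right hdiff)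
      have h1 := hre he30 he33
      rw [he3def, SubfieldRational.rat_add, SubfieldRational.rat_smul, TransvectionUnitary.add_right hf,
        TransvectionUnitary.smul_right hf, ← he3def, show rf e3 = rf e2 by simp only [rf, h23], hv2r, mul_zero,
        add_zero] at h1
      rw [sub_eq_zero]
      exact hsame he10 he11 h1)
    -- pairings of the third vector
    set a3 := f0 w3 z2
    set b3 := f0 w3 v2
    set c3 := f0 w3 w1'
    set d3 := f0 w3 e1
    have k1 : p3 + q3 * (a3 : F) = cA * p1' := by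
      have h := congrArg (f · (rat P z2)) (hb3.symm.trans hr3)
      simp only [he3def, SubfieldRational.rat_add, SubfieldRational.rat_smul, hf.add_left, hf.smul_left, hb1',
        hz2r, ← X.hf0c, hz21, hw1'z, hP22 v2 hv2 z2 hz2, ZeroMemClass.coe_zero, OneMemClass.coe_one] at h
      linear_combination h
    have k2 : q3 * (b3 : F) = cA * q1 * (mm : F) := by
      have h := congrArg (f · (rat P v2)) (hb3.symm.trans hr3)
      simp only [he3def, SubfieldRational.rat_add, SubfieldRational.rat_smul, hf.add_left, hf.smul_left, hb1',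
        hv2r, ← X.hf0c, hv2e1, hmm, hP22 v2 hv2 v2 hv2, ZeroMemClass.coe_zero] at h
      linear_combination h
    have k3 : d3 + τ0 t * b3 = 0 := by
      rw [← hw3e, he3def, TransvectionUnitary.add_right hf0, TransvectionUnitary.smul_right hf0]
    have hv2w : f0 v2 w1' = τ0 mm := by rw [hf0.herm, hmm]
    have k5 : σ q1 * (p3 * ((t : F) * (τ0 mm : F)) + q3 * (c3 : F)) + σ p1' * (q3 * (d3 : F)) = 0 := by
      have h : f (rf e3) (rf e1) = 0 := by
        simp only [rf, TransvectionUnitary.sub_left hf, TransvectionUnitary.sub_right hf, hf.smul_left,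
          TransvectionUnitary.smul_right hf, hu'u', hu'u, huu', huu]
        ring
      rw [hb1', hb3] at h
      simp only [he3def, SubfieldRational.rat_add, SubfieldRational.rat_smul, hf.add_left, hf.smul_left,
        TransvectionUnitary.add_right hf, TransvectionUnitary.smul_right hf, ← X.hf0c, he11, hw1'e,
        skew_zero hf0 hw1'e, skew_zero hf0 hv2e1, hv2w, ZeroMemClass.coe_zero] at h
      linear_combination h
    have hb30 : (b3 : F) ≠ 0 := fun h => by
      rw [h, mul_zero, eq_comm, mul_eq_zero, mul_eq_zero] at k2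
      rcases k2 with (h' | h') | h'
      · exact hcA h'
      · exact hq1 h'
      · exact hmm0 (Subtype.ext h')
    have hmF : (mm : F) ≠ 0 := fun h0 => hmm0 (Subtype.ext h0)
    have hσq : σ q1 ≠ 0 := (map_ne_zero σ).mpr hq1
    have hτm : (τ0 mm : F) = σ mm := X.hσ0 mm
    have hσm : σ (mm : F) ≠ 0 := (map_ne_zero σ).mpr hmF
    have k3' : (d3 : F) + σ t * (b3 : F) = 0 := by
      rw [← X.hσ0]; exact congrArg Subtype.val k3
    have key : p1' / q1 * (mm : F)⁻¹ * t - σ (p1' / q1 * (mm : F)⁻¹ * t) =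
        ((t : F) * (a3 : F) * σ mm - (c3 : F)) / ((b3 : F) * σ mm) := by
      simp only [map_mul, map_div₀, map_inv₀]
      field_simp
      have hp3 : p3 = cA * p1' - q3 * (a3 : F) := by linear_combination k1
      have hd3 : (d3 : F) = -(σ t * (b3 : F)) := by linear_combination k3'
      rw [hp3, hd3, hτm] at k5
      apply mul_left_cancel₀ hq3
      linear_combination (mm : F) * q1 * k5 + (t : F) * p1' * σ q1 * σ (mm : F) * k2
    rw [key, ← hτm]
    exact F₀.div_mem (F₀.sub_mem (F₀.mul_mem (F₀.mul_mem t.2 a3.2) (τ0 mm).2) c3.2)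
      (F₀.mul_mem b3.2 (τ0 mm).2)
  set α := αf e
  set r0 := rf e with hr0def
  have hαn : α ∉ F₀ := hαirr he0 hee
  have hu'dec : u' = α • u + r0 := by
    show u' = α • u + (u' - α • u)
    rw [add_sub_cancel]
  set X0 := rat P e with hX0
  have hX0X : f X0 X0 = 0 := X.zero_of hee
  set b := f u X0 with hbdef
  have hb : b ≠ 0 := hue he0 hee
  set μ := f X0 u with hμdef
  have hμ : μ ≠ 0 := TransvectionUnitary.skew_ne hf hb
  have hr0e : f r0 X0 = 0 := hre he0 hee
  have her0 : f X0 r0 = 0 := skew_zero hf hr0e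
  have hr0u : f r0 u = 0 := hru e
  have hur0 : f u r0 = 0 := skew_zero hf hr0u
  have hr0r : f r0 r0 = 0 := hrr e
  have hX0ne : X0 ≠ 0 := fun h => he0 (SubfieldRational.rat_eq_zero P h)
  -- the plane
  set W := Submodule.span F ({X0, u, r0} : Set (ι → F)) with hWdef
  have hX0W : X0 ∈ W := Submodule.subset_span (by simp)
  have huW : u ∈ W := Submodule.subset_span (by simp)
  have hr0W : r0 ∈ W := Submodule.subset_span (by simp)
  let φ : (ι → F) → F := fun x => f x u / μ
  let x1 : (ι → F) → F := fun x => f x X0 / b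
  have hcoords : ∀ w ∈ W, ∃ γ : F, w = φ w • X0 + x1 w • u + γ • r0 := by
    intro w hw
    obtain ⟨p, w', hw', rfl⟩ := Submodule.mem_span_insert.mp hw
    obtain ⟨q, γ, rfl⟩ := Submodule.mem_span_pair.mp hw'
    refine ⟨γ, ?_⟩
    simp only [φ, x1, hf.add_left, hf.smul_left, hX0X, huu, hr0e, hr0u, ← hbdef, ← hμdef, mul_zero, add_zero,
      zero_add, mul_div_assoc, div_self hμ, div_self hb, mul_one]
    abel
  let G : Subgroup (GL ι F) :=
    { carrier := {p | p ∈ M ∧ (∀ x, (p : Matrix ι ι F) *ᵥ x - x ∈ W) ∧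
        ∀ x, f x X0 = 0 → f x u = 0 → f x r0 = 0 → (p : Matrix ι ι F) *ᵥ x = x}
      one_mem' := ⟨M.one_mem, fun x => by rw [one_act, sub_self]; exact W.zero_mem, fun x _ _ _ => one_act x⟩
      mul_mem' := fun {p q} hp hq => ⟨M.mul_mem hp.1 hq.1, fun x => by
          rw [mul_act, ← sub_add_sub_cancel _ ((q : Matrix ι ι F) *ᵥ x) x]
          exact W.add_mem (hp.2.1 _) (hq.2.1 x),
        fun x h1 h2 h3 => by rw [mul_act, hq.2.2 x h1 h2 h3, hp.2.2 x h1 h2 h3]⟩
      inv_mem' := fun {p} hp => ⟨M.inv_mem hp.1, fun x => by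
          have := W.neg_mem (hp.2.1 (((p⁻¹ : GL ι F) : Matrix ι ι F) *ᵥ x))
          rwa [act_inv_act, neg_sub] at this, fun x h1 h2 h3 => by
          conv_lhs => rw [← hp.2.2 x h1 h2 h3]
          rw [inv_act_act]⟩ }
  have hGW : ∀ {p}, p ∈ G → ∀ w ∈ W, (p : Matrix ι ι F) *ᵥ w ∈ W := fun {p} hp w hw => by
    simpa using W.add_mem (hp.2.1 w) hw
  have hGr : ∀ {p}, p ∈ G → (p : Matrix ι ι F) *ᵥ r0 = r0 := fun hp => hp.2.2 r0 hr0e hr0u hr0r
  let ρ : GL ι F → Matrix (Fin 2) (Fin 2) F := fun p =>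
    !![φ ((p : Matrix ι ι F) *ᵥ X0), φ ((p : Matrix ι ι F) *ᵥ u);
       x1 ((p : Matrix ι ι F) *ᵥ X0), x1 ((p : Matrix ι ι F) *ᵥ u)]
  have hρmul : ∀ p q, p ∈ G → q ∈ G → ρ (p * q) = ρ p * ρ q := by
    intro p q hp hq
    have key : ∀ w ∈ W, φ ((p : Matrix ι ι F) *ᵥ w) =
          φ w * φ ((p : Matrix ι ι F) *ᵥ X0) + x1 w * φ ((p : Matrix ι ι F) *ᵥ u) ∧
        x1 ((p : Matrix ι ι F) *ᵥ w) =
          φ w * x1 ((p : Matrix ι ι F) *ᵥ X0) + x1 w * x1 ((p : Matrix ι ι F) *ᵥ u) := fun w hw => by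
      obtain ⟨γ, hγ⟩ := hcoords w hw
      constructor
      all_goals
        conv_lhs => rw [hγ, Matrix.mulVec_add, Matrix.mulVec_add, Matrix.mulVec_smul, Matrix.mulVec_smul,
          Matrix.mulVec_smul, hGr hp]
        simp only [φ, x1, hf.add_left, hf.smul_left, hr0u, hr0e, mul_zero, add_zero]
        ring
    obtain ⟨k00, k10⟩ := key _ (hGW hq X0 hX0W)
    obtain ⟨k01, k11⟩ := key _ (hGW hq u huW)
    ext i j
    fin_cases i <;> fin_cases j <;>
      simp [ρ, ← Matrix.mulVec_mulVec, k00, k10, k01, k11, Matrix.mul_apply, Fin.sum_univ_two] <;> ring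
  have hρ1 : ρ 1 = 1 := by
    ext i j
    fin_cases i <;> fin_cases j <;> simp [ρ, φ, x1, huu, hX0X, ← hbdef, ← hμdef, hμ, hb]
  let J : Subgroup SL(2, F) :=
    { carrier := {A | ∃ p ∈ G, ρ p = (A : Matrix (Fin 2) (Fin 2) F)}
      one_mem' := ⟨1, G.one_mem, hρ1⟩
      mul_mem' := fun {A B} hA hB => by
        obtain ⟨p, hp, hpA⟩ := hA
        obtain ⟨q, hq, hqB⟩ := hB
        exact ⟨p * q, G.mul_mem hp hq, by rw [hρmul p q hp hq, hpA, hqB]; rfl⟩
      inv_mem' := fun {A} hA => by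
        obtain ⟨p, hp, hpA⟩ := hA
        refine ⟨p⁻¹, G.inv_mem hp, ?_⟩
        have h := hρmul p⁻¹ p (G.inv_mem hp) hp
        rw [inv_mul_cancel, hρ1, hpA] at h
        calc ρ p⁻¹ = ρ p⁻¹ * ((A : Matrix (Fin 2) (Fin 2) F) * ((A⁻¹ : SL(2, F)) : Matrix (Fin 2) (Fin 2) F)) := by
              rw [← Matrix.SpecialLinearGroup.coe_mul, mul_inv_cancel, Matrix.SpecialLinearGroup.coe_one, mul_one]
          _ = _ := by rw [← mul_assoc, ← h, one_mul] }
  have hTG : ∀ {z : ι → F} {c : F}, z ∈ W → f z z = 0 → Tg σ f z c ∈ M → Tg σ f z c ∈ G := by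
    intro z c hz hzz hM
    refine ⟨hM, fun x => ?_, fun x h1 h2 h3 => ?_⟩
    · rw [tg_act hf hzz, add_sub_cancel_left]; exact W.smul_mem _ hz
    · have h0 : f x z = 0 := by
        obtain ⟨γ, hγ⟩ := hcoords z hz
        rw [hγ, TransvectionUnitary.add_right hf, TransvectionUnitary.add_right hf,
          TransvectionUnitary.smul_right hf, TransvectionUnitary.smul_right hf,
          TransvectionUnitary.smul_right hf, h1, h2, h3]
        ring
      rw [tg_act hf hzz, h0, mul_zero, zero_smul, add_zero]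
  let T0 : Set F := {c | c ∈ F₀ ∧ σ c = -c}
  have hupJ : QuadPairSL2.up ((c0 : F) * b) ∈ J := by
    refine ⟨_, hTG hX0W hX0X (X.hlift e c0 hee hc0'), ?_⟩
    ext i j
    fin_cases i <;> fin_cases j <;>
      simp [ρ, φ, x1, tg_act hf hX0X, hf.add_left, hf.smul_left, QuadPairSL2.up, huu, hX0X, ← hbdef, ← hμdef,
        hμ, hb, mul_div_assoc]
  have hlo : ∀ (p q : F₀) (c : F₀), τ0 c = -c →
      QuadPairSL2.lo ((c : F) * μ * (((p : F) + q * α) * σ ((p : F) + q * α))) ∈ J := by
    intro p q c hc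
    set N := (p : F) + q * α
    have hvv : f0 (p • a + q • a') (p • a + q • a') = 0 := by
      simp only [hf0.add_left, TransvectionUnitary.add_right hf0, hf0.smul_left,
        TransvectionUnitary.smul_right hf0, haa, ha'a', ha'a, skew_zero hf0 ha'a]
      ring
    have hM := hTg _ hvv c hc
    have hz : (g : Matrix ι ι F) *ᵥ rat P (p • a + q • a') = N • u + (q : F) • r0 := by
      rw [SubfieldRational.rat_add, SubfieldRational.rat_smul, SubfieldRational.rat_smul, Matrix.mulVec_add,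
        Matrix.mulVec_smul, Matrix.mulVec_smul, ← hudef, ← hu'def, hu'dec]
      module
    rw [hz] at hM
    have hzz : f (N • u + (q : F) • r0) (N • u + (q : F) • r0) = 0 := by
      simp only [hf.add_left, TransvectionUnitary.add_right hf, hf.smul_left, TransvectionUnitary.smul_right hf,
        huu, hur0, hr0u, hr0r]
      ring
    refine ⟨_, hTG (W.add_mem (W.smul_mem _ huW) (W.smul_mem _ hr0W)) hzz hM, ?_⟩
    ext i j
    fin_cases i <;> fin_cases j <;>
      simp [ρ, φ, x1, tg_act hf hzz, hf.add_left, hf.smul_left, TransvectionUnitary.add_right hf,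
        TransvectionUnitary.smul_right hf, QuadPairSL2.lo, huu, hur0, hX0X, hr0e, her0, hr0u, ← hbdef, ← hμdef,
        hμ, hb, mul_div_assoc]
    ring
  -- the upper root group
  have hup : ∀ t : F, QuadPairSL2.up t ∈ J → ∃ c ∈ T0, t = b * c := by
    rintro t ⟨p, hp, hpt⟩
    have h00 := congrFun (congrFun hpt 0) 0
    have h01 := congrFun (congrFun hpt 0) 1
    have h10 := congrFun (congrFun hpt 1) 0
    simp [ρ, QuadPairSL2.up] at h00 h01 h10
    have hpi := X.hiso p hp.1
    obtain ⟨γ, hγ⟩ := hcoords _ (hGW hp X0 hX0W)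
    rw [h00, h10, one_smul, zero_smul, add_zero] at hγ
    have hγ0 : γ = 0 := by
      by_contra h0
      set v := (p : Matrix ι ι F) *ᵥ X0
      have hvv : f v v = 0 := by rw [hpi, hX0X]
      have hve : f v X0 = 0 := by rw [hγ, hf.add_left, hf.smul_left, hX0X, hr0e, mul_zero, add_zero]
      have hvM : Tg σ f v (c0 : F) ∈ M := by
        rw [← tg_conj hf hpi hX0X]
        exact M.mul_mem (M.mul_mem hp.1 (X.hlift e c0 hee hc0')) (M.inv_mem hp.1)
      by_cases hl : Line v
      · obtain ⟨k, w, hkw⟩ := hl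
        refine hgood ⟨-γ⁻¹, γ⁻¹ * k, w, ?_⟩
        rw [← smul_smul, ← hkw, hγ, smul_add, smul_smul, inv_mul_cancel₀ h0, one_smul, ← hX0]
        module
      · exact hA hl hvv hvM he0 hee hve
    rw [hγ0, zero_smul, add_zero] at hγ
    have hpe : ∀ x, f ((p : Matrix ι ι F) *ᵥ x) X0 = f x X0 := fun x => by
      conv_lhs => arg 2; rw [← hγ]
      exact hpi x X0
    -- vectors dual to X0 and r0
    have hnr : r0 ∉ Submodule.span F {X0} := fun h => by
      obtain ⟨k, hk⟩ := Submodule.mem_span_singleton.mp h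
      exact hgood ⟨k, 0, 0, by rw [zero_smul, add_zero]; exact hk.symm⟩
    have hne : X0 ∉ Submodule.span F {r0} := fun h => by
      obtain ⟨k, hk⟩ := Submodule.mem_span_singleton.mp h
      rcases eq_or_ne k 0 with rfl | hk0
      · exact hX0ne (by simpa using hk.symm)
      · exact hnr (Submodule.mem_span_singleton.mpr ⟨k⁻¹, by rw [← hk, smul_smul, inv_mul_cancel₀ hk0, one_smul]⟩)
    obtain ⟨z, hze, hzr⟩ := exists_perp_val hf hnr 1
    rw [mem_perp_singleton hf] at hze
    obtain ⟨z2, hz2r, hz2e⟩ := exists_perp_val hf hne 1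
    rw [mem_perp_singleton hf] at hz2r
    have hez : f X0 z = 0 := skew_zero hf hze
    have hrz : f r0 z = 1 := by rw [hf.herm, hzr, map_one]
    have hez2 : f X0 z2 = 1 := by rw [hf.herm, hz2e, map_one]
    have hrz2 : f r0 z2 = 0 := skew_zero hf hz2r
    have hdecX : ∀ x, ∃ A B : F, (p : Matrix ι ι F) *ᵥ x - x = A • X0 + B • r0 := fun x => by
      obtain ⟨γ', hγ'⟩ := hcoords _ (hp.2.1 x)
      refine ⟨φ ((p : Matrix ι ι F) *ᵥ x - x), γ', ?_⟩
      rw [show x1 ((p : Matrix ι ι F) *ᵥ x - x) = 0 by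
        simp only [x1, TransvectionUnitary.sub_left hf, hpe, sub_self, zero_div], zero_smul, add_zero] at hγ'
      exact hγ'
    obtain ⟨A1, A3, hX1⟩ := hdecX z2
    obtain ⟨A2, A4, hX2⟩ := hdecX z
    have hfix : ∀ x, f x X0 = 0 → f x r0 = 0 → (p : Matrix ι ι F) *ᵥ x = x := fun x h1 h2 => by
      have h := hp.2.2 (x - (f x u / μ) • X0)
        (by rw [TransvectionUnitary.sub_left hf, hf.smul_left, h1, hX0X, mul_zero, sub_zero])
        (by rw [TransvectionUnitary.sub_left hf, hf.smul_left, ← hμdef, div_mul_cancel₀ _ hμ, sub_self])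
        (by rw [TransvectionUnitary.sub_left hf, hf.smul_left, h2, her0, mul_zero, sub_zero])
      rw [Matrix.mulVec_sub, Matrix.mulVec_smul, hγ] at h
      exact sub_left_inj.mp h
    have hpx : ∀ x, (p : Matrix ι ι F) *ᵥ x =
        x + f x X0 • (A1 • X0 + A3 • r0) + f x r0 • (A2 • X0 + A4 • r0) := fun x => by
      have h := hfix (x - f x X0 • z2 - f x r0 • z)
        (by simp only [TransvectionUnitary.sub_left hf, hf.smul_left, hz2e, hze]; ring)
        (by simp only [TransvectionUnitary.sub_left hf, hf.smul_left, hz2r, hzr]; ring)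
      rw [Matrix.mulVec_sub, Matrix.mulVec_sub, Matrix.mulVec_smul, Matrix.mulVec_smul] at h
      rw [← hX1, ← hX2]
      linear_combination (norm := module) h
    have hi1 : A4 + σ A4 = 0 := by
      have h := hpi z z
      rw [hpx z] at h
      simp only [hze, hzr, zero_smul, add_zero, one_smul, hf.add_left, TransvectionUnitary.add_right hf,
        hf.smul_left, TransvectionUnitary.smul_right hf, hez, hrz, hX0X, her0, hr0e, hr0r] at h
      linear_combination h
    have hi2 : A3 + σ A2 = 0 := by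
      have h := hpi z2 z
      rw [hpx z, hpx z2] at h
      simp only [hze, hzr, hz2e, hz2r, zero_smul, add_zero, one_smul, hf.add_left,
        TransvectionUnitary.add_right hf, hf.smul_left, TransvectionUnitary.smul_right hf, hez, hrz, hez2, hrz2,
        hX0X, her0, hr0e, hr0r] at h
      linear_combination h
    -- images of rational isotropic vectors orthogonal to e
    have hk : ∀ k : ι → F₀, f0 k k = 0 → f0 k e = 0 →
        ∃ (l : F) (k' : ι → F₀), rat P k + f (rat P k) r0 • (A2 • X0 + A4 • r0) = l • rat P k' := by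
      intro k hkk hke
      have himg : (p : Matrix ι ι F) *ᵥ rat P k = rat P k + f (rat P k) r0 • (A2 • X0 + A4 • r0) := by
        rw [hpx, hX0, X.zero_of hke, zero_smul, add_zero]
      by_contra hl
      set v := (p : Matrix ι ι F) *ᵥ rat P k
      have hvM : Tg σ f v (c0 : F) ∈ M := by
        rw [← tg_conj hf hpi (X.zero_of hkk)]
        exact M.mul_mem (M.mul_mem hp.1 (X.hlift k c0 hkk hc0')) (M.inv_mem hp.1)
      refine hA (u := v) (fun ⟨l, k', h⟩ => hl ⟨l, k', himg ▸ h⟩) (by rw [hpi]; exact X.zero_of hkk) hvM he0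
        hee ?_
      rw [← hX0, hpe]; exact X.zero_of hke
    have hA4 : A4 = 0 := by
      by_contra hA4
      obtain ⟨k, m, -, hkk, hmm, hke, hme, hmk⟩ := iso_line hf0 hn he0
      obtain ⟨aX, hdec⟩ := decomp_four hf hn hX0ne hX0X (X.zero_of hkk) (X.zero_of hmm) (X.zero_of hke)
        (X.zero_of hme) (X.one_of hmk) hr0e
      set x := f r0 (rat P m)
      set y := f r0 (rat P k)
      have hmkF : f (rat P m) (rat P k) = 1 := X.one_of hmk
      have hkmF : f (rat P k) (rat P m) = 1 := by rw [hf.herm, hmkF, map_one]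
      have hy0 : y ≠ 0 := fun h => hgood ⟨aX, x, k, by rw [← hr0def, hdec, h, zero_smul, add_zero]⟩
      have hx0 : x ≠ 0 := fun h => hgood ⟨aX, y, m, by rw [← hr0def, hdec, h, zero_smul, add_zero]⟩
      set z := x / y with hzdef
      have hx : x = z * y := by rw [hzdef, div_mul_cancel₀ _ hy0]
      have hzn : z ∉ F₀ := fun h => hgood ⟨aX, y, (⟨z, h⟩ : F₀) • k + m, by
        rw [← hr0def, hdec, SubfieldRational.rat_add, SubfieldRational.rat_smul, smul_add, smul_smul, hx,
          mul_comm]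
        show aX • X0 + (y * z) • rat P k + _ = _
        abel⟩
      have hskew : x * σ y + y * σ x = 0 := by
        have h := hr0r
        rw [hdec] at h
        simp only [hf.add_left, TransvectionUnitary.add_right hf, hf.smul_left,
          TransvectionUnitary.smul_right hf, hX0X, hkmF, hmkF, hX0, X.zero_of hkk, X.zero_of hmm, X.zero_of hke,
          X.zero_of hme, skew_zero hf (X.zero_of hke), skew_zero hf (X.zero_of hme)] at h
        rw [← hX0, hX0X] at h
        linear_combination h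
      have hσy : σ y ≠ 0 := (map_ne_zero σ).mpr hy0
      have hσx : σ x = -(z * σ y) := by
        apply mul_left_cancel₀ hy0
        linear_combination hskew - σ y * hx
      set N := A4 * y * σ y with hN
      have hN0 : N ≠ 0 := mul_ne_zero (mul_ne_zero hA4 hy0) hσy
      have hline : ∀ k' : ι → F₀, f0 k' k' = 0 → f0 k' e = 0 → ∃ A B : F₀, (A ≠ 0 ∨ B ≠ 0) ∧
          (B : F) * (f (rat P k') (rat P m) + f (rat P k') r0 * A4 * x) =
            (A : F) * (f (rat P k') (rat P k) + f (rat P k') r0 * A4 * y) := by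
        intro k' hk' hk'e
        obtain ⟨l, k'', hlk⟩ := hk k' hk' hk'e
        have e1 := congrArg (f · (rat P m)) hlk
        have e2 := congrArg (f · (rat P k)) hlk
        simp only [hf.add_left, hf.smul_left, hX0, skew_zero hf (X.zero_of hme), skew_zero hf (X.zero_of hke),
          mul_zero, zero_add] at e1 e2
        rw [← X.hf0c k'', ← mul_assoc] at e1 e2
        rw [e1, e2]
        by_cases h : f0 k'' m = 0 ∧ f0 k'' k = 0
        · exact ⟨1, 0, Or.inl one_ne_zero, by rw [h.1, h.2]; simp⟩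
        · exact ⟨f0 k'' m, f0 k'' k, not_and_or.mp h, by ring⟩
      have hkr : f (rat P k) r0 = σ y := hf.herm _ _
      have hmr : f (rat P m) r0 = σ x := hf.herm _ _
      obtain ⟨A, B, hAB, h1⟩ := hline k hkk hke
      rw [hkmF, X.zero_of hkk, hkr, zero_add] at h1
      have hB : (B : F) ≠ 0 := fun h => by
        rw [h, zero_mul, eq_comm, mul_eq_zero, mul_eq_zero, mul_eq_zero] at h1
        rcases h1 with h1 | (h1 | h1) | h1
        · exact hAB.elim (fun hA => hA (Subtype.ext h1)) fun hB => hB (Subtype.ext h)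
        · exact hσy h1
        · exact hA4 h1
        · exact hy0 h1
      set r₁ := (A : F) / (B : F) with hr₁
      have h1' : 1 + N * z = r₁ * N := by
        rw [hr₁, div_mul_eq_mul_div, eq_div_iff hB, hN]
        rw [hx] at h1
        linear_combination h1
      obtain ⟨A', B', hAB', h2⟩ := hline m hmm hme
      rw [hmkF, X.zero_of hmm, hmr, zero_add, hσx, hx] at h2
      have hA' : (A' : F) ≠ 0 := fun h => by
        have hB' : (B' : F) ≠ 0 := fun h' => hAB'.elim (fun hA => hA (Subtype.ext h)) fun hB => hB (Subtype.ext h')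
        rw [h, zero_mul] at h2
        simp [hB', hσy, hA4, hy0, show z ≠ 0 from fun h0 => hzn (h0 ▸ F₀.zero_mem)] at h2
      set r₂ := (B' : F) / (A' : F) with hr₂
      have h2' : 1 - N * z = -(r₂ * N * z ^ 2) := by
        rw [hr₂, div_mul_eq_mul_div, div_mul_eq_mul_div, ← neg_div, eq_div_iff hA', hN]
        linear_combination -h2
      have h3 : 2 * z = r₁ + r₂ * z ^ 2 := by
        apply mul_left_cancel₀ hN0
        linear_combination h1' - h2'
      have hr₁F : r₁ ∈ F₀ := F₀.div_mem A.2 B.2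
      have hr₂F : r₂ ∈ F₀ := F₀.div_mem B'.2 A'.2
      set kt := k + c0 • m with hkt
      have hktt : f0 kt kt = 0 := by
        simp only [hkt, hf0.add_left, TransvectionUnitary.add_right hf0, hf0.smul_left,
          TransvectionUnitary.smul_right hf0, hkk, hmm, hmk, show f0 k m = 1 by rw [hf0.herm, hmk, map_one], hc0']
        ring
      obtain ⟨A'', B'', hAB'', h5⟩ := hline kt hktt (by
        rw [hkt, hf0.add_left, hf0.smul_left, hke, hme, mul_zero, add_zero])
      rw [hkt, SubfieldRational.rat_add, SubfieldRational.rat_smul] at h5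
      simp only [hf.add_left, hf.smul_left, hkmF, hmkF, X.zero_of hkk, X.zero_of hmm, hkr, hmr] at h5
      rw [hσx, hx] at h5
      have h6 : ((A'' : F) * c0 * r₂ - (B'' : F) * c0) * z ^ 2 = (A'' : F) - (B'' : F) * r₁ := by
        apply mul_left_cancel₀ hN0
        simp only [hN] at h1' h3 ⊢
        linear_combination (-(B'' : F) + (c0 : F) * (A'' : F)) * h1' + h5 -
          (A'' : F) * (c0 : F) * (A4 * y * σ y) * h3
      by_cases h7 : (A'' : F) * c0 * r₂ - (B'' : F) * c0 = 0
      · rw [h7, zero_mul, eq_comm, sub_eq_zero] at h6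
        have hB'' : (B'' : F) = (A'' : F) * r₂ := mul_right_cancel₀ hc0F (by linear_combination -h7)
        have hA'' : (A'' : F) ≠ 0 := fun h0 => by
          rw [h0, zero_mul] at hB''
          exact hAB''.elim (fun hA => hA (Subtype.ext h0)) fun hB => hB (Subtype.ext hB'')
        have h8 : r₁ * r₂ = 1 := mul_left_cancel₀ hA'' (by linear_combination -h6 - r₁ * hB'')
        have h9 : (z - r₁) ^ 2 = 0 := by linear_combination -r₁ * h3 - z ^ 2 * h8
        exact hzn (sub_eq_zero.mp (pow_eq_zero_iff two_ne_zero |>.mp h9) ▸ hr₁F)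
      · refine hzn (mem_of_quadratic hr₁F hr₂F h3 ?_)
        rw [← mul_div_cancel_left₀ (z ^ 2) h7, h6]
        exact F₀.div_mem (F₀.sub_mem A''.2 (F₀.mul_mem B''.2 hr₁F))
          (F₀.sub_mem (F₀.mul_mem (F₀.mul_mem A''.2 c0.2) hr₂F) (F₀.mul_mem B''.2 c0.2))
    have hA2 : A2 = -σ A3 := by
      have := congrArg σ hi2
      rw [map_add, sigma_sigma hf, map_zero] at this
      linear_combination this
    have hE : EAct f p X0 (A3 • r0) A1 := fun x => by
      rw [hpx, hA4, hA2, TransvectionUnitary.smul_right hf]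
      module
    have hA3 : A3 = 0 := by
      by_contra hA3
      obtain ⟨α', w, hw, -⟩ := X.hmod he0 hee hr0e (inv_ne_zero hA3) fun y hyy hye => by
        have := X.val_rat hno he0 hee hyy hye (by rw [hf.smul_left, hr0e, mul_zero]) ⟨p, hp.1, hE⟩
        rwa [hf.smul_left, mul_comm, ← div_inv_eq_mul] at this
      exact hgood ⟨α', A3⁻¹, w, hw⟩
    rw [hA3, zero_smul] at hE
    have hA1 : σ A1 = -A1 := by
      have h := hpi z2 z2
      rw [hpx z2] at h
      simp only [hz2e, hz2r, hA3, zero_smul, add_zero, one_smul, hf.add_left,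
        TransvectionUnitary.add_right hf, hf.smul_left, TransvectionUnitary.smul_right hf, hez2,
        hX0X] at h
      linear_combination h
    have hpT := EAct.eq_tg hf hX0X hE
    have hA1F : A1 ∈ F₀ := hno _ (X.cen_of_one he0 hee hA1 (by rw [← hX0, ← hpT]; exact hp.1))
    refine ⟨A1, ⟨hA1F, hA1⟩, ?_⟩
    rw [← h01, hpT, tg_act hf hX0X]
    simp only [φ, hf.add_left, hf.smul_left, huu, ← hbdef, ← hμdef, zero_add]
    field_simp
  -- counting
  have hupc : Nat.card {x : F // QuadPairSL2.up x ∈ J} ≤ T0.ncard :=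
    calc Nat.card {x : F // QuadPairSL2.up x ∈ J} = Set.ncard {x : F | QuadPairSL2.up x ∈ J} :=
          Nat.card_coe_set_eq _
      _ ≤ ((fun c => b * c) '' T0).ncard := Set.ncard_le_ncard (fun x hx => by
          obtain ⟨c, hc, rfl⟩ := hup x hx
          exact ⟨c, hc, rfl⟩) (Set.toFinite _)
      _ ≤ T0.ncard := Set.ncard_image_le (Set.toFinite _)
  obtain ⟨p1, N, hN, hNn⟩ : ∃ (p : F₀) (N : F), N = ((p : F) + α) * σ ((p : F) + α) ∧ N ∉ F₀ := by
    obtain ⟨θ, hθ⟩ := exists_not_fixed hf0.ne_refl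
    by_contra! h
    have h0 := h 0 _ rfl
    have h1 := h 1 _ rfl
    have h2 := h θ _ rfl
    rw [map_add, ← X.hσ0] at h2
    simp only [ZeroMemClass.coe_zero, zero_add, OneMemClass.coe_one, map_add, map_one] at h0 h1
    refine hαn ?_
    have hθ' : ((τ0 θ : F) - (θ : F)) ≠ 0 := fun h' => hθ (Subtype.ext (sub_eq_zero.mp h'))
    rw [← mul_div_cancel_right₀ α hθ']
    refine F₀.div_mem ?_ (F₀.sub_mem (τ0 θ).2 θ.2)
    have key : α * ((τ0 θ : F) - θ) = ((θ : F) + α) * ((τ0 θ : F) + σ α) - α * σ α - (θ : F) * (τ0 θ : F)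
        - (θ : F) * ((1 + α) * (1 + σ α) - α * σ α - 1) := by ring
    rw [key]
    exact F₀.sub_mem (F₀.sub_mem (F₀.sub_mem h2 h0) (F₀.mul_mem θ.2 (τ0 θ).2))
      (F₀.mul_mem θ.2 (F₀.sub_mem (F₀.sub_mem h1 h0) F₀.one_mem))
  have hnm : (c0 : F) * μ * N ∉ (fun c => μ * c) '' T0 := by
    rintro ⟨c, ⟨hcF, -⟩, hc⟩
    refine hNn ?_
    rw [show N = c / (c0 : F) by
      field_simp
      exact mul_left_cancel₀ hμ (by linear_combination -hc)]
    exact F₀.div_mem hcF c0.2
  have hloc : T0.ncard + 1 ≤ Nat.card {y : F // QuadPairSL2.lo y ∈ J} :=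
    calc T0.ncard + 1 = ((fun c => μ * c) '' T0).ncard + 1 := by
          rw [Set.ncard_image_of_injective _ (mul_right_injective₀ hμ)]
      _ = (insert ((c0 : F) * μ * N) ((fun c => μ * c) '' T0)).ncard :=
          (Set.ncard_insert_of_notMem hnm (Set.toFinite _)).symm
      _ ≤ Set.ncard {y : F | QuadPairSL2.lo y ∈ J} := Set.ncard_le_ncard (fun x hx => by
          rcases hx with rfl | ⟨c, ⟨hcF, hcs⟩, rfl⟩
          · have h := hlo p1 1 c0 hc0'
            rwa [OneMemClass.coe_one, one_mul, ← hN] at h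
          · have h := hlo 1 0 ⟨c, hcF⟩ (Subtype.ext (by rw [X.hσ0]; exact hcs))
            rw [ZeroMemClass.coe_zero, zero_mul, add_zero, OneMemClass.coe_one, map_one, mul_one, mul_one,
              mul_comm] at h
            exact h) (Set.toFinite _)
      _ = Nat.card {y : F // QuadPairSL2.lo y ∈ J} := (Nat.card_coe_set_eq _).symm
  have hfin := sylow_le J (mul_ne_zero hc0F hb) hupJ
  omega

end Props

lemma fixed_of_mem {F : Type*} [Field F] [Fintype F] {q : ℕ} (hF : Fintype.card F = q ^ 2) (F₀ : Subfield F) {r : ℕ}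
    (hro : Odd r) (hcard : Fintype.card F = Nat.card F₀ ^ r) : ∃ x ∈ F₀, x ^ q ≠ x := by
  classical
  obtain ⟨m, rfl⟩ := hro
  haveI : Fintype F₀ := Fintype.ofFinite _
  set q0 := Nat.card F₀ with hq0
  have hq1 : 1 < q0 := Finite.one_lt_card
  have heq : q ^ 2 = q0 * (q0 ^ m) ^ 2 := by rw [← hF, hcard]; ring
  obtain ⟨s, hs⟩ : q0 ^ m ∣ q := (Nat.pow_dvd_pow_iff two_ne_zero).mp (heq ▸ dvd_mul_left _ _)
  have hs2 : q0 = s ^ 2 := by
    refine Nat.eq_of_mul_eq_mul_right (show 0 < (q0 ^ m) ^ 2 by positivity) ?_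
    rw [← heq, hs]; ring
  by_contra! h
  have hpow : ∀ x : F₀, (x : F) ^ s = x := fun x => by
    conv_rhs => rw [← h _ x.2, hs, pow_mul]
    congr 1
    rw [← SubmonoidClass.coe_pow]
    congr 1
    rw [hq0, Nat.card_eq_fintype_card]
    exact (FiniteField.pow_card_pow m x).symm
  have hs1 : 2 ≤ s := by
    by_contra h2
    interval_cases s <;> omega
  have hle : Fintype.card F₀ ≤ s := by
    have h1 := Polynomial.card_roots' (Polynomial.X ^ s - Polynomial.X : Polynomial F)
    rw [FiniteField.X_pow_card_sub_X_natDegree_eq F hs1] at h1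
    refine le_trans ?_ h1
    rw [← Finset.card_univ, ← Finset.card_map (Function.Embedding.subtype (fun x => x ∈ F₀))]
    refine Finset.card_le_card_of_injOn id (fun x hx => ?_) Function.injective_id.injOn |>.trans
      (Multiset.toFinset_card_le _)
    obtain ⟨y, -, rfl⟩ := Finset.mem_map.mp hx
    simp only [id, Finset.mem_coe, Multiset.mem_toFinset,
      Polynomial.mem_roots (FiniteField.X_pow_card_sub_X_ne_zero F hs1)]
    simpa [sub_eq_zero] using hpow y
  rw [← Nat.card_eq_fintype_card, ← hq0, hs2] at hle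
  nlinarith

set_option maxHeartbeats 1000000 in
/-- Clause 6 of S5783: subfield groups of odd prime index. -/
theorem maximal_odd {F : Type*} [Field F] [Fintype F] (q : ℕ) (hF : Fintype.card F = q ^ 2) :
    ∀ (F₀ : Subfield F) (r : ℕ) (P : Matrix.GeneralLinearGroup (Fin 4) F), r.Prime → Odd r → Fintype.card F = Nat.card F₀ ^ r → Cfsg.Geo.IsFormRationalStructure (Cfsg.hermForm 4 F q) F₀ 1 P → Cfsg.Geo.IsMaximalIn (Cfsg.GU 4 F q ⊓ Cfsg.Geo.specialLinear (Fin 4) F) (Cfsg.Geo.subfieldSubgroup F₀ P ⊓ (Cfsg.GU 4 F q ⊓ Cfsg.Geo.specialLinear (Fin 4) F)) := by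
  intro F₀ r P hr hro hcard hP
  classical
  haveI : Nonempty (Fin 4) := ⟨⟨0, by omega⟩⟩
  obtain ⟨τ, hτ, hf⟩ := TransvectionUnitaryGen.herm_isUnitaryForm (n := 4) hF
  set f := Cfsg.hermForm 4 F q
  let τ0 : F₀ ≃+* F₀ := RingEquiv.ofBijective
    (((τ : F →+* F).comp F₀.subtype).codRestrict F₀ fun x => by
      show τ (x : F) ∈ F₀
      rw [hτ]; exact F₀.pow_mem x.2 q)
    (Finite.injective_iff_bijective.mp (RingHom.injective _))
  have hσ0 : ∀ x : F₀, (τ0 x : F) = τ x := fun x => rfl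
  let f0 : (Fin 4 → F₀) → (Fin 4 → F₀) → F₀ := SubfieldRational.form hP
  have hf0c : ∀ u v, (f0 u v : F) = f (rat P u) (rat P v) := fun u v =>
    (SubfieldRational.form_coe hP u v).trans (one_mul _)
  have hf0 : Cfsg.Geo.IsUnitaryForm τ0 f0 := by
    refine ⟨fun h => ?_, fun x => Subtype.ext (by rw [hσ0, hσ0, sigma_sigma hf]), fun x y v => Subtype.ext ?_,
      fun c x v => Subtype.ext ?_, fun v w => Subtype.ext ?_, fun v hv => ?_⟩
    · obtain ⟨x, hx, hne⟩ := fixed_of_mem hF F₀ hro hcard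
      refine hne ?_
      rw [← hτ]
      exact (hσ0 ⟨x, hx⟩).symm.trans (by rw [h]; rfl)
    · rw [Subfield.coe_add, hf0c, hf0c, hf0c, SubfieldRational.rat_add, hf.add_left]
    · rw [Subfield.coe_mul, hf0c, hf0c, SubfieldRational.rat_smul, hf.smul_left]
    · rw [hσ0, hf0c, hf0c, hf.herm]
    · have h1 : ∃ w : Fin 4 → F₀, f (rat P w) (rat P v) ≠ 0 := by
        by_contra! h
        obtain ⟨x, hx⟩ := (hf.nondegenerate _ fun h0 => hv (SubfieldRational.rat_eq_zero P h0)).1
        exact hx (SubfieldRational.eq_zero_of_rat P (TransvectionUnitary.uLeft hf (rat P v)) h x)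
      obtain ⟨w, hw⟩ := h1
      exact ⟨⟨w, fun h0 => hw (by rw [← hf0c, h0]; rfl)⟩,
        ⟨w, fun h0 => hw (skew_zero hf (by rw [← hf0c, h0]; rfl))⟩⟩
  have hGU : ∀ g : GL (Fin 4) F, g ∈ Cfsg.GU 4 F q ↔ TransvectionUnitaryGen.Iso f g := fun g => Iff.rfl
  have hTK : ∀ (v : Fin 4 → F) (c : F), f v v = 0 → τ c = -c →
      Tg τ f v c ∈ Cfsg.GU 4 F q ⊓ Cfsg.Geo.specialLinear (Fin 4) F := fun v c hv hc =>
    ⟨(hGU _).mpr (TransvectionUnitary.ut_preserves hf hv hc), ft_mem_sl f v _⟩
  set H := Cfsg.Geo.subfieldSubgroup F₀ P ⊓ (Cfsg.GU 4 F q ⊓ Cfsg.Geo.specialLinear (Fin 4) F) with hH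
  have hlift : ∀ (a : Fin 4 → F₀) (t : F₀), f0 a a = 0 → τ0 t = -t → Tg τ f (rat P a) (t : F) ∈ H := by
    intro a t ha ht
    have haF : f (rat P a) (rat P a) = 0 := by rw [← hf0c, ha]; rfl
    refine ⟨(SubfieldRational.mem_subfieldSubgroup_iff P _).mpr fun u => ?_,
      hTK _ _ haF (by rw [← hσ0, ht]; rfl)⟩
    refine ⟨1, u + (t * f0 u a) • a, ?_⟩
    rw [tg_act hf haF, one_smul, SubfieldRational.rat_add, SubfieldRational.rat_smul, Subfield.coe_mul, hf0c]
  obtain ⟨c0, hc0, hc0'⟩ := exists_tz hf0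
  refine ⟨lt_of_le_of_ne inf_le_right fun he => ?_, fun M hHM hMK => ?_⟩
  · obtain ⟨θ, hθ⟩ : ∃ θ : F, θ ∉ F₀ := by
      by_contra! h
      have h1 : Nat.card F₀ = Fintype.card F := by
        rw [← Nat.card_eq_fintype_card]; exact Nat.card_congr (Equiv.subtypeUnivEquiv h)
      have h2 := Nat.pow_right_injective (Finite.one_lt_card (α := F₀))
        (show Nat.card F₀ ^ 1 = Nat.card F₀ ^ r by rw [pow_one, ← hcard, h1])
      exact hr.one_lt.ne h2
    have X : Ctx τ f P τ0 f0 H := ⟨hf, hf0, hσ0, hf0c, Fintype.card_fin 4, hlift,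
      fun g hg => (hGU g).mp hg.2.1⟩
    obtain ⟨t, ht⟩ := X.irr_trace hθ
    obtain ⟨e, -, he0, hee, -, -, -⟩ := X.exists_pair
    set c := θ * t - τ (θ * t)
    obtain ⟨rr, -, hrr, herr⟩ := TransvectionUnitaryGen.exists_partner hf0 X.top_nondeg trivial he0 hee
    have hre : f0 rr e = 1 := by rw [hf0.herm, herr, map_one]
    have hmem : Tg τ f (rat P e) c ∈ H := he.symm ▸ hTK _ _ (X.zero_of hee)
      (show τ (θ * t - τ (θ * t)) = -(θ * t - τ (θ * t)) by rw [map_sub, sigma_sigma hf, neg_sub])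
    obtain ⟨k, w, hkw⟩ := (SubfieldRational.mem_subfieldSubgroup_iff P _).mp hmem.1 rr
    rw [tg_act hf (X.zero_of hee), X.one_of hre, mul_one] at hkw
    have hi : rr ∉ Submodule.span F₀ {e} := fun h => by
      obtain ⟨m, rfl⟩ := Submodule.mem_span_singleton.mp h
      rw [hf0.smul_left, hee, mul_zero] at hre
      exact zero_ne_one hre
    rcases eq_or_ne k 0 with rfl | hk
    · exact one_ne_zero (SubfieldRational.rat_indep P he0 hi (s := 1) (t := c)
        (by rw [one_smul, hkw, zero_smul])).1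
    obtain ⟨m1, m2⟩ := SubfieldRational.rat_coeff_mem P he0 hi (a := k⁻¹) (b := k⁻¹ * c) (z := w)
      (by rw [← smul_smul, ← smul_add, hkw, smul_smul, inv_mul_cancel₀ hk, one_smul])
    refine ht ?_
    rw [show c = k⁻¹ * c / k⁻¹ by field_simp]
    exact F₀.div_mem m2 m1
  by_cases hMX : M ≤ Cfsg.Geo.subfieldSubgroup F₀ P
  · exact Or.inl (le_antisymm (le_inf hMX hMK) hHM)
  refine Or.inr (le_antisymm hMK ?_)
  have X : Ctx τ f P τ0 f0 M := ⟨hf, hf0, hσ0, hf0c, Fintype.card_fin 4,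
    fun a t ha ht => hHM (hlift a t ha ht), fun g hg => (hGU g).mp (hMK hg).1⟩
  obtain ⟨g, hgM, hgX⟩ := Set.not_subset.mp hMX
  obtain ⟨c1, hc1, hc1'⟩ := X.exists_irr hgM hgX
  intro g' hg'
  let φ : SU 4 F q →* GL (Fin 4) F := Matrix.SpecialLinearGroup.toGL.comp (SU 4 F q).subtype
  have hle : OrthUnitaryTransvection.tGroup 4 F q ≤ M.comap φ := by
    rw [OrthUnitaryTransvection.tGroup, Subgroup.closure_le]
    rintro A ⟨v, c, hv, hA⟩
    rcases eq_or_ne v 0 with rfl | hv0
    · have h1 : φ A = 1 := gl_ext fun x => by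
        show ((A : Matrix.SpecialLinearGroup (Fin 4) F) : Matrix (Fin 4) (Fin 4) F) *ᵥ x = _
        rw [hA, OrthUnitaryHerm.transvection_mulVec, smul_zero, add_zero, one_act]
      show φ A ∈ M
      rw [h1]; exact M.one_mem
    have hc : τ c = -c := by
      have h := OrthUnitaryTransvection.skew_of_isU hF hv0 hv (hA ▸ OrthUnitaryHerm.isU_of_mem_SU A)
      rw [hτ]; linear_combination h
    have h1 : φ A = Tg τ f v c := gl_ext fun x => by
      show ((A : Matrix.SpecialLinearGroup (Fin 4) F) : Matrix (Fin 4) (Fin 4) F) *ᵥ x = _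
      rw [hA, OrthUnitaryHerm.transvection_mulVec, tg_act hf hv]
    show φ A ∈ M
    rw [h1]
    exact X.all_of_irr hr hcard hc1 hc1' hv hc
  have hdet : (g' : Matrix (Fin 4) (Fin 4) F).det = 1 := by
    simpa [Cfsg.Geo.specialLinear, MonoidHom.mem_ker, Units.ext_iff] using hg'.2
  let A : SU 4 F q := ⟨⟨(g' : Matrix (Fin 4) (Fin 4) F), hdet⟩, fun x y => hg'.1 x y⟩
  have hmem : A ∈ M.comap φ := hle (by
    rw [OrthUnitaryTransvection.tGroup_eq_top hF (by omega) (by omega)]; trivial)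
  rw [show g' = φ A from Units.ext rfl]
  exact hmem

end Cfsg.Agent.UnitFourSubfield38
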