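import Mathlib
import Cfsg.Agent.Lib.UnitarySubfieldRoot
import Cfsg.Agent.Lib.OrthSubfieldMax44

/-!
An orthogonal subfield structure of a four dimensional unitary space: root elements, torus elements and moves.
-/

set_option autoImplicit false
set_option linter.unusedSectionVars false

namespace Cfsg.Agent.UnitOrthFour44

open QuadraticMap Module
open Cfsg.Agent.OrthUnitaryQuad (polar_self_mul)
open Cfsg.Agent.TransvectionMax (gl_ext mul_act one_act act_inv_act inv_act_act act_injective)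
open Cfsg.Agent.TransvectionUnitary (skew_zero sigma_f sigma_sigma add_right smul_right sub_left sub_right
  neg_left neg_right zero_left zero_right)
open Cfsg.Agent.SubfieldRational (rat rat_add rat_smul rat_zero rat_sub rat_neg rat_eq_zero)
open Cfsg.Agent.UnitarySubfieldRoot
open scoped MatrixGroups Matrix

variable {ι : Type} [Fintype ι] [DecidableEq ι] {F : Type*} [Field F] [Fintype F] {F₀ : Subfield F}

/-- The set-up: an overgroup `M`, inside the special unitary group, of the stabiliser of the rational lines. -/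
structure Data (σ : F ≃+* F) (f : (ι → F) → (ι → F) → F) (P : GL ι F)
    (q : QuadraticForm F₀ (ι → F₀)) (M : Subgroup (GL ι F)) : Prop where
  hf : Cfsg.Geo.IsUnitaryForm σ f
  hn : Fintype.card ι = 4
  five : 5 ≤ Nat.card F₀
  two : (2 : F) ≠ 0
  fix : ∀ x : F, σ x = x ↔ x ∈ F₀
  fin2 : finrank F₀ F = 2
  hpol : ∀ u v, f (rat P u) (rat P v) = ((polar q u v : F₀) : F)
  iso : ∀ g ∈ M, TransvectionUnitaryGen.Iso f g
  det : ∀ g ∈ M, (g : Matrix ι ι F).det = 1
  hrat : ∀ a x, q a = 0 → polar q a x = 0 → InE f M (rat P a) (rat P x) (-(q x : F))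
  hX : ∀ g : GL ι F, TransvectionUnitaryGen.Iso f g → (g : Matrix ι ι F).det = 1 →
    g ∈ Cfsg.Geo.subfieldSubgroup F₀ P → g ∈ M

variable {σ : F ≃+* F} {f : (ι → F) → (ι → F) → F} {P : GL ι F} {q : QuadraticForm F₀ (ι → F₀)}
  {M : Subgroup (GL ι F)}

variable (D : Data σ f P q M)
include D

theorem ne_iota : Nonempty ι := Fintype.card_pos_iff.1 (by rw [D.hn]; norm_num)

theorem two₀ : (2 : F₀) ≠ 0 := fun h => D.two (congrArg Subtype.val h)

theorem fin₀ : finrank F₀ (ι → F₀) = 4 := by rw [Module.finrank_pi]; exact D.hn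

theorem sig (x : F₀) : σ (x : F) = x := (D.fix _).2 x.2

theorem sing {a : ι → F₀} (ha : q a = 0) : f (rat P a) (rat P a) = 0 := by
  rw [D.hpol, polar_self_mul, ha, mul_zero]; rfl

theorem orth {a b : ι → F₀} (h : polar q a b = 0) : f (rat P a) (rat P b) = 0 := by
  rw [D.hpol, h]; rfl

theorem orth' {a b : ι → F₀} (h : polar q a b = 0) : f (rat P b) (rat P a) = 0 :=
  skew_zero D.hf (orth D h)

theorem eq_of_f {v v' : ι → F} (h : ∀ u : ι → F₀, f (rat P u) v = f (rat P u) v') : v = v' := by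
  by_contra hne
  obtain ⟨x, hx⟩ := (D.hf.nondegenerate (v - v') (sub_ne_zero.2 hne)).1
  refine hx (SubfieldRational.eq_zero_of_rat P (TransvectionUnitary.uLeft D.hf (v - v'))
    (fun (u : ι → F₀) => ?_) x)
  show f (rat P u) (v - v') = 0
  rw [sub_right D.hf, h, sub_self]

theorem nd : (polarBilin q).Nondegenerate := by
  have h1 : ∀ x, (∀ y, polar q y x = 0) → x = 0 := fun x hx => rat_eq_zero P
    (eq_of_f D fun y => by rw [orth D (hx y), zero_right D.hf])
  exact ⟨fun x hx => h1 x fun y => by rw [polar_comm]; exact hx y, fun x hx => h1 x hx⟩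

theorem exists_of_val {v : ι → F} (h : ∀ u : ι → F₀, f (rat P u) v ∈ F₀) : ∃ v₀ : ι → F₀, v = rat P v₀ := by
  let φ : (ι → F₀) →ₗ[F₀] F₀ :=
    { toFun := fun u => ⟨f (rat P u) v, h u⟩
      map_add' := fun u u' => Subtype.ext (by
        show f (rat P (u + u')) v = f (rat P u) v + f (rat P u') v
        rw [rat_add, D.hf.add_left])
      map_smul' := fun c u => Subtype.ext (by
        show f (rat P (c • u)) v = c * f (rat P u) v
        rw [rat_smul, D.hf.smul_left]) }
  obtain ⟨v₀, hv₀⟩ := (LinearMap.BilinForm.toDual (polarBilin q) (nd D)).surjective φ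
  refine ⟨v₀, eq_of_f D fun u => ?_⟩
  have := congrArg (fun L => ((L u : F₀) : F)) hv₀
  simp only [LinearMap.BilinForm.toDual_def, polarBilin_apply_apply] at this
  rw [D.hpol, polar_comm q u v₀, this]
  rfl

/-- A non-zero skew scalar. -/
theorem exists_theta : ∃ θ : F, θ ≠ 0 ∧ σ θ = -θ ∧ θ ∉ F₀ := by
  obtain ⟨θ, h0, h1⟩ := TransvectionUnitary.exists_tz D.hf
  refine ⟨θ, h0, h1, fun h => h0 ?_⟩
  rw [(D.fix θ).2 h] at h1
  exact (mul_eq_zero.1 (show (2 : F) * θ = 0 by linear_combination h1)).resolve_left D.two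

theorem decomp {θ : F} (hθ : σ θ = -θ) (hθ0 : θ ≠ 0) (c : F) : ∃ s t : F₀, c = s + t * θ := by
  have h2 := D.two
  have hs : (c + σ c) / 2 ∈ F₀ := (D.fix _).1 (by
    rw [map_div₀, map_add, sigma_sigma D.hf, map_ofNat, add_comm])
  have ht : (c - σ c) / (2 * θ) ∈ F₀ := (D.fix _).1 (by
    rw [map_div₀, map_sub, sigma_sigma D.hf, map_mul, map_ofNat, hθ, mul_neg, ← neg_sub c, neg_div_neg_eq])
  exact ⟨⟨_, hs⟩, ⟨_, ht⟩, by show c = (c + σ c) / 2 + (c - σ c) / (2 * θ) * θ; field_simp; ring⟩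

theorem coeff_zero {θ : F} (hθ : σ θ = -θ) (hθ0 : θ ≠ 0) {s t : F₀} (h : (s : F) + t * θ = 0) :
    s = 0 ∧ t = 0 := by
  have h1 := congrArg σ h
  rw [map_add, map_mul, sig D, sig D, hθ, map_zero] at h1
  have hs : (2 : F) * s = 0 := by linear_combination h + h1
  have ht : (2 : F) * (t * θ) = 0 := by linear_combination h - h1
  exact ⟨Subtype.ext ((mul_eq_zero.1 hs).resolve_left D.two),
    Subtype.ext ((mul_eq_zero.1 ((mul_eq_zero.1 ht).resolve_left D.two)).resolve_right hθ0)⟩

theorem theta_sq {θ : F} (hθ : σ θ = -θ) : θ * θ ∈ F₀ := (D.fix _).1 (by rw [map_mul, hθ]; ring)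

/-! ### Root elements -/

/-- An element of `M` acting as the rational root element. -/
theorem exists_root {a x : ι → F₀} (ha : q a = 0) (hax : polar q a x = 0) :
    ∃ g ∈ M, EAct f g (rat P a) (rat P x) (-(q x : F)) := D.hrat a x ha hax

theorem eact_unique {g h : GL ι F} {e w : ι → F} {s : F} (hg : EAct f g e w s) (hh : EAct f h e w s) :
    g = h := gl_ext fun x => by rw [hg x, hh x]

theorem eact_rat_mem {g : GL ι F} {a x : ι → F₀}
    (hg : EAct f g (rat P a) (rat P x) (-(q x : F))) : g ∈ Cfsg.Geo.subfieldSubgroup F₀ P := by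
  haveI := ne_iota D
  refine (SubfieldRational.mem_subfieldSubgroup_iff P g).2 fun u => ?_
  refine ⟨1, u + polar q u a • x - polar q u x • a + (-(q x) * polar q u a) • a, ?_⟩
  rw [hg, one_smul, D.hpol, D.hpol, rat_add, rat_sub, rat_add, rat_smul, rat_smul, rat_smul,
    Subfield.coe_mul, NegMemClass.coe_neg]

/-- The action of a rational root element on a rational vector. -/
theorem eact_rat {g : GL ι F} {a x : ι → F₀} (hg : EAct f g (rat P a) (rat P x) (-(q x : F))) (u : ι → F₀) :
    (g : Matrix ι ι F) *ᵥ rat P u =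
      rat P (u + polar q u a • x - polar q u x • a + (-(q x) * polar q u a) • a) := by
  rw [hg, D.hpol, D.hpol, rat_add, rat_sub, rat_add, rat_smul, rat_smul, rat_smul, Subfield.coe_mul,
    NegMemClass.coe_neg]

theorem eact_mul_rat {g h : GL ι F} {a x y : ι → F₀} (ha : q a = 0) (hx : polar q a x = 0)
    (hy : polar q a y = 0) (hg : EAct f g (rat P a) (rat P x) (-(q x : F)))
    (hh : EAct f h (rat P a) (rat P y) (-(q y : F))) :
    EAct f (g * h) (rat P a) (rat P (x + y)) (-(q (x + y) : F)) := by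
  have h1 := hg.mul D.hf hh (sing D ha) (orth' D hx) (orth' D hy)
  rw [← rat_add] at h1
  convert h1 using 1
  rw [D.hpol, show q (x + y) = q x + q y + polar q y x by rw [polar_comm, polar]; ring]
  simp only [Subfield.coe_add]
  ring

theorem eact_zero (a : ι → F₀) :
    EAct f (1 : GL ι F) (rat P a) (rat P (0 : ι → F₀)) (-((q 0 : F₀) : F)) := fun x => by
  rw [one_act, rat_zero, zero_right D.hf, map_zero]
  simp

/-- Root elements have order dividing the characteristic. -/
theorem eact_pow {g : GL ι F} {a x : ι → F₀} (ha : q a = 0) (hx : polar q a x = 0)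
    (hg : EAct f g (rat P a) (rat P x) (-(q x : F))) (k : ℕ) :
    EAct f (g ^ k) (rat P a) (rat P ((k : F₀) • x)) (-(q ((k : F₀) • x) : F)) := by
  induction k with
  | zero => rw [pow_zero, Nat.cast_zero, zero_smul]; exact eact_zero D a
  | succ k ih =>
    rw [pow_succ, Nat.cast_succ, add_smul, one_smul]
    exact eact_mul_rat D ha (by rw [polar_smul_right, hx, smul_zero]) hx ih hg

theorem eact_pow_char {p : ℕ} [CharP F₀ p] {g : GL ι F} {a x : ι → F₀} (ha : q a = 0)
    (hx : polar q a x = 0) (hg : EAct f g (rat P a) (rat P x) (-(q x : F))) : g ^ p = 1 := by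
  have h := eact_pow D ha hx hg p
  rw [CharP.cast_eq_zero, zero_smul] at h
  exact eact_unique D h (eact_zero D a)

/-- An isometry fixing `a` which is the identity on `a`'s perpendicular modulo `a` is a root element. -/
theorem eact_of {k : GL ι F} (hk : TransvectionUnitaryGen.Iso f k) {a r w : ι → F} {s : F}
    (hra : f r a = 1) (hrr : f r r = 0) (haa : f a a = 0)
    (hwa : f w a = 0) (hwr : f w r = 0) (hka : (k : Matrix ι ι F) *ᵥ a = a)
    (hkr : (k : Matrix ι ι F) *ᵥ r = r + w + s • a)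
    (hperp : ∀ x, f x a = 0 → ∃ c : F, (k : Matrix ι ι F) *ᵥ x = x + c • a) : EAct f k a w s := by
  intro x
  have h0 : f (x - f x a • r) a = 0 := by rw [sub_left D.hf, D.hf.smul_left, hra, mul_one, sub_self]
  obtain ⟨c, hc⟩ := hperp _ h0
  have har : f a r = 1 := by rw [D.hf.herm, hra, map_one]
  have e := hk (x - f x a • r) r
  rw [hc, hkr] at e
  simp only [D.hf.add_left, sub_left D.hf, D.hf.smul_left, add_right D.hf, smul_right D.hf, hra, hrr, haa,
    har, skew_zero D.hf hwa, skew_zero D.hf hwr, hwa, hwr] at e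
  have hcv : c = -(f x w) := by linear_combination e
  calc (k : Matrix ι ι F) *ᵥ x
      = (k : Matrix ι ι F) *ᵥ (x - f x a • r) + f x a • ((k : Matrix ι ι F) *ᵥ r) := by
        rw [← Matrix.mulVec_smul, ← Matrix.mulVec_add, sub_add_cancel]
    _ = _ := by rw [hc, hkr, hcv]; module

/-! ### Torus elements -/

/-- The torus element of a hyperbolic pair. -/
theorem exists_tor {a r : ι → F₀} (ha : q a = 0) (hr : q r = 0) (har : polar q a r = 1) (t : F₀)
    (ht : t ≠ 0) : ∃ g ∈ M, g ∈ Cfsg.Geo.subfieldSubgroup F₀ P ∧ ∀ x : ι → F,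
      (g : Matrix ι ι F) *ᵥ x =
        x + (((t : F) - 1) * f x (rat P r)) • rat P a + (((t⁻¹ : F₀) : F) - 1) • (f x (rat P a) • rat P r) := by
  haveI := ne_iota D
  have e1 : f (rat P a) (rat P r) = 1 := by rw [D.hpol, har]; rfl
  have e2 : f (rat P r) (rat P a) = 1 := by rw [D.hpol, polar_comm, har]; rfl
  let U : Matrix ι (Fin 2) F := fun i j => ![((t : F) - 1) * rat P a i, (((t⁻¹ : F₀) : F) - 1) * rat P r i] j
  let V : Matrix (Fin 2) ι F := fun j i => ![f (Pi.single i 1) (rat P r), f (Pi.single i 1) (rat P a)] j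
  have hVv : ∀ x : ι → F, V *ᵥ x = ![f x (rat P r), f x (rat P a)] := by
    intro x
    have hsum : ∀ u : ι → F, f x u = ∑ i, x i * f (Pi.single i 1) u := fun u => by
      conv_lhs => rw [show x = ∑ i, x i • (Pi.single i (1 : F) : ι → F) from pi_eq_sum_univ' x]
      show TransvectionUnitary.uLeft D.hf u _ = _
      rw [map_sum]
      exact Finset.sum_congr rfl fun i _ => by rw [map_smul, smul_eq_mul]; rfl
    funext j
    fin_cases j <;> simp [V, Matrix.mulVec, dotProduct, hsum, mul_comm]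
  have hUV : ∀ x : ι → F, (1 + U * V) *ᵥ x =
      x + (((t : F) - 1) * f x (rat P r)) • rat P a + (((t⁻¹ : F₀) : F) - 1) • (f x (rat P a) • rat P r) := by
    intro x
    rw [Matrix.add_mulVec, Matrix.one_mulVec, ← Matrix.mulVec_mulVec, hVv]
    funext i
    simp only [Matrix.mulVec, dotProduct, Fin.sum_univ_two, U, Pi.add_apply, Pi.smul_apply, smul_eq_mul,
      Matrix.cons_val_zero, Matrix.cons_val_one]
    ring
  have hcast : ((t⁻¹ : F₀) : F) = (t : F)⁻¹ := rfl
  have ht' : (t : F) ≠ 0 := fun h => ht (Subtype.ext h)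
  have hVU : V * U = Matrix.diagonal ![(t : F) - 1, ((t⁻¹ : F₀) : F) - 1] := by
    refine Matrix.ext_of_mulVec_single fun j => ?_
    rw [← Matrix.mulVec_mulVec, Matrix.mulVec_single_one, hVv, Matrix.mulVec_single_one]
    funext i
    have e0 : f (rat P a) (rat P a) = 0 := sing D ha
    have e3 : f (rat P r) (rat P r) = 0 := sing D hr
    have hc0 : U.col (0 : Fin 2) = ((t : F) - 1) • rat P a := rfl
    have hc1 : U.col (1 : Fin 2) = (((t⁻¹ : F₀) : F) - 1) • rat P r := rfl
    fin_cases j <;> fin_cases i <;> simp [hc0, hc1, D.hf.smul_left, e0, e1, e2, e3]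
  have hdet : (1 + U * V).det = 1 := by
    rw [Matrix.det_one_add_mul_comm, hVU, ← Matrix.diagonal_one, Matrix.diagonal_add, Matrix.det_diagonal,
      Fin.prod_univ_two]
    simp [hcast, mul_inv_cancel₀ ht']
  let g : GL ι F := Matrix.GeneralLinearGroup.mkOfDetNeZero (1 + U * V) (by rw [hdet]; exact one_ne_zero)
  have hg : ∀ x : ι → F, (g : Matrix ι ι F) *ᵥ x =
      x + (((t : F) - 1) * f x (rat P r)) • rat P a + (((t⁻¹ : F₀) : F) - 1) • (f x (rat P a) • rat P r) := hUV
  refine ⟨g, D.hX g (fun x y => ?_) hdet ?_, ?_, hg⟩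
  · rw [hg, hg]
    simp only [D.hf.add_left, add_right D.hf, D.hf.smul_left, smul_right D.hf, map_mul, map_sub, map_one,
      sig D, sigma_f D.hf, sing D ha, sing D hr, e1, e2]
    rw [hcast]
    field_simp
    ring
  all_goals
    refine (SubfieldRational.mem_subfieldSubgroup_iff P g).2 fun u => ⟨1,
      u + ((t - 1) * polar q u r) • a + (t⁻¹ - 1) • (polar q u a • r), ?_⟩
    rw [hg, one_smul, rat_add, rat_add, rat_smul, rat_smul, rat_smul, D.hpol, D.hpol]
    simp

/-! ### Geometry -/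

/-- A singular partner. -/
theorem partner {a : ι → F₀} (ha : q a = 0) (ha0 : a ≠ 0) : ∃ r, q r = 0 ∧ polar q a r = 1 := by
  obtain ⟨r, hr, har, -⟩ := OrthSubfieldCore44.exists_partner_perp q (nd D) (fun i : Fin 0 => i.elim0) ha
    (by simpa [Set.range_eq_empty] using ha0) (fun i => i.elim0)
  exact ⟨r, hr, har⟩

theorem exists_sing : ∃ a : ι → F₀, a ≠ 0 ∧ q a = 0 := by
  haveI : Finite F₀ := Finite.of_injective _ Subtype.val_injective
  obtain ⟨u, -, hu0, hu⟩ := QuadClassify.exists_singular q (⊤ : Submodule F₀ (ι → F₀))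
    (by rw [finrank_top, fin₀ D]; norm_num)
  exact ⟨u, hu0, hu⟩

/-- The plane perpendicular to a hyperbolic pair. -/
def ell (q : QuadraticForm F₀ (ι → F₀)) (a r : ι → F₀) : Submodule F₀ (ι → F₀) :=
  LinearMap.ker (polarBilin q a) ⊓ LinearMap.ker (polarBilin q r)

theorem proj_mem {a r : ι → F₀} (ha : q a = 0) (hr : q r = 0) (har : polar q a r = 1) (u : ι → F₀) :
    u - polar q a u • r - polar q r u • a ∈ ell q a r := by
  have hra : polar q r a = 1 := by rw [polar_comm, har]
  refine ⟨?_, ?_⟩ <;>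
    simp [ell, polar_sub_right, polar_smul_right, polar_self_mul, ha, hr, har, hra]

theorem ell_finrank {a r : ι → F₀} (ha : q a = 0) (hr : q r = 0) (har : polar q a r = 1) :
    finrank F₀ (ell q a r) = 2 := by
  have hra : polar q r a = 1 := by rw [polar_comm, har]
  let L : (ι → F₀) →ₗ[F₀] F₀ × F₀ := (polarBilin q a).prod (polarBilin q r)
  have hker : ell q a r = LinearMap.ker L := (LinearMap.ker_prod _ _).symm
  have hsur : LinearMap.range L = ⊤ := by
    refine eq_top_iff.2 fun z _ => ⟨z.1 • r + z.2 • a, ?_⟩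
    simp [L, polar_add_right, polar_smul_right, polar_self_mul, ha, hr, har, hra]
  have h := LinearMap.finrank_range_add_finrank_ker L
  rw [hsur, finrank_top, Module.finrank_prod, Module.finrank_self, fin₀ D, ← hker] at h
  omega

theorem mem_ell {a r u : ι → F₀} : u ∈ ell q a r ↔ polar q a u = 0 ∧ polar q r u = 0 := Iff.rfl

/-- A vector of the plane orthogonal to the plane is zero. -/
theorem ell_zero {a r z : ι → F₀} (ha : q a = 0) (hr : q r = 0) (har : polar q a r = 1) (hz : z ∈ ell q a r)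
    (h : ∀ u ∈ ell q a r, polar q z u = 0) : z = 0 := by
  refine (nd D).1 z fun u => ?_
  obtain ⟨h1, h2⟩ := (mem_ell D).1 hz
  have h3 := h _ (proj_mem D ha hr har u)
  rw [polar_sub_right, polar_sub_right, polar_smul_right, polar_smul_right, polar_comm q z r, h2,
    polar_comm q z a, h1, smul_zero, smul_zero, sub_zero, sub_zero] at h3
  exact h3

/-- A singular vector pairing non-trivially with two orthogonal singular vectors. -/
theorem exists_common {b b' : ι → F₀} (hb : q b = 0) (hb0 : b ≠ 0) (hb' : q b' = 0) (hb'0 : b' ≠ 0)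
    (h : polar q b b' = 0) : ∃ m, q m = 0 ∧ m ≠ 0 ∧ polar q b m ≠ 0 ∧ polar q b' m ≠ 0 := by
  obtain ⟨r, hr, hbr⟩ := partner D hb hb0
  by_cases h1 : polar q b' r = 0
  swap
  · exact ⟨r, hr, fun h0 => by simp [h0] at hbr, by rw [hbr]; exact one_ne_zero, h1⟩
  obtain ⟨r', hr', hb'r'⟩ := partner D hb' hb'0
  set y := r' - polar q b r' • r - polar q r r' • b with hy
  obtain ⟨hy1, hy2⟩ : polar q b y = 0 ∧ polar q r y = 0 := (mem_ell D).1 (proj_mem D hb hr hbr r')
  have hy3 : polar q b' y = 1 := by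
    simp [hy, polar_sub_right, polar_smul_right, h1, hb'r', show polar q b' b = 0 by rw [polar_comm, h]]
  refine ⟨r + y - q y • b, ?_, fun h0 => ?_, ?_, ?_⟩
  · have e : ∀ u v, q (u + v) = q u + q v + polar q u v := fun u v => by rw [polar]; ring
    rw [sub_eq_add_neg, ← neg_smul, e, e, QuadraticMap.map_smul, hb, hr, smul_eq_mul, polar_smul_right,
      polar_add_left, polar_comm q r b, hbr, polar_comm q y b, hy1, hy2, smul_eq_mul]
    ring
  · have h4 := congrArg (polarBilin q b) h0
    simp [polar_self_mul, hb, hbr, hy1] at h4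
  · simp [polar_sub_right, polar_add_right, polar_smul_right, polar_self_mul, hb, hbr, hy1]
  · simp [polar_sub_right, polar_add_right, polar_smul_right, hy3, h1,
      show polar q b' b = 0 by rw [polar_comm, h]]

theorem move_opp {b b' : ι → F₀} (hb : q b = 0) (hb0 : b ≠ 0) (hb' : q b' = 0)
    (h : polar q b b' ≠ 0) : ∃ g ∈ M, g ∈ Cfsg.Geo.subfieldSubgroup F₀ P ∧ ∃ k : F₀, k ≠ 0 ∧
      (g : Matrix ι ι F) *ᵥ rat P b = rat P (k • b') := by
  have e : ∀ u v, q (u + v) = q u + q v + polar q u v := fun u v => by rw [polar]; ring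
  set p := polar q b b' with hp
  set r := p⁻¹ • b' with hr0
  have hr : q r = 0 := by rw [hr0, QuadraticMap.map_smul, hb', smul_zero]
  have hbr : polar q b r = 1 := by rw [hr0, polar_smul_right, smul_eq_mul, ← hp, inv_mul_cancel₀ h]
  obtain ⟨y, hy, hqy⟩ : ∃ y ∈ ell q b r, q y ≠ 0 := by
    by_contra hcon
    push Not at hcon
    have hz : ell q b r = ⊥ := eq_bot_iff.2 fun z hz => ell_zero D hb hr hbr hz fun u hu => by
      rw [polar, hcon _ (add_mem hz hu), hcon _ hz, hcon _ hu]; simp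
    have := ell_finrank D hb hr hbr
    rw [hz, finrank_bot] at this
    omega
  obtain ⟨hy1, hy2⟩ := (mem_ell D).1 hy
  set d := r + y - q y • b with hd
  have hrb : polar q r b = 1 := by rw [polar_comm, hbr]
  have hqd : q d = 0 := by
    rw [hd, sub_eq_add_neg, ← neg_smul, e, e, QuadraticMap.map_smul q (-q y) b, hb, hr, smul_eq_mul, polar_smul_right,
      polar_add_left, hrb, polar_comm q y b, hy1, hy2, smul_eq_mul]
    ring
  have hβ : polar q b d = 1 := by
    simp [hd, polar_sub_right, polar_add_right, polar_smul_right, polar_self_mul, hb, hbr, hy1]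
  set β' := polar q b' d with hβ'
  have hβ0 : β' ≠ 0 := by
    have hb'r : b' = p • r := by rw [hr0, smul_inv_smul₀ h]
    have hrd : polar q r d = -q y := by
      simp [hd, polar_sub_right, polar_add_right, polar_smul_right, polar_self_mul, hr, hy2, hrb]
    rw [hβ', hb'r, polar_smul_left, hrd, smul_eq_mul]
    exact mul_ne_zero h (neg_ne_zero.2 hqy)
  set x := β'⁻¹ • b' - b with hx
  have hdx : polar q d x = 0 := by
    rw [hx, polar_sub_right, polar_smul_right, polar_comm q d b', ← hβ', polar_comm q d b, hβ, smul_eq_mul,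
      inv_mul_cancel₀ hβ0, sub_self]
  obtain ⟨g, hg, hgx⟩ := exists_root D hqd hdx
  refine ⟨g, hg, eact_rat_mem D hgx, β'⁻¹, inv_ne_zero hβ0, ?_⟩
  rw [eact_rat D hgx]
  congr 1
  have hqx : q x = -(β'⁻¹ * p) := by
    rw [hx, sub_eq_add_neg, ← neg_one_smul F₀ b, e, QuadraticMap.map_smul, QuadraticMap.map_smul, hb, hb',
      polar_smul_left, polar_smul_right, polar_comm q b' b, ← hp]
    simp
  have hbx : polar q b x = β'⁻¹ * p := by
    rw [hx, polar_sub_right, polar_smul_right, polar_self_mul, hb, ← hp, smul_eq_mul, mul_zero, sub_zero]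
  rw [hβ, hbx, hqx, hx]
  module

/-- The stabiliser of the rational lines moves any singular line to any other. -/
theorem move {b b' : ι → F₀} (hb : q b = 0) (hb0 : b ≠ 0) (hb' : q b' = 0) (hb'0 : b' ≠ 0) :
    ∃ g ∈ M, g ∈ Cfsg.Geo.subfieldSubgroup F₀ P ∧ ∃ k : F₀, k ≠ 0 ∧
      (g : Matrix ι ι F) *ᵥ rat P b = rat P (k • b') := by
  by_cases h : polar q b b' = 0
  swap
  · exact move_opp D hb hb0 hb' h
  obtain ⟨m, hm, hm0, h1, h2⟩ := exists_common D hb hb0 hb' hb'0 h
  obtain ⟨g, hg, hgX, k, hk, hgb⟩ := move_opp D hb hb0 hm h1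
  obtain ⟨g', hg', hg'X, k', hk', hgm⟩ := move_opp D hm hm0 hb' (by rw [polar_comm]; exact h2)
  refine ⟨g' * g, M.mul_mem hg' hg, Subgroup.mul_mem _ hg'X hgX, k * k', mul_ne_zero hk hk', ?_⟩
  rw [mul_act, hgb, rat_smul, Matrix.mulVec_smul, hgm, ← rat_smul, smul_smul]

end Cfsg.Agent.UnitOrthFour44
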