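import Cfsg.Agent.Lib.UnitOrthFour44Base

/-!
An overgroup with an irrational root element contains every transvection.
-/

set_option autoImplicit false
set_option linter.unusedSectionVars false

namespace Cfsg.Agent.UnitOrthFour44

open QuadraticMap Module
open Cfsg.Agent.OrthUnitaryQuad (polar_self_mul)
open Cfsg.Agent.TransvectionMax (gl_ext mul_act one_act act_inv_act inv_act_act act_injective)
open Cfsg.Agent.TransvectionUnitary (skew_zero sigma_f sigma_sigma add_right smul_right sub_left sub_right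
  neg_left neg_right zero_left zero_right)
open Cfsg.Agent.SubfieldRational (rat rat_add rat_smul rat_zero rat_sub rat_neg rat_eq_zero)
open Cfsg.Agent.UnitarySubfieldRoot
open scoped MatrixGroups Matrix

variable {ι : Type} [Fintype ι] [DecidableEq ι] {F : Type*} [Field F] [Fintype F] {F₀ : Subfield F}

/-- All transvections centred at a rational singular vector. -/
def Good (σ : F ≃+* F) (f : (ι → F) → (ι → F) → F) (P : GL ι F) (M : Subgroup (GL ι F)) (a : ι → F₀) : Prop :=
  ∀ c, σ c = -c → Tg σ f (rat P a) c ∈ M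

/-- Only the rational root elements. -/
def Pure (σ : F ≃+* F) (f : (ι → F) → (ι → F) → F) (P : GL ι F) (q : QuadraticForm F₀ (ι → F₀))
    (M : Subgroup (GL ι F)) : Prop :=
  ∀ a : ι → F₀, q a = 0 → a ≠ 0 →
    (∀ w s, f w (rat P a) = 0 → InE f M (rat P a) w s →
      ∃ (v : ι → F₀) (κ : F), w = rat P v + κ • rat P a) ∧
    (∀ c, σ c = -c → Tg σ f (rat P a) c ∈ M → c = 0)

variable {σ : F ≃+* F} {f : (ι → F) → (ι → F) → F} {P : GL ι F} {q : QuadraticForm F₀ (ι → F₀)}
  {M : Subgroup (GL ι F)}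

variable (D : Data σ f P q M)
include D

theorem good_move {a b : ι → F₀} (ha : q a = 0) (ha0 : a ≠ 0) (hb : q b = 0) (hb0 : b ≠ 0)
    (hg : Good σ f P M a) : Good σ f P M b := by
  obtain ⟨g, hg', -, k, hk, hga⟩ := move D ha ha0 hb hb0
  intro c hc
  have hk' : (k : F) ≠ 0 := fun h => hk (Subtype.ext h)
  have h1 := M.mul_mem (M.mul_mem hg' (hg (c / ((k : F) * k)) (by
    rw [map_div₀, map_mul, hc, sig D, neg_div]))) (M.inv_mem hg')
  rw [tg_conj D.hf (D.iso g hg') (sing D ha), hga, rat_smul, tg_smul D.hf (sing D hb), sig D] at h1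
  convert h1 using 2
  field_simp

/-- One transvection gives all with that centre. -/
theorem good_of_one {a : ι → F₀} (ha : q a = 0) (ha0 : a ≠ 0) {c : F} (hc : σ c = -c) (hc0 : c ≠ 0)
    (h : Tg σ f (rat P a) c ∈ M) : Good σ f P M a := by
  obtain ⟨r, hr, har⟩ := partner D ha ha0
  intro d hd
  have hA : ∀ t : F₀, Tg σ f (rat P a) ((t : F) * t * c) ∈ M := by
    intro t
    by_cases ht : t = 0
    · subst ht
      have : Tg σ f (rat P a) (((0 : F₀) : F) * (0 : F₀) * c) = 1 := gl_ext fun x => by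
        rw [tg_act D.hf (sing D ha), one_act]; simp
      rw [this]; exact M.one_mem
    obtain ⟨g, hg, -, hgx⟩ := exists_tor D ha hr har t ht
    have h1 := M.mul_mem (M.mul_mem hg h) (M.inv_mem hg)
    have hga : (g : Matrix ι ι F) *ᵥ rat P a = rat P (t • a) := by
      rw [hgx, sing D ha, D.hpol, har, zero_smul, smul_zero, rat_smul]
      simp only [OneMemClass.coe_one, mul_one, add_zero]
      module
    rw [tg_conj D.hf (D.iso g hg) (sing D ha), hga, rat_smul, tg_smul D.hf (sing D ha), sig D] at h1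
    convert h1 using 2
    ring
  have hc' : d / c ∈ F₀ := (D.fix _).1 (by rw [map_div₀, hd, hc, neg_div_neg_eq])
  set u : F₀ := ⟨d / c, hc'⟩
  have h2 := two₀ D
  have h3 := M.mul_mem (hA ((u + 1) / 2)) (M.inv_mem (hA ((u - 1) / 2)))
  rw [tg_inv D.hf (sing D ha), tg_add D.hf (sing D ha)] at h3
  convert h3 using 2
  have e : ((u + 1) / 2) * ((u + 1) / 2) - ((u - 1) / 2) * ((u - 1) / 2) = u := by field_simp; ring
  have e' := congrArg (fun z : F₀ => (z : F)) e
  simp only [Subfield.coe_sub, Subfield.coe_mul] at e'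
  rw [show d = (u : F) * c by rw [show (u : F) = d / c from rfl, div_mul_cancel₀ _ hc0], ← e']
  ring

/-- An irrational root element gives a transvection. -/
theorem good_of_irr {a : ι → F₀} (ha : q a = 0) (ha0 : a ≠ 0) {w : ι → F} {s : F} (hw : f w (rat P a) = 0)
    (hE : InE f M (rat P a) w s) (hirr : ∀ (v : ι → F₀) (κ : F), w ≠ rat P v + κ • rat P a) :
    Good σ f P M a := by
  obtain ⟨r, hr, har⟩ := partner D ha ha0
  obtain ⟨y, hy, hyv⟩ : ∃ y, polar q a y = 0 ∧ f w (rat P y) - f (rat P y) w ≠ 0 := by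
    by_contra hcon
    push Not at hcon
    set w' := w - f w (rat P r) • rat P a with hw'
    have h1 : ∀ y, polar q a y = 0 → f w' (rat P y) ∈ F₀ := fun y hy => (D.fix _).1 (by
      rw [hw', sub_left D.hf, D.hf.smul_left, orth D hy, mul_zero, sub_zero, sigma_f D.hf]
      exact (sub_eq_zero.1 (hcon y hy)).symm)
    have hrw : f w' (rat P r) = 0 := by
      rw [hw', sub_left D.hf, D.hf.smul_left, D.hpol, har]; simp
    have haw : f w' (rat P a) = 0 := by rw [hw', sub_left D.hf, D.hf.smul_left, sing D ha, hw]; simp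
    have hall : ∀ x : ι → F₀, f (rat P x) w' ∈ F₀ := by
      intro x
      have hy : polar q a (x - polar q a x • r - polar q r x • a) = 0 := (mem_ell D).1 (proj_mem D ha hr har x) |>.1
      have h2 := h1 _ hy
      rw [rat_sub, rat_sub, rat_smul, rat_smul, sub_right D.hf, sub_right D.hf, smul_right D.hf,
        smul_right D.hf, hrw, haw, mul_zero, sub_zero, mul_zero, sub_zero] at h2
      rw [← sigma_f D.hf w' (rat P x), (D.fix _).2 h2]
      exact h2
    obtain ⟨v, hv⟩ := exists_of_val D hall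
    exact hirr v (f w (rat P r)) (by rw [← hv, hw']; module)
  obtain ⟨g, hg, hgy⟩ := exists_root D ha hy
  have h := inE_comm D.hf (sing D ha) hw (orth' D hy) hE ⟨g, hg, hgy⟩
  exact good_of_one D ha ha0 (by rw [map_sub, sigma_f D.hf, sigma_f D.hf, neg_sub]) hyv h

/-- Transvections at every rational singular vector give all transvections. -/
theorem all_tg (hall : ∀ a, q a = 0 → a ≠ 0 → Good σ f P M a) {v : ι → F} (hv : f v v = 0) {c : F}
    (hc : σ c = -c) : Tg σ f v c ∈ M := by
  by_cases hv0 : v = 0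
  · rw [show Tg σ f v c = 1 from gl_ext fun x => by
      rw [tg_act D.hf hv, one_act, hv0, smul_zero, add_zero]]
    exact M.one_mem
  have e : ∀ u v, q (u + v) = q u + q v + polar q u v := fun u v => by rw [polar]; ring
  obtain ⟨a, ha, hva⟩ : ∃ a, q a = 0 ∧ f v (rat P a) ≠ 0 := by
    by_contra hcon
    push Not at hcon
    obtain ⟨b, hb0, hb⟩ := exists_sing D
    obtain ⟨r, hr, hbr⟩ := partner D hb hb0
    refine hv0 (eq_of_f D fun x => ?_)
    rw [zero_right D.hf]
    refine skew_zero D.hf ?_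
    set y := x - polar q b x • r - polar q r x • b with hy
    obtain ⟨hy1, hy2⟩ : polar q b y = 0 ∧ polar q r y = 0 := (mem_ell D).1 (proj_mem D hb hr hbr x)
    have hs : q (r + y + (-q y) • b) = 0 := by
      rw [e, e, QuadraticMap.map_smul q (-q y) b, hb, hr, smul_eq_mul, polar_smul_right,
        polar_add_left, polar_comm q r b, hbr, polar_comm q y b, hy1, hy2, smul_eq_mul]
      ring
    have h1 := hcon _ hs
    rw [rat_add, rat_add, rat_smul, add_right D.hf, add_right D.hf, smul_right D.hf, hcon _ hr, hcon _ hb,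
      mul_zero, add_zero, zero_add, hy, rat_sub, rat_sub, rat_smul, rat_smul, sub_right D.hf, sub_right D.hf,
      smul_right D.hf, smul_right D.hf, hcon _ hr, hcon _ hb, mul_zero, sub_zero, mul_zero, sub_zero] at h1
    exact h1
  have ha0 : a ≠ 0 := fun h => hva (by rw [h, rat_zero, zero_right D.hf])
  obtain ⟨r, hr, har⟩ := partner D ha ha0
  have hra : f (rat P r) (rat P a) = 1 := by rw [D.hpol, polar_comm, har]; rfl
  have har' : f (rat P a) (rat P r) = 1 := by rw [D.hpol, har]; rfl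
  set m := f v (rat P a) with hm
  obtain ⟨v', hv'⟩ : ∃ v', v' = m⁻¹ • v := ⟨_, rfl⟩
  have hv'a : f v' (rat P a) = 1 := by rw [hv', D.hf.smul_left, ← hm, inv_mul_cancel₀ hva]
  have hv'v : f v' v' = 0 := by rw [hv', D.hf.smul_left, smul_right D.hf, hv, mul_zero, mul_zero]
  -- decomposition
  obtain ⟨θ, hθ0, hθ, -⟩ := exists_theta D
  obtain ⟨z, hz⟩ : ∃ z : ι → F, z = v' - rat P r - f v' (rat P r) • rat P a := ⟨_, rfl⟩
  have hza : f z (rat P a) = 0 := by
    rw [hz, sub_left D.hf, sub_left D.hf, D.hf.smul_left, hv'a, hra, sing D ha, mul_zero, sub_self, sub_zero]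
  have hzr : f z (rat P r) = 0 := by
    rw [hz, sub_left D.hf, sub_left D.hf, D.hf.smul_left, sing D hr, har', mul_one, sub_zero, sub_self]
  obtain ⟨y2, Y, hY, hzY⟩ : ∃ y2 Y : ι → F₀, (polar q a y2 = 0 ∧ polar q r y2 = 0 ∧ polar q a Y = 0 ∧
      polar q r Y = 0) ∧ z = rat P y2 + θ • rat P Y := by
    let z1 := (2 : F)⁻¹ • (z + z)
    obtain ⟨s, hs⟩ : ∃ s : (ι → F₀) → F₀ × F₀, ∀ u, f (rat P u) z = (s u).1 + (s u).2 * θ :=
      ⟨fun u => ((decomp D hθ hθ0 (f (rat P u) z)).choose, (decomp D hθ hθ0 _).choose_spec.choose),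
        fun u => (decomp D hθ hθ0 _).choose_spec.choose_spec⟩
    have huniq : ∀ {x y x' y' : F₀}, (x : F) + y * θ = x' + y' * θ → x = x' ∧ y = y' := by
      intro x y x' y' h
      obtain ⟨h1, h2⟩ := coeff_zero D hθ hθ0 (s := x - x') (t := y - y')
        (by push_cast; linear_combination h)
      exact ⟨sub_eq_zero.1 h1, sub_eq_zero.1 h2⟩
    have hadd : ∀ u u', s (u + u') = s u + s u' := fun u u' => by
      obtain ⟨h1, h2⟩ := huniq (x := (s (u + u')).1) (y := (s (u + u')).2) (x' := (s u).1 + (s u').1)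
        (y' := (s u).2 + (s u').2) (by
          rw [← hs, rat_add, D.hf.add_left, hs, hs]; push_cast; ring)
      exact Prod.ext h1 h2
    have hsmul : ∀ (k : F₀) u, s (k • u) = k • s u := fun k u => by
      obtain ⟨h1, h2⟩ := huniq (x := (s (k • u)).1) (y := (s (k • u)).2) (x' := k * (s u).1)
        (y' := k * (s u).2) (by rw [← hs, rat_smul, D.hf.smul_left, hs]; push_cast; ring)
      exact Prod.ext h1 h2
    let φ₁ : (ι → F₀) →ₗ[F₀] F₀ :=
      { toFun := fun u => (s u).1, map_add' := fun u u' => by rw [hadd]; rfl,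
        map_smul' := fun k u => by rw [hsmul]; rfl }
    let φ₂ : (ι → F₀) →ₗ[F₀] F₀ :=
      { toFun := fun u => -(s u).2, map_add' := fun u u' => by rw [hadd]; simp [add_comm],
        map_smul' := fun k u => by rw [hsmul]; simp }
    obtain ⟨p1, hp1⟩ := (LinearMap.BilinForm.toDual (polarBilin q) (nd D)).surjective φ₁
    obtain ⟨p2, hp2⟩ := (LinearMap.BilinForm.toDual (polarBilin q) (nd D)).surjective φ₂
    have hp1' : ∀ u, polar q p1 u = (s u).1 := fun u => by
      simpa [LinearMap.BilinForm.toDual_def, φ₁] using congrArg (fun L => L u) hp1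
    have hp2' : ∀ u, polar q p2 u = -(s u).2 := fun u => by
      simpa [LinearMap.BilinForm.toDual_def, φ₂] using congrArg (fun L => L u) hp2
    have h0 : ∀ u, f (rat P u) z = 0 → polar q u p1 = 0 ∧ polar q u p2 = 0 := fun u hu => by
      obtain ⟨h1, h2⟩ := coeff_zero D hθ hθ0 (s := (s u).1) (t := (s u).2) (by rw [← hs, hu])
      rw [polar_comm, hp1', polar_comm, hp2', h1, h2, neg_zero]
      exact ⟨rfl, rfl⟩
    refine ⟨p1, p2, ⟨(h0 a (skew_zero D.hf hza)).1, (h0 r (skew_zero D.hf hzr)).1,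
      (h0 a (skew_zero D.hf hza)).2, (h0 r (skew_zero D.hf hzr)).2⟩, eq_of_f D fun u => ?_⟩
    rw [hs, add_right D.hf, smul_right D.hf, hθ, D.hpol, D.hpol, polar_comm q u p1, polar_comm q u p2, hp1',
      hp2', NegMemClass.coe_neg]
    ring
  obtain ⟨hy2a, hy2r, hYa, hYr⟩ := hY
  -- the auxiliary scalars
  set n : F₀ := ⟨θ * θ, theta_sq D hθ⟩ with hn
  set Q := q Y with hQ
  have hden : (1 : F) - θ * Q ≠ 0 := by
    intro h
    have h1 := congrArg σ h
    rw [map_sub, map_one, map_mul, hθ, sig D, map_zero] at h1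
    exact D.two (by linear_combination h + h1)
  have hden' : (1 : F) + θ * Q ≠ 0 := by
    intro h
    have h1 := congrArg σ h
    rw [map_add, map_one, map_mul, hθ, sig D, map_zero] at h1
    exact D.two (by linear_combination h + h1)
  have hnQ : (1 : F₀) - n * (Q * Q) ≠ 0 := by
    intro h
    have h' := congrArg (fun z : F₀ => (z : F)) h
    simp only [Subfield.coe_sub, Subfield.coe_mul, OneMemClass.coe_one, ZeroMemClass.coe_zero, hn] at h'
    exact mul_ne_zero hden hden' (by linear_combination h')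
  set t : F₀ := (1 - n * (Q * Q))⁻¹ with ht
  have ht0 : t ≠ 0 := inv_ne_zero hnQ
  set d : F₀ := (t * t)⁻¹ with hd
  set c₁ : F := (d : F) * θ with hc₁
  have hc₁' : σ c₁ = -c₁ := by rw [hc₁, map_mul, sig D, hθ, mul_neg]
  -- the first move
  set y := t • Y with hy
  have hay : polar q a y = 0 := by rw [hy, polar_smul_right, hYa, smul_zero]
  have hry : polar q r y = 0 := by rw [hy, polar_smul_right, hYr, smul_zero]
  obtain ⟨g1, hg1, hg1x⟩ := exists_root D hr (show polar q r y = 0 from hry)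
  set x1 := (g1 : Matrix ι ι F) *ᵥ ((Tg σ f (rat P a) c₁ : Matrix ι ι F) *ᵥ rat P r) with hx1
  have hqy : ((q y : F₀) : F) = (t : F) * t * Q := by
    rw [hy, QuadraticMap.map_smul, hQ, smul_eq_mul]; push_cast; ring
  set k1 : F := 1 - θ * Q with hk1
  have hdt : (d : F) * ((t : F) * t) = 1 := by
    rw [hd]; push_cast
    exact inv_mul_cancel₀ (mul_ne_zero (fun h => ht0 (Subtype.ext h)) (fun h => ht0 (Subtype.ext h)))
  have hx1' : x1 = k1 • rat P r + c₁ • rat P y + c₁ • rat P a := by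
    rw [hx1, tg_act D.hf (sing D ha), hra, mul_one, hg1x]
    simp only [D.hf.add_left, D.hf.smul_left, sing D hr, har', orth D hry, orth D hay, hqy]
    rw [hk1, hc₁]
    match_scalars <;> first
      | linear_combination (-θ * Q) * hdt
      | ring
  -- the second move
  set y' := y2 + (-(n * Q)) • Y with hy'
  have hay' : polar q a y' = 0 := by rw [hy', polar_add_right, polar_smul_right, hy2a, hYa, smul_zero, add_zero]
  have hry' : polar q r y' = 0 := by rw [hy', polar_add_right, polar_smul_right, hy2r, hYr, smul_zero, add_zero]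
  obtain ⟨g2, hg2, hg2x⟩ := exists_root D ha hay'
  set x2 := (g2 : Matrix ι ι F) *ᵥ (k1⁻¹ • x1) with hx2
  have hkey : k1⁻¹ * c₁ * (t : F) = θ + n * Q := by
    have h1 : (t : F) * (1 - θ * θ * (Q * Q)) = 1 := by
      rw [ht]; push_cast; rw [hn]
      exact inv_mul_cancel₀ (fun h => mul_ne_zero hden hden' (by linear_combination h))
    have h2 : (d : F) * t = 1 - θ * θ * (Q * Q) := by linear_combination (1 - θ * θ * (Q * Q)) * hdt - (d : F) * t * h1
    rw [inv_mul_eq_div, div_mul_eq_mul_div, div_eq_iff hden, hc₁, show ((n : F₀) : F) = θ * θ from rfl, hk1]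
    linear_combination θ * h2
  obtain ⟨ν, hν⟩ : ∃ ν : F, x2 = rat P r + z + ν • rat P a := by
    have hw : k1⁻¹ • x1 = rat P r + (θ + (n : F) * Q) • rat P Y + (k1⁻¹ * c₁) • rat P a := by
      rw [hx1', hy, rat_smul, smul_add, smul_add, smul_smul, smul_smul, smul_smul, smul_smul,
        inv_mul_cancel₀ hden, one_smul, hkey]
    have hwa : f (k1⁻¹ • x1) (rat P a) = 1 := by
      rw [hw, D.hf.add_left, D.hf.add_left, D.hf.smul_left, D.hf.smul_left, hra, orth' D hYa, sing D ha,
        mul_zero, mul_zero, add_zero, add_zero]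
    refine ⟨k1⁻¹ * c₁ - f (k1⁻¹ • x1) (rat P y') + (-((q y' : F₀) : F)), ?_⟩
    rw [hx2, hg2x, hwa]
    generalize f (k1⁻¹ • x1) (rat P y') = ψ
    rw [hw, hzY, hy', rat_add, rat_smul, NegMemClass.coe_neg, Subfield.coe_mul]
    module
  -- centres
  have hSg : ∀ {g : GL ι F}, g ∈ M → ∀ {x : ι → F}, f x x = 0 → (∀ e, σ e = -e → Tg σ f x e ∈ M) →
      ∀ e, σ e = -e → Tg σ f ((g : Matrix ι ι F) *ᵥ x) e ∈ M := fun hg x hx h e he => by
    rw [← tg_conj D.hf (D.iso _ hg) hx]
    exact M.mul_mem (M.mul_mem hg (h e he)) (M.inv_mem hg)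
  have hr0 : r ≠ 0 := fun h => by simp [h] at har
  have hS0 := hall r hr hr0
  have hT : Tg σ f (rat P a) c₁ ∈ M := hall a ha ha0 c₁ hc₁'
  have hS1 : ∀ e, σ e = -e → Tg σ f x1 e ∈ M :=
    hSg hg1 (by rw [D.iso _ hT, sing D hr]) (hSg hT (sing D hr) hS0)
  have hx11 : f x1 x1 = 0 := by rw [hx1, D.iso _ hg1, D.iso _ hT, sing D hr]
  have hx1s : f (k1⁻¹ • x1) (k1⁻¹ • x1) = 0 := by rw [D.hf.smul_left, smul_right D.hf, hx11, mul_zero, mul_zero]
  have hS2 : ∀ e, σ e = -e → Tg σ f x2 e ∈ M := hSg hg2 hx1s fun e he => by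
    rw [tg_smul D.hf hx11]
    exact hS1 _ (by rw [map_mul, map_mul, he, sigma_sigma D.hf]; ring)
  have hx22 : f x2 x2 = 0 := by rw [hx2, D.iso _ hg2, hx1s]
  have hx2a : f x2 (rat P a) = 1 := by
    rw [hν, D.hf.add_left, D.hf.add_left, D.hf.smul_left, hra, hza, sing D ha]; simp
  set e3 := f v' (rat P r) - ν with he3
  have hv'2 : v' = x2 + e3 • rat P a := by rw [he3, hν, hz]; module
  have he3' : σ e3 = -e3 := by
    have h1 := hv'v
    rw [hv'2, D.hf.add_left, D.hf.smul_left, add_right D.hf, add_right D.hf, smul_right D.hf, smul_right D.hf,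
      hx22, sing D ha, hx2a, show f (rat P a) x2 = 1 by rw [D.hf.herm, hx2a, map_one]] at h1
    linear_combination h1
  have hmv : (Tg σ f (rat P a) e3 : Matrix ι ι F) *ᵥ x2 = v' := by
    rw [tg_act D.hf (sing D ha), hx2a, mul_one, hv'2]
  have hT3 : Tg σ f (rat P a) e3 ∈ M := hall a ha ha0 e3 he3'
  have hc' : σ (c * m * σ m) = -(c * m * σ m) := by rw [map_mul, map_mul, hc, sigma_sigma D.hf]; ring
  have h := hSg hT3 hx22 hS2 _ hc'
  rw [hmv] at h
  rw [show v = m • v' by rw [hv', smul_smul, mul_inv_cancel₀ hva, one_smul], tg_smul D.hf hv'v]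
  exact h

end Cfsg.Agent.UnitOrthFour44
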