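import Cfsg.Agent.Lib.UnitOrthFour44Pure
import Cfsg.Agent.Lib.OrthUnitaryTransvection

set_option autoImplicit false
open Cfsg

namespace Cfsg.Agent.UnitOrthFour44Max

open Cfsg.Agent.TransvectionMax (gl_ext one_act)
open Cfsg.Agent.SubfieldRational (rat rat_add rat_smul rat_sub)
open Cfsg.Agent.UnitarySubfieldRoot
open scoped MatrixGroups Matrix

/-- SU_4(q), q odd and at least 5: the orthogonal subfield groups. -/
theorem maximal_orth {F : Type*} [Field F] [Fintype F] (q : ℕ) (hF : Fintype.card F = q ^ 2) :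
    (Odd q → 5 ≤ q → ∀ (F₀ : Subfield F) (P : Matrix.GeneralLinearGroup (Fin 4) F), Fintype.card F = Nat.card F₀ ^ 2 → Cfsg.Geo.IsFormRationalStructure (Cfsg.hermForm 4 F q) F₀ 1 P → Cfsg.Geo.IsMaximalIn (Cfsg.GU 4 F q ⊓ Cfsg.Geo.specialLinear (Fin 4) F) (Cfsg.Geo.subfieldSubgroup F₀ P ⊓ (Cfsg.GU 4 F q ⊓ Cfsg.Geo.specialLinear (Fin 4) F))) := by
  intro hodd h5 F₀ P hcard hP
  classical
  haveI : Nonempty (Fin 4) := ⟨0⟩
  obtain ⟨τ, hτ, hf⟩ := TransvectionUnitaryGen.herm_isUnitaryForm (n := 4) hF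
  set f := Cfsg.hermForm 4 F q
  have hq : Nat.card F₀ = q := by
    rw [hF] at hcard
    exact (Nat.pow_left_injective two_ne_zero hcard).symm
  have hin : ∀ x : F₀, τ (x : F) = x := fun x => by
    haveI : Fintype F₀ := Fintype.ofFinite F₀
    rw [hτ, ← hq, Nat.card_eq_fintype_card]
    exact congrArg Subtype.val (FiniteField.pow_card x)
  haveI : Module.Finite F₀ F := Module.Finite.of_finite
  have hfin : Module.finrank F₀ F = 2 := by
    refine Nat.pow_right_injective (Finite.one_lt_card (α := F₀)) ?_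
    simp only
    rw [← hcard, ← Nat.card_eq_fintype_card]
    exact (Module.natCard_eq_pow_finrank (K := F₀) (V := F)).symm
  have hfix : ∀ x : F, τ x = x ↔ x ∈ F₀ := by
    refine fun x => ⟨fun hx => ?_, fun hx => hin ⟨x, hx⟩⟩
    by_contra hx0
    let S : Subalgebra F₀ F :=
      { carrier := {y | τ y = y}
        mul_mem' := fun {a b} ha hb => by
          show τ (a * b) = a * b
          rw [map_mul, ha, hb]
        one_mem' := map_one τ
        add_mem' := fun {a b} ha hb => by
          show τ (a + b) = a + b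
          rw [map_add, ha, hb]
        zero_mem' := map_zero τ
        algebraMap_mem' := hin }
    have hS := SubfieldRational.subalgebra_eq_top Nat.prime_two hcard S (x := x) hx hx0
    refine hf.ne_refl (RingEquiv.ext fun y => ?_)
    show y ∈ S
    rw [hS]; trivial
  have h2 : (2 : F) ≠ 0 := Ring.two_ne_zero fun h => by
    have h' := FiniteField.even_card_iff_char_two.1 h
    obtain ⟨j, hj⟩ := hodd.pow (n := 2)
    rw [← hF] at hj
    omega
  have h20 : (2 : F₀) ≠ 0 := fun h => h2 (congrArg Subtype.val h)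
  haveI : NeZero (2 : F₀) := ⟨h20⟩
  have hval : ∀ u v : Fin 4 → F₀, f (rat P u) (rat P v) ∈ F₀ := fun u v => by
    have h := hP _ _ (fun i => (u i).2) (fun i => (v i).2)
    rw [one_mul] at h
    exact h
  have hsym : ∀ u v : Fin 4 → F₀, f (rat P u) (rat P v) = f (rat P v) (rat P u) := fun u v => by
    rw [hf.herm (rat P u) (rat P v)]
    exact (hfix _).2 (hval v u)
  let B : LinearMap.BilinMap F₀ (Fin 4 → F₀) F₀ := LinearMap.mk₂ F₀
    (fun u v => ⟨f (rat P u) (rat P v), hval u v⟩ / 2)
    (fun u u' v => by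
      rw [← add_div]
      congr 1
      exact Subtype.ext (show f (rat P (u + u')) (rat P v) = f (rat P u) (rat P v) + f (rat P u') (rat P v)
        by rw [rat_add, hf.add_left]))
    (fun c u v => by
      rw [smul_eq_mul, ← mul_div_assoc]
      congr 1
      exact Subtype.ext (show f (rat P (c • u)) (rat P v) = c * f (rat P u) (rat P v)
        by rw [rat_smul, hf.smul_left]))
    (fun u v v' => by
      rw [← add_div]
      congr 1
      exact Subtype.ext (show f (rat P u) (rat P (v + v')) = f (rat P u) (rat P v) + f (rat P u) (rat P v')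
        by rw [rat_add, TransvectionUnitary.add_right hf]))
    (fun c u v => by
      rw [smul_eq_mul, ← mul_div_assoc]
      congr 1
      exact Subtype.ext (show f (rat P u) (rat P (c • v)) = c * f (rat P u) (rat P v)
        by rw [rat_smul, TransvectionUnitary.smul_right hf, hin]))
  let Q0 : QuadraticForm F₀ (Fin 4 → F₀) := LinearMap.BilinMap.toQuadraticMap B
  have hQ0 : ∀ u, Q0 u = ⟨f (rat P u) (rat P u), hval u u⟩ / 2 := fun u => rfl
  have hpol : ∀ u v : Fin 4 → F₀,
      f (rat P u) (rat P v) = ((QuadraticMap.polar Q0 u v : F₀) : F) := by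
    intro u v
    have h : QuadraticMap.polar Q0 u v = ⟨f (rat P u) (rat P v), hval u v⟩ := by
      rw [LinearMap.BilinMap.polar_toQuadraticMap]
      show (⟨_, hval u v⟩ : F₀) / 2 + (⟨_, hval v u⟩ : F₀) / 2 = _
      rw [show (⟨_, hval v u⟩ : F₀) = ⟨_, hval u v⟩ from Subtype.ext (hsym v u), add_halves]
    rw [h]
  have hself : ∀ u : Fin 4 → F₀, ((Q0 u : F₀) : F) * 2 = f (rat P u) (rat P u) := fun u => by
    have h : Q0 u * 2 = ⟨f (rat P u) (rat P u), hval u u⟩ := by rw [hQ0, div_mul_cancel₀ _ h20]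
    exact congrArg Subtype.val h
  set K := Cfsg.GU 4 F q ⊓ Cfsg.Geo.specialLinear (Fin 4) F
  let φ : SU 4 F q →* GL (Fin 4) F := Matrix.SpecialLinearGroup.toGL.comp (SU 4 F q).subtype
  have hφK : ∀ A : SU 4 F q, φ A ∈ K := fun A => ⟨fun x y => A.2 x y, by
    show Matrix.GeneralLinearGroup.det (φ A) = 1
    exact Units.ext (A : Matrix.SpecialLinearGroup (Fin 4) F).2⟩
  set H := Cfsg.Geo.subfieldSubgroup F₀ P ⊓ K with hH
  have hrat : ∀ a x : Fin 4 → F₀, Q0 a = 0 → QuadraticMap.polar Q0 a x = 0 →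
      InE f H (rat P a) (rat P x) (-((Q0 x : F₀) : F)) := by
    intro a x ha hax
    have he : f (rat P a) (rat P a) = 0 := by rw [← hself, ha, ZeroMemClass.coe_zero, zero_mul]
    have hw : f (rat P x) (rat P a) = 0 := by
      rw [hpol, QuadraticMap.polar_comm, hax, ZeroMemClass.coe_zero]
    have hμ : -((Q0 x : F₀) : F) + (-((Q0 x : F₀) : F)) ^ q + f (rat P x) (rat P x) = 0 := by
      rw [← hτ, map_neg, hin, ← hself]; ring
    set A := OrthUnitaryTransvection.eich hF (rat P a) (rat P x) _ he hw hμ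
    have hE : EAct f (φ A) (rat P a) (rat P x) (-((Q0 x : F₀) : F)) := fun y => by
      show OrthUnitaryTransvection.act A y = _
      rw [OrthUnitaryTransvection.eich_act]
      module
    refine ⟨φ A, ⟨(SubfieldRational.mem_subfieldSubgroup_iff P _).2 fun u => ?_, hφK A⟩, hE⟩
    refine ⟨1, u + QuadraticMap.polar Q0 u a • x - QuadraticMap.polar Q0 u x • a +
      (-(Q0 x) * QuadraticMap.polar Q0 u a) • a, ?_⟩
    rw [hE, one_smul, hpol, hpol, rat_add, rat_sub, rat_add, rat_smul, rat_smul, rat_smul,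
      Subfield.coe_mul, NegMemClass.coe_neg]
  have hK : ∀ g ∈ K, TransvectionUnitaryGen.Iso f g := fun g hg => hg.1
  have hData : ∀ M : Subgroup (GL (Fin 4) F), H ≤ M → M ≤ K →
      UnitOrthFour44.Data τ f P Q0 M := fun M hHM hMK =>
    ⟨hf, Fintype.card_fin 4, hq ▸ h5, h2, hfix, hfin, hpol, fun g hg => hK g (hMK hg),
      fun g hg => by
        simpa [Cfsg.Geo.specialLinear, MonoidHom.mem_ker, Units.ext_iff] using (hMK hg).2,
      fun a x ha hax => by
        obtain ⟨g, hg, hgx⟩ := hrat a x ha hax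
        exact ⟨g, hHM hg, hgx⟩,
      fun g hg hd hgX => hHM ⟨hgX, fun x y => hg x y, by
        show Matrix.GeneralLinearGroup.det g = 1
        exact Units.ext hd⟩⟩
  refine ⟨lt_of_le_of_ne inf_le_right fun he => ?_, fun M hHM hMK => ?_⟩
  · have X := hData H le_rfl inf_le_right
    obtain ⟨c, hc0, hc⟩ := TransvectionUnitary.exists_tz hf
    have hcn : c ∉ F₀ := fun h => by
      rw [(hfix c).2 h] at hc
      exact hc0 ((mul_eq_zero.1 (show (2 : F) * c = 0 by linear_combination hc)).resolve_left h2)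
    obtain ⟨a, ha0, ha⟩ := UnitOrthFour44.exists_sing X
    obtain ⟨r, hr, har⟩ := UnitOrthFour44.partner X ha ha0
    have hra : f (rat P r) (rat P a) = 1 := by
      rw [hpol, QuadraticMap.polar_comm, har, OneMemClass.coe_one]
    have hA : f (rat P a) (rat P a) = 0 := UnitOrthFour44.sing X ha
    have hcq : c + c ^ q = 0 := by rw [← hτ, hc, add_neg_cancel]
    have hmem : Tg τ f (rat P a) c ∈ H := by
      have h : Tg τ f (rat P a) c = φ (OrthUnitaryTransvection.tv hF (rat P a) c hA hcq) :=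
        gl_ext fun y => by
          rw [tg_act hf hA]
          exact (OrthUnitaryTransvection.tv_act hF _ c hA hcq y).symm
      rw [he, h]
      exact hφK _
    obtain ⟨k, w, hkw⟩ := (SubfieldRational.mem_subfieldSubgroup_iff P _).1 hmem.1 r
    rw [tg_act hf hA, hra, mul_one] at hkw
    have hi : r ∉ Submodule.span F₀ {a} := fun h => by
      obtain ⟨s, rfl⟩ := Submodule.mem_span_singleton.1 h
      rw [QuadraticMap.polar_smul_right, OrthUnitaryQuad.polar_self_mul, ha] at har
      simp at har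
    rcases eq_or_ne k 0 with rfl | hk
    · exact one_ne_zero (SubfieldRational.rat_indep P ha0 hi (s := 1) (t := c)
        (by rw [one_smul, hkw, zero_smul])).1
    obtain ⟨m1, m2⟩ := SubfieldRational.rat_coeff_mem P ha0 hi (a := k⁻¹) (b := k⁻¹ * c) (z := w)
      (by rw [← smul_smul, ← smul_add, hkw, smul_smul, inv_mul_cancel₀ hk, one_smul])
    refine hcn ?_
    rw [show c = k⁻¹ * c / k⁻¹ by field_simp]
    exact F₀.div_mem m2 m1
  by_cases hMX : M ≤ Cfsg.Geo.subfieldSubgroup F₀ P
  · exact Or.inl (le_antisymm (le_inf hMX hMK) hHM)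
  refine Or.inr (le_antisymm hMK ?_)
  have htg : ∀ (v : Fin 4 → F) (c : F), f v v = 0 → τ c = -c → Tg τ f v c ∈ M := fun v c hv hc =>
    UnitOrthFour44.tg_mem (hData M hHM hMK) hMX hv hc
  intro g' hg'
  have hle : OrthUnitaryTransvection.tGroup 4 F q ≤ M.comap φ := by
    rw [OrthUnitaryTransvection.tGroup, Subgroup.closure_le]
    rintro A ⟨v, c, hv, hA⟩
    rcases eq_or_ne v 0 with rfl | hv0
    · have h1 : φ A = 1 := gl_ext fun x => by
        show ((A : Matrix.SpecialLinearGroup (Fin 4) F) : Matrix (Fin 4) (Fin 4) F) *ᵥ x = _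
        rw [hA, OrthUnitaryHerm.transvection_mulVec, smul_zero, add_zero, one_act]
      show φ A ∈ M
      rw [h1]; exact M.one_mem
    have hc : τ c = -c := by
      have h := OrthUnitaryTransvection.skew_of_isU hF hv0 hv (hA ▸ OrthUnitaryHerm.isU_of_mem_SU A)
      rw [hτ]; linear_combination h
    have h1 : φ A = Tg τ f v c := gl_ext fun x => by
      show ((A : Matrix.SpecialLinearGroup (Fin 4) F) : Matrix (Fin 4) (Fin 4) F) *ᵥ x = _
      rw [hA, OrthUnitaryHerm.transvection_mulVec, tg_act hf hv]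
    show φ A ∈ M
    rw [h1]
    exact htg v c hv hc
  have hdet : (g' : Matrix (Fin 4) (Fin 4) F).det = 1 := by
    simpa [Cfsg.Geo.specialLinear, MonoidHom.mem_ker, Units.ext_iff] using hg'.2
  let A : SU 4 F q := ⟨⟨(g' : Matrix (Fin 4) (Fin 4) F), hdet⟩, fun x y => hg'.1 x y⟩
  have hmem : A ∈ M.comap φ := hle (by
    rw [OrthUnitaryTransvection.tGroup_eq_top hF (by omega) (by omega)]; trivial)
  rw [show g' = φ A from Units.ext rfl]
  exact hmem

end Cfsg.Agent.UnitOrthFour44Max
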