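import Cfsg.Agent.Lib.UnitOrthFour44Stab

/-!
A pure overgroup preserves the rational lines: otherwise the images of a rational conic would give more than `q`
pairwise non-perpendicular points with the same invariant.
-/

set_option autoImplicit false
set_option linter.unusedSectionVars false

namespace Cfsg.Agent.UnitOrthFour44

open QuadraticMap Module
open Cfsg.Agent.OrthUnitaryQuad (polar_self_mul)
open Cfsg.Agent.TransvectionMax (gl_ext mul_act one_act act_inv_act inv_act_act act_injective)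
open Cfsg.Agent.TransvectionUnitary (skew_zero sigma_f sigma_sigma add_right smul_right sub_left sub_right
  neg_left neg_right zero_left zero_right)
open Cfsg.Agent.SubfieldRational (rat rat_add rat_smul rat_zero rat_sub rat_neg rat_eq_zero)
open Cfsg.Agent.UnitarySubfieldRoot
open scoped MatrixGroups Matrix

variable {ι : Type} [Fintype ι] [DecidableEq ι] {F : Type*} [Field F] [Fintype F] {F₀ : Subfield F}
variable {σ : F ≃+* F} {f : (ι → F) → (ι → F) → F} {P : GL ι F} {q : QuadraticForm F₀ (ι → F₀)}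
  {M : Subgroup (GL ι F)}
variable (D : Data σ f P q M)
include D

theorem eact_span {g : GL ι F} {a : ι → F₀} (ha : q a = 0) {c : F₀}
    (hg : EAct f g (rat P a) (rat P (c • a)) (-((q (c • a) : F₀) : F))) : g = 1 := gl_ext fun x => by
  rw [hg, one_act, QuadraticMap.map_smul, ha, smul_zero, ZeroMemClass.coe_zero, neg_zero, zero_mul, zero_smul,
    add_zero, rat_smul, smul_right D.hf, sig D]
  module

theorem span_of_fix {a r y : ι → F₀} (har : polar q a r = 1)
    (h : EAct f (1 : GL ι F) (rat P a) (rat P y) (-(q y : F))) :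
    y = (polar q r y + q y) • a := by
  have h1 := eact_rat D h r
  rw [one_act, polar_comm q r a, har] at h1
  have h2 := SubfieldRational.rat_injective P h1
  linear_combination (norm := module) -h2

/-- A rationally moved unipotent: multiples of an irrational point give a contradiction. -/
theorem not_irr_point {p : ℕ} [Fact p.Prime] [CharP F p] (hP : Pure σ f P q M) {a y b : ι → F₀}
    (ha : q a = 0) (ha0 : a ≠ 0) (hy : q y = 0) (hay : polar q a y = 0) (hya : y ∉ Submodule.span F₀ {a})
    (hb : q b = 0) (hb0 : b ≠ 0) {g : GL ι F} (hg : g ∈ M) {z ζ : F} (hζ : ζ ≠ 0) (hz : z ∉ F₀)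
    (hC : (g : Matrix ι ι F) *ᵥ rat P b = ζ • (rat P y + z • rat P a)) : False := by
  have hsa := sing D ha
  have hsy := sing D hy
  have hCa : f (rat P a) ((g : Matrix ι ι F) *ᵥ rat P b) = 0 := by
    rw [hC, smul_right D.hf, add_right D.hf, smul_right D.hf, hsa, orth D hay]; simp
  have hCy : f (rat P y) ((g : Matrix ι ι F) *ᵥ rat P b) = 0 := by
    rw [hC, smul_right D.hf, add_right D.hf, smul_right D.hf, hsy, orth' D hay]; simp
  obtain ⟨r, hr, hbr⟩ := partner D hb hb0
  -- a direction pairing with the centre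
  obtain ⟨y2, hby2, hk⟩ : ∃ y2, polar q b y2 = 0 ∧ f (rat P a) ((g : Matrix ι ι F) *ᵥ rat P y2) ≠ 0 := by
    by_contra hcon
    push Not at hcon
    set v := ((g⁻¹ : GL ι F) : Matrix ι ι F) *ᵥ rat P a with hv
    have hgv : (g : Matrix ι ι F) *ᵥ v = rat P a := act_inv_act g _
    have h1 : ∀ u, polar q b u = 0 → f (rat P u) v = 0 := fun u hu => by
      have := hcon u hu
      rw [← hgv, D.iso g hg] at this
      exact skew_zero D.hf this
    obtain ⟨κ, hκ⟩ : ∃ κ : F, v = κ • rat P b := ⟨σ (f (rat P r) v), eq_of_f D fun u => by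
      have h2 := h1 (u - polar q b u • r) (by rw [polar_sub_right, polar_smul_right, hbr]; simp)
      rw [rat_sub, rat_smul, sub_left D.hf, D.hf.smul_left] at h2
      rw [smul_right D.hf, sigma_sigma D.hf, D.hpol, polar_comm q u b]
      linear_combination h2⟩
    rw [hκ, Matrix.mulVec_smul, hC, smul_add, smul_add, smul_smul, smul_smul, smul_smul] at hgv
    by_cases hκ0 : κ = 0
    · rw [hκ0, zero_mul, zero_mul, zero_smul, zero_smul, add_zero] at hgv
      exact ha0 (rat_eq_zero P hgv.symm)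
    · have h3 : (κ * ζ) • rat P y + (κ * ζ * z - 1) • rat P a = 0 := by
        linear_combination (norm := module) hgv
      exact mul_ne_zero hκ0 hζ (SubfieldRational.rat_indep P ha0 hya h3).1
  set k := f (rat P a) ((g : Matrix ι ι F) *ᵥ rat P y2) with hk'
  have hyk : f (rat P y) ((g : Matrix ι ι F) *ᵥ rat P y2) = -(z * k) := by
    have h1 := D.iso g hg (rat P b) (rat P y2)
    rw [orth D hby2, hC, D.hf.smul_left, D.hf.add_left, D.hf.smul_left, ← hk'] at h1
    linear_combination (mul_eq_zero.1 h1).resolve_left hζ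
  set K := k * ζ with hK
  have hK0 : K ≠ 0 := mul_ne_zero hk hζ
  -- the family
  have fam : ∀ s : F₀, ∃ u ∈ M, u ^ p = 1 ∧ ∀ c : F₀,
      (u : Matrix ι ι F) *ᵥ (rat P y + (c : F) • rat P a) =
        (1 - (s : F) * K * ((c : F) - z)) • rat P y + ((c : F) - (s : F) * K * ((c : F) - z) * z) • rat P a ∧
      (u : Matrix ι ι F) *ᵥ rat P a = -((s : F) * K) • rat P y + (1 - (s : F) * K * z) • rat P a := by
    intro s
    haveI : CharP F₀ p := (RingHom.charP_iff (F₀.subtype : F₀ →+* F) Subtype.val_injective p).2 inferInstance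
    have hbs : polar q b (s • y2) = 0 := by rw [polar_smul_right, hby2, smul_zero]
    obtain ⟨e, he, hex⟩ := exists_root D hb hbs
    have hu := hex.conj D.hf (D.iso g hg)
    refine ⟨g * e * g⁻¹, M.mul_mem (M.mul_mem hg he) (M.inv_mem hg),
      by rw [conj_pow, eact_pow_char D hb hbs hex, mul_one, mul_inv_cancel], fun c => ?_⟩
    have hua : ((g * e * g⁻¹ : GL ι F) : Matrix ι ι F) *ᵥ rat P a =
        rat P a - ((s : F) * k) • ((g : Matrix ι ι F) *ᵥ rat P b) := by
      rw [hu, hCa, rat_smul, Matrix.mulVec_smul, smul_right D.hf, sig D, ← hk']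
      module
    have huy : ((g * e * g⁻¹ : GL ι F) : Matrix ι ι F) *ᵥ rat P y =
        rat P y + ((s : F) * (z * k)) • ((g : Matrix ι ι F) *ᵥ rat P b) := by
      rw [hu, hCy, rat_smul, Matrix.mulVec_smul, smul_right D.hf, sig D, hyk]
      module
    refine ⟨?_, ?_⟩
    · rw [Matrix.mulVec_add, Matrix.mulVec_smul, hua, huy, hC, hK]
      module
    · rw [hua, hC, hK]
      module
  -- a rational image forces a rational element
  have fin : ∀ {s : F₀}, s ≠ 0 → ∀ {u : GL ι F}, u ∈ Cfsg.Geo.subfieldSubgroup F₀ P → u ^ p = 1 →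
      (u : Matrix ι ι F) *ᵥ rat P a = -((s : F) * K) • rat P y + (1 - (s : F) * K * z) • rat P a → False := by
    intro s hs u huX hup hua
    obtain ⟨A, -, hA⟩ := rat_of_pow D huX hup
    rw [hA] at hua
    obtain ⟨h1, h2⟩ := SubfieldRational.rat_coeff_mem P ha0 hya hua.symm
    have hsK : (s : F) * K ∈ F₀ := by simpa using F₀.neg_mem h1
    have hsK0 : (s : F) * K ≠ 0 := mul_ne_zero (fun h => hs (Subtype.ext h)) hK0
    have h3 : (s : F) * K * z ∈ F₀ := by simpa using F₀.sub_mem F₀.one_mem h2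
    have h4 := F₀.mul_mem (F₀.inv_mem hsK) h3
    rw [inv_mul_cancel_left₀ hsK0] at h4
    exact hz h4
  obtain ⟨θ, hθ0, hθ, hθF⟩ := exists_theta D
  obtain ⟨z0, zb, hzz⟩ := decomp D hθ hθ0 z
  have hzb : zb ≠ 0 := fun h => hz (by rw [hzz, h]; simp)
  have hsing : ∀ c : F₀, q (y + c • a) = 0 ∧ y + c • a ≠ 0 := fun c => by
    refine ⟨?_, fun h => hya (Submodule.mem_span_singleton.2 ⟨-c, by rw [neg_smul]; exact (eq_neg_of_add_eq_zero_left h).symm⟩)⟩
    rw [show q (y + c • a) = q y + q (c • a) + polar q y (c • a) by rw [polar]; ring, QuadraticMap.map_smul, ha, hy,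
      polar_smul_right, polar_comm q y a, hay]
    simp
  by_cases hKF : K ∈ F₀
  · -- the second coefficient
    obtain ⟨K₀, hK₀⟩ : ∃ K₀ : F₀, (K₀ : F) = K := ⟨⟨K, hKF⟩, rfl⟩
    set n : F₀ := ⟨θ * θ, theta_sq D hθ⟩ with hn
    set w : F := (zb : F) * θ with hw
    have hw1 : (1 : F) - w ≠ 0 := fun h => hzb (neg_eq_zero.1 (coeff_zero D hθ hθ0 (s := 1) (t := -zb)
      (by push_cast; linear_combination h)).2)
    have hw2 : (1 : F) + w ≠ 0 := fun h => hzb (coeff_zero D hθ hθ0 (s := 1) (t := zb)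
      (by push_cast; linear_combination h)).2
    have hden : (1 : F₀) - n * (zb * zb) ≠ 0 := fun h => by
      have h' := congrArg (fun x : F₀ => (x : F)) h
      simp only [Subfield.coe_sub, Subfield.coe_mul, OneMemClass.coe_one, ZeroMemClass.coe_zero, hn] at h'
      exact mul_ne_zero hw1 hw2 (by rw [hw]; linear_combination h')
    have hK₀0 : K₀ ≠ 0 := fun h => hK0 (by rw [← hK₀, h]; rfl)
    set s : F₀ := 2 / (K₀ * (1 - n * (zb * zb))) with hs
    have hs0 : s ≠ 0 := div_ne_zero (two₀ D) (mul_ne_zero hK₀0 hden)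
    have hsw : (s : F) * K * ((1 - w) * (1 + w)) = 2 := by
      have h1 : s * (K₀ * (1 - n * (zb * zb))) = 2 := div_mul_cancel₀ _ (mul_ne_zero hK₀0 hden)
      have h2 := congrArg (fun x : F₀ => (x : F)) h1
      simp only [Subfield.coe_sub, Subfield.coe_mul, OneMemClass.coe_one, hK₀, hn] at h2
      rw [show ((2 : F₀) : F) = 2 from rfl] at h2
      rw [hw]
      linear_combination h2
    obtain ⟨u, hu, hup, huc⟩ := fam s
    obtain ⟨hu1, hu2⟩ := huc (z0 + 1)
    have himg : (u : Matrix ι ι F) *ᵥ rat P (y + (z0 + 1) • a) =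
        (1 - (s : F) * K * (1 - w)) • rat P (y + (z0 - 1) • a) := by
      rw [rat_add, rat_smul, hu1, rat_add, rat_smul, smul_add, smul_smul, hzz]
      push_cast
      match_scalars
      · ring
      · linear_combination -hsw
    exact fin hs0 (of_image D hP (hsing _).1 (hsing _).2 (hsing _).1 (hsing _).2 hu himg) hup hu2
  · -- the first coefficient
    obtain ⟨A, B, hAB⟩ := decomp D hθ hθ0 K⁻¹
    have hB : B ≠ 0 := fun h => hKF (by
      rw [← inv_inv K, hAB, h]; simp)
    set s : F₀ := B / zb with hs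
    have hs0 : s ≠ 0 := div_ne_zero hB hzb
    obtain ⟨u, hu, hup, huc⟩ := fam s
    obtain ⟨-, hu2⟩ := huc 0
    have himg : (u : Matrix ι ι F) *ᵥ rat P a = -((s : F) * K) • rat P (y + (z0 - A / s) • a) := by
      rw [hu2, rat_add, rat_smul, smul_add, smul_smul]
      congr 2
      have hsF : (s : F) ≠ 0 := fun h => hs0 (Subtype.ext h)
      have hzbF : (zb : F) ≠ 0 := fun h => hzb (Subtype.ext h)
      have hsb : (s : F) * zb = B := congrArg (fun x : F₀ => (x : F)) (div_mul_cancel₀ B hzb)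
      have hA : (((A / s : F₀)) : F) * s = A := congrArg (fun x : F₀ => (x : F)) (div_mul_cancel₀ A hs0)
      have hKK : K * ((A : F) + B * θ) = 1 := by rw [← hAB, mul_inv_cancel₀ hK0]
      push_cast at hA ⊢
      rw [hzz]
      linear_combination (-K * θ) * hsb - K * hA - hKK
    exact fin hs0 (of_image D hP ha ha0 (hsing _).1 (hsing _).2 hu himg) hup hu2

/-- An orbit point perpendicular to a rational singular point is rational. -/
theorem orth_image {p : ℕ} [hpp : Fact p.Prime] [CharP F p] [CharP F₀ p] (hP : Pure σ f P q M) {a b : ι → F₀}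
    (ha : q a = 0) (ha0 : a ≠ 0) (hb : q b = 0) (hb0 : b ≠ 0) {g : GL ι F} (hg : g ∈ M)
    (h0 : f ((g : Matrix ι ι F) *ᵥ rat P b) (rat P a) = 0) : g ∈ Cfsg.Geo.subfieldSubgroup F₀ P := by
  haveI := ne_iota D
  obtain ⟨r, hr, har⟩ := partner D ha ha0
  obtain ⟨rb, hrb, hbrb⟩ := partner D hb hb0
  have hsa := sing D ha
  set C := (g : Matrix ι ι F) *ᵥ rat P b with hC
  have haC : f (rat P a) C = 0 := skew_zero D.hf h0
  have hCC : f C C = 0 := by rw [hC, D.iso g hg, sing D hb]
  have hra : f (rat P r) (rat P a) = 1 := by rw [D.hpol, polar_comm, har]; rfl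
  have hrata : rat P a ≠ 0 := fun h => ha0 (rat_eq_zero P h)
  by_cases hker : ∃ y ∈ ell q a r, y ≠ 0 ∧ f C (rat P y) = 0
  · obtain ⟨y, hy, hy0, hCy⟩ := hker
    obtain ⟨hay, hry⟩ := (mem_ell D).1 hy
    obtain ⟨u, hu, hux⟩ := exists_root D ha hay
    have huC : (u : Matrix ι ι F) *ᵥ C = C := by rw [hux, h0, hCy]; simp
    set v := g⁻¹ * u * g with hv
    have hvb : (v : Matrix ι ι F) *ᵥ rat P b = (1 : F) • rat P b := by
      rw [hv, mul_act, mul_act, ← hC, huC, hC, inv_act_act, one_smul]
    obtain ⟨y', hby', hvx⟩ := unip D hP (p := p) hb hb0 (M.mul_mem (M.mul_mem (M.inv_mem hg) hu) hg) hvb (by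
      rw [show g⁻¹ * u * g = g⁻¹ * u * g⁻¹⁻¹ by rw [inv_inv], conj_pow, eact_pow_char D ha hay hux, mul_one,
        inv_inv, inv_mul_cancel])
    have hu' := hvx.conj D.hf (D.iso g hg)
    rw [show g * v * g⁻¹ = u by rw [hv]; group, ← hC] at hu'
    set W := (g : Matrix ι ι F) *ᵥ rat P y' with hW
    have himg : ∀ x, ∃ α β : F, (u : Matrix ι ι F) *ᵥ x - x = α • W + β • C := fun x =>
      ⟨f x C, -f x W + -((q y' : F₀) : F) * f x C, by rw [hu']; module⟩
    obtain ⟨z, hz, hzy⟩ : ∃ z ∈ ell q a r, polar q y z ≠ 0 := by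
      by_contra hcon
      push Not at hcon
      exact hy0 (ell_zero D ha hr har hy hcon)
    obtain ⟨haz, hrz⟩ := (mem_ell D).1 hz
    obtain ⟨α1, β1, h1⟩ := himg (rat P z)
    obtain ⟨α, β, haW⟩ : ∃ α β : F, rat P a = α • W + β • C := by
      have h2 : (u : Matrix ι ι F) *ᵥ rat P z - rat P z = -((polar q y z : F₀) : F) • rat P a := by
        rw [hux, orth' D haz, D.hpol, polar_comm q z y]; module
      have hne : ((polar q y z : F₀) : F) ≠ 0 := fun h => hzy (Subtype.ext h)
      refine ⟨-((polar q y z : F₀) : F)⁻¹ * α1, -((polar q y z : F₀) : F)⁻¹ * β1, ?_⟩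
      rw [← smul_smul, ← smul_smul, ← smul_add, ← h1, h2, smul_smul, neg_mul_neg, inv_mul_cancel₀ hne, one_smul]
    obtain ⟨α2, β2, h2⟩ := himg (rat P r)
    obtain ⟨γ, δ, hyW⟩ : ∃ γ δ : F, rat P y = γ • W + δ • C := by
      have h3 : (u : Matrix ι ι F) *ᵥ rat P r - rat P r = rat P y + (-((q y : F₀) : F)) • rat P a := by
        rw [hux, hra, orth D hry]; module
      refine ⟨α2 + ((q y : F₀) : F) * α, β2 + ((q y : F₀) : F) * β, ?_⟩
      linear_combination (norm := module) h2 - h3 + ((q y : F₀) : F) • haW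
    have hCW : f C W = 0 := by rw [hC, hW, D.iso g hg, orth D hby']
    have hWC := skew_zero D.hf hCW
    by_cases hα : α = 0
    · rw [hα, zero_smul, zero_add] at haW
      have hβ : β ≠ 0 := fun h => hrata (by rw [haW, h, zero_smul])
      exact of_image D hP hb hb0 ha ha0 hg (k := β⁻¹) (by
        rw [← hC, haW, smul_smul, inv_mul_cancel₀ hβ, one_smul])
    have hWW : f W W = 0 := by
      have := hsa
      rw [haW, D.hf.add_left, add_right D.hf, add_right D.hf, D.hf.smul_left, D.hf.smul_left, D.hf.smul_left,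
        D.hf.smul_left, smul_right D.hf, smul_right D.hf, smul_right D.hf, smul_right D.hf, hWC, hCW, hCC] at this
      have h4 : α * σ α * f W W = 0 := by linear_combination this
      exact (mul_eq_zero.1 h4).resolve_left (mul_ne_zero hα ((map_ne_zero σ).2 hα))
    have hqy : q y = 0 := by
      have h4 : f (rat P y) (rat P y) = 0 := by
        rw [hyW]; simp [D.hf.add_left, add_right D.hf, D.hf.smul_left, smul_right D.hf, hWC, hCW, hCC, hWW]
      rw [D.hpol, polar_self_mul] at h4
      exact (mul_eq_zero.1 (Subtype.ext h4 : (2 : F₀) * q y = 0)).resolve_left (two₀ D)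
    have hya : y ∉ Submodule.span F₀ {a} := fun h => by
      obtain ⟨c, rfl⟩ := Submodule.mem_span_singleton.1 h
      rw [polar_smul_right, polar_comm q r a, har] at hry
      exact hy0 (by rw [show c = 0 by simpa using hry, zero_smul])
    set Δ := α * δ - γ * β with hΔ
    have hdet : Δ • C = α • rat P y + (-γ) • rat P a := by rw [hΔ, haW, hyW]; module
    have hΔ0 : Δ ≠ 0 := fun h => hα (SubfieldRational.rat_indep P ha0 hya (by rw [← hdet, h, zero_smul])).1
    have hCeq : C = (Δ⁻¹ * α) • (rat P y + (-γ / α) • rat P a) := by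
      calc C = Δ⁻¹ • (Δ • C) := by rw [smul_smul, inv_mul_cancel₀ hΔ0, one_smul]
        _ = _ := by rw [hdet]; match_scalars <;> field_simp
    by_cases hz' : -γ / α ∈ F₀
    · obtain ⟨c, hc⟩ : ∃ c : F₀, (c : F) = -γ / α := ⟨⟨_, hz'⟩, rfl⟩
      refine of_image D hP hb hb0 (b' := y + c • a) ?_ ?_ hg (k := Δ⁻¹ * α)
        (by rw [rat_add, rat_smul, hc, ← hC]; exact hCeq)
      · rw [show q (y + c • a) = q y + q (c • a) + polar q y (c • a) by rw [polar]; ring, QuadraticMap.map_smul,
          ha, hqy, polar_smul_right, polar_comm q y a, hay]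
        simp
      · exact fun h => hya (Submodule.mem_span_singleton.2 ⟨-c, by rw [neg_smul]; exact (eq_neg_of_add_eq_zero_left h).symm⟩)
    · exact (not_irr_point D (p := p) hP ha ha0 hqy hay hya hb hb0 hg (mul_ne_zero (inv_ne_zero hΔ0) hα) hz'
        (hC ▸ hCeq)).elim
  push Not at hker
  haveI : Module.Finite F₀ F := Module.Finite.of_finite
  -- translations fixing the centre
  have hsur : ∀ {c : ι → F₀} {s : ι → F₀}, q c = 0 → q s = 0 → polar q c s = 1 → ∀ (d : ι → F) (e : GL ι F),
      e ∈ M → (∀ y ∈ ell q c s, f d ((e : Matrix ι ι F) *ᵥ rat P y) = 0 → y = 0) →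
      ∀ x : F, ∃ y ∈ ell q c s, f d ((e : Matrix ι ι F) *ᵥ rat P y) = x := by
    intro c s hc hs hcs d e he hinj x
    let φ : ell q c s →ₗ[F₀] F :=
      { toFun := fun y => f d ((e : Matrix ι ι F) *ᵥ rat P y.1)
        map_add' := fun y y' => by rw [Submodule.coe_add, rat_add, Matrix.mulVec_add, add_right D.hf]
        map_smul' := fun k y => by
          rw [Submodule.coe_smul, rat_smul, Matrix.mulVec_smul, smul_right D.hf, sig D]; rfl }
    have hφ : Function.Injective φ := (injective_iff_map_eq_zero φ).2 fun y hy => Subtype.ext (hinj y.1 y.2 hy)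
    obtain ⟨y, hy⟩ := (LinearMap.injective_iff_surjective_of_finrank_eq_finrank
      (by rw [ell_finrank D hc hs hcs, D.fin2])).1 hφ x
    exact ⟨y.1, y.2, hy⟩
  have hU : ∀ x : F, ∃ u ∈ M, (u : Matrix ι ι F) *ᵥ C = C + x • rat P a ∧
      (u : Matrix ι ι F) *ᵥ rat P a = rat P a := by
    intro x
    obtain ⟨y, hy, hyx⟩ := hsur ha hr har C 1 M.one_mem (fun y hy h => by
      by_contra hne; exact hker y hy hne (by simpa using h)) (-x)
    rw [one_act] at hyx
    obtain ⟨hay, -⟩ := (mem_ell D).1 hy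
    obtain ⟨u, hu, hux⟩ := exists_root D ha hay
    exact ⟨u, hu, by rw [hux, h0, hyx]; module, by rw [hux, hsa, orth D hay]; simp⟩
  have hV : ∀ x : F, ∃ v ∈ M, (v : Matrix ι ι F) *ᵥ rat P a = rat P a + x • C ∧ (v : Matrix ι ι F) *ᵥ C = C := by
    intro x
    obtain ⟨y, hy, hyx⟩ := hsur hb hrb hbrb (rat P a) g hg (fun y hy h => by
      by_contra hne
      obtain ⟨hby, -⟩ := (mem_ell D).1 hy
      obtain ⟨e, he, hex⟩ := exists_root D hb hby
      have hu := hex.conj D.hf (D.iso g hg)
      rw [← hC] at hu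
      have hfix : ((g * e * g⁻¹ : GL ι F) : Matrix ι ι F) *ᵥ rat P a = (1 : F) • rat P a := by
        rw [hu, haC, h]; simp
      obtain ⟨y', hay', hy'⟩ := unip D hP (p := p) ha ha0 (M.mul_mem (M.mul_mem hg he) (M.inv_mem hg)) hfix
        (by rw [conj_pow, eact_pow_char D hb hby hex, mul_one, mul_inv_cancel])
      have hCfix : ((g * e * g⁻¹ : GL ι F) : Matrix ι ι F) *ᵥ C = C := by
        rw [hu, hCC, hC, D.iso g hg, orth D hby]; simp
      rw [hy', h0] at hCfix
      have hf0 : f C (rat P y') = 0 := by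
        by_contra hne'
        have h3 : f C (rat P y') • rat P a = 0 := by linear_combination (norm := module) -hCfix
        exact hne' ((smul_eq_zero.1 h3).resolve_right hrata)
      have hproj : y' - polar q r y' • a ∈ ell q a r := by
        have h4 := proj_mem D ha hr har y'
        rwa [hay', zero_smul, sub_zero] at h4
      have hyz : y' - polar q r y' • a = 0 := by
        by_contra hne'
        exact hker _ hproj hne' (by rw [rat_sub, rat_smul, sub_right D.hf, smul_right D.hf, hf0, h0]; simp)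
      rw [sub_eq_zero] at hyz
      rw [hyz] at hy'
      have he1 : e = 1 := by
        have h5 := eact_span D ha hy'
        rwa [mul_inv_eq_one, mul_eq_left] at h5
      rw [he1] at hex
      have hspan := span_of_fix D hbrb hex
      obtain ⟨hby2, hry2⟩ := (mem_ell D).1 hy
      rw [hspan, polar_smul_right, polar_comm q rb b, hbrb] at hry2
      exact hne (by rw [hspan, show polar q rb y + q y = 0 by simpa using hry2, zero_smul])) (-x)
    obtain ⟨hby, -⟩ := (mem_ell D).1 hy
    obtain ⟨e, he, hex⟩ := exists_root D hb hby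
    have hu := hex.conj D.hf (D.iso g hg)
    rw [← hC] at hu
    refine ⟨g * e * g⁻¹, M.mul_mem (M.mul_mem hg he) (M.inv_mem hg), by rw [hu, haC, hyx]; module, ?_⟩
    rw [hu, hCC, hC, D.iso g hg, orth D hby]; simp
  -- monomial elements
  have hn : ∀ x : F, x ≠ 0 → ∃ n ∈ M, (n : Matrix ι ι F) *ᵥ rat P a = (-x⁻¹) • C ∧
      (n : Matrix ι ι F) *ᵥ C = x • rat P a := by
    intro x hx
    obtain ⟨u, hu, huC, hua⟩ := hU x
    obtain ⟨v, hv, hva, hvC⟩ := hV (-x⁻¹)
    refine ⟨u * v * u, M.mul_mem (M.mul_mem hu hv) hu, ?_, ?_⟩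
    · simp only [mul_act, hua, hva, huC, Matrix.mulVec_add, Matrix.mulVec_smul]
      match_scalars <;> field_simp <;> ring
    · simp only [mul_act, huC, hua, hva, hvC, Matrix.mulVec_add, Matrix.mulVec_smul]
      match_scalars <;> field_simp <;> ring
  obtain ⟨n1, hn1, hn1a, -⟩ := hn 1 one_ne_zero
  -- fourth powers would be rational
  have h4 : ∀ ω : Fˣ, ω ^ (4 * (Nat.card F₀ - 1)) = 1 := by
    intro ω
    obtain ⟨n2, hn2, -, hn2C⟩ := hn (-(ω : F)) (neg_ne_zero.2 ω.ne_zero)
    have hm : ((n2 * n1 : GL ι F) : Matrix ι ι F) *ᵥ rat P a = (ω : F) • rat P a := by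
      rw [mul_act, hn1a, Matrix.mulVec_smul, hn2C, smul_smul]; simp
    have hmM : n2 * n1 ∈ M := M.mul_mem hn2 hn1
    obtain ⟨μ, A, hA, hdet⟩ := rat_form (stab D hP ha ha0 hmM hm)
    rw [hA] at hm
    have hμ0 : μ ≠ 0 := fun h => by
      rw [h, zero_smul] at hm
      exact hrata ((smul_eq_zero.1 hm.symm).resolve_left ω.ne_zero)
    obtain ⟨t, ht⟩ : ∃ t : F₀, (t : F) = (ω : F) / μ :=
      ⟨⟨_, SubfieldRational.rat_smul_mem P ha0 (z := (A : Matrix ι ι F₀) *ᵥ a) (by
        rw [div_eq_inv_mul, ← smul_smul, ← hm, smul_smul, inv_mul_cancel₀ hμ0, one_smul])⟩, rfl⟩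
    rw [D.det _ hmM, D.hn] at hdet
    have hω : (ω : F) ^ 4 = ((t ^ 4 / (A : Matrix ι ι F₀).det : F₀) : F) := by
      have hd0 : (((A : Matrix ι ι F₀).det : F₀) : F) ≠ 0 := fun h => A.det_ne_zero (Subtype.ext h)
      push_cast
      rw [eq_div_iff hd0, ht, div_pow]
      field_simp
      linear_combination -hdet
    haveI : Fintype F₀ := Fintype.ofFinite _
    have hne : (t ^ 4 / (A : Matrix ι ι F₀).det : F₀) ≠ 0 := fun h => by
      rw [h] at hω; exact pow_ne_zero 4 ω.ne_zero hω
    have h5 := FiniteField.pow_card_sub_one_eq_one _ hne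
    refine Units.ext ?_
    rw [Units.val_pow_eq_pow_val, Units.val_one, pow_mul, hω, Nat.card_eq_fintype_card, ← SubmonoidClass.coe_pow, h5]
    rfl
  haveI : IsCyclic Fˣ := inferInstance
  have hdvd : Monoid.exponent Fˣ ∣ 4 * (Nat.card F₀ - 1) := Monoid.exponent_dvd_of_forall_pow_eq_one h4
  rw [IsCyclic.exponent_eq_card, Nat.card_units] at hdvd
  have hcard : Nat.card F = Nat.card F₀ * Nat.card F₀ := by
    rw [Module.natCard_eq_pow_finrank (K := F₀) (V := F), D.fin2, pow_two]
  have h5 := D.five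
  have hle := Nat.le_of_dvd (by omega) hdvd
  rw [hcard] at hle
  obtain ⟨m, hm⟩ : ∃ m, Nat.card F₀ = m + 5 := ⟨Nat.card F₀ - 5, by omega⟩
  rw [hm] at hle
  have : (m + 5) * (m + 5) = m * m + 10 * m + 25 := by ring
  omega

/-- A pure overgroup preserves the rational lines. -/
theorem pure_le (hP : Pure σ f P q M) : M ≤ Cfsg.Geo.subfieldSubgroup F₀ P := by
  classical
  intro g hg
  by_contra hgX
  haveI := ne_iota D
  obtain ⟨p, hp, hpF, hpF₀⟩ := exists_char D
  haveI : Fact p.Prime := ⟨hp⟩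
  haveI : Module.Finite F₀ F := Module.Finite.of_finite
  have e : ∀ u v, q (u + v) = q u + q v + polar q u v := fun u v => by rw [polar]; ring
  obtain ⟨a, ha0, ha⟩ := exists_sing D
  obtain ⟨r, hr, har⟩ := partner D ha ha0
  have hsa := sing D ha
  have hra : f (rat P r) (rat P a) = 1 := by rw [D.hpol, polar_comm, har]; rfl
  have har' : f (rat P a) (rat P r) = 1 := by rw [D.hpol, har]; rfl
  -- an orthogonal basis of the plane
  obtain ⟨y1, hy1, hq1⟩ : ∃ y ∈ ell q a r, q y ≠ 0 := by
    by_contra hcon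
    push Not at hcon
    have hz : ell q a r = ⊥ := eq_bot_iff.2 fun z hz => ell_zero D ha hr har hz fun u hu => by
      rw [polar, hcon _ (add_mem hz hu), hcon _ hz, hcon _ hu]; simp
    have := ell_finrank D ha hr har
    rw [hz, finrank_bot] at this
    omega
  obtain ⟨hay1, hry1⟩ := (mem_ell D).1 hy1
  have hy10 : y1 ≠ 0 := fun h => hq1 (by rw [h, QuadraticMap.map_zero])
  obtain ⟨y', hy', hy'1⟩ : ∃ y' ∈ ell q a r, y' ∉ Submodule.span F₀ {y1} := by
    by_contra hcon
    push Not at hcon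
    have h1 := Submodule.finrank_mono (show ell q a r ≤ Submodule.span F₀ {y1} from hcon)
    rw [ell_finrank D ha hr har, finrank_span_singleton hy10] at h1
    omega
  obtain ⟨y2, hy2def⟩ : ∃ y2, y2 = y' - (polar q y1 y' / (2 * q y1)) • y1 := ⟨_, rfl⟩
  have hy2 : y2 ∈ ell q a r := hy2def ▸ sub_mem hy' (Submodule.smul_mem _ _ hy1)
  obtain ⟨hay2, hry2⟩ := (mem_ell D).1 hy2
  have h12 : polar q y1 y2 = 0 := by
    rw [hy2def, polar_sub_right, polar_smul_right, polar_self_mul, smul_eq_mul,
      div_mul_cancel₀ _ (mul_ne_zero (two₀ D) hq1), sub_self]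
  have hspan : ∀ u ∈ ell q a r, ∃ i j : F₀, u = i • y1 + j • y2 := by
    intro u hu
    have hli : LinearIndependent F₀ ![y1, y2] := (LinearIndependent.pair_iff' hy10).2 fun c hc => hy'1
      (Submodule.mem_span_singleton.2 ⟨c + polar q y1 y' / (2 * q y1), by rw [add_smul, hc, hy2def, sub_add_cancel]⟩)
    have hle : Submodule.span F₀ (Set.range ![y1, y2]) ≤ ell q a r :=
      Submodule.span_le.2 (by rintro _ ⟨i, rfl⟩; fin_cases i <;> [exact hy1; exact hy2])
    have heq := Submodule.eq_of_le_of_finrank_eq hle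
      (by rw [finrank_span_eq_card hli, Fintype.card_fin, ell_finrank D ha hr har])
    rw [← heq, Submodule.mem_span_range_iff_exists_fun] at hu
    obtain ⟨c, hc⟩ := hu
    exact ⟨c 0, c 1, by rw [← hc, Fin.sum_univ_two]; rfl⟩
  have hy20 : y2 ≠ 0 := fun h => by
    refine hy'1 (Submodule.mem_span_singleton.2 ⟨polar q y1 y' / (2 * q y1), ?_⟩)
    rw [hy2def, sub_eq_zero] at h
    exact h.symm
  have hq2 : q y2 ≠ 0 := fun h => hy20 (ell_zero D ha hr har hy2 fun u hu => by
    obtain ⟨i, j, rfl⟩ := hspan u hu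
    simp [polar_add_right, polar_smul_right, polar_self_mul, h, polar_comm q y2 y1, h12])
  obtain ⟨θ, hθ0, hθ, hθF⟩ := exists_theta D
  -- an isotropic combination
  obtain ⟨ρ, hρN, hρ⟩ : ∃ ρ : F, ρ * σ ρ = ((-q y1 / q y2 : F₀) : F) ∧ ρ ∉ F₀ := by
    obtain ⟨ρ0, hρ0⟩ := TransvectionUnitary.exists_norm_eq D.hf (sig D (-q y1 / q y2))
    have hρ00 : ρ0 ≠ 0 := fun h => by
      rw [h, zero_mul] at hρ0
      exact div_ne_zero (neg_ne_zero.2 hq1) hq2 (Subtype.ext hρ0.symm)
    by_cases hF : ρ0 ∈ F₀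
    swap
    · exact ⟨ρ0, hρ0, hF⟩
    have h1 : (1 : F) - θ ≠ 0 := fun h => hθF (by rw [← sub_eq_zero.1 h]; exact F₀.one_mem)
    have h2 : (1 : F) + θ ≠ 0 := fun h => hθF (by rw [eq_neg_of_add_eq_zero_right h]; exact F₀.neg_mem F₀.one_mem)
    refine ⟨ρ0 * ((1 + θ) / (1 - θ)), ?_, fun hmem => ?_⟩
    · rw [map_mul, map_div₀, map_add, map_sub, map_one, hθ, ← hρ0, sub_neg_eq_add, ← sub_eq_add_neg]
      field_simp
    · have h3 : (1 + θ) / (1 - θ) ∈ F₀ := by
        simpa [← mul_assoc, inv_mul_cancel₀ hρ00] using F₀.mul_mem (F₀.inv_mem hF) hmem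
      have h4 := (D.fix _).2 h3
      rw [map_div₀, map_add, map_sub, map_one, hθ, sub_neg_eq_add, ← sub_eq_add_neg,
        div_eq_div_iff h2 h1] at h4
      exact mul_ne_zero (mul_ne_zero D.two D.two) hθ0 (by linear_combination -h4)
  obtain ⟨x, hx⟩ : ∃ x, x = rat P y1 + ρ • rat P y2 := ⟨_, rfl⟩
  have hxa : f x (rat P a) = 0 := by
    rw [hx, D.hf.add_left, D.hf.smul_left, orth' D hay1, orth' D hay2, mul_zero, add_zero]
  have hxr : f x (rat P r) = 0 := by
    rw [hx, D.hf.add_left, D.hf.smul_left, orth' D hry1, orth' D hry2, mul_zero, add_zero]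
  have hrx := skew_zero D.hf hxr
  have hax := skew_zero D.hf hxa
  have hxx : f x x = 0 := by
    have hval : ρ * σ ρ * ((q y2 : F₀) : F) = -((q y1 : F₀) : F) := by
      rw [hρN]; push_cast
      exact div_mul_cancel₀ _ (fun h => hq2 (Subtype.ext h))
    simp only [hx, D.hf.add_left, add_right D.hf, D.hf.smul_left, smul_right D.hf, orth D h12, orth' D h12,
      D.hpol, polar_self_mul, Subfield.coe_mul]
    rw [show ((2 : F₀) : F) = 2 from rfl]
    linear_combination (2 : F) * hval
  let φ : ell q a r →ₗ[F₀] F :=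
    { toFun := fun y => f (rat P y.1) x
      map_add' := fun y y' => by rw [Submodule.coe_add, rat_add, D.hf.add_left]
      map_smul' := fun k y => by rw [Submodule.coe_smul, rat_smul, D.hf.smul_left]; rfl }
  have hφ : Function.Injective φ := (injective_iff_map_eq_zero φ).2 fun y hy => Subtype.ext (by
    have h1 : ((polar q y.1 y1 : F₀) : F) + σ ρ * ((polar q y.1 y2 : F₀) : F) = 0 := by
      rw [← D.hpol, ← D.hpol, ← smul_right D.hf, ← add_right D.hf, ← hx]; exact hy
    have h2 : polar q y.1 y2 = 0 := by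
      by_contra hne
      refine hρ ?_
      have hσρ : σ ρ ∈ F₀ := by
        have hn' : ((polar q y.1 y2 : F₀) : F) ≠ 0 := fun h => hne (Subtype.ext h)
        rw [show σ ρ = -((polar q y.1 y1 : F₀) : F) / ((polar q y.1 y2 : F₀) : F) by
          rw [eq_div_iff hn']; linear_combination h1]
        exact F₀.div_mem (F₀.neg_mem (polar q y.1 y1).2) (polar q y.1 y2).2
      rw [← sigma_sigma D.hf ρ, (D.fix _).2 hσρ]; exact hσρ
    have h3 : polar q y.1 y1 = 0 := Subtype.ext (by rw [h2] at h1; simpa using h1)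
    refine ell_zero D ha hr har y.2 fun u hu => ?_
    obtain ⟨i, j, rfl⟩ := hspan u hu
    rw [polar_add_right, polar_smul_right, polar_smul_right, h2, h3, smul_zero, smul_zero, add_zero])
  have hφs : Function.Surjective φ :=
    (LinearMap.injective_iff_surjective_of_finrank_eq_finrank (by rw [ell_finrank D ha hr har, D.fin2])).1 hφ
  have hx0 : x ≠ 0 := fun h => hy10 (congrArg Subtype.val (hφ (a₁ := ⟨y1, hy1⟩) (a₂ := 0) (by
    show f (rat P y1) x = f (rat P (0 : ι → F₀)) x
    rw [h, zero_right D.hf, zero_right D.hf])))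
  have hperp : ∀ d, f d (rat P a) = 0 → f d x = 0 → ∃ κ α : F, d = κ • rat P a + α • x := by
    intro d hd1 hd2
    set W := Submodule.span F ({rat P a, x} : Set (ι → F)) with hW
    have hli : LinearIndependent F ![rat P a, x] := by
      refine LinearIndependent.pair_iff.2 fun s t hst => ?_
      have hs : s = 0 := by
        have := congrArg (fun z => f z (rat P r)) hst
        simpa [D.hf.add_left, D.hf.smul_left, hxr, har', zero_left D.hf] using this
      refine ⟨hs, ?_⟩
      rw [hs, zero_smul, zero_add] at hst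
      exact (smul_eq_zero.1 hst).resolve_right hx0
    have hW2 : finrank F W = 2 := by
      have := finrank_span_eq_card hli
      rwa [Fintype.card_fin, show Set.range ![rat P a, x] = {rat P a, x} by
        simp [Matrix.range_cons, Set.pair_comm]] at this
    have hle : W ≤ TransvectionUnitary.perp D.hf W := Submodule.span_le.2 (by
      rintro z (rfl | rfl)
      · exact (TransvectionUnitary.mem_perp_pair D.hf).2 ⟨hsa, hax⟩
      · exact (TransvectionUnitary.mem_perp_pair D.hf).2 ⟨hxa, hxx⟩)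
    have h2 := TransvectionUnitary.finrank_perp D.hf W
    set U := Submodule.span F (Set.range ![rat P r, rat P y1])
    have hy1x : f (rat P y1) x ≠ 0 := fun h => hy10 (congrArg Subtype.val (hφ (a₁ := ⟨y1, hy1⟩) (a₂ := 0) (by
      show f (rat P y1) x = f (rat P (0 : ι → F₀)) x
      rw [h, rat_zero, zero_left D.hf])))
    have hkey : ∀ s t : F, s • rat P r + t • rat P y1 ∈ TransvectionUnitary.perp D.hf W → s = 0 ∧ t = 0 := by
      intro s t hst
      obtain ⟨e1, e2⟩ := (TransvectionUnitary.mem_perp_pair D.hf).1 hst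
      simp only [D.hf.add_left, D.hf.smul_left, hra, orth' D hay1, mul_zero, add_zero, mul_one] at e1
      simp only [D.hf.add_left, D.hf.smul_left, hrx, e1, mul_zero, zero_add] at e2
      exact ⟨e1, (mul_eq_zero.1 e2).resolve_right hy1x⟩
    have hU2 : finrank F U = 2 := by
      rw [finrank_span_eq_card (LinearIndependent.pair_iff.2 fun s t h => hkey s t (by rw [h]; exact zero_mem _)),
        Fintype.card_fin]
    have hinf : U ⊓ TransvectionUnitary.perp D.hf W = ⊥ := eq_bot_iff.2 fun z ⟨hz1, hz2⟩ => by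
      obtain ⟨k, hk⟩ := (Submodule.mem_span_range_iff_exists_fun F).1 hz1
      rw [Fin.sum_univ_two] at hk
      simp only [Matrix.cons_val_zero, Matrix.cons_val_one] at hk
      obtain ⟨e1, e2⟩ := hkey (k 0) (k 1) (by rw [hk]; exact hz2)
      rw [Submodule.mem_bot, ← hk, e1, e2, zero_smul, zero_smul, add_zero]
    have h3 := Submodule.finrank_sup_add_finrank_inf_eq U (TransvectionUnitary.perp D.hf W)
    have h4 := Submodule.finrank_le (U ⊔ TransvectionUnitary.perp D.hf W)
    rw [Module.finrank_fintype_fun_eq_card, D.hn] at h4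
    rw [hinf, finrank_bot, hU2] at h3
    have heq := Submodule.eq_of_le_of_finrank_eq hle (by rw [hW2] at h2 ⊢; rw [D.hn] at h2; omega)
    have hd : d ∈ W := heq ▸ (TransvectionUnitary.mem_perp_pair D.hf).2 ⟨hd1, hd2⟩
    obtain ⟨κ, α, h⟩ := Submodule.mem_span_pair.1 hd
    exact ⟨κ, α, h.symm⟩
  -- the conic
  let c : Option F₀ → ι → F₀ := fun i => i.elim a (fun t => r + t • y1 + (-(t * t * q y1)) • a)
  have hc : ∀ i, q (c i) = 0 ∧ c i ≠ 0 := by
    rintro (_ | t)
    · exact ⟨ha, ha0⟩
    refine ⟨?_, fun h => ?_⟩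
    · show q (r + t • y1 + (-(t * t * q y1)) • a) = 0
      rw [e, e, QuadraticMap.map_smul q t y1, QuadraticMap.map_smul q (-(t * t * q y1)) a, hr, ha, smul_zero,
        polar_smul_right, polar_smul_right, polar_add_left, polar_smul_left, polar_comm q r a, har,
        polar_comm q y1 a, hay1, hry1]
      simp
    · have h1 := congrArg (polarBilin q a) (show r + t • y1 + (-(t * t * q y1)) • a = 0 from h)
      simp [polar_self_mul, ha, har, hay1] at h1
  have hcp : ∀ i j, i ≠ j → polar q (c i) (c j) ≠ 0 := by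
    have h1 : ∀ t : F₀, polar q a (r + t • y1 + (-(t * t * q y1)) • a) = 1 := fun t => by
      simp [polar_add_right, polar_smul_right, polar_self_mul, ha, har, hay1]
    rintro (_ | t) (_ | t') hij
    · exact absurd rfl hij
    · show polar q a (r + t' • y1 + (-(t' * t' * q y1)) • a) ≠ 0
      rw [h1]; exact one_ne_zero
    · show polar q (r + t • y1 + (-(t * t * q y1)) • a) a ≠ 0
      rw [polar_comm, h1]; exact one_ne_zero
    · show polar q (r + t • y1 + (-(t * t * q y1)) • a) (r + t' • y1 + (-(t' * t' * q y1)) • a) ≠ 0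
      have hval : polar q (r + t • y1 + (-(t * t * q y1)) • a) (r + t' • y1 + (-(t' * t' * q y1)) • a) =
          -(q y1 * ((t - t') * (t - t'))) := by
        simp only [polar_add_left, polar_add_right, polar_smul_left, polar_smul_right, polar_self_mul, hr, ha,
          polar_comm q r a, har, hay1, polar_comm q y1 a, hry1, polar_comm q y1 r, smul_eq_mul]
        ring
      rw [hval]
      exact neg_ne_zero.2 (mul_ne_zero hq1 (mul_self_ne_zero.2 (sub_ne_zero.2 fun h => hij (by rw [h]))))
  -- representatives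
  have hrep : ∀ i, ∃ (y : ι → F₀) (u : GL ι F) (m η α : F), u ∈ M ∧ polar q a y = 0 ∧
      EAct f u (rat P a) (rat P y) (-(q y : F)) ∧ m ≠ 0 ∧ σ η = -η ∧
      ((u * g : GL ι F) : Matrix ι ι F) *ᵥ rat P (c i) = m • (rat P r + η • rat P a + α • x) := by
    intro i
    set C := (g : Matrix ι ι F) *ᵥ rat P (c i) with hC
    set m := f C (rat P a) with hm
    have hm0 : m ≠ 0 := fun h => hgX (orth_image D (p := p) hP ha ha0 (hc i).1 (hc i).2 hg h)
    obtain ⟨y, hy⟩ := hφs (-(f C x) / m)
    obtain ⟨hay, -⟩ := (mem_ell D).1 y.2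
    obtain ⟨u, hu, hux⟩ := exists_root D ha hay
    obtain ⟨R, hR⟩ : ∃ R, R = m⁻¹ • ((u : Matrix ι ι F) *ᵥ C) := ⟨_, rfl⟩
    have huC : (u : Matrix ι ι F) *ᵥ C =
        C + m • rat P y.1 + (-(f C (rat P y.1)) + -((q y.1 : F₀) : F) * m) • rat P a := by
      rw [hux, ← hm]; module
    have hRa : f (R - rat P r) (rat P a) = 0 := by
      rw [hR, huC, sub_left D.hf, D.hf.smul_left, D.hf.add_left, D.hf.add_left, D.hf.smul_left, D.hf.smul_left,
        ← hm, hsa, orth' D hay, hra]
      field_simp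
      ring
    have hRx : f (R - rat P r) x = 0 := by
      rw [hR, huC, sub_left D.hf, D.hf.smul_left, D.hf.add_left, D.hf.add_left, D.hf.smul_left, D.hf.smul_left,
        hax, hrx, show f (rat P y.1) x = -(f C x) / m from hy]
      field_simp
      ring
    obtain ⟨κ, α, hκ⟩ := hperp _ hRa hRx
    have hRe : R = rat P r + κ • rat P a + α • x := by rw [add_assoc, ← hκ, add_sub_cancel]
    have hRR : f R R = 0 := by
      rw [hR, D.hf.smul_left, smul_right D.hf, D.iso u hu, hC, D.iso g hg, sing D (hc i).1, mul_zero, mul_zero]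
    rw [hRe] at hRR
    simp only [D.hf.add_left, add_right D.hf, D.hf.smul_left, smul_right D.hf, hsa, hxx, hxa, hax, hxr, hrx,
      sing D hr, hra, har'] at hRR
    refine ⟨y.1, u, m, κ, α, hu, hay, hux, hm0, by linear_combination hRR, ?_⟩
    rw [mul_act, ← hC, ← hRe, hR, smul_smul, mul_inv_cancel₀ hm0, one_smul]
  choose yv uv mv ηv αv huM hay hux hm0 hηs huc using hrep
  have hinj : Function.Injective ηv := by
    intro i j hij
    by_contra hne
    have hrr : f (((uv i * g : GL ι F) : Matrix ι ι F) *ᵥ rat P (c i))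
        (((uv j * g : GL ι F) : Matrix ι ι F) *ᵥ rat P (c j)) = 0 := by
      rw [huc, huc, hij]
      simp only [D.hf.add_left, add_right D.hf, D.hf.smul_left, smul_right D.hf, hsa, hxx, hxa, hax, hxr, hrx,
        sing D hr, hra, har', hηs j]
      ring
    have hjM : uv j * g ∈ M := M.mul_mem (huM j) hg
    set h := (uv j * g)⁻¹ * (uv i * g) with hh
    have hhM : h ∈ M := M.mul_mem (M.inv_mem hjM) (M.mul_mem (huM i) hg)
    have hhX : h ∈ Cfsg.Geo.subfieldSubgroup F₀ P := by
      refine orth_image D (p := p) hP (hc j).1 (hc j).2 (hc i).1 (hc i).2 hhM ?_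
      have h1 := D.iso _ hjM ((h : Matrix ι ι F) *ᵥ rat P (c i)) (rat P (c j))
      rw [← mul_act (uv j * g) h, hh, mul_inv_cancel_left, hrr] at h1
      rw [hh]
      exact h1.symm
    have hny : polar q a (-yv j) = 0 := by rw [← neg_one_smul F₀ (yv j), polar_smul_right, hay, smul_zero]
    obtain ⟨e0, he0, he0x⟩ := exists_root D ha hny
    have he0' : e0 * uv j = 1 := by
      have h5 := eact_mul_rat D ha hny (hay j) he0x (hux j)
      rw [neg_add_cancel] at h5
      exact eact_unique D h5 (eact_zero D a)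
    have hu := eact_mul_rat D ha hny (hay i) he0x (hux i)
    set u := e0 * uv i with hud
    have hyy : polar q a (-yv j + yv i) = 0 := by rw [polar_add_right, hny, hay, add_zero]
    have hhu : h = g⁻¹ * u * g := by
      rw [hh, hud, mul_inv_rev, ← eq_inv_of_mul_eq_one_left he0']
      group
    have hhp : h ^ p = 1 := by
      rw [hhu, show g⁻¹ * u * g = g⁻¹ * u * g⁻¹⁻¹ by rw [inv_inv], conj_pow, eact_pow_char D ha hyy hu, mul_one,
        inv_inv, inv_mul_cancel]
    obtain ⟨A, hAp, hA⟩ := rat_of_pow D hhX hhp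
    have hne1 : u ≠ 1 := by
      intro h1
      have huij : uv i = uv j := by
        have h2 := congrArg (fun z => e0⁻¹ * z) h1
        simp only [hud, inv_mul_cancel_left, mul_one] at h2
        rw [h2]
        exact (eq_inv_of_mul_eq_one_right he0').symm
      rw [huij, mul_act, mul_act, D.iso _ (huM j), D.iso g hg, D.hpol] at hrr
      exact hcp i j hne (Subtype.ext hrr)
    have hA1 : A ≠ 1 := by
      intro h1
      apply hne1
      have h2 : h = 1 := SubfieldRational.ext_rat P fun w => by rw [hA, h1, Matrix.one_mulVec, one_act]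
      rw [hhu] at h2
      have h3 := congrArg (fun z => g * z * g⁻¹) h2
      simpa [mul_assoc] using h3
    obtain ⟨-, z, -, hz0, hAz, hqz⟩ := fixed_sing D (D.iso h hhM) hAp hA hA1
    set C := (g : Matrix ι ι F) *ᵥ rat P z with hC
    have hCa : f C (rat P a) ≠ 0 := fun h0 => hgX (orth_image D (p := p) hP ha ha0 hqz hz0 hg h0)
    have huC : (u : Matrix ι ι F) *ᵥ C = C := by
      have h2 : (h : Matrix ι ι F) *ᵥ rat P z = rat P z := by rw [hA, hAz]
      rw [hhu, mul_act, mul_act, ← hC] at h2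
      conv_rhs => rw [hC, ← h2, act_inv_act]
    rw [hu] at huC
    set y := -yv j + yv i
    obtain ⟨k, hk⟩ : ∃ k : F, rat P y = k • rat P a := ⟨(f C (rat P a))⁻¹ *
        (f C (rat P y) - -((q y : F₀) : F) * f C (rat P a)), by
      rw [← smul_smul, eq_inv_smul_iff₀ hCa]
      linear_combination (norm := module) huC⟩
    obtain ⟨k₀, hk₀⟩ : ∃ k₀ : F₀, (k₀ : F) = k :=
      ⟨⟨k, SubfieldRational.rat_smul_mem P ha0 hk.symm⟩, rfl⟩
    have hy : y = k₀ • a := SubfieldRational.rat_injective P (by rw [hk, rat_smul, hk₀])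
    rw [hy] at hu
    exact hne1 (eact_span D ha hu)
  have hmem : ∀ i, ηv i / θ ∈ F₀ := fun i => (D.fix _).1 (by rw [map_div₀, hηs, hθ, neg_div_neg_eq])
  haveI : Fintype F₀ := Fintype.ofFinite _
  have hle := Fintype.card_le_of_injective (fun i => (⟨_, hmem i⟩ : F₀)) (fun i j h => hinj (by
    have h1 := congrArg Subtype.val h
    exact (div_left_inj' hθ0).1 h1))
  rw [Fintype.card_option] at hle
  omega

/-- An overgroup that does not preserve the rational lines contains every transvection. -/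
theorem tg_mem (hne : ¬ M ≤ Cfsg.Geo.subfieldSubgroup F₀ P) {v : ι → F} (hv : f v v = 0) {c : F}
    (hc : σ c = -c) : Tg σ f v c ∈ M := by
  by_cases hP : Pure σ f P q M
  · exact absurd (pure_le D hP) hne
  obtain ⟨b, hb, hb0, hG⟩ : ∃ b, q b = 0 ∧ b ≠ 0 ∧ Good σ f P M b := by
    by_contra hcon
    push Not at hcon
    refine hP fun b hb hb0 => ⟨fun w s hw hE => ?_, fun d hd hT => ?_⟩
    · by_contra hirr
      push Not at hirr
      exact hcon b hb hb0 (good_of_irr D hb hb0 hw hE hirr)
    · by_contra hd0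
      exact hcon b hb hb0 (good_of_one D hb hb0 hd hd0 hT)
  exact all_tg D (fun a ha ha0 => good_move D hb hb0 ha ha0 hG) hv hc

end Cfsg.Agent.UnitOrthFour44
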