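import Cfsg.Agent.Lib.UnitOrthFour44Gen

/-!
In a pure overgroup the stabiliser of a rational singular line preserves the rational lines.
-/

set_option autoImplicit false
set_option linter.unusedSectionVars false

namespace Cfsg.Agent.UnitOrthFour44

open QuadraticMap Module
open Cfsg.Agent.OrthUnitaryQuad (polar_self_mul)
open Cfsg.Agent.TransvectionMax (gl_ext mul_act one_act act_inv_act inv_act_act act_injective)
open Cfsg.Agent.TransvectionUnitary (skew_zero sigma_f sigma_sigma add_right smul_right sub_left sub_right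
  neg_left neg_right zero_left zero_right)
open Cfsg.Agent.SubfieldRational (rat rat_add rat_smul rat_zero rat_sub rat_neg rat_eq_zero)
open Cfsg.Agent.UnitarySubfieldRoot
open scoped MatrixGroups Matrix

variable {ι : Type} [Fintype ι] [DecidableEq ι] {F : Type*} [Field F] [Fintype F] {F₀ : Subfield F}
variable {σ : F ≃+* F} {f : (ι → F) → (ι → F) → F} {P : GL ι F} {q : QuadraticForm F₀ (ι → F₀)}
  {M : Subgroup (GL ι F)}

/-- An element of the subfield group is a scalar times a rational matrix. -/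
theorem rat_form {g : GL ι F} (hg : g ∈ Cfsg.Geo.subfieldSubgroup F₀ P) :
    ∃ (μ : F) (A : GL ι F₀), (∀ u : ι → F₀, (g : Matrix ι ι F) *ᵥ rat P u =
      μ • rat P ((A : Matrix ι ι F₀) *ᵥ u)) ∧
      (g : Matrix ι ι F).det = μ ^ Fintype.card ι * (((A : Matrix ι ι F₀).det : F₀) : F) := by
  obtain ⟨g', hg', rfl⟩ := Subgroup.mem_map.mp hg
  obtain ⟨a, ⟨h, rfl⟩, b, hb, rfl⟩ := Subgroup.mem_sup_of_normal_right.mp hg'
  obtain ⟨c, hc⟩ := (Cfsg.Geo.mem_scalars_iff b).mp hb
  refine ⟨c, h, fun u => ?_, ?_⟩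
  · rw [map_mul, mul_act, ← SubfieldRational.lift_act P h u, ← Matrix.mulVec_smul]
    congr 1
    change ((P * b * P⁻¹ : GL ι F) : Matrix ι ι F) *ᵥ rat P u = _
    rw [rat, mul_act, mul_act, inv_act_act, hc, Matrix.smul_mulVec, Matrix.one_mulVec, Matrix.mulVec_smul]
  · show ((P * (Matrix.GeneralLinearGroup.map (F₀.subtype : F₀ →+* F) h * b) * P⁻¹ : GL ι F) :
      Matrix ι ι F).det = _
    rw [Units.val_mul, Units.val_mul, Matrix.det_units_conj, Units.val_mul, Matrix.det_mul, hc,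
      Matrix.det_smul, Matrix.det_one, mul_one, mul_comm]
    congr 1
    exact ((F₀.subtype : F₀ →+* F).map_det (h : Matrix ι ι F₀)).symm

variable (D : Data σ f P q M)
include D

theorem exists_char : ∃ p : ℕ, p.Prime ∧ CharP F p ∧ CharP F₀ p := by
  obtain ⟨p, hp⟩ := CharP.exists F
  exact ⟨p, CharP.char_is_prime F p, hp, (RingHom.charP_iff (F₀.subtype : F₀ →+* F) Subtype.val_injective p).2 hp⟩

theorem q_eq {u v : ι → F₀} (h : f (rat P u) (rat P u) = f (rat P v) (rat P v)) : q u = q v := by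
  rw [D.hpol, D.hpol, polar_self_mul, polar_self_mul] at h
  exact mul_left_cancel₀ (two₀ D) (Subtype.ext h)

/-- An element of `p`-power order in the subfield group acts as a rational matrix. -/
theorem rat_of_pow {p : ℕ} [hp : Fact p.Prime] [CharP F p] {g : GL ι F}
    (hg : g ∈ Cfsg.Geo.subfieldSubgroup F₀ P) (hgp : g ^ p = 1) :
    ∃ A : Matrix ι ι F₀, A ^ p = 1 ∧ ∀ u : ι → F₀, (g : Matrix ι ι F) *ᵥ rat P u = rat P (A *ᵥ u) := by
  haveI := ne_iota D
  obtain ⟨μ, A, hA, -⟩ := rat_form hg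
  have hpow : ∀ (k : ℕ) (u : ι → F₀), ((g ^ k : GL ι F) : Matrix ι ι F) *ᵥ rat P u =
      μ ^ k • rat P (((A : Matrix ι ι F₀) ^ k) *ᵥ u) := by
    intro k
    induction k with
    | zero => intro u; rw [pow_zero, pow_zero, pow_zero, one_act, one_smul, Matrix.one_mulVec]
    | succ k ih =>
      intro u
      rw [pow_succ, pow_succ, pow_succ, mul_act, hA, Matrix.mulVec_smul, ih, smul_smul,
        ← Matrix.mulVec_mulVec, mul_comm]
  obtain ⟨i⟩ := ne_iota D
  have hμp : μ ^ p ∈ F₀ := by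
    have h := hpow p (Pi.single i 1)
    rw [hgp, one_act] at h
    refine SubfieldRational.rat_smul_mem P (fun h0 => ?_) h.symm
    rw [h0, rat_zero, smul_zero] at h
    have h1 := congrFun (rat_eq_zero P h) i
    simp at h1
  have hμ : μ ∈ F₀ := (D.fix μ).1 (frobenius_inj F p (by
    rw [frobenius_def, frobenius_def, ← map_pow]; exact (D.fix _).2 hμp))
  refine ⟨(⟨μ, hμ⟩ : F₀) • (A : Matrix ι ι F₀), ?_, fun u => ?_⟩
  · refine Matrix.ext_of_mulVec_single fun j => SubfieldRational.rat_injective P ?_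
    have h := hpow p (Pi.single j 1)
    rw [hgp, one_act] at h
    rw [Matrix.one_mulVec, h, smul_pow, Matrix.smul_mulVec, rat_smul, SubmonoidClass.coe_pow]
  · rw [hA, Matrix.smul_mulVec, rat_smul]

/-- A unipotent rational isometry which is not the identity fixes a singular vector. -/
theorem fixed_sing {p : ℕ} [hp : Fact p.Prime] [CharP F₀ p] {g : GL ι F} (hg : TransvectionUnitaryGen.Iso f g)
    {A : Matrix ι ι F₀} (hAp : A ^ p = 1) (hA : ∀ u : ι → F₀, (g : Matrix ι ι F) *ᵥ rat P u = rat P (A *ᵥ u))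
    (hne : A ≠ 1) : ∃ v z, z = A *ᵥ v - v ∧ z ≠ 0 ∧ A *ᵥ z = z ∧ q z = 0 := by
  haveI := ne_iota D
  set N := A - 1 with hN
  have hNp : N ^ p = 0 := by
    rw [hN, sub_pow_char_of_commute p (Commute.one_right A), hAp, one_pow, sub_self]
  classical
  have hex : ∃ k, N ^ k = 0 := ⟨p, hNp⟩
  set k := Nat.find hex with hk
  have hk1 : N ^ k = 0 := Nat.find_spec hex
  have hk2 : 2 ≤ k := by
    by_contra h
    rcases Nat.lt_or_ge k 1 with h0 | h1
    · rw [show k = 0 by omega, pow_zero] at hk1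
      exact one_ne_zero hk1
    · rw [show k = 1 by omega, pow_one, hN, sub_eq_zero] at hk1
      exact hne hk1
  obtain ⟨j, hj⟩ : ∃ j, k = j + 2 := ⟨k - 2, by omega⟩
  have hj1 : N ^ (j + 1) ≠ 0 := Nat.find_min hex (by omega)
  obtain ⟨w, hw⟩ : ∃ w, (N ^ (j + 1)) *ᵥ w ≠ 0 := by
    by_contra hcon
    push Not at hcon
    exact hj1 (Matrix.ext_of_mulVec_single fun i => by rw [hcon, Matrix.zero_mulVec])
  have hz0 : N *ᵥ ((N ^ j) *ᵥ w) = (N ^ (j + 1)) *ᵥ w := by rw [Matrix.mulVec_mulVec, ← pow_succ']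
  have hz1 : N *ᵥ ((N ^ (j + 1)) *ᵥ w) = 0 := by
    rw [Matrix.mulVec_mulVec, ← pow_succ', ← hj, hk1, Matrix.zero_mulVec]
  generalize (N ^ (j + 1)) *ᵥ w = z at hw hz0 hz1
  generalize (N ^ j) *ᵥ w = v at hz0
  rw [hN, Matrix.sub_mulVec, Matrix.one_mulVec] at hz0 hz1
  have hfix : A *ᵥ z = z := sub_eq_zero.1 hz1
  refine ⟨v, z, hz0.symm, hw, hfix, ?_⟩
  have h1 : f (rat P z) (rat P z) = 0 := by
    conv_lhs => arg 2; rw [← hz0]
    rw [rat_sub, sub_right D.hf]
    conv_lhs => arg 1; rw [← hfix]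
    rw [← hA, ← hA, hg, sub_self]
  rw [D.hpol, polar_self_mul] at h1
  exact (mul_eq_zero.1 (Subtype.ext h1 : (2 : F₀) * q z = 0)).resolve_left (two₀ D)

/-- A unipotent rational isometry fixing a hyperbolic pair is the identity. -/
theorem unip_pair {p : ℕ} [hp : Fact p.Prime] [CharP F₀ p] {g : GL ι F} (hg : TransvectionUnitaryGen.Iso f g)
    {A : Matrix ι ι F₀} (hAp : A ^ p = 1) (hA : ∀ u : ι → F₀, (g : Matrix ι ι F) *ᵥ rat P u = rat P (A *ᵥ u))
    {a r : ι → F₀} (ha : q a = 0) (hr : q r = 0) (har : polar q a r = 1)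
    (hAa : A *ᵥ a = a) (hAr : A *ᵥ r = r) : A = 1 := by
  by_contra hne
  obtain ⟨v, z, hz, hz0, -, hqz⟩ := fixed_sing D hg hAp hA hne
  set v' := v - polar q a v • r - polar q r v • a with hv'
  have hv'L : v' ∈ ell q a r := proj_mem D ha hr har v
  have hAv' : A *ᵥ v' = v' + z := by
    rw [hv', Matrix.mulVec_sub, Matrix.mulVec_sub, Matrix.mulVec_smul, Matrix.mulVec_smul, hAa, hAr, hz]; abel
  have hpolA : ∀ x y, polar q (A *ᵥ x) (A *ᵥ y) = polar q x y := fun x y => Subtype.ext (by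
    rw [← D.hpol, ← D.hpol, ← hA, ← hA, hg])
  have hzL : z ∈ ell q a r := by
    refine (mem_ell D).2 ⟨?_, ?_⟩
    · rw [hz, polar_sub_right]; nth_rewrite 1 [← hAa]; rw [hpolA, sub_self]
    · rw [hz, polar_sub_right]; nth_rewrite 1 [← hAr]; rw [hpolA, sub_self]
  have hvz : polar q v' z = 0 := by
    have h1 : q (A *ᵥ v') = q v' := q_eq D (by rw [← hA, hg])
    rw [hAv'] at h1
    have h2 : polar q v' z = q (v' + z) - q v' - q z := rfl
    rw [h2, h1, hqz]; ring
  refine hz0 (ell_zero D ha hr har hzL fun u hu => ?_)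
  have hli : LinearIndependent F₀ ![z, v'] := (LinearIndependent.pair_iff' hz0).2 fun c hc => by
    have h3 : A *ᵥ (c • z) = c • z + z := by rw [hc]; exact hAv'
    have hfz : A *ᵥ z = z := by
      by_cases hc0 : c = 0
      · rw [hc0, zero_smul] at hc
        have := hAv'
        rw [← hc, Matrix.mulVec_zero, zero_add] at this
        exact absurd this.symm hz0
      · -- `v'` is a multiple of `z`, so `z` is an eigenvector
        have h6 : A *ᵥ z = (1 + c⁻¹) • z := by
          rw [Matrix.mulVec_smul] at h3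
          have := congrArg (fun x => c⁻¹ • x) h3
          simp only [smul_add, inv_smul_smul₀ hc0] at this
          rw [this]; module
        have hpow : ∀ k : ℕ, (A ^ k) *ᵥ z = (1 + c⁻¹) ^ k • z := by
          intro k
          induction k with
          | zero => simp
          | succ k ih => rw [pow_succ', ← Matrix.mulVec_mulVec, ih, Matrix.mulVec_smul, h6, smul_smul, pow_succ]
        have h7 := hpow p
        rw [hAp, Matrix.one_mulVec, add_pow_char, one_pow, add_smul, one_smul] at h7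
        exact absurd ((smul_eq_zero.1 (left_eq_add.1 h7)).resolve_right hz0) (pow_ne_zero _ (inv_ne_zero hc0))
    rw [Matrix.mulVec_smul, hfz] at h3
    exact hz0 (left_eq_add.1 h3)
  have hsp : u ∈ Submodule.span F₀ (Set.range ![z, v']) := by
    have hle : Submodule.span F₀ (Set.range ![z, v']) ≤ ell q a r :=
      Submodule.span_le.2 (by rintro _ ⟨i, rfl⟩; fin_cases i <;> [exact hzL; exact hv'L])
    rw [Submodule.eq_of_le_of_finrank_eq hle
      (by rw [finrank_span_eq_card hli, Fintype.card_fin, ell_finrank D ha hr har])]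
    exact hu
  obtain ⟨e, he⟩ := (Submodule.mem_span_range_iff_exists_fun F₀).1 hsp
  simp [← he, Fin.sum_univ_two, polar_add_right, polar_smul_right, polar_self_mul, hqz,
    show polar q z v' = 0 by rw [polar_comm]; exact hvz]

variable (hP : Pure σ f P q M)
include hP

theorem exists_scalar : ∃ t : F₀, t ≠ 0 ∧ (1 : F₀) - t ≠ 0 ∧ (1 : F₀) - t * t ≠ 0 := by
  classical
  haveI : Fintype F₀ := Fintype.ofFinite _
  have h5 := D.five
  rw [Nat.card_eq_fintype_card] at h5
  obtain ⟨t, ht⟩ : ∃ t : F₀, t ∉ ({0, 1, -1} : Finset F₀) := by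
    by_contra! h
    have := Finset.card_le_card (s := (Finset.univ : Finset F₀)) (t := {0, 1, -1}) fun x _ => h x
    rw [Finset.card_univ] at this
    have := Finset.card_le_three (a := (0 : F₀)) (b := 1) (c := -1)
    omega
  simp only [Finset.mem_insert, Finset.mem_singleton, not_or] at ht
  refine ⟨t, ht.1, fun h => ht.2.1 (sub_eq_zero.1 h).symm, fun h => ?_⟩
  rcases mul_self_eq_one_iff.1 (sub_eq_zero.1 h).symm with h1 | h1
  exacts [ht.2.1 h1, ht.2.2 h1]

/-- The stabiliser of a rational singular line. -/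
theorem stab {a : ι → F₀} (ha : q a = 0) (ha0 : a ≠ 0) {g : GL ι F} (hg : g ∈ M) {lam : F}
    (hga : (g : Matrix ι ι F) *ᵥ rat P a = lam • rat P a) : g ∈ Cfsg.Geo.subfieldSubgroup F₀ P := by
  haveI := ne_iota D
  have hl0 : lam ≠ 0 := fun h => by
    rw [h, zero_smul] at hga
    exact ha0 (rat_eq_zero P (act_injective g (by simpa using hga)))
  set μ := (σ lam)⁻¹ with hμ
  have hσl : σ lam ≠ 0 := (map_ne_zero σ).2 hl0
  have hμ0 : μ ≠ 0 := inv_ne_zero hσl
  have hsa := sing D ha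
  have hginv : ((g⁻¹ : GL ι F) : Matrix ι ι F) *ᵥ rat P a = lam⁻¹ • rat P a := by
    conv_rhs => rw [← inv_act_act g (rat P a), hga, Matrix.mulVec_smul, smul_smul, inv_mul_cancel₀ hl0, one_smul]
  -- the perpendicular of the centre
  have hx : ∀ x, polar q a x = 0 → ∃ (v : ι → F₀) (κ : F), polar q a v = 0 ∧
      (g : Matrix ι ι F) *ᵥ rat P x = μ • rat P v + κ • rat P a := by
    intro x hax
    obtain ⟨e, he, hex⟩ := exists_root D ha hax
    obtain ⟨k, hk, hkx⟩ := inE_conj D.hf (D.iso g hg) hg ⟨e, he, hex⟩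
    rw [hga] at hkx
    have hgx : f ((g : Matrix ι ι F) *ᵥ rat P x) (rat P a) = 0 := by
      have := D.iso g hg (rat P x) (rat P a)
      rw [hga, smul_right D.hf, orth' D hax] at this
      exact (mul_eq_zero.1 this).resolve_left hσl
    have hE : InE f M (rat P a) (σ lam • ((g : Matrix ι ι F) *ᵥ rat P x)) (lam * σ lam * -(q x : F)) :=
      ⟨k, hk, fun z => by
        rw [hkx, smul_right D.hf, smul_right D.hf, sigma_sigma D.hf]
        module⟩
    obtain ⟨v, κ, hv⟩ := (hP a ha ha0).1 _ _ (by rw [D.hf.smul_left, hgx, mul_zero]) hE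
    refine ⟨v, μ * κ, ?_, ?_⟩
    · have h1 := congrArg (fun z => f z (rat P a)) hv
      simp only [D.hf.smul_left, D.hf.add_left, hgx, hsa, mul_zero, add_zero] at h1
      rw [D.hpol, polar_comm] at h1
      exact Subtype.ext h1.symm
    · rw [← smul_smul μ κ, ← smul_add, ← hv, smul_smul, hμ, inv_mul_cancel₀ hσl, one_smul]
  -- elements trivial on the perpendicular modulo the centre
  have hperp : ∀ {τ τ' : GL ι F}, τ ∈ M → τ' ∈ M →
      (∀ z, f z (rat P a) = 0 → ∃ c : F, (τ : Matrix ι ι F) *ᵥ z = z + c • rat P a) →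
      (∀ z, f z (rat P a) = 0 → ∃ c : F, (τ' : Matrix ι ι F) *ᵥ z = z + c • rat P a) →
      ∀ {t : F}, t ≠ 0 → (τ : Matrix ι ι F) *ᵥ rat P a = t • rat P a →
        (τ' : Matrix ι ι F) *ᵥ rat P a = t • rat P a →
      ((g * τ * g⁻¹ * τ'⁻¹ : GL ι F) : Matrix ι ι F) *ᵥ rat P a = rat P a ∧
        ∀ z, f z (rat P a) = 0 → ∃ c : F, ((g * τ * g⁻¹ * τ'⁻¹ : GL ι F) : Matrix ι ι F) *ᵥ z =
          z + c • rat P a := by
    intro τ τ' hτ hτ' hz hz' t ht hτa hτ'a
    have hinva : ((τ'⁻¹ : GL ι F) : Matrix ι ι F) *ᵥ rat P a = t⁻¹ • rat P a := by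
      conv_rhs => rw [← inv_act_act τ' (rat P a), hτ'a, Matrix.mulVec_smul, smul_smul, inv_mul_cancel₀ ht, one_smul]
    have ha' : ((g * τ * g⁻¹ * τ'⁻¹ : GL ι F) : Matrix ι ι F) *ᵥ rat P a = rat P a := by
      simp only [mul_act, hinva, hginv, hτa, hga, Matrix.mulVec_smul, smul_smul]
      match_scalars
      field_simp
    refine ⟨ha', fun z hzz => ?_⟩
    set y := ((τ'⁻¹ : GL ι F) : Matrix ι ι F) *ᵥ z with hy
    have hyz : (τ' : Matrix ι ι F) *ᵥ y = z := act_inv_act τ' z
    have hya : f y (rat P a) = 0 := by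
      have := D.iso τ' hτ' y (rat P a)
      rw [hyz, hτ'a, smul_right D.hf, hzz, mul_zero] at this
      exact this.symm
    obtain ⟨c, hc⟩ := hz' y hya
    rw [hyz] at hc
    set w := ((g⁻¹ : GL ι F) : Matrix ι ι F) *ᵥ y with hw
    have hwa : f w (rat P a) = 0 := by
      have := D.iso g hg w (rat P a)
      rw [hw, act_inv_act, hga, smul_right D.hf, hya, mul_zero] at this
      exact this.symm
    obtain ⟨c', hc'⟩ := hz w hwa
    refine ⟨c' * lam - c, ?_⟩
    rw [mul_act, mul_act, mul_act, ← hy, ← hw, hc', Matrix.mulVec_add, Matrix.mulVec_smul, hga, hw, act_inv_act, hc]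
    module
  -- the partner
  obtain ⟨r, hr, har⟩ := partner D ha ha0
  obtain ⟨t, ht, ht1, ht2⟩ := exists_scalar D hP
  have htF : (t : F) ≠ 0 := fun h => ht (Subtype.ext h)
  have hcast : ((t⁻¹ : F₀) : F) = (t : F)⁻¹ := rfl
  have htor : ∀ {b : ι → F₀}, q b = 0 → polar q a b = 1 → ∃ τ ∈ M,
      (∀ z, f z (rat P a) = 0 → ∃ c : F, (τ : Matrix ι ι F) *ᵥ z = z + c • rat P a) ∧
      (τ : Matrix ι ι F) *ᵥ rat P a = (t : F) • rat P a ∧
      (τ : Matrix ι ι F) *ᵥ rat P b = (t : F)⁻¹ • rat P b := by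
    intro b hb hab
    obtain ⟨τ, hτ, -, hτx⟩ := exists_tor D ha hb hab t ht
    have h1 : f (rat P a) (rat P b) = 1 := by rw [D.hpol, hab]; rfl
    have h2 : f (rat P b) (rat P a) = 1 := by rw [D.hpol, polar_comm, hab]; rfl
    refine ⟨τ, hτ, fun z hz => ⟨_, by rw [hτx, hz, zero_smul, smul_zero, add_zero]⟩, ?_, ?_⟩
    · rw [hτx, h1, hsa]; module
    · rw [hτx, h2, sing D hb, hcast]; module
  have hra : f (rat P r) (rat P a) = 1 := by rw [D.hpol, polar_comm, har]; rfl
  have har' : f (rat P a) (rat P r) = 1 := by rw [D.hpol, har]; rfl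
  obtain ⟨w, hw⟩ : ∃ w, w = σ lam • ((g : Matrix ι ι F) *ᵥ rat P r) - rat P r := ⟨_, rfl⟩
  have hgr : (g : Matrix ι ι F) *ᵥ rat P r = μ • (rat P r + w) := by
    rw [hw, add_sub_cancel, smul_smul, hμ, inv_mul_cancel₀ hσl, one_smul]
  have hwa : f w (rat P a) = 0 := by
    have h1 := D.iso g hg (rat P r) (rat P a)
    rw [hga, smul_right D.hf, hra] at h1
    rw [hw, sub_left D.hf, D.hf.smul_left, h1, hra, sub_self]
  obtain ⟨τ, hτ, hτz, hτa, hτr⟩ := htor hr har
  have hτir : ((τ⁻¹ : GL ι F) : Matrix ι ι F) *ᵥ rat P r = (t : F) • rat P r := by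
    conv_rhs => rw [← inv_act_act τ (rat P r), hτr, Matrix.mulVec_smul, smul_smul, mul_inv_cancel₀ htF, one_smul]
  have hgir : ((g⁻¹ : GL ι F) : Matrix ι ι F) *ᵥ rat P r =
      μ⁻¹ • rat P r - ((g⁻¹ : GL ι F) : Matrix ι ι F) *ᵥ w := by
    have h1 : rat P r = μ⁻¹ • ((g : Matrix ι ι F) *ᵥ rat P r) - w := by
      rw [hgr, smul_smul, inv_mul_cancel₀ hμ0, one_smul, add_sub_cancel_right]
    conv_lhs => rw [h1, Matrix.mulVec_sub, Matrix.mulVec_smul, inv_act_act]
  have hwa' : f (((g⁻¹ : GL ι F) : Matrix ι ι F) *ᵥ w) (rat P a) = 0 := by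
    have := D.iso g hg (((g⁻¹ : GL ι F) : Matrix ι ι F) *ᵥ w) (rat P a)
    rw [act_inv_act, hga, smul_right D.hf, hwa, mul_zero] at this
    exact this.symm
  obtain ⟨c, hc⟩ := hτz _ hwa'
  obtain ⟨hka, hkz⟩ := hperp hτ hτ hτz hτz htF hτa hτa
  have hkr : ((g * τ * g⁻¹ * τ⁻¹ : GL ι F) : Matrix ι ι F) *ᵥ rat P r =
      rat P r + (1 - (t : F)) • (w - f w (rat P r) • rat P a) +
        ((1 - (t : F)) * f w (rat P r) - (t : F) * c * lam) • rat P a := by
    simp only [mul_act, hτir, hgir, hτr, hc, hgr, hga, act_inv_act, Matrix.mulVec_smul, Matrix.mulVec_sub,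
      Matrix.mulVec_add]
    match_scalars <;> field_simp <;> ring
  have hk : g * τ * g⁻¹ * τ⁻¹ ∈ M := M.mul_mem (M.mul_mem (M.mul_mem hg hτ) (M.inv_mem hg)) (M.inv_mem hτ)
  set w' := w - f w (rat P r) • rat P a with hw'
  have hw'a : f w' (rat P a) = 0 := by rw [hw', sub_left D.hf, D.hf.smul_left, hwa, hsa, mul_zero, sub_zero]
  have hw'r : f w' (rat P r) = 0 := by rw [hw', sub_left D.hf, D.hf.smul_left, har', mul_one, sub_self]
  obtain ⟨v, κ, hv⟩ := (hP a ha ha0).1 _ _ (by rw [D.hf.smul_left, hw'a, mul_zero])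
    ⟨_, hk, eact_of D (D.iso _ hk) hra (sing D hr) hsa (w := (1 - (t : F)) • w')
      (by rw [D.hf.smul_left, hw'a, mul_zero]) (by rw [D.hf.smul_left, hw'r, mul_zero]) hka hkr hkz⟩
  have hκ : κ = ((-polar q r v : F₀) : F) := by
    have h1 := congrArg (fun z => f z (rat P r)) hv
    simp only [D.hf.smul_left, D.hf.add_left, hw'r, har', D.hpol, mul_zero, mul_one] at h1
    rw [NegMemClass.coe_neg, polar_comm q r v]
    linear_combination -h1
  obtain ⟨v', hv'⟩ : ∃ v', v' = (1 - t)⁻¹ • (v + (-polar q r v) • a) := ⟨_, rfl⟩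
  have hw'v : w' = rat P v' := by
    have h1 : (((1 - t)⁻¹ : F₀) : F) = (1 - (t : F))⁻¹ := rfl
    rw [hv', rat_smul, rat_add, rat_smul, ← hκ, ← hv, h1, smul_smul,
      inv_mul_cancel₀ (show (1 : F) - (t : F) ≠ 0 from fun h => ht1 (Subtype.ext h)), one_smul]
  have hav' : polar q a v' = 0 := Subtype.ext (by rw [← D.hpol, ← hw'v, skew_zero D.hf hw'a]; rfl)
  have hrv' : polar q r v' = 0 := Subtype.ext (by rw [← D.hpol, ← hw'v, skew_zero D.hf hw'r]; rfl)
  obtain ⟨r', hr'⟩ : ∃ r', r' = r + v' + (-q v') • a := ⟨_, rfl⟩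
  have e : ∀ x y, q (x + y) = q x + q y + polar q x y := fun x y => by rw [polar]; ring
  have hqr' : q r' = 0 := by
    rw [hr', e, e, QuadraticMap.map_smul q (-q v') a, ha, hr, hrv', smul_zero, polar_smul_right, polar_add_left,
      polar_comm q r a, har, polar_comm q v' a, hav', smul_eq_mul]
    ring
  have har1 : polar q a r' = 1 := by
    rw [hr', polar_add_right, polar_add_right, polar_smul_right, polar_self_mul, ha, har, hav']
    simp
  set η := f w (rat P r) + ((q v' : F₀) : F) with hη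
  have hgr' : (g : Matrix ι ι F) *ᵥ rat P r = μ • (rat P r' + η • rat P a) := by
    rw [hgr, hr', rat_add, rat_add, rat_smul, ← hw'v, hw', hη, NegMemClass.coe_neg]
    module
  have hr'a : f (rat P r') (rat P a) = 1 := by rw [D.hpol, polar_comm, har1]; rfl
  have hηs : σ η = -η := by
    have h1 := D.iso g hg (rat P r) (rat P r)
    rw [hgr', D.hf.smul_left, smul_right D.hf, sing D hr] at h1
    have h2 := (mul_eq_zero.1 ((mul_eq_zero.1 h1).resolve_left hμ0)).resolve_left ((map_ne_zero σ).2 hμ0)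
    rw [D.hf.add_left, add_right D.hf, add_right D.hf, D.hf.smul_left, D.hf.smul_left, smul_right D.hf,
      smul_right D.hf, sing D hqr', hsa, hr'a, show f (rat P a) (rat P r') = 1 by
        rw [D.hpol, har1]; rfl] at h2
    linear_combination h2
  obtain ⟨τ', hτ', hτ'z, hτ'a, hτ'r⟩ := htor hqr' har1
  obtain ⟨hka', hkz'⟩ := hperp hτ hτ' hτz hτ'z htF hτa hτ'a
  have hτ'ir : ((τ'⁻¹ : GL ι F) : Matrix ι ι F) *ᵥ rat P r' = (t : F) • rat P r' := by
    conv_rhs => rw [← inv_act_act τ' (rat P r'), hτ'r, Matrix.mulVec_smul, smul_smul, mul_inv_cancel₀ htF, one_smul]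
  have hgir' : ((g⁻¹ : GL ι F) : Matrix ι ι F) *ᵥ rat P r' = μ⁻¹ • rat P r - (η * lam⁻¹) • rat P a := by
    have h1 : rat P r' = μ⁻¹ • ((g : Matrix ι ι F) *ᵥ rat P r) - η • rat P a := by
      rw [hgr', smul_smul, inv_mul_cancel₀ hμ0, one_smul, add_sub_cancel_right]
    conv_lhs => rw [h1, Matrix.mulVec_sub, Matrix.mulVec_smul, Matrix.mulVec_smul, inv_act_act, hginv, smul_smul]
  have hkr' : ((g * τ * g⁻¹ * τ'⁻¹ : GL ι F) : Matrix ι ι F) *ᵥ rat P r' =
      rat P r' + (0 : ι → F) + ((1 - (t : F) * t) * η) • rat P a := by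
    simp only [mul_act, hτ'ir, hgir', hτr, hτa, hgr', hga, Matrix.mulVec_smul, Matrix.mulVec_sub,
      Matrix.mulVec_add]
    match_scalars <;> field_simp <;> ring
  have hk' : g * τ * g⁻¹ * τ'⁻¹ ∈ M := M.mul_mem (M.mul_mem (M.mul_mem hg hτ) (M.inv_mem hg)) (M.inv_mem hτ')
  have hE' := eact_of D (D.iso _ hk') hr'a (sing D hqr') hsa (zero_left D.hf _) (zero_left D.hf _) hka' hkr' hkz'
  have hη0 : η = 0 := by
    have h1 := (hP a ha ha0).2 ((1 - (t : F) * t) * η)
      (by rw [map_mul, hηs, map_sub, map_one, map_mul, sig D, mul_neg]) (hE'.eq_tg D.hf hsa ▸ hk')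
    exact (mul_eq_zero.1 h1).resolve_left (fun h => ht2 (Subtype.ext h))
  rw [hη0, zero_smul, add_zero] at hgr'
  -- conclusion
  obtain ⟨nl, hnl⟩ : ∃ nl : F₀, (nl : F) = σ lam * lam :=
    ⟨⟨σ lam * lam, (D.fix _).1 (by rw [map_mul, sigma_sigma D.hf, mul_comm])⟩, rfl⟩
  have hga' : (g : Matrix ι ι F) *ᵥ rat P a = μ • rat P (nl • a) := by
    rw [hga, rat_smul, smul_smul, hnl, hμ, ← mul_assoc, inv_mul_cancel₀ hσl, one_mul]
  refine (SubfieldRational.mem_subfieldSubgroup_iff P g).2 fun u => ?_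
  set x := u - polar q a u • r - polar q r u • a with hxu
  obtain ⟨hxa, hxr⟩ : polar q a x = 0 ∧ polar q r x = 0 := (mem_ell D).1 (proj_mem D ha hr har u)
  obtain ⟨z, κ', hza, hz⟩ := hx x hxa
  have hκ' : κ' = μ * ((-polar q r' z : F₀) : F) := by
    have h1 := D.iso g hg (rat P x) (rat P r)
    rw [hz, hgr', orth' D hxr, D.hf.add_left, D.hf.smul_left, D.hf.smul_left, smul_right D.hf, smul_right D.hf,
      D.hpol, show f (rat P a) (rat P r') = 1 by rw [D.hpol, har1]; rfl] at h1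
    have h2 : σ μ * (μ * ((polar q z r' : F₀) : F) + κ') = 0 := by linear_combination h1
    rw [NegMemClass.coe_neg, polar_comm q r' z]
    linear_combination (mul_eq_zero.1 h2).resolve_left ((map_ne_zero σ).2 hμ0)
  refine ⟨μ, polar q a u • r' + polar q r u • (nl • a) + (z + (-polar q r' z) • a), ?_⟩
  have hu : u = polar q a u • r + polar q r u • a + x := by rw [hxu]; abel
  rw [show rat P u = ((polar q a u : F₀) : F) • rat P r + ((polar q r u : F₀) : F) • rat P a + rat P x by
      rw [← rat_smul, ← rat_smul, ← rat_add, ← rat_add, ← hu],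
    Matrix.mulVec_add, Matrix.mulVec_add, Matrix.mulVec_smul, Matrix.mulVec_smul, hgr', hga', hz, hκ']
  simp only [rat_add, rat_smul]
  module

/-- An element moving some rational singular line to a rational one. -/
theorem of_image {b b' : ι → F₀} (hb : q b = 0) (hb0 : b ≠ 0) (hb' : q b' = 0) (hb'0 : b' ≠ 0) {g : GL ι F}
    (hg : g ∈ M) {k : F} (hgb : (g : Matrix ι ι F) *ᵥ rat P b = k • rat P b') :
    g ∈ Cfsg.Geo.subfieldSubgroup F₀ P := by
  obtain ⟨h, hh, hhX, k', -, hhb⟩ := move D hb' hb'0 hb hb0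
  have h1 : ((h * g : GL ι F) : Matrix ι ι F) *ᵥ rat P b = (k * (k' : F)) • rat P b := by
    rw [mul_act, hgb, Matrix.mulVec_smul, hhb, rat_smul, smul_smul]
  have h2 := stab D hP hb hb0 (M.mul_mem hh hg) h1
  have h3 := Subgroup.mul_mem _ (Subgroup.inv_mem _ hhX) h2
  rwa [← mul_assoc, inv_mul_cancel, one_mul] at h3

/-- Elements of order dividing `p` fixing a rational singular line are root elements. -/
theorem unip {p : ℕ} [hp : Fact p.Prime] [CharP F p] [CharP F₀ p] {a : ι → F₀} (ha : q a = 0) (ha0 : a ≠ 0)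
    {g : GL ι F} (hg : g ∈ M) {lam : F} (hga : (g : Matrix ι ι F) *ᵥ rat P a = lam • rat P a) (hgp : g ^ p = 1) :
    ∃ y, polar q a y = 0 ∧ EAct f g (rat P a) (rat P y) (-(q y : F)) := by
  haveI := ne_iota D
  obtain ⟨A, hAp, hA⟩ := rat_of_pow D (stab D hP ha ha0 hg hga) hgp
  have hpolA : ∀ x y, polar q (A *ᵥ x) (A *ᵥ y) = polar q x y := fun x y => Subtype.ext (by
    rw [← D.hpol, ← D.hpol, ← hA, ← hA, D.iso g hg])
  have hqA : ∀ x, q (A *ᵥ x) = q x := fun x => q_eq D (by rw [← hA, D.iso g hg])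
  have hrata : rat P a ≠ 0 := fun h => ha0 (rat_eq_zero P h)
  have hlam : lam = 1 := by
    have hpow : ∀ k : ℕ, ((g ^ k : GL ι F) : Matrix ι ι F) *ᵥ rat P a = lam ^ k • rat P a := by
      intro k
      induction k with
      | zero => rw [pow_zero, one_act, pow_zero, one_smul]
      | succ k ih => rw [pow_succ, mul_act, hga, Matrix.mulVec_smul, ih, smul_smul, pow_succ']
    have h1 := hpow p
    rw [hgp, one_act] at h1
    have h2 : lam ^ p = 1 := smul_left_injective F hrata (by simpa using h1.symm)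
    exact frobenius_inj F p (by simpa [frobenius_def] using h2)
  rw [hlam, one_smul, hA] at hga
  have hAa : A *ᵥ a = a := SubfieldRational.rat_injective P hga
  obtain ⟨r, hr, har⟩ := partner D ha ha0
  set s := A *ᵥ r with hs
  have has : polar q a s = 1 := by rw [hs]; nth_rewrite 1 [← hAa]; rw [hpolA, har]
  set y := s - r - polar q r s • a with hy
  have hay : polar q a y = 0 := by
    rw [hy, polar_sub_right, polar_sub_right, polar_smul_right, polar_self_mul, ha, har, has]; simp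
  have hry : polar q r y = 0 := by
    rw [hy, polar_sub_right, polar_sub_right, polar_smul_right, polar_self_mul, hr, polar_comm q r a, har]; simp
  have hqy : q y = -polar q r s := by
    have h1 : s = r + y + polar q r s • a := by rw [hy]; abel
    have h2 := hqA r
    have e : ∀ u v, q (u + v) = q u + q v + polar q u v := fun u v => by rw [polar]; ring
    rw [← hs, h1, e, e, QuadraticMap.map_smul q (polar q r s) a, ha, hr, hry, smul_zero, polar_smul_right,
      polar_add_left, polar_comm q r a, har, polar_comm q y a, hay, smul_eq_mul] at h2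
    linear_combination h2
  have hny : polar q a (-y) = 0 := by rw [← neg_one_smul F₀ y, polar_smul_right, hay, smul_zero]
  obtain ⟨e0, he0, he0x⟩ := exists_root D ha hny
  set h := e0 * g with hh
  have hpow : ∀ k : ℕ, ∃ Y, polar q a Y = 0 ∧ ∃ e ∈ M, EAct f e (rat P a) (rat P Y) (-(q Y : F)) ∧
      h ^ k = e * g ^ k := by
    intro k
    induction k with
    | zero => exact ⟨0, by simp, 1, M.one_mem, eact_zero D a, by simp⟩
    | succ k ih =>
      obtain ⟨Y, hY, e, he, hex, hek⟩ := ih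
      have h1 := hex.conj D.hf (D.iso g hg)
      rw [hA, hA, hAa, ← hqA Y] at h1
      have hAY : polar q a (A *ᵥ Y) = 0 := by nth_rewrite 1 [← hAa]; rw [hpolA, hY]
      refine ⟨-y + A *ᵥ Y, by rw [polar_add_right, hny, hAY, add_zero], e0 * (g * e * g⁻¹),
        M.mul_mem he0 (M.mul_mem (M.mul_mem hg he) (M.inv_mem hg)), eact_mul_rat D ha hny hAY he0x h1, ?_⟩
      rw [pow_succ', hek, hh, pow_succ' g k]
      group
  have he0r : ∀ u : ι → F₀, polar q a u = 0 → (e0 : Matrix ι ι F) *ᵥ rat P u = rat P (u + polar q u y • a) := by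
    intro u hu
    rw [eact_rat D he0x]
    congr 1
    rw [polar_comm q u a, hu, ← neg_one_smul F₀ y, polar_smul_right]
    simp
  have hhr : (h : Matrix ι ι F) *ᵥ rat P r = rat P r := by
    rw [hh, mul_act, hA, ← hs, eact_rat D he0x]
    congr 1
    rw [QuadraticMap.map_neg, ← neg_one_smul F₀ y, polar_smul_right, polar_comm q s a, has, hqy]
    have h3 : polar q s y = polar q r s * 1 + 2 * q y + 0 - polar q r s * 1 := by
      conv_lhs => rw [show s = r + y + polar q r s • a by rw [hy]; abel]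
      rw [polar_add_left, polar_add_left, polar_smul_left, hry, polar_self_mul, hay]
      simp
    rw [h3, hqy, hy]
    simp only [smul_eq_mul]
    module
  have hha : (h : Matrix ι ι F) *ᵥ rat P a = rat P a := by
    rw [hh, mul_act, hA, hAa, he0r a (by rw [polar_self_mul, ha, mul_zero]), hay, zero_smul, add_zero]
  obtain ⟨Y, hY, e, he, hex, hek⟩ := hpow p
  rw [hgp, mul_one] at hek
  have hhp : h ^ p = 1 := by
    have hfix : ∀ k : ℕ, ((h ^ k : GL ι F) : Matrix ι ι F) *ᵥ rat P r = rat P r := by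
      intro k
      induction k with
      | zero => rw [pow_zero, one_act]
      | succ k ih => rw [pow_succ, mul_act, hhr, ih]
    have h2 := hfix p
    rw [hek, eact_rat D hex] at h2
    have h2' := SubfieldRational.rat_injective P h2
    rw [polar_comm q r a, har] at h2'
    have hY' : Y = (polar q r Y + q Y) • a := by
      linear_combination (norm := module) h2'
    rw [hek]
    refine gl_ext fun x => ?_
    have hqY : q Y = 0 := by rw [hY', QuadraticMap.map_smul, ha, smul_zero]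
    rw [hex, one_act, hqY, ZeroMemClass.coe_zero, neg_zero, zero_mul, zero_smul, add_zero, hY', rat_smul,
      smul_right D.hf, sig D]
    module
  have hhM : h ∈ M := M.mul_mem he0 hg
  obtain ⟨B, hBp, hB⟩ := rat_of_pow D (stab D hP ha ha0 hhM (lam := 1) (by rw [hha, one_smul])) hhp
  have hB1 : B = 1 := unip_pair D (D.iso h hhM) hBp hB ha hr har
    (SubfieldRational.rat_injective P (by rw [← hB, hha])) (SubfieldRational.rat_injective P (by rw [← hB, hhr]))
  have hh1 : h = 1 := SubfieldRational.ext_rat P fun u => by rw [hB, hB1, Matrix.one_mulVec, one_act]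
  refine ⟨y, hay, ?_⟩
  obtain ⟨e1, -, he1x⟩ := exists_root D ha hay
  have h5 := eact_mul_rat D ha hny hay he0x he1x
  rw [neg_add_cancel] at h5
  have h6 : e0 * e1 = 1 := eact_unique D h5 (eact_zero D a)
  rw [show g = e1 from mul_left_cancel (hh1.trans h6.symm)]
  exact he1x

end Cfsg.Agent.UnitOrthFour44
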