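import Mathlib
import Cfsg.Prelude.Def_Classical
import Cfsg.Agent.Lib.OrthUnitaryHerm
import Cfsg.Agent.Lib.AutPSU52Lang
import Cfsg.Agent.Lib.SympIsoInvariant84

/-!
Invariant totally isotropic subspaces of semisimple isometries of hermitian forms.
-/

set_option autoImplicit false

namespace Cfsg.Agent.UnitaryIsoInvariant84

open Module Polynomial Cfsg.Agent.OrthUnitaryHerm Cfsg.Agent.PrimeOrderModule84
open SympIsoInvariant84 (map_eq pow_mem exists_simple exists_common_zero)

variable {F V : Type*} [Field F] [AddCommGroup V] [Module F V] {q : ℕ} {h : V → V → F} {A : Module.End F V}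

/-- A hermitian form, linear in the first argument. -/
structure Herm (F : Type*) {V : Type*} [Field F] [AddCommGroup V] [Module F V] (q : ℕ) (h : V → V → F) :
    Prop where
  add : ∀ x y v, h (x + y) v = h x v + h y v
  smul : ∀ (c : F) x v, h (c • x) v = c * h x v
  conj : ∀ u v, h v u = h u v ^ q

/-- `h` is non-degenerate on `R`. -/
def ND (h : V → V → F) (R : Submodule F V) : Prop :=
  ∀ u ∈ R, (∀ v ∈ R, h u v = 0) → u = 0

/-- `W` is totally isotropic. -/
def TI (h : V → V → F) (W : Submodule F V) : Prop := ∀ u ∈ W, ∀ v ∈ W, h u v = 0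

theorem Herm.zero_left (H : Herm F q h) (v : V) : h 0 v = 0 := by
  rw [← zero_smul F (0 : V), H.smul, zero_mul]

theorem Herm.smul_right (H : Herm F q h) (c : F) (u v : V) : h u (c • v) = c ^ q * h u v := by
  rw [H.conj (c • v) u, H.smul, mul_pow, ← H.conj v u]

/-- The vectors orthogonal to `U`. -/
def orth (H : Herm F q h) (U : Submodule F V) : Submodule F V where
  carrier := {v | ∀ u ∈ U, h v u = 0}
  add_mem' {x y} hx hy u hu := by rw [H.add, hx u hu, hy u hu, add_zero]
  zero_mem' u _ := H.zero_left u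
  smul_mem' c x hx u hu := by rw [H.smul, hx u hu, mul_zero]

variable [Fintype F]

theorem Herm.zero_comm (H : Herm F q h) (hF : Fintype.card F = q ^ 2) {u v : V} (h0 : h u v = 0) :
    h v u = 0 := by
  rw [H.conj u v, h0, zero_pow_q hF]

theorem Herm.add_right (H : Herm F q h) (hF : Fintype.card F = q ^ 2) (u x y : V) :
    h u (x + y) = h u x + h u y := by
  rw [H.conj (x + y) u, H.add, add_pow_q hF, ← H.conj x u, ← H.conj y u]

theorem Herm.zero_right (H : Herm F q h) (hF : Fintype.card F = q ^ 2) (u : V) : h u 0 = 0 :=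
  H.zero_comm hF (H.zero_left u)

theorem Herm.sum_right (H : Herm F q h) (hF : Fintype.card F = q ^ 2) {ι : Type*} (s : Finset ι) (u : V)
    (f : ι → V) : h u (∑ i ∈ s, f i) = ∑ i ∈ s, h u (f i) := by
  classical
  induction s using Finset.induction_on with
  | empty => simp [H.zero_right hF]
  | insert a s ha ih => rw [Finset.sum_insert ha, Finset.sum_insert ha, H.add_right hF, ih]

variable [FiniteDimensional F V]

theorem finrank_orth (H : Herm F q h) (hF : Fintype.card F = q ^ 2) {R U : Submodule F V} (hR : ND h R)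
    (hU : U ≤ R) : finrank F ↥(R ⊓ orth H U) + finrank F ↥U = finrank F ↥R := by
  classical
  let e := Module.finBasis F ↥U
  let φ : ↥R →ₗ[F] (Fin (finrank F ↥U) → F) :=
    { toFun := fun v j => h (v : V) (e j : V)
      map_add' := fun x y => funext fun j => H.add _ _ _
      map_smul' := fun c x => funext fun j => H.smul _ _ _ }
  have hker : LinearMap.ker φ = (R ⊓ orth H U).comap R.subtype := by
    ext v
    simp only [LinearMap.mem_ker, Submodule.mem_comap, Submodule.mem_inf]
    constructor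
    · intro hv
      refine ⟨v.2, fun u hu => ?_⟩
      have e1 : u = ∑ j, e.repr ⟨u, hu⟩ j • (e j : V) := by
        have e2 := congrArg U.subtype (e.sum_repr ⟨u, hu⟩)
        rw [map_sum] at e2
        simpa using e2.symm
      show h (v : V) u = 0
      rw [e1, H.sum_right hF]
      refine Finset.sum_eq_zero fun j _ => ?_
      rw [H.smul_right, show h (v : V) (e j : V) = 0 from congrFun hv j, mul_zero]
    · rintro ⟨-, hv⟩
      funext j
      exact hv _ (e j).2
  have hsurj : LinearMap.range φ = ⊤ := by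
    by_contra hne
    obtain ⟨ψ, hψ0, hψ⟩ := Submodule.exists_le_ker_of_lt_top _ (lt_top_iff_ne_top.2 hne)
    set c : Fin (finrank F ↥U) → F := fun j => ψ (Pi.single j 1) with hc
    have hψe : ∀ g, ψ g = ∑ j, g j * c j := by
      intro g
      conv_lhs => rw [pi_eq_sum_univ' g]
      simp [hc]
    set u : V := ∑ j, c j ^ q • (e j : V) with hu
    have huR : u ∈ R := hU (U.sum_mem fun j _ => U.smul_mem _ (e j).2)
    have h0 : u = 0 := hR u huR fun v hv => H.zero_comm hF (by
      rw [hu, H.sum_right hF]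
      simp only [H.smul_right, pow_q_q hF]
      have h1 : ψ (φ ⟨v, hv⟩) = 0 := LinearMap.mem_ker.1 (hψ ⟨⟨v, hv⟩, rfl⟩)
      rw [hψe] at h1
      rw [← h1]
      exact Finset.sum_congr rfl fun j _ => mul_comm _ _)
    apply hψ0
    refine LinearMap.ext fun g => ?_
    have h1 : ∑ j, c j ^ q • e j = 0 := Subtype.ext (by simpa [hu] using h0)
    rw [hψe]
    refine (Finset.sum_eq_zero fun j _ => ?_).trans rfl
    rw [eq_zero_of_pow_eq_zero (Fintype.linearIndependent_iff.1 e.linearIndependent _ h1 j), mul_zero]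
  have h1 := LinearMap.finrank_range_add_finrank_ker φ
  rw [hsurj, finrank_top, Module.finrank_fin_fun, hker,
    (Submodule.comapSubtypeEquivOfLe (inf_le_left : R ⊓ orth H U ≤ R)).finrank_eq] at h1
  omega

theorem two_mul_le (H : Herm F q h) (hF : Fintype.card F = q ^ 2) {R U : Submodule F V} (hR : ND h R)
    (hU : U ≤ R) (hT : TI h U) : 2 * finrank F ↥U ≤ finrank F ↥R := by
  have h1 := finrank_orth H hF hR hU
  have h2 : finrank F ↥U ≤ finrank F ↥(R ⊓ orth H U) :=
    Submodule.finrank_mono (le_inf hU fun v hv u hu => hT v hv u hu)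
  omega

omit [Fintype F] in
theorem orth_invariant (H : Herm F q h) (hA : ∀ u v, h (A u) (A v) = h u v) (hAi : Function.Injective A)
    {U : Submodule F V} (hU : U.map A ≤ U) : (orth H U).map A ≤ orth H U := by
  rintro _ ⟨v, hv, rfl⟩ u hu
  rw [← map_eq hAi hU] at hu
  obtain ⟨w, hw, rfl⟩ := hu
  rw [hA]
  exact hv w hw

/-- Removing an invariant totally isotropic subspace. -/
theorem exists_reduct (H : Herm F q h) (hF : Fintype.card F = q ^ 2) (hA : ∀ u v, h (A u) (A v) = h u v)
    {r : ℕ} {z : F}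
    (hr : (r : F) ≠ 0) (hz : z ≠ 0) (hAr : A ^ r = z • 1) (hAi : Function.Injective A)
    {R U : Submodule F V} (hR : ND h R) (hRi : R.map A ≤ R) (hUR : U ≤ R) (hUi : U.map A ≤ U)
    (hU : TI h U) :
    ∃ R', R' ≤ R ∧ R'.map A ≤ R' ∧ ND h R' ∧ finrank F ↥R' + 2 * finrank F ↥U = finrank F ↥R ∧
      R' ⊓ U = ⊥ ∧ ∀ v ∈ R', ∀ u ∈ U, h v u = 0 := by
  set O := R ⊓ orth H U with hO
  have hOi : O.map A ≤ O := le_inf ((Submodule.map_mono inf_le_left).trans hRi)
    ((Submodule.map_mono inf_le_right).trans (orth_invariant H hA hAi hUi))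
  have hUO : U ≤ O := le_inf hUR fun v hv u hu => hU v hv u hu
  obtain ⟨C, hC, hCi⟩ := DecompPerm84.exists_invt_compl hr hz hAr hUi
  have hdisj : (C ⊓ O) ⊓ U = ⊥ := by
    rw [eq_bot_iff, ← hC.inf_eq_bot]
    exact fun v hv => ⟨hv.2, hv.1.1⟩
  have hsup : U ⊔ (C ⊓ O) = O := by rw [← sup_inf_assoc_of_le C hUO, hC.sup_eq_top, top_inf_eq]
  have hdim : finrank F ↥(C ⊓ O : Submodule F V) + finrank F ↥U = finrank F ↥O := by
    have h := Submodule.finrank_sup_add_finrank_inf_eq U (C ⊓ O)
    rw [hsup, inf_comm, hdisj, finrank_bot] at h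
    omega
  have hfin := finrank_orth H hF hR hUR
  rw [← hO] at hfin
  refine ⟨C ⊓ O, inf_le_right.trans inf_le_left, le_inf ((Submodule.map_mono inf_le_left).trans hCi)
    ((Submodule.map_mono inf_le_right).trans hOi), ?_, by omega, hdisj, fun v hv u hu => hv.2.2 u hu⟩
  intro v hv hall
  have hvO : ∀ w ∈ O, h v w = 0 := by
    intro w hw
    rw [← hsup] at hw
    obtain ⟨a, ha, b, hb, rfl⟩ := Submodule.mem_sup.1 hw
    rw [H.add_right hF, hv.2.2 a ha, hall b hb, add_zero]
  have hvU : v ∈ U := by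
    have h1 := finrank_orth H hF hR (U := O) inf_le_left
    have hle : U ≤ R ⊓ orth H O := le_inf hUR fun u hu w hw => H.zero_comm hF (hw.2 u hu)
    have heq : U = R ⊓ orth H O := Submodule.eq_of_le_of_finrank_eq hle (by omega)
    rw [heq]
    exact ⟨hv.2.1, hvO⟩
  have : v ∈ (C ⊓ O) ⊓ U := ⟨hv, hvU⟩
  rwa [hdisj, Submodule.mem_bot] at this

/-- Iterating one step. -/
theorem exists_iter (H : Herm F q h) (hF : Fintype.card F = q ^ 2) (hA : ∀ u v, h (A u) (A v) = h u v)
    {r : ℕ} {z : F}
    (hr : (r : F) ≠ 0) (hz : z ≠ 0) (hAr : A ^ r = z • 1) (hAi : Function.Injective A) {T : Submodule F V}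
    {i N : ℕ}
    (step : ∀ R ≤ T, R.map A ≤ R → ND h R → N ≤ finrank F ↥R →
      ∃ U, U ≤ R ∧ U.map A ≤ U ∧ TI h U ∧ finrank F ↥U = i) :
    ∀ b : ℕ, ∀ R ≤ T, R.map A ≤ R → ND h R → (b = 0 ∨ 2 * i * (b - 1) + N ≤ finrank F ↥R) →
      ∃ W, W ≤ R ∧ W.map A ≤ W ∧ TI h W ∧ finrank F ↥W = b * i := by
  intro b
  induction b with
  | zero =>
    intro R _ _ _ _
    exact ⟨⊥, bot_le, by simp, fun u hu v _ => by rw [(Submodule.mem_bot F).1 hu, H.zero_left], by simp⟩
  | succ b ih =>
    intro R hRT hRi hR hd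
    replace hd : 2 * i * b + N ≤ finrank F ↥R := by
      rcases hd with h | h
      · omega
      · simpa using h
    obtain ⟨U, hUR, hUi, hU, hUd⟩ := step R hRT hRi hR (by omega)
    obtain ⟨R', hR'R, hR'i, hR', hR'd, hdisj, horth⟩ :=
      exists_reduct H hF hA hr hz hAr hAi hR hRi hUR hUi hU
    obtain ⟨W, hW, hWi, hWT, hWd⟩ := ih R' (hR'R.trans hRT) hR'i hR' (by
      rcases Nat.eq_zero_or_pos b with h | h
      · exact Or.inl h
      · right
        obtain ⟨c, rfl⟩ : ∃ c, b = c + 1 := ⟨b - 1, by omega⟩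
        rw [Nat.mul_add, Nat.mul_one] at hd
        simp only [Nat.add_sub_cancel]
        omega)
    refine ⟨U ⊔ W, sup_le hUR (hW.trans hR'R), by rw [Submodule.map_sup]; exact sup_le_sup hUi hWi, ?_, ?_⟩
    · intro u hu v hv
      obtain ⟨a, ha, c, hc, rfl⟩ := Submodule.mem_sup.1 hu
      obtain ⟨a', ha', c', hc', rfl⟩ := Submodule.mem_sup.1 hv
      rw [H.add, H.add_right hF, H.add_right hF, hU a ha a' ha', hWT c hc c' hc', horth c (hW hc) a' ha',
        H.zero_comm hF (horth c' (hW hc') a ha), add_zero, add_zero]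
    · have h := Submodule.finrank_sup_add_finrank_inf_eq U W
      have hb : U ⊓ W = ⊥ := by
        rw [eq_bot_iff, ← hdisj]
        exact fun v hv => ⟨hW hv.2, hv.1⟩
      rw [hb, finrank_bot, hUd, hWd] at h
      rw [Nat.succ_mul]
      omega

/-! ### Zeros of hermitian equations -/

/-- Common zeros of hermitian equations, with or without `h v v = 0`. -/
theorem exists_herm_zero (H : Herm F q h) (hF : Fintype.card F = q ^ 2) {ι : Type*} [Fintype ι]
    (L : ι → Module.End F V) (diag : Bool) (R : Submodule F V)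
    (hd : 2 * Fintype.card ι + (if diag then 2 else 1) ≤ finrank F ↥R) :
    ∃ v ∈ R, v ≠ 0 ∧ (∀ j, h v (L j v) = 0) ∧ (diag = true → h v v = 0) := by
  classical
  obtain ⟨σ, hσ⟩ := exists_frobHom hF
  let K : Subfield F :=
    { carrier := {x | σ x = x}
      mul_mem' := fun {x y} hx hy => by simp only [Set.mem_setOf_eq] at *; rw [map_mul, hx, hy]
      one_mem' := map_one σ
      add_mem' := fun {x y} hx hy => by simp only [Set.mem_setOf_eq] at *; rw [map_add, hx, hy]
      zero_mem' := map_zero σ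
      neg_mem' := fun {x} hx => by simp only [Set.mem_setOf_eq] at *; rw [map_neg, hx]
      inv_mem' := fun x hx => by simp only [Set.mem_setOf_eq] at *; rw [map_inv₀, hx] }
  have hKq : ∀ c : ↥K, (c : F) ^ q = (c : F) := fun c => by rw [← hσ]; exact c.2
  have hK2 : 2 ≤ finrank ↥K F := by
    by_contra hlt
    have hpos : 0 < finrank ↥K F := Module.finrank_pos
    obtain ⟨c, hc0, hc⟩ := exists_skew hF
    obtain ⟨w, hw⟩ := exists_normOne_sq_ne_one hF
    have hall : ∀ x : F, x ^ q = x := by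
      intro x
      obtain ⟨v, hv, hgen⟩ := finrank_eq_one_iff'.1 (show finrank ↥K F = 1 by omega)
      obtain ⟨a, ha⟩ := hgen 1
      obtain ⟨b, hb⟩ := hgen x
      have ha0 : (a : F) ≠ 0 := fun e => one_ne_zero (ha.symm.trans (by rw [Subfield.smul_def, e, zero_smul]))
      rw [Subfield.smul_def, smul_eq_mul] at ha hb
      have hxv : x = (b : F) * (a : F)⁻¹ := by
        rw [← hb, eq_mul_inv_iff_mul_eq₀ ha0, mul_assoc, mul_comm v, ha, mul_one]
      rw [hxv, mul_pow, inv_pow, hKq, hKq]
    exact hw.2 (Units.ext (by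
      have h1 := congrArg Units.val hw.1
      rw [Units.val_pow_eq_pow_val, pow_succ, hall] at h1
      rw [Units.val_pow_eq_pow_val, _root_.sq]; exact h1))
  haveI : Module.Finite ↥K V := Module.Finite.trans F V
  let bK := Module.finBasis ↥K F
  obtain ⟨φ₁, hφ₁⟩ := LinearMap.exists_extend_of_notMem (0 : (⊥ : Submodule ↥K F) →ₗ[↥K] ↥K)
    (v := (1 : F)) (by simp) 1
  let mk : (Module.End F V) → (F →ₗ[↥K] ↥K) → LinearMap.BilinForm ↥K V := fun M φ =>
    LinearMap.mk₂ ↥K (fun u w => φ (h u (M w)))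
      (fun x y w => by simp only [H.add, map_add])
      (fun c x w => by
        show φ (h ((c : F) • x) (M w)) = c • φ (h x (M w))
        rw [H.smul, ← map_smul, Subfield.smul_def, smul_eq_mul])
      (fun u x y => by simp only [map_add, H.add_right hF])
      (fun c u w => by
        show φ (h u (M ((c : F) • w))) = c • φ (h u (M w))
        rw [map_smul, H.smul_right, hKq, ← map_smul, Subfield.smul_def, smul_eq_mul])
  let C : (Fin (finrank ↥K F) × ι) ⊕ (if diag then Unit else Empty) → LinearMap.BilinForm ↥K V :=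
    Sum.elim (fun p => mk (L p.2) (bK.coord p.1)) (fun _ => mk 1 φ₁)
  haveI : Fintype (if diag then Unit else Empty) := by split_ifs <;> infer_instance
  have hcard : Fintype.card (if diag then Unit else Empty) = if diag then 1 else 0 := by
    cases diag <;> simp [Fintype.card_eq_zero]
  have hdim : finrank ↥K ↥(R.restrictScalars ↥K) = finrank ↥K F * finrank F ↥R :=
    (Module.finrank_mul_finrank ↥K F ↥R).symm
  obtain ⟨v, hv, hv0, hz⟩ := exists_common_zero C (R.restrictScalars ↥K) (by
    refine lt_of_lt_of_eq ?_ hdim.symm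
    rw [Fintype.card_sum, Fintype.card_prod, Fintype.card_fin, hcard]
    have h2 := Nat.mul_le_mul_left (finrank ↥K F) hd
    rw [Nat.mul_add, ← mul_assoc, mul_comm (finrank ↥K F) 2, mul_assoc] at h2
    cases diag <;> simp at h2 ⊢ <;> omega)
  refine ⟨v, hv, hv0, fun j => ?_, fun hdg => ?_⟩
  · have h1 : bK.repr (h v (L j v)) = 0 := Finsupp.ext fun a => hz (Sum.inl (a, j))
    exact bK.repr.map_eq_zero_iff.1 h1
  · subst hdg
    have h1 : φ₁ (h v v) = 0 := hz (Sum.inr ())
    have hmem : h v v ∈ K := by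
      show σ (h v v) = h v v
      rw [hσ, ← H.conj]
    have h2 : h v v = (⟨h v v, hmem⟩ : ↥K) • (1 : F) := by rw [Subfield.smul_def, smul_eq_mul, mul_one]
    rw [h2, map_smul, hφ₁.2, smul_eq_mul, mul_one] at h1
    exact congrArg Subtype.val h1

/-! ### Steps -/

theorem step_scalar (H : Herm F q h) (hF : Fintype.card F = q ^ 2) {a : F} {R : Submodule F V}
    (hRa : ∀ v ∈ R, A v = a • v) (hd : 2 ≤ finrank F ↥R) :
    ∃ U, U ≤ R ∧ U.map A ≤ U ∧ TI h U ∧ finrank F ↥U = 1 := by
  obtain ⟨v, hv, hv0, -, hvv⟩ := exists_herm_zero H hF (fun j : Empty => j.elim) true R (by simpa using hd)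
  refine ⟨F ∙ v, (Submodule.span_singleton_le_iff_mem _ _).2 hv, ?_, ?_, finrank_span_singleton hv0⟩
  · rw [Submodule.map_span, Set.image_singleton, Submodule.span_singleton_le_iff_mem, hRa v hv]
    exact Submodule.smul_mem _ _ (Submodule.mem_span_singleton_self v)
  · intro x hx y hy
    obtain ⟨c, rfl⟩ := Submodule.mem_span_singleton.1 hx
    obtain ⟨d, rfl⟩ := Submodule.mem_span_singleton.1 hy
    rw [H.smul, H.smul_right, hvv rfl, mul_zero, mul_zero]

omit [Fintype F] [FiniteDimensional F V] in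
theorem key_pow (hA : ∀ u v, h (A u) (A v) = h u v) (u v : V) :
    ∀ a : ℕ, h ((A ^ a) u) ((A ^ a) v) = h u v
  | 0 => by simp
  | a + 1 => by rw [pow_succ', Module.End.mul_apply, Module.End.mul_apply, hA, key_pow hA u v a]

/-- The span of the orbit of an isotropic vector. -/
theorem span_orbit (H : Herm F q h) (hF : Fintype.card F = q ^ 2) (hA : ∀ u v, h (A u) (A v) = h u v)
    {R : Submodule F V} (hRi : R.map A ≤ R) {v : V} (hv : v ∈ R) (hv0 : v ≠ 0)
    (hall : ∀ k, h v ((A ^ k) v) = 0) :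
    ∃ W, W ≤ R ∧ W.map A ≤ W ∧ TI h W ∧ W ≠ ⊥ := by
  set W := Submodule.span F (Set.range fun k : ℕ => (A ^ k) v) with hW
  refine ⟨W, ?_, ?_, ?_, fun e => hv0 (by
    have hm : v ∈ W := Submodule.subset_span ⟨0, by simp⟩
    rwa [e, Submodule.mem_bot] at hm)⟩
  · rw [hW, Submodule.span_le]
    rintro _ ⟨k, rfl⟩
    exact pow_mem hRi hv k
  · rw [hW, Submodule.map_span, Submodule.span_le]
    rintro _ ⟨_, ⟨k, rfl⟩, rfl⟩
    exact Submodule.subset_span ⟨k + 1, by simp only; rw [pow_succ', Module.End.mul_apply]⟩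
  · have hgen : ∀ a b : ℕ, h ((A ^ a) v) ((A ^ b) v) = 0 := by
      intro a b
      rcases le_total a b with hle | hle
      · rw [← Nat.add_sub_cancel' hle, pow_add, Module.End.mul_apply, key_pow hA]; exact hall _
      · refine H.zero_comm hF ?_
        rw [← Nat.add_sub_cancel' hle, pow_add, Module.End.mul_apply, key_pow hA]; exact hall _
    intro x hx y hy
    induction hx using Submodule.span_induction with
    | mem x hx =>
      obtain ⟨a, rfl⟩ := hx
      induction hy using Submodule.span_induction with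
      | mem y hy => obtain ⟨b, rfl⟩ := hy; exact hgen a b
      | zero => exact H.zero_right hF _
      | add y z _ _ h1 h2 => rw [H.add_right hF, h1, h2, add_zero]
      | smul c y _ h1 => rw [H.smul_right, h1, mul_zero]
    | zero => exact H.zero_left _
    | add x z _ _ h1 h2 => rw [H.add, h1, h2, add_zero]
    | smul c x _ h1 => rw [H.smul, h1, mul_zero]

/-- Half of the equations suffice. -/
theorem all_zero (H : Herm F q h) (hF : Fintype.card F = q ^ 2) (hA : ∀ u v, h (A u) (A v) = h u v)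
    {r m : ℕ} (hrm : r = 2 * m + 1) {z : F} (hAr : A ^ r = z • 1) {v : V} (h0 : h v v = 0)
    (hsmall : ∀ j : Fin m, h v ((A ^ ((j : ℕ) + 1)) v) = 0) (k : ℕ) : h v ((A ^ k) v) = 0 := by
  have hlt : ∀ k < r, h v ((A ^ k) v) = 0 := by
    intro k hk
    rcases Nat.eq_zero_or_pos k with e | e
    · simpa [e] using h0
    rcases Nat.lt_or_ge m k with h1 | h1
    · have h2 := hsmall ⟨r - k - 1, by omega⟩
      rw [show ((⟨r - k - 1, by omega⟩ : Fin m) : ℕ) + 1 = r - k by simp; omega] at h2
      have h3 := key_pow hA v ((A ^ (r - k)) v) k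
      rw [← Module.End.mul_apply, ← pow_add, show k + (r - k) = r by omega, hAr, h2,
        LinearMap.smul_apply, Module.End.one_apply, H.smul_right, mul_eq_zero] at h3
      rcases h3 with h3 | h3
      · have hz := eq_zero_of_pow_eq_zero h3
        have h4 := key_pow hA v ((A ^ k) v) r
        rw [hAr, hz, zero_smul, LinearMap.zero_apply, H.zero_left] at h4
        exact h4.symm
      · exact H.zero_comm hF h3
    · have h3 := hsmall ⟨k - 1, by omega⟩
      rwa [show ((⟨k - 1, by omega⟩ : Fin m) : ℕ) + 1 = k by simp; omega] at h3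
  rw [← Nat.mod_add_div k r, pow_add, pow_mul, hAr, _root_.smul_pow, one_pow, Module.End.mul_apply,
    LinearMap.smul_apply, Module.End.one_apply, map_smul, H.smul_right, hlt _ (Nat.mod_lt _ (by omega)),
    mul_zero]

section Order

variable {r : ℕ} [Fact r.Prime]

/-- A non-degenerate invariant subspace without fixed vectors is not too small. -/
theorem le_of_nd (H : Herm F q h) (hF : Fintype.card F = q ^ 2) (hA : ∀ u v, h (A u) (A v) = h u v)
    (hr : (r : F) ≠ 0) (hAr : A ^ r = 1) {W : Submodule F V} (hW : W ≤ LinearMap.range (A - 1))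
    (hWi : W.map A ≤ W) (hne : W ≠ ⊥) (hnd : ND h W) : orderOf (-(q : ZMod r)) ≤ finrank F ↥W := by
  classical
  have hrp : r.Prime := Fact.out
  set d := finrank F ↥W with hd
  obtain ⟨e, heW, he⟩ := AutPSU52Lang.exists_orthonormal hF h H.add H.smul H.conj d W rfl hnd
  let J : (Fin d → F) →ₗ[F] V := ∑ i, (LinearMap.proj i).smulRight (e i)
  have hJ : ∀ x, J x = ∑ i, x i • e i := fun x => by simp [J, LinearMap.sum_apply]
  have hJe : ∀ x i, h (e i) (J x) = x i ^ q := fun x i => by
    rw [hJ, H.sum_right hF, Finset.sum_eq_single i (fun j _ hj => by rw [H.smul_right, he, if_neg (Ne.symm hj), mul_zero])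
      (by simp), H.smul_right, he, if_pos rfl, mul_one]
  have hJb : ∀ x y, h (J x) (J y) = Cfsg.hermForm d F q x y := fun x y => by
    have key : ∀ s : Finset (Fin d), h (∑ i ∈ s, x i • e i) (J y) = ∑ i ∈ s, x i * y i ^ q := by
      intro s
      induction s using Finset.induction_on with
      | empty => simp [H.zero_left]
      | insert a s ha ih => rw [Finset.sum_insert ha, Finset.sum_insert ha, H.add, H.smul, hJe, ih]
    rw [hJ x, key]
    rfl
  have hJinj : Function.Injective J := by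
    rw [← LinearMap.ker_eq_bot, Submodule.eq_bot_iff]
    intro x hx
    funext i
    exact eq_zero_of_pow_eq_zero (by rw [← hJe, LinearMap.mem_ker.1 hx, H.zero_right hF])
  have hJW : LinearMap.range J = W := Submodule.eq_of_le_of_finrank_eq (by
      rintro _ ⟨x, rfl⟩
      rw [hJ]
      exact W.sum_mem fun i _ => W.smul_mem _ (heW i))
    (by rw [LinearMap.finrank_range_of_inj hJinj, Module.finrank_fin_fun])
  have hgT : ∀ x, A (J x) ∈ LinearMap.range J := by
    intro x
    rw [hJW]
    exact map_le_iff'.1 hWi _ (show J x ∈ W by rw [← hJW]; exact ⟨x, rfl⟩)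
  choose f hf using hgT
  let g : Module.End F (Fin d → F) :=
    { toFun := f
      map_add' := fun x y => hJinj (by simp only [map_add, hf])
      map_smul' := fun c x => hJinj (by simp only [map_smul, RingHom.id_apply, hf]) }
  have hpow : ∀ (i : ℕ) x, J ((g ^ i) x) = (A ^ i) (J x) := by
    intro i
    induction i with
    | zero => intro x; rfl
    | succ i ih =>
      intro x
      rw [pow_succ', Module.End.mul_apply, show J (g ((g ^ i) x)) = A (J ((g ^ i) x)) from hf _, ih,
        pow_succ', Module.End.mul_apply]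
  have hgr : g ^ r = 1 := LinearMap.ext fun x => hJinj (by rw [hpow, hAr]; rfl)
  have hg1 : g ≠ 1 := fun e1 => hne (by
    rw [eq_bot_iff]
    intro w hw
    obtain ⟨x, rfl⟩ := (show w ∈ LinearMap.range J by rw [hJW]; exact hw)
    have hfix : A (J x) = J x := by
      rw [← hf x, show f x = g x from rfl, e1]; rfl
    have hk : J x ∈ LinearMap.ker (A - 1) := by
      rw [LinearMap.mem_ker, LinearMap.sub_apply, Module.End.one_apply, hfix, sub_self]
    exact (Submodule.disjoint_def.1 (disjoint_ker_range hr hAr) _ hk (hW hw)).symm ▸ Submodule.zero_mem _)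
  have hU : IsU q (LinearMap.toMatrix' g) := fun u v => by
    rw [LinearMap.toMatrix'_mulVec, LinearMap.toMatrix'_mulVec, ← hJb, ← hJb,
      show J (g u) = A (J u) from hf u, show J (g v) = A (J v) from hf v, hA]
  set G : GU d F q := mkGU hF _ hU with hG
  have hord : orderOf G = r := by
    refine orderOf_eq_prime ?_ ?_
    · apply Subtype.ext
      apply Units.ext
      rw [SubmonoidClass.coe_pow, Units.val_pow_eq_pow_val, hG, mkGU_coe hF]
      apply Matrix.toLin'.injective
      rw [Matrix.toLin'_pow, Matrix.toLin'_toMatrix', hgr, OneMemClass.coe_one, Units.val_one,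
        Matrix.toLin'_one]
      rfl
    · intro e1
      apply hg1
      have h1 := congrArg (fun x : GU d F q => ((x : Matrix.GeneralLinearGroup (Fin d) F) : Matrix (Fin d) (Fin d) F)) e1
      simp only [hG, mkGU_coe hF, OneMemClass.coe_one, Units.val_one] at h1
      have h2 := congrArg Matrix.toLin' h1
      rw [Matrix.toLin'_toMatrix', Matrix.toLin'_one] at h2
      exact h2
  have hdvd : r ∣ Nat.card (GU d F q) := hord ▸ orderOf_dvd_natCard G
  have hrq : ¬ r ∣ q := fun hd' => natCast_card_ne_zero (r := r) hr ((ZMod.natCast_eq_zero_iff _ _).2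
    (by rw [hF]; exact dvd_trans hd' (dvd_pow_self _ two_ne_zero)))
  rw [card_GU hF] at hdvd
  rcases hrp.dvd_mul.1 hdvd with h1 | h1
  · exact absurd (hrp.dvd_of_dvd_pow h1) hrq
  rw [hrp.prime.dvd_finsetProd_iff] at h1
  obtain ⟨j, hj, hjd⟩ := h1
  have hone : (-(q : ZMod r)) ^ (j + 1) = 1 := by
    rw [← ZMod.natCast_eq_zero_iff] at hjd
    split_ifs at hjd with he
    · rw [Nat.cast_add, Nat.cast_pow, Nat.cast_one, add_eq_zero_iff_eq_neg] at hjd
      rw [neg_pow, hjd, (Even.add_one he).neg_one_pow, neg_one_mul, neg_neg]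
    · rw [Nat.cast_sub (Nat.one_le_pow _ _ (by have := two_le_q hF; omega)), Nat.cast_pow, Nat.cast_one,
        sub_eq_zero] at hjd
      rw [neg_pow, hjd, ((Nat.not_even_iff_odd.1 he).add_one).neg_one_pow, one_mul]
  exact (Nat.le_of_dvd (by omega) (orderOf_dvd_of_pow_eq_one hone)).trans (Finset.mem_range.1 hj)

/-- The step when self-paired blocks are too large to fit. -/
theorem step_paired (H : Herm F q h) (hF : Fintype.card F = q ^ 2) (hA : ∀ u v, h (A u) (A v) = h u v)
    (hr : (r : F) ≠ 0) (hAr : A ^ r = 1) (hAi : Function.Injective A)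
    (hc : orderOf (Fintype.card F : ZMod r) < orderOf (-(q : ZMod r)))
    {R : Submodule F V} (hRT : R ≤ LinearMap.range (A - 1)) (hRi : R.map A ≤ R) (hd : R ≠ ⊥) :
    ∃ U, U ≤ R ∧ U.map A ≤ U ∧ TI h U ∧ finrank F ↥U = orderOf (Fintype.card F : ZMod r) := by
  obtain ⟨U, hU, hUi, hUd⟩ := exists_simple hr hAr hRT hRi hd
  refine ⟨U, hU, hUi, fun u hu v hv => ?_, hUd⟩
  by_cases hbot : U ⊓ orth H U = ⊥
  · exfalso
    have hnd : ND h U := fun u hu h0 => by
      have : u ∈ U ⊓ orth H U := ⟨hu, h0⟩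
      rwa [hbot, Submodule.mem_bot] at this
    have hne : U ≠ ⊥ := fun e => by
      rw [e, finrank_bot] at hUd
      have := orderOf_card_pos (F := F) (r := r) hr
      omega
    have := le_of_nd H hF hA hr hAr (hU.trans hRT) hUi hne hnd
    omega
  · have hdvd := dvd_finrank_of_le_range hr hAr
      (le_inf ((Submodule.map_mono inf_le_left).trans hUi)
        ((Submodule.map_mono inf_le_right).trans (orth_invariant H hA hAi hUi)))
      ((inf_le_left : U ⊓ orth H U ≤ U).trans (hU.trans hRT))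
    have hpos : 0 < finrank F ↥(U ⊓ orth H U : Submodule F V) :=
      Nat.pos_of_ne_zero fun e => hbot (Submodule.finrank_eq_zero.1 e)
    have heq : U ⊓ orth H U = U := Submodule.eq_of_le_of_finrank_le inf_le_left
      (by rw [hUd]; exact Nat.le_of_dvd hpos hdvd)
    rw [← heq] at hu
    exact hu.2 v hv

theorem step_many (H : Herm F q h) (hF : Fintype.card F = q ^ 2) (hA : ∀ u v, h (A u) (A v) = h u v)
    (hr : (r : F) ≠ 0) (hr2 : r ≠ 2) (hAr : A ^ r = 1) {R : Submodule F V}
    (hRT : R ≤ LinearMap.range (A - 1)) (hRi : R.map A ≤ R) (hd : r ≤ finrank F ↥R) :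
    ∃ U, U ≤ R ∧ U.map A ≤ U ∧ TI h U ∧ finrank F ↥U = orderOf (Fintype.card F : ZMod r) := by
  have hrp : r.Prime := Fact.out
  obtain ⟨m, hm⟩ := hrp.odd_of_ne_two hr2
  obtain ⟨v, hv, hv0, hz, -⟩ := exists_herm_zero H hF (fun j : Fin m => A ^ ((j : ℕ) + 1)) false R
    (by rw [Fintype.card_fin]; simp; omega)
  have hsum : (∑ k ∈ Finset.range r, (A ^ k)) v = 0 := by
    obtain ⟨u, rfl⟩ := hRT hv
    rw [← Module.End.mul_apply, geom_sum_mul, hAr, sub_self, LinearMap.zero_apply]
  have hpos : ∀ k < r, 0 < k → h v ((A ^ k) v) = 0 := by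
    intro k hk hk0
    rcases Nat.lt_or_ge m k with h1 | h1
    · have h2 := hz ⟨r - k - 1, by omega⟩
      rw [show ((⟨r - k - 1, by omega⟩ : Fin m) : ℕ) + 1 = r - k by simp; omega] at h2
      have h3 := key_pow hA v ((A ^ (r - k)) v) k
      rw [← Module.End.mul_apply, ← pow_add, show k + (r - k) = r by omega, hAr, h2,
        Module.End.one_apply] at h3
      exact H.zero_comm hF h3
    · have h3 := hz ⟨k - 1, by omega⟩
      rwa [show ((⟨k - 1, by omega⟩ : Fin m) : ℕ) + 1 = k by simp; omega] at h3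
  have h0 : h v v = 0 := by
    have h1 : h v ((∑ k ∈ Finset.range r, (A ^ k)) v) = h v v := by
      rw [LinearMap.sum_apply, H.sum_right hF, Finset.sum_eq_single 0]
      · simp
      · intro k hk hk0; exact hpos k (Finset.mem_range.1 hk) (Nat.pos_of_ne_zero hk0)
      · intro hk; exact absurd (Finset.mem_range.2 hrp.pos) hk
    rw [← h1, hsum, H.zero_right hF]
  obtain ⟨W, hWR, hWi, hWT, hne⟩ := span_orbit H hF hA hRi hv hv0
    (all_zero H hF hA hm (z := 1) (by rw [hAr, one_smul]) h0 hz)
  obtain ⟨U, hU, hUi, hUd⟩ := exists_simple hr hAr (hWR.trans hRT) hWi hne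
  exact ⟨U, hU.trans hWR, hUi, fun a ha b hb => hWT a (hU ha) b (hU hb), hUd⟩

/-- The step for a scalar that is not an `r`-th power. -/
theorem step_nonpower (H : Herm F q h) (hF : Fintype.card F = q ^ 2) (hA : ∀ u v, h (A u) (A v) = h u v)
    (hr2 : r ≠ 2) {z : F} (hz0 : z ≠ 0) (hAr : A ^ r = z • 1) (hnp : ∀ b : F, b ^ r ≠ z)
    {R : Submodule F V} (hRi : R.map A ≤ R) (hd : r + 1 ≤ finrank F ↥R) :
    ∃ U, U ≤ R ∧ U.map A ≤ U ∧ TI h U ∧ finrank F ↥U = r := by
  have hrp : r.Prime := Fact.out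
  obtain ⟨m, hm⟩ := hrp.odd_of_ne_two hr2
  obtain ⟨v, hv, hv0, hz, hvv⟩ := exists_herm_zero H hF (fun j : Fin m => A ^ ((j : ℕ) + 1)) true R
    (by rw [Fintype.card_fin]; simp; omega)
  obtain ⟨W, hWR, hWi, hWT, hne⟩ := span_orbit H hF hA hRi hv hv0 (all_zero H hF hA hm hAr (hvv rfl) hz)
  obtain ⟨U, -, hU, hUi, hUd⟩ := exists_step A (P := (X ^ r - Polynomial.C z : F[X]))
    (by simp [hAr, Algebra.algebraMap_eq_smul_one]) (monic_X_pow_sub_C z hrp.ne_zero).ne_zero (c := r)
    (fun g hg hgd => (natDegree_le_of_dvd hgd (monic_X_pow_sub_C z hrp.ne_zero).ne_zero).trans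
      (natDegree_X_pow_sub_C).le) W hWi
    (fun W' _ h' => dvd_finrank_of_pow_smul hrp hz0 hAr hnp h') ⊥ bot_le (by simp) (Ne.symm hne)
  exact ⟨U, hU.trans hWR, hUi, fun a ha b hb => hWT a (hU ha) b (hU hb), by rw [hUd, finrank_bot, zero_add]⟩

end Order

end Cfsg.Agent.UnitaryIsoInvariant84
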