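import Mathlib
import Cfsg.Agent.Lib.UnitaryIsoInvariant84

/-!
Block diagonal elements of `SU_n(q)` of prime order.
-/

set_option autoImplicit false

namespace Cfsg.Agent.UnitaryBlocks84

open Module Polynomial Cfsg.Agent.OrthUnitaryHerm Cfsg.Agent.PrimeOrderModule84 UnitaryIsoInvariant84
open scoped Matrix

variable {F : Type*} [Field F] {n q : ℕ}

/-- Vectors supported on a set of coordinates. -/
def supp (F : Type*) [Field F] {n : ℕ} (S : Set (Fin n)) : Submodule F (Fin n → F) where
  carrier := {v | ∀ i, i ∉ S → v i = 0}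
  add_mem' {x y} hx hy i hi := by rw [Pi.add_apply, hx i hi, hy i hi, add_zero]
  zero_mem' i _ := rfl
  smul_mem' c x hx i hi := by rw [Pi.smul_apply, hx i hi, smul_zero]

theorem finrank_supp_le (S : Finset (Fin n)) : finrank F ↥(supp F (S : Set (Fin n))) ≤ S.card := by
  let ψ : ↥(supp F (S : Set (Fin n))) →ₗ[F] (↥S → F) :=
    (LinearMap.funLeft F F (fun i : ↥S => (i : Fin n))).comp (supp F (S : Set (Fin n))).subtype
  have hψ : Function.Injective ψ := fun x y hxy => Subtype.ext (funext fun i => by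
    by_cases hi : i ∈ S
    · exact congrFun hxy ⟨i, hi⟩
    · rw [x.2 i (by simpa using hi), y.2 i (by simpa using hi)])
  have := LinearMap.finrank_le_finrank_of_injective hψ
  rwa [Module.finrank_fintype_fun_eq_card, Fintype.card_coe] at this

section Finite

variable [Fintype F]

theorem herm_hermForm (hF : Fintype.card F = q ^ 2) :
    Herm F q (Cfsg.hermForm n F q) :=
  ⟨herm_add_left, herm_smul_left, fun u v => herm_conj hF u v⟩

theorem nd_supp (hF : Fintype.card F = q ^ 2) (S : Set (Fin n)) : ND (Cfsg.hermForm n F q) (supp F S) := by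
  intro u hu h0
  funext i
  by_cases hi : i ∈ S
  · have := h0 (Pi.single i 1) (fun j hj => Pi.single_eq_of_ne (fun e : j = i => hj (by rw [e]; exact hi)) 1)
    rwa [herm_single_right hF] at this
  · exact hu i hi

theorem nd_top (hF : Fintype.card F = q ^ 2) : ND (Cfsg.hermForm n F q) (⊤ : Submodule F (Fin n → F)) :=
  fun _ _ h0 => eq_zero_of_herm_eq_zero hF fun x => h0 x trivial

/-- A bound from an invariant coordinate set. -/
theorem two_mul_card_le (hF : Fintype.card F = q ^ 2) {W : Submodule F (Fin n → F)}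
    (hT : TI (Cfsg.hermForm n F q) W) {S : Finset (Fin n)} (hW : ∀ v ∈ W, ∀ i, i ∉ S → v i = 0) :
    2 * finrank F ↥W ≤ S.card :=
  (two_mul_le (herm_hermForm hF) hF (nd_supp hF (S : Set (Fin n)))
    (fun v hv i hi => hW v hv i (by simpa using hi)) hT).trans (finrank_supp_le S)

/-- An isotropic vector has more than one non-zero coordinate. -/
theorem coord_eq_zero (hF : Fintype.card F = q ^ 2) {v : Fin n → F} (h : Cfsg.hermForm n F q v v = 0)
    {i : Fin n} (hv : ∀ j, j ≠ i → v j = 0) : v i = 0 := by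
  rw [Cfsg.hermForm, Finset.sum_eq_single i (fun j _ hj => by rw [hv j hj, zero_mul]) (by simp)] at h
  rcases mul_eq_zero.1 h with h | h
  · exact h
  · exact eq_zero_of_pow_eq_zero h

/-- Diagonal elements of `SU`. -/
theorem exists_diag (hF : Fintype.card F = q ^ 2) (d : Fin n → F) (hd : ∀ i, d i ^ (q + 1) = 1)
    (hdet : ∏ i, d i = 1) :
    ∃ x : Matrix.SpecialLinearGroup (Fin n) F, x ∈ Cfsg.SU n F q ∧
      (x : Matrix (Fin n) (Fin n) F) = Matrix.diagonal d := by
  refine ⟨⟨Matrix.diagonal d, by rw [Matrix.det_diagonal, hdet]⟩, ?_, rfl⟩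
  intro u v
  show Cfsg.hermForm n F q (Matrix.diagonal d *ᵥ u) (Matrix.diagonal d *ᵥ v) = _
  simp only [Cfsg.hermForm, Matrix.mulVec_diagonal, mul_pow]
  refine Finset.sum_congr rfl fun i _ => ?_
  have := hd i
  rw [pow_succ'] at this
  linear_combination (u i * v i ^ q) * this

end Finite

/-- The coordinates of the `a`-th block. -/
def blockVec {A c k : ℕ} (e : (Fin c × Fin A) ⊕ Fin k ≃ Fin n) (v : Fin n → F) (a : Fin A) : Fin c → F :=
  fun j => v (e (Sum.inl (j, a)))

/-- A map acting blockwise. -/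
structure IsBlocks {A c k : ℕ} (e : (Fin c × Fin A) ⊕ Fin k ≃ Fin n) (T : Module.End F (Fin n → F))
    (g : Fin A → Module.End F (Fin c → F)) : Prop where
  block : ∀ v a, blockVec e (T v) a = g a (blockVec e v a)
  fixed : ∀ v j, T v (e (Sum.inr j)) = v (e (Sum.inr j))

theorem IsBlocks.aeval {A c k : ℕ} {e : (Fin c × Fin A) ⊕ Fin k ≃ Fin n} {T : Module.End F (Fin n → F)}
    {g : Fin A → Module.End F (Fin c → F)} (hT : IsBlocks e T g) (P : F[X]) :
    ∀ v, (∀ a, blockVec e (Polynomial.aeval T P v) a = Polynomial.aeval (g a) P (blockVec e v a)) ∧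
      ∀ j, Polynomial.aeval T P v (e (Sum.inr j)) = P.eval 1 * v (e (Sum.inr j)) := by
  induction P using Polynomial.induction_on with
  | C a =>
    intro v
    refine ⟨fun b => ?_, fun j => ?_⟩
    · rw [aeval_C, aeval_C, Module.algebraMap_end_apply, Module.algebraMap_end_apply]
      rfl
    · rw [aeval_C, Module.algebraMap_end_apply, eval_C]
      rfl
  | add p p' hp hp' =>
    intro v
    refine ⟨fun b => ?_, fun j => ?_⟩
    · rw [map_add, map_add, LinearMap.add_apply, LinearMap.add_apply, ← (hp v).1 b, ← (hp' v).1 b]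
      rfl
    · rw [map_add, LinearMap.add_apply, Pi.add_apply, (hp v).2 j, (hp' v).2 j, eval_add, add_mul]
  | monomial m a ih =>
    intro v
    refine ⟨fun b => ?_, fun j => ?_⟩
    · rw [pow_succ, ← mul_assoc]
      simp only [map_mul, aeval_X, Module.End.mul_apply]
      have := (ih (T v)).1 b
      simp only [map_mul, Module.End.mul_apply] at this
      rw [this, hT.block]
    · rw [pow_succ, ← mul_assoc]
      simp only [map_mul, aeval_X, Module.End.mul_apply]
      have := (ih (T v)).2 j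
      simp only [map_mul, Module.End.mul_apply] at this
      rw [this, hT.fixed]
      simp [eval_mul]

theorem ext_blocks {A c k : ℕ} (e : (Fin c × Fin A) ⊕ Fin k ≃ Fin n) {u v : Fin n → F}
    (hb : ∀ a, blockVec e u a = blockVec e v a) (hf : ∀ j, u (e (Sum.inr j)) = v (e (Sum.inr j))) : u = v := by
  funext i
  obtain ⟨x, rfl⟩ := e.surjective i
  rcases x with ⟨j, a⟩ | j
  · exact congrFun (hb a) j
  · exact hf j

variable [Fintype F]

/-- Block diagonal elements of `SU`. -/
theorem exists_blocks {A c k : ℕ} (e : (Fin c × Fin A) ⊕ Fin k ≃ Fin n)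
    (g : Fin A → Matrix (Fin c) (Fin c) F) (hg : ∀ a, IsU q (g a)) (hdet : ∀ a, (g a).det = 1) :
    ∃ x : Matrix.SpecialLinearGroup (Fin n) F, x ∈ Cfsg.SU n F q ∧
      IsBlocks e (Matrix.toLin' (x : Matrix (Fin n) (Fin n) F)) (fun a => Matrix.toLin' (g a)) := by
  classical
  set M : Matrix (Fin n) (Fin n) F :=
    Matrix.reindex e e (Matrix.fromBlocks (Matrix.blockDiagonal g) 0 0 1) with hM
  have hinl : ∀ v j a, (M *ᵥ v) (e (Sum.inl (j, a))) = (g a *ᵥ blockVec e v a) j := by
    intro v j a
    simp only [hM, Matrix.mulVec, dotProduct, Matrix.reindex_apply, Matrix.submatrix_apply,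
      Equiv.symm_apply_apply, blockVec]
    rw [← e.sum_comp, Fintype.sum_sum_type, Fintype.sum_prod_type]
    simp [Matrix.blockDiagonal_apply]
  have hinr : ∀ v j, (M *ᵥ v) (e (Sum.inr j)) = v (e (Sum.inr j)) := by
    intro v j
    simp only [hM, Matrix.mulVec, dotProduct, Matrix.reindex_apply, Matrix.submatrix_apply,
      Equiv.symm_apply_apply]
    rw [← e.sum_comp, Fintype.sum_sum_type]
    simp [Matrix.one_apply]
  have hsum : ∀ u v : Fin n → F, Cfsg.hermForm n F q u v =
      (∑ a, Cfsg.hermForm c F q (blockVec e u a) (blockVec e v a)) +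
        ∑ j, u (e (Sum.inr j)) * v (e (Sum.inr j)) ^ q := by
    intro u v
    simp only [Cfsg.hermForm, blockVec]
    rw [← e.sum_comp, Fintype.sum_sum_type, Fintype.sum_prod_type, Finset.sum_comm]
  refine ⟨⟨M, ?_⟩, ?_, ⟨fun v a => funext fun j => ?_, fun v j => ?_⟩⟩
  · rw [hM, Matrix.det_reindex_self, Matrix.det_fromBlocks_zero₂₁, Matrix.det_blockDiagonal, Matrix.det_one,
      mul_one]
    simp [hdet]
  · intro u v
    show Cfsg.hermForm n F q (M *ᵥ u) (M *ᵥ v) = _
    rw [hsum, hsum u v]
    congr 1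
    · refine Finset.sum_congr rfl fun a _ => ?_
      rw [show blockVec e (M *ᵥ u) a = g a *ᵥ blockVec e u a from funext fun j => hinl u j a,
        show blockVec e (M *ᵥ v) a = g a *ᵥ blockVec e v a from funext fun j => hinl v j a, hg a]
    · simp only [hinr]
  · show Matrix.toLin' M v (e (Sum.inl (j, a))) = _
    rw [Matrix.toLin'_apply, Matrix.toLin'_apply, hinl]
  · show Matrix.toLin' M v (e (Sum.inr j)) = _
    rw [Matrix.toLin'_apply, hinr]

variable {r : ℕ} [Fact r.Prime]

/-- An element of `GU` of order `r` without fixed vectors in the smallest possible dimension. -/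
theorem exists_fpf (hF : Fintype.card F = q ^ 2) (hr : (r : F) ≠ 0) {c : ℕ}
    (hc : c = orderOf (-(q : ZMod r))) :
    ∃ g : Matrix (Fin c) (Fin c) F, IsU q g ∧ g ^ r = 1 ∧ g ≠ 1 ∧
      ∀ i : ℕ, ¬ r ∣ i → ∀ v, (g ^ i) *ᵥ v = v → v = 0 := by
  classical
  have hrp : r.Prime := Fact.out
  have hq := two_le_q hF
  have hq0 : (q : ZMod r) ≠ 0 := fun e => natCast_card_ne_zero (r := r) hr
    (by rw [hF, Nat.cast_pow, e, zero_pow two_ne_zero])
  have hpow : (-(q : ZMod r)) ^ c = 1 := hc ▸ pow_orderOf_eq_one _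
  have hcpos : 0 < c := by
    rw [hc, show (-(q : ZMod r)) = ((Units.mk0 _ (neg_ne_zero.2 hq0) : (ZMod r)ˣ) : ZMod r) from rfl,
      orderOf_units]
    exact orderOf_pos _
  have hdvd : r ∣ Nat.card (GU c F q) := by
    rw [card_GU hF]
    refine dvd_mul_of_dvd_right (dvd_trans ?_ (Finset.dvd_prod_of_mem _
      (Finset.mem_range.2 (show c - 1 < c by omega)))) _
    rw [← ZMod.natCast_eq_zero_iff, Nat.sub_add_cancel hcpos]
    split_ifs with he
    · have hco : Odd c := by
        have := he.add_one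
        rwa [show c - 1 + 1 = c by omega] at this
      rw [Nat.cast_add, Nat.cast_pow, Nat.cast_one]
      rw [hco.neg_pow] at hpow
      linear_combination -hpow
    · have hce : Even c := by
        have := (Nat.not_even_iff_odd.1 he).add_one
        rwa [show c - 1 + 1 = c by omega] at this
      rw [Nat.cast_sub (Nat.one_le_pow _ _ (by omega)), Nat.cast_pow, Nat.cast_one]
      rw [hce.neg_pow] at hpow
      linear_combination hpow
  obtain ⟨G, hG⟩ := exists_prime_orderOf_dvd_card' r hdvd
  set g : Matrix (Fin c) (Fin c) F := ((G : Matrix.GeneralLinearGroup (Fin c) F) : Matrix (Fin c) (Fin c) F)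
  have hval : ∀ i : ℕ, (((G ^ i : GU c F q) : Matrix.GeneralLinearGroup (Fin c) F) :
      Matrix (Fin c) (Fin c) F) = g ^ i := fun i => by
    rw [SubmonoidClass.coe_pow, Units.val_pow_eq_pow_val]
  have hgr : g ^ r = 1 := by
    rw [← hval, ← hG, pow_orderOf_eq_one, OneMemClass.coe_one, Units.val_one]
  have hg1 : g ≠ 1 := fun e => hrp.ne_one (by
    rw [← hG, orderOf_eq_one_iff]
    exact Subtype.ext (Units.ext (by rw [OneMemClass.coe_one, Units.val_one]; exact e)))
  refine ⟨g, isU_of_mem G, hgr, hg1, ?_⟩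
  set T : Module.End F (Fin c → F) := Matrix.toLin' g
  have hTr : T ^ r = 1 := by rw [← Matrix.toLin'_pow, hgr, Matrix.toLin'_one]; rfl
  have hA : ∀ u v, Cfsg.hermForm c F q (T u) (T v) = Cfsg.hermForm c F q u v := fun u v => by
    rw [Matrix.toLin'_apply, Matrix.toLin'_apply]; exact isU_of_mem G u v
  have hTi : ∀ v, T ((T ^ (r - 1)) v) = v := fun v => by
    rw [← Module.End.mul_apply, ← pow_succ', Nat.sub_add_cancel hrp.one_le, hTr]; rfl
  have hT1 : LinearMap.range (T - 1) ≠ ⊥ := fun e => hg1 (by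
    rw [LinearMap.range_eq_bot, sub_eq_zero] at e
    apply Matrix.toLin'.injective
    rw [Matrix.toLin'_one]
    exact e)
  have hnd : ND (Cfsg.hermForm c F q) (LinearMap.range (T - 1)) := by
    intro u hu h0
    refine eq_zero_of_herm_eq_zero hF fun x => ?_
    obtain ⟨y, hy, t, ht, rfl⟩ := Submodule.mem_sup.1
      (show x ∈ LinearMap.ker (T - 1) ⊔ LinearMap.range (T - 1) by
        rw [(isCompl_ker_range hr hTr).sup_eq_top]; exact Submodule.mem_top)
    obtain ⟨w, rfl⟩ := hu
    rw [LinearMap.mem_ker, LinearMap.sub_apply, Module.End.one_apply, sub_eq_zero] at hy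
    have hk : Cfsg.hermForm c F q ((T - 1) w) y = 0 := by
      rw [LinearMap.sub_apply, Module.End.one_apply, herm_sub_left]
      nth_rw 1 [← hy]
      rw [hA, sub_self]
    rw [herm_add_right hF, hk, h0 t ht, add_zero]
  have hle := le_of_nd (herm_hermForm hF) hF hA hr hTr le_rfl (range_inv T) hT1 hnd
  have hk0 : LinearMap.ker (T - 1) = ⊥ := by
    have h1 := LinearMap.finrank_range_add_finrank_ker (T - 1)
    rw [Module.finrank_fin_fun] at h1
    rw [← hc] at hle
    exact Submodule.finrank_eq_zero.1 (by omega)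
  intro i hi v hv
  obtain ⟨a, -, ha⟩ := Nat.exists_mul_mod_eq_one_of_coprime
    ((hrp.coprime_iff_not_dvd.2 hi).symm) hrp.one_lt
  have hfix : ∀ t : ℕ, (g ^ (i * t)) *ᵥ v = v := by
    intro t
    induction t with
    | zero => simp
    | succ t ih => rw [Nat.mul_succ, pow_add, ← Matrix.mulVec_mulVec, hv, ih]
  have h1 := hfix a
  rw [← Nat.mod_add_div (i * a) r, ha, pow_add, pow_one, pow_mul, hgr, one_pow, mul_one] at h1
  have : v ∈ LinearMap.ker (T - 1) := by
    rw [LinearMap.mem_ker, LinearMap.sub_apply, Module.End.one_apply, Matrix.toLin'_apply, h1, sub_self]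
  rwa [hk0, Submodule.mem_bot] at this

/-- Powers of an irreducible element are separated by polynomials. -/
theorem exists_separating {c : ℕ} {Q : ℕ} (hQ : Fintype.card F = Q) (hr : (r : F) ≠ 0)
    (hc : c = orderOf (Q : ZMod r)) {g : Module.End F (Fin c → F)} (hg : g ^ r = 1)
    (hfix : ∀ v, g v = v → v = 0) (j j' : ℕ)
    (hne : ∀ u : ℕ, (j' : ZMod r) ≠ (j : ZMod r) * (Q : ZMod r) ^ u) :
    ∃ P : F[X], Polynomial.aeval (g ^ j) P = 0 ∧ ∀ v, Polynomial.aeval (g ^ j') P v = 0 → v = 0 := by
  classical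
  have hrp : r.Prime := Fact.out
  subst hQ
  have hcpos : 0 < c := hc ▸ orderOf_card_pos hr
  have hker0 : LinearMap.ker (g - 1) = ⊥ := by
    rw [eq_bot_iff]
    intro v hv
    rw [LinearMap.mem_ker, LinearMap.sub_apply, Module.End.one_apply, sub_eq_zero] at hv
    rw [Submodule.mem_bot]; exact hfix v hv
  have hrange : LinearMap.range (g - 1) = ⊤ := by
    apply Submodule.eq_top_of_finrank_eq
    have h1 := LinearMap.finrank_range_add_finrank_ker (g - 1)
    rw [hker0, finrank_bot] at h1
    omega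
  have hall : ∀ P : F[X], LinearMap.ker (Polynomial.aeval g P) ≠ ⊥ → Polynomial.aeval g P = 0 := by
    intro P hP
    have hinv : (LinearMap.ker (Polynomial.aeval g P)).map g ≤ LinearMap.ker (Polynomial.aeval g P) := by
      rintro _ ⟨v, hv, rfl⟩
      rw [SetLike.mem_coe, LinearMap.mem_ker] at hv
      rw [LinearMap.mem_ker]
      have hcomm : Polynomial.aeval g P * Polynomial.aeval g (X : F[X]) =
          Polynomial.aeval g (X : F[X]) * Polynomial.aeval g P := by
        rw [← map_mul, ← map_mul, mul_comm]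
      have h2 := LinearMap.congr_fun hcomm v
      rw [aeval_X, Module.End.mul_apply, Module.End.mul_apply, hv, map_zero] at h2
      exact h2
    have hd := dvd_finrank_of_le_range hr hg hinv (by rw [hrange]; exact le_top)
    have hpos : 0 < finrank F ↥(LinearMap.ker (Polynomial.aeval g P)) :=
      Nat.pos_of_ne_zero fun e => hP (Submodule.finrank_eq_zero.1 e)
    rw [← hc] at hd
    rw [← LinearMap.ker_eq_top]
    apply Submodule.eq_top_of_finrank_eq
    have h2 := Submodule.finrank_le (LinearMap.ker (Polynomial.aeval g P))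
    rw [Module.finrank_fin_fun] at h2 ⊢
    have := Nat.le_of_dvd hpos hd
    omega
  -- an irreducible annihilator
  have hfm : (X ^ r - 1 : F[X]).Monic := monic_X_pow_sub_C (1 : F) hrp.ne_zero
  obtain ⟨μ, w, hμi, hμd, -, hw, hμw⟩ := exists_prime_step (g := g) (T := ⊤) (S := ⊥) le_top
    (P := (X ^ r - 1 : F[X])) (by simp [hg]) hfm.ne_zero
    (v := Pi.single (⟨0, hcpos⟩ : Fin c) (1 : F)) trivial (by simp)
  have hμ0 : Polynomial.aeval g μ = 0 := hall μ fun e => hw (by
    have : w ∈ LinearMap.ker (Polynomial.aeval g μ) := by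
      rw [LinearMap.mem_ker]; exact (Submodule.mem_bot F).1 hμw
    rwa [e] at this)
  haveI : Fact (Irreducible μ) := ⟨hμi⟩
  haveI : Module.Finite F (AdjoinRoot μ) := (AdjoinRoot.powerBasis hμi.ne_zero).finite
  set a := AdjoinRoot.root μ with ha
  have hev : ∀ (P : F[X]) (t : ℕ), Polynomial.aeval (g ^ t) P = Polynomial.aeval g (P.comp (X ^ t)) :=
    fun P t => by rw [aeval_comp, map_pow, aeval_X]
  have hev' : ∀ (P : F[X]) (t : ℕ), Polynomial.aeval (a ^ t) P = AdjoinRoot.mk μ (P.comp (X ^ t)) :=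
    fun P t => by rw [← AdjoinRoot.aeval_eq, aeval_comp, map_pow, aeval_X, ha]
  set x := a ^ j with hx
  have hint : IsIntegral F x := IsIntegral.of_finite F x
  refine ⟨minpoly F x, ?_, fun v hv => ?_⟩
  · obtain ⟨Q, hQ⟩ := AdjoinRoot.mk_eq_zero.1 ((hev' (minpoly F x) j).symm.trans (minpoly.aeval F x))
    rw [hev, hQ, map_mul, hμ0, zero_mul]
  · by_contra hv0
    have hzero := hall _ (fun e => hv0 (by
      have : v ∈ LinearMap.ker (Polynomial.aeval g ((minpoly F x).comp (X ^ j'))) := by
        rw [LinearMap.mem_ker, ← hev]; exact hv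
      rwa [e, Submodule.mem_bot] at this))
    have hroot : Polynomial.aeval (a ^ j') (minpoly F x) = 0 := by
      rw [hev', AdjoinRoot.mk_eq_zero]
      by_contra hnd
      obtain ⟨u, t, hut⟩ := hμi.coprime_iff_not_dvd.2 hnd
      apply hv0
      have h2 := congrArg (fun P : F[X] => Polynomial.aeval g P v) hut
      simp only [map_add, map_mul, map_one, hμ0, hzero, mul_zero, add_zero, LinearMap.zero_apply,
        Module.End.one_apply] at h2
      exact h2.symm
    haveI : Finite (AdjoinRoot μ) := Module.finite_of_finite F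
    obtain ⟨σ, hσ⟩ := minpoly.exists_algEquiv_of_root' (Algebra.IsAlgebraic.isAlgebraic x) hroot
    obtain ⟨u, hu⟩ := (FiniteField.bijective_frobeniusAlgEquivOfAlgebraic_pow F (AdjoinRoot μ)).2 σ
    have hord : orderOf a = r := by
      refine orderOf_eq_prime ?_ fun e1 => ?_
      · rw [ha, ← AdjoinRoot.mk_X, ← map_pow, ← map_one (AdjoinRoot.mk μ), AdjoinRoot.mk_eq_mk]
        exact hμd
      · obtain ⟨Q, hQ⟩ : μ ∣ X - 1 := by
          rw [← AdjoinRoot.mk_eq_zero, map_sub, map_one, AdjoinRoot.mk_X, ← ha, e1, sub_self]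
        have h2 : g - 1 = 0 := by
          have h3 := congrArg (Polynomial.aeval g) hQ
          rwa [map_sub, map_one, aeval_X, map_mul, hμ0, zero_mul] at h3
        apply hv0
        exact hfix v (by rw [sub_eq_zero.1 h2]; rfl)
    have h3 : x ^ Fintype.card F ^ (u : ℕ) = a ^ j' := by
      rw [← hσ, ← hu]
      simp only [AlgEquiv.coe_pow, FiniteField.coe_frobeniusAlgEquivOfAlgebraic_iterate]
    rw [hx, ← pow_mul, IsOfFinOrder.pow_eq_pow_iff_modEq (orderOf_pos_iff.1 (hord ▸ hrp.pos)), hord, ← ZMod.natCast_eq_natCast_iff, Nat.cast_mul,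
      Nat.cast_pow] at h3
    exact hne u h3.symm

end Cfsg.Agent.UnitaryBlocks84
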