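import Mathlib
import Cfsg.Agent.Lib.HermitianFactor
import Cfsg.Agent.Lib.GLInvariants53
import Cfsg.Agent.Lib.UnitaryPolys53
import Cfsg.Agent.Lib.TransposeSimilar

/-!
Conjugacy and determinants of centralisers in the general unitary group.
-/

set_option autoImplicit false

open Polynomial Matrix
open Cfsg.Agent.GLClassBound53 Cfsg.Agent.GLInvariants53 Cfsg.Agent.UnitaryPolys53
open Cfsg.Agent.HermitianFactor (ct)

namespace Cfsg.Agent.UnitaryCentralizer53

universe u

variable {F : Type u} [Field F] {n : ℕ}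

/-- the hermitian form -/
def herm (σ : F →+* F) (x y : Fin n → F) : F := x ⬝ᵥ fun i => σ (y i)

theorem conj_in_unitary [Fintype F] (σ : F →+* F) (hσ : ∀ x, σ (σ x) = x) (c : F) (hc : σ c ≠ c)
    {g h x : GL (Fin n) F} (hg : ct σ (g : Matrix (Fin n) (Fin n) F) * g = 1)
    (hh : ct σ (h : Matrix (Fin n) (Fin n) F) * h = 1) (hx : x * g * x⁻¹ = h) :
    ∃ u : GL (Fin n) F, ct σ (u : Matrix (Fin n) (Fin n) F) * u = 1 ∧ u * g * u⁻¹ = h := by
  set P := ct σ (x : Matrix (Fin n) (Fin n) F) * x with hP
  have hfix : ct σ P = P := by rw [hP, HermitianFactor.ct_mul, HermitianFactor.ct_ct hσ]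
  have hu : IsUnit P := (HermitianFactor.isUnit_ct x.isUnit).mul x.isUnit
  have hxg : (x : Matrix (Fin n) (Fin n) F) * g = h * x := by
    rw [← Units.val_mul, ← Units.val_mul, ← hx]
    congr 1
    group
  have hcomm : Commute (g : Matrix (Fin n) (Fin n) F) P := by
    have h1 : ct σ (g : Matrix (Fin n) (Fin n) F) * P * g = P := by
      rw [hP, ← mul_assoc, ← HermitianFactor.ct_mul, mul_assoc, hxg, HermitianFactor.ct_mul, mul_assoc,
        ← mul_assoc (ct σ (h : Matrix (Fin n) (Fin n) F)), hh, one_mul]
    have hgi : (g : Matrix (Fin n) (Fin n) F) * ct σ (g : Matrix (Fin n) (Fin n) F) = 1 := mul_eq_one_comm.1 hg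
    show _ * P = P * _
    conv_lhs => rw [← h1]
    rw [← mul_assoc, ← mul_assoc, hgi, one_mul]
  obtain ⟨s, hs, hsu, hse⟩ := HermitianFactor.exists_factor hσ c hc hu hfix
  have hgs : Commute (g : Matrix (Fin n) (Fin n) F) s :=
    Algebra.commute_of_mem_adjoin_singleton_of_commute hs hcomm
  obtain ⟨S, rfl⟩ := hsu
  refine ⟨x * S⁻¹, ?_, ?_⟩
  · have hS' : ct σ ((S⁻¹ : (Matrix (Fin n) (Fin n) F)ˣ) : Matrix (Fin n) (Fin n) F) * ct σ (S : Matrix (Fin n) (Fin n) F) = 1 := by
      rw [← HermitianFactor.ct_mul, Units.mul_inv, HermitianFactor.ct_one]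
    rw [Units.val_mul, HermitianFactor.ct_mul, mul_assoc, ← mul_assoc (ct σ (x : Matrix (Fin n) (Fin n) F)), ← hP,
      ← hse, mul_assoc (ct σ (S : Matrix (Fin n) (Fin n) F)), Units.mul_inv, mul_one, hS']
  · have hS : g * S = S * g := Units.ext hgs
    rw [← hx, _root_.mul_inv_rev, inv_inv]
    calc x * S⁻¹ * g * (S * x⁻¹) = x * (S⁻¹ * (g * S)) * x⁻¹ := by group
      _ = _ := by rw [hS, inv_mul_cancel_left]

variable (σ : F →+* F)

theorem herm_symm (hσ : ∀ x, σ (σ x) = x) (x y : Fin n → F) : σ (herm σ x y) = herm σ y x := by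
  simp only [herm, dotProduct, map_sum, map_mul, hσ]
  exact Finset.sum_congr rfl fun i _ => mul_comm _ _

theorem herm_add_left (x x' y : Fin n → F) : herm σ (x + x') y = herm σ x y + herm σ x' y := add_dotProduct _ _ _

theorem herm_smul_left (c : F) (x y : Fin n → F) : herm σ (c • x) y = c * herm σ x y := smul_dotProduct _ _ _

theorem herm_add_right (x y y' : Fin n → F) : herm σ x (y + y') = herm σ x y + herm σ x y' := by
  simp [herm, dotProduct, mul_add, Finset.sum_add_distrib]

theorem herm_smul_right (c : F) (x y : Fin n → F) : herm σ x (c • y) = σ c * herm σ x y := by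
  simp [herm, dotProduct, Finset.mul_sum, mul_left_comm]

theorem herm_zero_left (y : Fin n → F) : herm σ 0 y = 0 := zero_dotProduct _

theorem herm_zero_right (x : Fin n → F) : herm σ x 0 = 0 := by simp [herm, dotProduct]

/-- the functional `x ↦ h(x, y)` -/
def hleft (y : Fin n → F) : (Fin n → F) →ₗ[F] F where
  toFun x := herm σ x y
  map_add' a b := herm_add_left σ a b y
  map_smul' c a := herm_smul_left σ c a y

theorem exists_herm_eq (hσ : ∀ x, σ (σ x) = x) (φ : (Fin n → F) →ₗ[F] F) : ∃ w, ∀ x, φ x = herm σ x w := by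
  refine ⟨fun i => σ (φ (Pi.single i 1)), fun x => ?_⟩
  simp only [herm, dotProduct, hσ]
  have : x = ∑ i, x i • (Pi.single i 1 : Fin n → F) := by
    funext j
    simp [Finset.sum_apply, Pi.single_apply]
  conv_lhs => rw [this]
  simp [map_sum]

theorem herm_nondeg {y : Fin n → F} (h : ∀ x, herm σ x y = 0) : y = 0 := by
  funext i
  have := h (Pi.single i 1)
  simp only [herm, single_dotProduct, one_mul] at this
  exact σ.injective (by rw [this, Pi.zero_apply, map_zero])

variable (g : GL (Fin n) F)

/-- the endomorphism of `g` -/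
noncomputable def lin : Module.End F (Fin n → F) := Matrix.toLin' (g : Matrix (Fin n) (Fin n) F)

/-- the inverse endomorphism -/
noncomputable def linInv : Module.End F (Fin n → F) :=
  Matrix.toLin' ((g⁻¹ : GL (Fin n) F) : Matrix (Fin n) (Fin n) F)

theorem lin_linInv : lin g * linInv g = 1 := by
  rw [lin, linInv, Module.End.mul_eq_comp, ← Matrix.toLin'_mul, ← Units.val_mul, mul_inv_cancel, Units.val_one,
    Matrix.toLin'_one]
  rfl

theorem linInv_lin : linInv g * lin g = 1 := by
  rw [lin, linInv, Module.End.mul_eq_comp, ← Matrix.toLin'_mul, ← Units.val_mul, inv_mul_cancel, Units.val_one,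
    Matrix.toLin'_one]
  rfl

/-- adjoint of a polynomial in `g` -/
noncomputable def adj (r : F[X]) : Module.End F (Fin n → F) := aeval (linInv g) (r.map σ)

theorem adj_commute (r s : F[X]) : Commute (aeval (lin g) r) (adj σ g s) := by
  have h0 : Commute (lin g) (linInv g) := by
    show _ = _
    rw [lin_linInv, linInv_lin]
  exact Algebra.commute_of_mem_adjoin_singleton_of_commute (Polynomial.aeval_mem_adjoin_singleton _ _)
    (Algebra.commute_of_mem_adjoin_singleton_of_commute (Polynomial.aeval_mem_adjoin_singleton _ _) h0.symm).symm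

variable {g}
variable (hg : ∀ x y, herm σ (lin g x) (lin g y) = herm σ x y)

include hg in
theorem herm_linInv (x y : Fin n → F) : herm σ (lin g x) y = herm σ x (linInv g y) := by
  have h := congrArg (fun T : Module.End F (Fin n → F) => T y) (lin_linInv g)
  simp only [Module.End.mul_apply, Module.End.one_apply] at h
  conv_lhs => rw [← h]
  exact hg _ _

include hg in
theorem herm_aeval (hσ : ∀ x, σ (σ x) = x) (r : F[X]) (x y : Fin n → F) :
    herm σ (aeval (lin g) r x) y = herm σ x (adj σ g r y) := by
  induction r using Polynomial.induction_on' generalizing x y with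
  | add a b ha hb =>
    simp only [adj, Polynomial.map_add, map_add, LinearMap.add_apply, herm_add_left, herm_add_right]
    rw [ha, hb]
    rfl
  | monomial m a =>
    have hp : ∀ m x y, herm σ ((lin g ^ m) x) y = herm σ x ((linInv g ^ m) y) := by
      intro m
      induction m with
      | zero => intro x y; rfl
      | succ m ih =>
        intro x y
        rw [pow_succ, pow_succ', Module.End.mul_apply, Module.End.mul_apply, ih, herm_linInv σ hg]
    simp only [adj, Polynomial.map_monomial, aeval_monomial, Module.End.mul_apply, Module.algebraMap_end_apply,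
      herm_smul_left, herm_smul_right, hp]
    rw [hσ]

theorem coe_sum_repr {K V : Type*} [Field K] [AddCommGroup V] [Module K V] {W : Submodule K V} {ι : Type*}
    [Fintype ι] (b : Module.Basis ι K W) (x : W) : (x : V) = ∑ i, b.repr x i • (b i : V) :=
  (congrArg W.subtype (b.sum_repr x)).symm.trans (by rw [map_sum]; exact Finset.sum_congr rfl fun i _ => rfl)

/-- orthogonal complement -/
def perp (W : Submodule F (Fin n → F)) : Submodule F (Fin n → F) where
  carrier := {x | ∀ w ∈ W, herm σ x w = 0}
  zero_mem' w _ := herm_zero_left σ w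
  add_mem' ha hb w hw := by rw [herm_add_left, ha w hw, hb w hw, add_zero]
  smul_mem' c x hx w hw := by rw [herm_smul_left, hx w hw, mul_zero]

theorem isCompl_perp {W : Submodule F (Fin n → F)} (hW : ∀ x ∈ W, (∀ w ∈ W, herm σ x w = 0) → x = 0) :
    IsCompl W (perp σ W) := by
  have hdis : Disjoint W (perp σ W) := Submodule.disjoint_def.2 fun x hx hx' => hW x hx hx'
  refine ⟨hdis, codisjoint_iff.2 ?_⟩
  let b := Module.finBasis F W
  let L : (Fin n → F) →ₗ[F] (Fin (Module.finrank F W) → F) := LinearMap.pi fun i => hleft σ (b i : Fin n → F)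
  have hker : LinearMap.ker L ≤ perp σ W := by
    intro x hx w hw
    have hx' : ∀ i, herm σ x (b i : Fin n → F) = 0 := fun i => congrFun (LinearMap.mem_ker.1 hx) i
    have e : w = ∑ i, b.repr ⟨w, hw⟩ i • (b i : Fin n → F) := coe_sum_repr b ⟨w, hw⟩
    rw [e]
    simp only [herm, dotProduct] at hx' ⊢
    simp only [Finset.sum_apply, Pi.smul_apply, smul_eq_mul, map_sum, map_mul, Finset.mul_sum]
    rw [Finset.sum_comm]
    refine Finset.sum_eq_zero fun i _ => ?_
    rw [Finset.sum_congr rfl fun j _ => mul_left_comm (x j) _ _, ← Finset.mul_sum, hx' i, mul_zero]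
  apply Submodule.eq_top_of_finrank_eq
  have h1 := LinearMap.finrank_range_add_finrank_ker L
  have h2 : Module.finrank F (LinearMap.range L) ≤ Module.finrank F W :=
    (Submodule.finrank_le _).trans (by simp)
  have h3 := Submodule.finrank_mono hker
  have h4 := Submodule.finrank_sup_add_finrank_inf_eq W (perp σ W)
  rw [disjoint_iff.1 hdis, finrank_bot, add_zero] at h4
  have h5 := Submodule.finrank_le (W ⊔ perp σ W)
  omega

include hg in
/-- determinants of unitary centralising maps obtained from a nondegenerate invariant subspace -/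
theorem exists_det_of_subspace (hσ : ∀ x, σ (σ x) = x) {W : Submodule F (Fin n → F)}
    (hW : ∀ x ∈ W, (∀ w ∈ W, herm σ x w = 0) → x = 0)
    (hinv : ∀ r : F[X], ∀ x ∈ W, aeval (lin g) r x ∈ W) (hinv' : ∀ r : F[X], ∀ x ∈ W, adj σ g r x ∈ W)
    (s : F[X]) (lam : F) (hlam : lam ≠ 0)
    (hs : LinearMap.det ((aeval (lin g) s).restrict (hinv s)) = lam) :
    ∃ u : Module.End F (Fin n → F), Commute u (lin g) ∧ (∀ x y, herm σ (u x) (u y) = herm σ x y) ∧
      LinearMap.det u = lam * (σ lam)⁻¹ := by
  classical
  set S := (aeval (lin g) s).restrict (hinv s) with hS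
  set S' := (adj σ g s).restrict (hinv' s) with hS'
  have hadj : ∀ x y : W, herm σ (S x : Fin n → F) y = herm σ (x : Fin n → F) (S' y : Fin n → F) :=
    fun x y => herm_aeval σ hg hσ s x y
  -- the determinant of the adjoint
  have hdet : LinearMap.det S' = σ lam := by
    let b := Module.finBasis F W
    let G : Matrix (Fin (Module.finrank F W)) (Fin (Module.finrank F W)) F :=
      Matrix.of fun i j => herm σ (b i : Fin n → F) (b j : Fin n → F)
    have hG : G.det ≠ 0 := by
      intro h0
      obtain ⟨a, ha, ha0⟩ := Matrix.exists_vecMul_eq_zero_iff.2 h0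
      apply ha
      have hz : (∑ i, a i • (b i : Fin n → F)) = 0 := by
        refine hW _ (W.sum_mem fun i _ => W.smul_mem _ (b i).2) fun w hw => ?_
        have e : w = ∑ i, b.repr ⟨w, hw⟩ i • (b i : Fin n → F) := coe_sum_repr b ⟨w, hw⟩
        rw [e]
        have hsum : ∀ (x : Fin n → F) (f : Fin (Module.finrank F W) → (Fin n → F)),
            herm σ x (∑ i, f i) = ∑ i, herm σ x (f i) := fun x f => by
          simp only [herm, dotProduct, Finset.sum_apply, map_sum, Finset.mul_sum]
          exact Finset.sum_comm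
        rw [hsum]
        refine Finset.sum_eq_zero fun j _ => ?_
        rw [herm_smul_right]
        have : herm σ (∑ i, a i • (b i : Fin n → F)) (b j : Fin n → F) = 0 := by
          have e2 := congrFun ha0 j
          simp only [Matrix.vecMul, dotProduct, G, Matrix.of_apply, Pi.zero_apply] at e2
          rw [← e2]
          exact (map_sum (hleft σ (b j : Fin n → F)) _ _).trans (Finset.sum_congr rfl fun i _ => herm_smul_left σ _ _ _)
        rw [this, mul_zero]
      have hz' : (∑ i, a i • b i : W) = 0 := Subtype.ext (by simpa [AddSubmonoidClass.coe_finsetSum] using hz)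
      exact funext (Fintype.linearIndependent_iff.1 b.linearIndependent a hz')
    let A := LinearMap.toMatrix b b S
    let A' := LinearMap.toMatrix b b S'
    have hmat : A.transpose * G = G * A'.map σ := by
      ext i j
      have h := hadj (b i) (b j)
      have e1 : (S (b i) : Fin n → F) = ∑ k, A k i • (b k : Fin n → F) := by
        simpa [A, LinearMap.toMatrix_apply] using coe_sum_repr b (S (b i))
      have e2 : (S' (b j) : Fin n → F) = ∑ k, A' k j • (b k : Fin n → F) := by
        simpa [A', LinearMap.toMatrix_apply] using coe_sum_repr b (S' (b j))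
      rw [e1, e2] at h
      simp only [Matrix.mul_apply, Matrix.transpose_apply, Matrix.map_apply, G, Matrix.of_apply]
      refine Eq.trans ?_ (h.trans ?_)
      · exact ((map_sum (hleft σ (b j : Fin n → F)) _ _).trans
          (Finset.sum_congr rfl fun k _ => herm_smul_left σ _ _ _)).symm
      · simp only [herm, dotProduct, Finset.sum_apply, map_sum, Pi.smul_apply, smul_eq_mul, map_mul, Finset.mul_sum,
          Finset.sum_mul]
        rw [Finset.sum_comm]
        exact Finset.sum_congr rfl fun k _ => Finset.sum_congr rfl fun l _ => by ring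
    have hd := congrArg Matrix.det hmat
    rw [Matrix.det_mul, Matrix.det_mul, Matrix.det_transpose, mul_comm] at hd
    have hd' := mul_left_cancel₀ hG hd
    rw [← RingHom.mapMatrix_apply, ← RingHom.map_det] at hd'
    simp only [A, A', LinearMap.det_toMatrix] at hd'
    rw [hs] at hd'
    rw [hd', hσ]
  have hσlam : σ lam ≠ 0 := fun h => hlam (σ.injective (by rw [h, map_zero]))
  have hS'u : IsUnit (LinearMap.det S') := by rw [hdet]; exact hσlam.isUnit
  let E : W ≃ₗ[F] W := LinearMap.equivOfDetNeZero S' hS'u.ne_zero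
  have hE : ∀ x, E x = S' x := fun x => rfl
  let R : W →ₗ[F] W := S ∘ₗ E.symm.toLinearMap
  have hR : LinearMap.det R = lam * (σ lam)⁻¹ := by
    have h := congrArg LinearMap.det (show (S' : W →ₗ[F] W) ∘ₗ E.symm.toLinearMap = LinearMap.id from
      LinearMap.ext fun x => E.apply_symm_apply x)
    rw [LinearMap.det_comp, hdet, LinearMap.det_id] at h
    rw [LinearMap.det_comp, hs, eq_inv_of_mul_eq_one_right h]
  have hcom : ∀ x : W, S (S' x) = S' (S x) := fun x =>
    Subtype.ext (congrArg (fun T : Module.End F (Fin n → F) => T (x : Fin n → F)) (adj_commute σ g s s).eq)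
  have hRiso : ∀ x y : W, herm σ (R x : Fin n → F) (R y : Fin n → F) = herm σ (x : Fin n → F) y := by
    intro x y
    obtain ⟨a, rfl⟩ := E.surjective x
    obtain ⟨b, rfl⟩ := E.surjective y
    simp only [R, LinearMap.comp_apply, LinearEquiv.coe_coe]
    rw [E.symm_apply_apply, E.symm_apply_apply, hE, hE, hadj a (S b)]
    have h := congrArg σ (hadj (S' b) a)
    rw [herm_symm σ hσ, herm_symm σ hσ] at h
    rw [← hcom, h]
  have hc := isCompl_perp σ hW
  let u := LinearMap.ofIsCompl hc (W.subtype ∘ₗ R) (perp σ W).subtype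
  have hperp : ∀ x ∈ perp σ W, lin g x ∈ perp σ W := fun x hx w hw => by
    rw [herm_linInv σ hg]
    refine hx _ ?_
    have := hinv' X w hw
    rwa [adj, Polynomial.map_X, aeval_X] at this
  have hlinW : ∀ x ∈ W, lin g x ∈ W := fun x hx => by
    have := hinv X x hx
    rwa [aeval_X] at this
  have hua : ∀ a (ha : a ∈ W), u a = (R ⟨a, ha⟩ : Fin n → F) := fun a ha =>
    LinearMap.ofIsCompl_left_apply hc (⟨a, ha⟩ : W)
  have hub : ∀ b (hb : b ∈ perp σ W), u b = b := fun b hb =>
    LinearMap.ofIsCompl_right_apply hc (⟨b, hb⟩ : perp σ W)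
  refine ⟨u, ?_, ?_, ?_⟩
  · refine LinearMap.ext fun x => ?_
    obtain ⟨a, ha, b, hb, rfl⟩ := Submodule.mem_sup.1 (show x ∈ W ⊔ perp σ W by rw [hc.sup_eq_top]; trivial)
    have hGS : ∀ z : W, (⟨lin g (S z : Fin n → F), hlinW _ (S z).2⟩ : W) = S ⟨lin g (z : Fin n → F), hlinW _ z.2⟩ := by
      intro z
      refine Subtype.ext ?_
      show (lin g * aeval (lin g) s) (z : Fin n → F) = (aeval (lin g) s * lin g) (z : Fin n → F)
      rw [(Algebra.commute_of_mem_adjoin_singleton_of_commute (Polynomial.aeval_mem_adjoin_singleton _ _)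
        (Commute.refl (lin g))).eq]
    have hGS' : ∀ z : W, (⟨lin g (S' z : Fin n → F), hlinW _ (S' z).2⟩ : W) = S' ⟨lin g (z : Fin n → F), hlinW _ z.2⟩ := by
      intro z
      refine Subtype.ext ?_
      have := (adj_commute σ g X s).eq
      rw [aeval_X] at this
      exact congrArg (fun T : Module.End F (Fin n → F) => T (z : Fin n → F)) this
    have key : (R ⟨lin g a, hlinW a ha⟩ : Fin n → F) = lin g (R ⟨a, ha⟩ : Fin n → F) := by
      have e : E.symm ⟨lin g a, hlinW a ha⟩ =
          ⟨lin g (E.symm ⟨a, ha⟩ : Fin n → F), hlinW _ (E.symm ⟨a, ha⟩).2⟩ := by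
        rw [LinearEquiv.symm_apply_eq, hE, ← hGS']
        refine Subtype.ext ?_
        show _ = lin g (E (E.symm ⟨a, ha⟩) : Fin n → F)
        rw [E.apply_symm_apply]
      simp only [R, LinearMap.comp_apply, LinearEquiv.coe_coe]
      rw [e, ← hGS]
    simp only [Module.End.mul_apply, map_add]
    rw [hua a ha, hub b hb, hua _ (hlinW a ha), hub _ (hperp b hb), key]
  · intro x y
    obtain ⟨a, ha, b, hb, rfl⟩ := Submodule.mem_sup.1 (show x ∈ W ⊔ perp σ W by rw [hc.sup_eq_top]; trivial)
    obtain ⟨a', ha', b', hb', rfl⟩ := Submodule.mem_sup.1 (show y ∈ W ⊔ perp σ W by rw [hc.sup_eq_top]; trivial)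
    have horth : ∀ a ∈ W, ∀ b ∈ perp σ W, herm σ a b = 0 := fun a ha b hb => by
      rw [← herm_symm σ hσ, hb a ha, map_zero]
    simp only [map_add, hua a ha, hua a' ha', hub b hb, hub b' hb', herm_add_left, herm_add_right]
    rw [hb _ (R ⟨a', ha'⟩).2, hb a' ha', horth _ (R ⟨a, ha⟩).2 b' hb', horth a ha b' hb', hRiso ⟨a, ha⟩ ⟨a', ha'⟩]
  · let e := (Submodule.prodEquivOfIsCompl W (perp σ W) hc).symm
    have h : e.toLinearMap ∘ₗ u ∘ₗ e.symm.toLinearMap = LinearMap.prodMap R LinearMap.id := by
      refine LinearMap.ext fun y => e.symm.injective ?_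
      simp only [LinearMap.comp_apply, LinearEquiv.coe_coe, LinearEquiv.symm_apply_apply]
      simp only [e, LinearEquiv.symm_symm, Submodule.coe_prodEquivOfIsCompl', LinearMap.prodMap_apply, map_add,
        LinearMap.id_apply, u, LinearMap.ofIsCompl_left_apply, LinearMap.ofIsCompl_right_apply, LinearMap.comp_apply,
        Submodule.subtype_apply]
    rw [← LinearMap.det_conj u e, h, LinearMap.det_prodMap, LinearMap.det_id, mul_one, hR]

end Cfsg.Agent.UnitaryCentralizer53
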