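import Mathlib
import Cfsg.Agent.Lib.UnitaryCentralizer53
import Cfsg.Agent.Lib.SLClasses53

/-!
For a unitary matrix: invariance of the tuple under conjugate-reciprocal, and every norm-one determinant
occurs in the unitary centraliser when an exponent-one component is present.
-/

set_option autoImplicit false

open Polynomial Matrix
open Cfsg.Agent.GLClassBound53 Cfsg.Agent.GLInvariants53 Cfsg.Agent.UnitaryPolys53 Cfsg.Agent.UnitaryCentralizer53
open Cfsg.Agent.HermitianFactor (ct)

namespace Cfsg.Agent.UnitaryPrimary53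

universe u

variable {F : Type u} [Field F] {n : ℕ} (σ : F →+* F) {g : GL (Fin n) F}

/-- unitarity as an isometry statement -/
theorem herm_lin (hσ : ∀ x, σ (σ x) = x) (hg : ct σ (g : Matrix (Fin n) (Fin n) F) * g = 1) (x y : Fin n → F) :
    herm σ (lin g x) (lin g y) = herm σ x y := by
  have h : (g : Matrix (Fin n) (Fin n) F).transpose * (g : Matrix (Fin n) (Fin n) F).map σ = 1 := by
    have := congrArg (fun M : Matrix (Fin n) (Fin n) F => M.map σ) hg
    simp only [Matrix.map_mul, HermitianFactor.ct, ← Matrix.transpose_map, Matrix.map_map] at this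
    rw [show (σ : F → F) ∘ σ = id from funext hσ, Matrix.map_id, Matrix.map_one σ (map_zero σ) (map_one σ)] at this
    exact this
  have hmv : (fun i => σ (((g : Matrix (Fin n) (Fin n) F) *ᵥ y) i)) = (g : Matrix (Fin n) (Fin n) F).map σ *ᵥ fun i => σ (y i) :=
    funext fun i => RingHom.map_mulVec σ _ y i
  simp only [herm, lin, Matrix.toLin'_apply]
  rw [hmv, ← Matrix.vecMul_transpose, ← Matrix.dotProduct_mulVec, Matrix.mulVec_mulVec, h, Matrix.one_mulVec]

theorem lin_pow_comp (k : ℕ) (x : Fin n → F) : (lin g ^ k) ((linInv g ^ k) x) = x := by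
  have h : lin g ^ k * linInv g ^ k = 1 := by
    rw [← (show Commute (lin g) (linInv g) from (lin_linInv g).trans (linInv_lin g).symm).mul_pow, lin_linInv, one_pow]
  exact congrArg (fun T : Module.End F (Fin n → F) => T x) h

/-- `p̄(g⁻¹)` is `τp(g)` up to a unit -/
theorem adj_eq_tau {p : F[X]} (hp : Good p) :
    adj σ g p = σ (p.coeff 0) • (linInv g ^ p.natDegree * aeval (lin g) (tau σ p)) := by
  have h0 : σ (p.coeff 0) ≠ 0 := fun h => hp.2 (σ.injective (by rw [h, map_zero]))
  have hc : Commute (lin g) (linInv g) := (lin_linInv g).trans (linInv_lin g).symm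
  have hrev : aeval (lin g) (p.map σ).reverse = lin g ^ p.natDegree * adj σ g p := by
    rw [adj, aeval_eq_sum_range' (show (p.map σ).reverse.natDegree < p.natDegree + 1 from
      Nat.lt_succ_of_le ((reverse_natDegree_le _).trans (by rw [natDegree_map]))),
      aeval_eq_sum_range' (show (p.map σ).natDegree < p.natDegree + 1 by rw [natDegree_map]; omega),
      Finset.mul_sum, ← Finset.sum_range_reflect]
    refine Finset.sum_congr rfl fun i hi => ?_
    rw [Finset.mem_range] at hi
    rw [coeff_reverse, natDegree_map, revAt_le (by omega), show p.natDegree - (p.natDegree + 1 - 1 - i) = i by omega,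
      mul_smul_comm]
    congr 1
    have e : lin g ^ p.natDegree = lin g ^ (p.natDegree - i) * lin g ^ i := by rw [← pow_add, Nat.sub_add_cancel (by omega)]
    rw [e, mul_assoc, ← hc.mul_pow, lin_linInv, one_pow, mul_one, show p.natDegree + 1 - 1 - i = p.natDegree - i by omega]
  rw [tau, map_mul, aeval_C, hrev, ← Algebra.smul_def, mul_smul_comm, smul_smul, mul_inv_cancel₀ h0, one_smul,
    ← mul_assoc, ← hc.symm.mul_pow, linInv_lin, one_pow, one_mul]

theorem inv_preserves {W : Submodule F (Fin n → F)} (hW : ∀ x ∈ W, lin g x ∈ W) :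
    ∀ x ∈ W, linInv g x ∈ W := by
  have hinj : Function.Injective (lin g) := fun a b h => by
    have := congrArg (linInv g) h
    rwa [← Module.End.mul_apply, ← Module.End.mul_apply, linInv_lin] at this
  have hs : Function.Surjective ((lin g).restrict hW) :=
    LinearMap.surjective_of_injective fun a b h => Subtype.ext (hinj (congrArg Subtype.val h))
  intro x hx
  obtain ⟨y, hy⟩ := hs ⟨x, hx⟩
  have e : linInv g x = (y : Fin n → F) := by
    rw [← show lin g (y : Fin n → F) = x from congrArg Subtype.val hy, ← Module.End.mul_apply, linInv_lin]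
    rfl
  rw [e]
  exact y.2

theorem aeval_preserves {T : Module.End F (Fin n → F)} {W : Submodule F (Fin n → F)} (hT : ∀ x ∈ W, T x ∈ W)
    (r : F[X]) : ∀ x ∈ W, aeval T r x ∈ W := by
  induction r using Polynomial.induction_on' with
  | add a b ha hb => intro x hx; rw [map_add, LinearMap.add_apply]; exact W.add_mem (ha x hx) (hb x hx)
  | monomial m a =>
    intro x hx
    rw [aeval_monomial, Module.End.mul_apply, Module.algebraMap_end_apply]
    refine W.smul_mem _ ?_
    induction m with
    | zero => exact hx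
    | succ m ih => rw [pow_succ', Module.End.mul_apply]; exact hT _ ih

variable [Fintype F]

/-- kernel sizes are invariant under conjugate reciprocal -/
theorem kerCard_tau (hσ : ∀ x, σ (σ x) = x) (hg : ct σ (g : Matrix (Fin n) (Fin n) F) * g = 1) {P : F[X]}
    (hP : Good P) (k : ℕ) : kerCard g P k = kerCard g (tau σ P) k := by
  classical
  obtain ⟨c, hc⟩ := TransposeSimilar.isConj_transpose ((g : Matrix (Fin n) (Fin n) F).map σ)
  have hginv : ((g⁻¹ : GL (Fin n) F) : Matrix (Fin n) (Fin n) F) = ct σ (g : Matrix (Fin n) (Fin n) F) :=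
    (Units.inv_eq_of_mul_eq_one_left hg)
  let gs : GL (Fin n) F := Units.map (σ.mapMatrix : Matrix (Fin n) (Fin n) F →+* Matrix (Fin n) (Fin n) F).toMonoidHom g
  have hgs : (gs : Matrix (Fin n) (Fin n) F) = (g : Matrix (Fin n) (Fin n) F).map σ := rfl
  have hconj : c * gs * c⁻¹ = g⁻¹ := by
    have h' : c * gs = g⁻¹ * c := Units.ext (by
      rw [Units.val_mul, Units.val_mul, hginv, hgs]
      exact hc)
    rw [h', mul_inv_cancel_right]
  have h1 : kerCard g P k = kerCard gs (P.map σ) k := by
    let e : (Fin n → F) ≃ (Fin n → F) :=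
      ⟨fun v i => σ (v i), fun v i => σ (v i), fun v => funext fun i => hσ _, fun v => funext fun i => hσ _⟩
    refine Nat.card_congr (e.subtypeEquiv fun v => ?_)
    have key : aeval (Matrix.toLin' (gs : Matrix (Fin n) (Fin n) F)) ((P.map σ) ^ k) (e v) =
        e (aeval (Matrix.toLin' (g : Matrix (Fin n) (Fin n) F)) (P ^ k) v) := by
      rw [← Polynomial.map_pow]
      induction (P ^ k) using Polynomial.induction_on' generalizing v with
      | add a b ha hb =>
        rw [Polynomial.map_add, map_add, map_add, LinearMap.add_apply, LinearMap.add_apply, ha, hb]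
        funext i
        exact (map_add σ _ _).symm
      | monomial m a =>
        rw [Polynomial.map_monomial, aeval_monomial, aeval_monomial, ← Matrix.toLin'_pow, ← Matrix.toLin'_pow,
          Module.End.mul_apply, Module.End.mul_apply, Module.algebraMap_end_apply, Module.algebraMap_end_apply,
          Matrix.toLin'_apply, Matrix.toLin'_apply, hgs, show (g : Matrix (Fin n) (Fin n) F).map σ = σ.mapMatrix g from rfl,
          ← map_pow σ.mapMatrix]
        funext i
        show σ a * _ = σ (a * _)
        rw [map_mul]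
        exact congrArg _ (RingHom.map_mulVec σ _ v i).symm
    rw [key]
    refine ⟨fun h => ?_, fun h => e.injective (h.trans ?_)⟩
    · rw [h]; exact funext fun i => map_zero σ
    · exact (funext fun i => map_zero σ).symm
  have hM : (P.map σ).natDegree = P.natDegree := natDegree_map _
  rw [h1, ← GLInvariants53.kerCard_conj gs c, hconj]
  refine Nat.card_congr (Equiv.subtypeEquivRight fun v => ?_)
  have e2 : aeval (Matrix.toLin' ((g⁻¹ : GL (Fin n) F) : Matrix (Fin n) (Fin n) F)) ((P.map σ) ^ k) =
      (adj σ g P) ^ k := by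
    rw [map_pow]; rfl
  rw [e2, adj_eq_tau σ hP, _root_.smul_pow, LinearMap.smul_apply,
    smul_eq_zero_iff_right (pow_ne_zero _ fun h => hP.2 (σ.injective (by rw [h, map_zero])))]
  have hcm : Commute (linInv g ^ P.natDegree) (aeval (lin g) (tau σ P)) :=
    Algebra.commute_of_mem_adjoin_singleton_of_commute (Polynomial.aeval_mem_adjoin_singleton _ _)
      ((show Commute (linInv g) (lin g) from (linInv_lin g).trans (lin_linInv g).symm).pow_left _)
  rw [hcm.mul_pow, Module.End.mul_apply, ← pow_mul, ← map_pow]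
  constructor
  · intro h
    have := congrArg ((lin g) ^ (P.natDegree * k)) h
    rw [lin_pow_comp, map_zero] at this
    exact this
  · intro h
    rw [show aeval (lin g) (tau σ P ^ k) v = 0 from h, map_zero]

/-- the tuple of a unitary element is fixed by conjugate-reciprocal -/
theorem tau_tup [NeZero n] (hσ : ∀ x, σ (σ x) = x) (hg : ct σ (g : Matrix (Fin n) (Fin n) F) * g = 1) (j : Fin n) :
    Fixed σ (SLClasses53.tup g j) := by
  classical
  refine ⟨SLClasses53.good_prod j, ?_⟩
  rw [SLClasses53.tup, tau_prod]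
  congr 1
  refine Multiset.ext.2 fun x => ?_
  set M := (SLClasses53.dec g).M j with hM
  have hmem : ∀ y ∈ M.map (tau σ), Irreducible y ∧ Good y := by
    intro y hy
    obtain ⟨z, hz, rfl⟩ := Multiset.mem_map.1 hy
    exact ⟨tau_irreducible σ hσ ((SLClasses53.dec g).mem_M hz).2 ((SLClasses53.dec g).mem_M hz).1,
      (tau_good σ ((SLClasses53.dec g).mem_M hz).2).1⟩
  by_cases hx : Irreducible x ∧ Good x
  · set y := tau σ x with hy
    have hyg := tau_good σ hx.2
    have hyx : tau σ y = x := tau_tau σ hσ hx.2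
    have h1 : (M.map (tau σ)).count x = M.count y := by
      by_cases hm : y ∈ M
      · rw [← hyx]
        refine Multiset.count_map_eq_count _ _ (fun a ha b hb hab => ?_) y hm
        rw [← tau_tau σ hσ ((SLClasses53.dec g).mem_M ha).2, ← tau_tau σ hσ ((SLClasses53.dec g).mem_M hb).2, hab]
      · rw [Multiset.count_eq_zero.2 hm, Multiset.count_eq_zero]
        intro hx'
        obtain ⟨a, ha, hax⟩ := Multiset.mem_map.1 hx'
        refine hm ?_
        rw [hy, ← hax, tau_tau σ hσ ((SLClasses53.dec g).mem_M ha).2]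
        exact ha
    rw [h1]
    exact ((SLClasses53.dec g).count_eq (SLClasses53.dec g) hx.1 hx.2.1 (tau_irreducible σ hσ hx.2 hx.1) hyg.1.1
      hyg.2.symm (fun k => kerCard_tau σ hσ hg hx.2 k) j).symm
  · rw [Multiset.count_eq_zero.2 fun hm => hx (hmem x hm),
      Multiset.count_eq_zero.2 fun hm => hx ((SLClasses53.dec g).mem_M hm)]

/-- the cyclic subspace of one vector killed by an irreducible -/
noncomputable def cyc (g : GL (Fin n) F) (v : Fin n → F) : F[X] →ₗ[F] (Fin n → F) :=
  (LinearMap.applyₗ v).comp (aeval (lin g)).toLinearMap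

theorem cyc_apply (v : Fin n → F) (r : F[X]) : cyc g v r = aeval (lin g) r v := rfl

theorem aeval_eq_of_dvd {p a b : F[X]} {v : Fin n → F} (hv : aeval (lin g) p v = 0) (h : p ∣ a - b) :
    aeval (lin g) a v = aeval (lin g) b v := by
  obtain ⟨c, hc⟩ := h
  rw [← sub_eq_zero, ← LinearMap.sub_apply, ← map_sub, hc, mul_comm, map_mul, Module.End.mul_apply, hv, map_zero]

theorem exists_inverse_mod {p a : F[X]} (hirr : Irreducible p) (ha : ¬ p ∣ a) : ∃ b, p ∣ b * a - 1 := by
  obtain ⟨x, y, hxy⟩ := hirr.coprime_iff_not_dvd.2 ha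
  exact ⟨y, ⟨-x, by linear_combination hxy⟩⟩

/-- `F[X]/(p)` maps isomorphically onto the cyclic subspace -/
noncomputable def cycQ {p : F[X]} {v : Fin n → F} (hv : aeval (lin g) p v = 0) : Q p →ₗ[F] (Fin n → F) where
  toFun := Quotient.lift (fun r : F[X] => aeval (lin g) r v) fun a b hab => by
    have h : a - b ∈ (F[X] ∙ p) := by rwa [← Submodule.quotientRel_def]
    obtain ⟨c, hc⟩ := Submodule.mem_span_singleton.1 h
    exact aeval_eq_of_dvd hv ⟨c, by rw [← hc, smul_eq_mul, mul_comm]⟩
  map_add' x y := by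
    induction x using Submodule.Quotient.induction_on with
    | _ a =>
      induction y using Submodule.Quotient.induction_on with
      | _ b => exact congrFun (congrArg DFunLike.coe (map_add (aeval (lin g)) a b)) v
  map_smul' c x := by
    induction x using Submodule.Quotient.induction_on with
    | _ a => exact congrFun (congrArg DFunLike.coe (map_smul (aeval (lin g)) c a)) v

theorem cycQ_mk {p : F[X]} {v : Fin n → F} (hv : aeval (lin g) p v = 0) (r : F[X]) :
    cycQ hv (Submodule.Quotient.mk r) = aeval (lin g) r v := rfl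

theorem cycQ_smul {p : F[X]} {v : Fin n → F} (hv : aeval (lin g) p v = 0) (s : F[X]) (x : Q p) :
    cycQ hv (s • x) = aeval (lin g) s (cycQ hv x) := by
  induction x using Submodule.Quotient.induction_on with
  | _ r => rw [← Submodule.Quotient.mk_smul, cycQ_mk, cycQ_mk, smul_eq_mul, map_mul, Module.End.mul_apply]

theorem cycQ_injective {p : F[X]} (hirr : Irreducible p) {v : Fin n → F} (hv : aeval (lin g) p v = 0) (h0 : v ≠ 0) :
    Function.Injective (cycQ hv) := by
  rw [← LinearMap.ker_eq_bot, Submodule.eq_bot_iff]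
  intro x hx
  induction x using Submodule.Quotient.induction_on with
  | _ r =>
    rw [Submodule.Quotient.mk_eq_zero, Submodule.mem_span_singleton]
    by_cases hd : p ∣ r
    · obtain ⟨c, hc⟩ := hd
      exact ⟨c, by rw [hc, smul_eq_mul, mul_comm]⟩
    · obtain ⟨b, hb⟩ := exists_inverse_mod hirr hd
      refine absurd ?_ h0
      have := aeval_eq_of_dvd hv hb
      rw [LinearMap.mem_ker, cycQ_mk] at hx
      rwa [map_mul, Module.End.mul_apply, hx, map_zero, map_one, Module.End.one_apply, eq_comm] at this

/-- norm-one determinants in the unitary centraliser -/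
theorem exists_det [NeZero n] (hσ : ∀ x, σ (σ x) = x) (hns : ∃ c, σ c ≠ c)
    (hg : ct σ (g : Matrix (Fin n) (Fin n) F) * g = 1) (h0 : SLClasses53.tup g 0 ≠ 1) (lam : F) (hlam : lam ≠ 0) :
    ∃ u : Module.End F (Fin n → F), Commute u (lin g) ∧ (∀ x y, herm σ (u x) (u y) = herm σ x y) ∧
      LinearMap.det u = lam * (σ lam)⁻¹ := by
  classical
  have hh := herm_lin σ hσ hg
  have hA := herm_aeval σ (g := g) hh hσ
  let d := SLClasses53.dec g
  obtain ⟨i, hi⟩ : ∃ i, d.lev i = 0 := SLClasses53.exists_lev h0
  set p := d.p i with hp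
  have hirr : Irreducible p := d.irr i
  have hgood : Good p := d.good i
  have he : d.e i = 1 := by rw [← d.hlev i, hi]; rfl
  -- a vector killed by `p` outside the image of `p`
  let E : (Fin n → F) → ((j : d.ι) → Q (d.p j ^ d.e j)) := fun x => d.iso (Module.AEval'.of (Matrix.toLin' (g : Matrix (Fin n) (Fin n) F)) x)
  let v : Fin n → F := (Module.AEval'.of (Matrix.toLin' (g : Matrix (Fin n) (Fin n) F))).symm (d.iso.symm (Pi.single i (Submodule.Quotient.mk 1)))
  have hE : ∀ (r : F[X]) x, E (aeval (lin g) r x) = r • E x := fun r x => by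
    show d.iso _ = _
    rw [← map_smul]
    exact congrArg _ (Module.AEval.of_aeval_smul _ r x)
  have hEv : E v = Pi.single i (Submodule.Quotient.mk 1) := by
    show d.iso (Module.AEval'.of (Matrix.toLin' (g : Matrix (Fin n) (Fin n) F)) ((Module.AEval'.of (Matrix.toLin' (g : Matrix (Fin n) (Fin n) F))).symm _)) = _
    rw [LinearEquiv.apply_symm_apply, LinearEquiv.apply_symm_apply]
  have hEinj : Function.Injective E := d.iso.injective.comp (Module.AEval'.of (Matrix.toLin' (g : Matrix (Fin n) (Fin n) F))).injective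
  have hkill : ∀ x : Q (p ^ d.e i), p • x = 0 := by
    intro x
    induction x using Submodule.Quotient.induction_on with
    | _ r =>
      rw [← Submodule.Quotient.mk_smul, Submodule.Quotient.mk_eq_zero, Submodule.mem_span_singleton]
      exact ⟨r, by rw [he, pow_one, smul_eq_mul, smul_eq_mul, mul_comm]⟩
  have hv : aeval (lin g) p v = 0 := by
    apply hEinj
    rw [hE, hEv, show E 0 = 0 by show d.iso _ = 0; rw [map_zero]; exact map_zero d.iso]
    funext j
    by_cases hj : j = i
    · subst hj
      simp [hkill]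
    · simp [Pi.single_eq_of_ne hj]
  have hout : v ∉ LinearMap.range (aeval (lin g) p) := by
    rintro ⟨x, hx⟩
    have := congrFun (congrArg E hx) i
    rw [hE, hEv, Pi.smul_apply, Pi.single_eq_same, hkill, eq_comm, Submodule.Quotient.mk_eq_zero,
      Submodule.mem_span_singleton] at this
    obtain ⟨c, hc⟩ := this
    refine hirr.not_isUnit (isUnit_of_dvd_one ⟨c, ?_⟩)
    rw [← hc, he, pow_one, smul_eq_mul, mul_comm]
  have hv0 : v ≠ 0 := fun h => hout (h ▸ Submodule.zero_mem _)
  obtain ⟨φ, hφv, hφ⟩ := Submodule.exists_dual_map_eq_bot_of_notMem hout inferInstance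
  obtain ⟨w, hw⟩ := exists_herm_eq σ hσ φ
  have hvw : herm σ v w ≠ 0 := by rwa [← hw]
  have hw0 : aeval (lin g) (tau σ p) w = 0 := by
    have hz : adj σ g p w = 0 := herm_nondeg σ fun x => by
      rw [← hA, ← hw]
      have hm : φ (aeval (lin g) p x) ∈ (LinearMap.range (aeval (lin g) p)).map φ :=
        Submodule.mem_map_of_mem ⟨x, rfl⟩
      rw [hφ] at hm
      exact hm
    rw [adj_eq_tau σ hgood, LinearMap.smul_apply, smul_eq_zero_iff_right
      (fun h => hgood.2 (σ.injective (by rw [h, map_zero]))), Module.End.mul_apply] at hz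
    have := congrArg (lin g ^ p.natDegree) hz
    rwa [lin_pow_comp, map_zero] at this
  obtain ⟨s₀, hs₀⟩ := exists_nrm_eq hirr lam
  by_cases hpt : tau σ p = p
  · obtain ⟨v', hv', hv'0, r₀, hr₀⟩ : ∃ v' : Fin n → F, aeval (lin g) p v' = 0 ∧ v' ≠ 0 ∧
        ∃ r₀ : F[X], herm σ v' (aeval (lin g) r₀ v') ≠ 0 := by
      by_contra hno
      have hno' : ∀ v' : Fin n → F, aeval (lin g) p v' = 0 → ∀ r₀ : F[X], herm σ v' (aeval (lin g) r₀ v') = 0 := by
        intro v' hv' r₀
        by_contra h
        exact hno ⟨v', hv', fun e => h (by rw [e, herm_zero_left]), r₀, h⟩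
      rw [hpt] at hw0
      obtain ⟨c, hc⟩ := hns
      have e1 : ∀ v' : Fin n → F, aeval (lin g) p v' = 0 → herm σ v' v' = 0 := fun v' h => by
        simpa using hno' v' h 1
      have hvv := e1 v hv
      have hww := e1 w hw0
      have ev := e1 (v + w) (by rw [map_add, hv, hw0, add_zero])
      have ecv := e1 (c • v + w) (by rw [map_add, map_smul, hv, hw0, smul_zero, add_zero])
      simp only [herm_add_left, herm_add_right, herm_smul_left, herm_smul_right, hvv, hww, mul_zero, zero_add,
        add_zero] at ev ecv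
      refine hvw ((mul_eq_zero.1 (show (c - σ c) * herm σ v w = 0 by linear_combination ecv - σ c * ev)).resolve_left
        (sub_ne_zero.2 (Ne.symm hc)))
    let W := LinearMap.range (cycQ hv')
    have hWm : ∀ x, x ∈ W ↔ ∃ a, aeval (lin g) a v' = x := fun x => ⟨fun ⟨y, hy⟩ => by
      obtain ⟨a, rfl⟩ := Submodule.Quotient.mk_surjective _ y
      exact ⟨a, hy⟩, fun ⟨a, ha⟩ => ⟨Submodule.Quotient.mk a, ha⟩⟩
    have hlinW : ∀ x ∈ W, lin g x ∈ W := fun x hx => by
      obtain ⟨a, rfl⟩ := (hWm x).1 hx
      exact (hWm _).2 ⟨X * a, by rw [map_mul, aeval_X]; rfl⟩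
    have hinv := aeval_preserves hlinW
    have hinv' : ∀ r : F[X], ∀ x ∈ W, adj σ g r x ∈ W := fun r => aeval_preserves (inv_preserves hlinW) _
    have hW : ∀ x ∈ W, (∀ y ∈ W, herm σ x y = 0) → x = 0 := by
      intro x hx hperp
      obtain ⟨a, rfl⟩ := (hWm x).1 hx
      by_contra hne
      have hpa : ¬ p ∣ a := fun hd => hne (by
        rw [aeval_eq_of_dvd hv' (show p ∣ a - 0 by rwa [sub_zero]), map_zero, LinearMap.zero_apply])
      obtain ⟨b, hb⟩ := exists_inverse_mod hirr hpa
      apply hr₀
      have e := aeval_eq_of_dvd hv' hb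
      rw [map_one, Module.End.one_apply] at e
      conv_lhs => arg 2; rw [← e, map_mul, Module.End.mul_apply]
      rw [hA]
      refine hperp _ ?_
      exact hinv' b _ ((hWm _).2 ⟨r₀, rfl⟩)
    refine exists_det_of_subspace σ hh hσ hW hinv hinv' s₀ lam hlam ?_
    let Φ : Q p ≃ₗ[F] W := LinearEquiv.ofInjective (cycQ hv') (cycQ_injective hirr hv' hv'0)
    have hΦ : Φ.toLinearMap ∘ₗ ((LinearMap.lsmul F[X] (Q p) s₀).restrictScalars F) ∘ₗ Φ.symm.toLinearMap =
        (aeval (lin g) s₀).restrict (hinv s₀) := by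
      refine LinearMap.ext fun y => ?_
      obtain ⟨x, rfl⟩ := Φ.surjective y
      simp only [LinearMap.comp_apply, LinearEquiv.coe_coe, LinearEquiv.symm_apply_apply]
      exact Subtype.ext (cycQ_smul hv' s₀ x)
    rw [← hΦ, LinearMap.det_conj]
    exact hs₀
  · have hgood' := tau_good σ hgood
    have hirr' := tau_irreducible σ hσ hgood hirr
    have hne : ¬ p ∣ tau σ p := fun h => hpt
      (eq_of_monic_of_associated hgood'.1.1 hgood.1 (hirr.associated_of_dvd hirr' h).symm)
    have hne' : ¬ tau σ p ∣ p := fun h => hpt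
      (eq_of_monic_of_associated hgood'.1.1 hgood.1 (hirr'.associated_of_dvd hirr h))
    have hw0' : w ≠ 0 := fun h => hvw (by rw [h, herm_zero_right])
    have hiso : ∀ {p' : F[X]}, Irreducible p' → Good p' → ¬ p' ∣ tau σ p' → ∀ {x y : Fin n → F},
        aeval (lin g) p' x = 0 → aeval (lin g) p' y = 0 → herm σ x y = 0 := by
      intro p' hi' hg' hn' x y hx hy
      obtain ⟨b, hb⟩ := exists_inverse_mod hi' hn'
      have e := aeval_eq_of_dvd hx hb
      rw [map_one, Module.End.one_apply, mul_comm, map_mul, Module.End.mul_apply] at e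
      rw [← e, hA, adj_eq_tau σ (tau_good σ hg').1, tau_tau σ hσ hg', LinearMap.smul_apply, Module.End.mul_apply,
        hy, map_zero, smul_zero, herm_zero_right]
    let Ψ : Q p × Q (tau σ p) →ₗ[F] (Fin n → F) := (cycQ hv).coprod (cycQ hw0)
    let W := LinearMap.range Ψ
    have hWm : ∀ x, x ∈ W ↔ ∃ a b, aeval (lin g) a v + aeval (lin g) b w = x := fun x => ⟨fun ⟨⟨y, z⟩, hy⟩ => by
      obtain ⟨a, rfl⟩ := Submodule.Quotient.mk_surjective _ y
      obtain ⟨b, rfl⟩ := Submodule.Quotient.mk_surjective _ z
      exact ⟨a, b, hy⟩, fun ⟨a, b, h⟩ => ⟨(Submodule.Quotient.mk a, Submodule.Quotient.mk b), h⟩⟩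
    have hlinW : ∀ x ∈ W, lin g x ∈ W := fun x hx => by
      obtain ⟨a, b, rfl⟩ := (hWm x).1 hx
      exact (hWm _).2 ⟨X * a, X * b, by rw [map_mul, map_mul, aeval_X, map_add]; rfl⟩
    have hinv := aeval_preserves hlinW
    have hinv' : ∀ r : F[X], ∀ x ∈ W, adj σ g r x ∈ W := fun r => aeval_preserves (inv_preserves hlinW) _
    have hcl : ∀ {p' : F[X]} {x : Fin n → F}, aeval (lin g) p' x = 0 → ∀ a : F[X],
        aeval (lin g) p' (aeval (lin g) a x) = 0 := by
      intro p' x hx a
      rw [← Module.End.mul_apply, ← map_mul, mul_comm, map_mul, Module.End.mul_apply, hx, map_zero]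
    have hvv : ∀ a c : F[X], herm σ (aeval (lin g) a v) (aeval (lin g) c v) = 0 :=
      fun a c => hiso hirr hgood hne (hcl hv a) (hcl hv c)
    have hww : ∀ a c : F[X], herm σ (aeval (lin g) a w) (aeval (lin g) c w) = 0 :=
      fun a c => hiso hirr' hgood'.1 (by rwa [tau_tau σ hσ hgood]) (hcl hw0 a) (hcl hw0 c)
    have hcross : ∀ a, ¬ p ∣ a → ∀ (b : F[X]), (∀ c : F[X], herm σ (aeval (lin g) a v) (aeval (lin g) c w) = 0) → False := by
      intro a ha _ hall
      obtain ⟨b, hb⟩ := exists_inverse_mod hirr ha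
      apply hvw
      have e := aeval_eq_of_dvd hv hb
      rw [map_one, Module.End.one_apply, map_mul, Module.End.mul_apply] at e
      rw [← e, hA]
      obtain ⟨a', b', he'⟩ := (hWm _).1 (hinv' b w ((hWm w).2 ⟨0, 1, by simp⟩))
      rw [← he', herm_add_right, hvv, hall, add_zero]
    have hcross' : ∀ b, ¬ tau σ p ∣ b → (∀ c : F[X], herm σ (aeval (lin g) b w) (aeval (lin g) c v) = 0) → False := by
      intro a ha hall
      obtain ⟨b, hb⟩ := exists_inverse_mod hirr' ha
      apply hvw
      rw [← herm_symm σ hσ w v]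
      have e := aeval_eq_of_dvd hw0 hb
      rw [map_one, Module.End.one_apply, map_mul, Module.End.mul_apply] at e
      rw [← e, hA]
      obtain ⟨a', b', he'⟩ := (hWm _).1 (hinv' b v ((hWm v).2 ⟨1, 0, by simp⟩))
      rw [← he', herm_add_right, hww, hall, zero_add, map_zero]
    have hW : ∀ x ∈ W, (∀ y ∈ W, herm σ x y = 0) → x = 0 := by
      intro x hx hperp
      obtain ⟨a, b, rfl⟩ := (hWm x).1 hx
      have ha : p ∣ a := by
        by_contra ha
        refine hcross a ha 0 fun c => ?_
        have := hperp _ ((hWm _).2 ⟨0, c, rfl⟩)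
        simpa [herm_add_left, hww] using this
      have hb : tau σ p ∣ b := by
        by_contra hb
        refine hcross' b hb fun c => ?_
        have := hperp _ ((hWm _).2 ⟨c, 0, rfl⟩)
        simpa [herm_add_left, hvv] using this
      rw [aeval_eq_of_dvd hv (show p ∣ a - 0 by rwa [sub_zero]), aeval_eq_of_dvd hw0 (show tau σ p ∣ b - 0 by rwa [sub_zero]),
        map_zero, LinearMap.zero_apply, LinearMap.zero_apply, add_zero]
    obtain ⟨x', y', hxy⟩ := hirr.coprime_iff_not_dvd.2 hne
    let s := s₀ * (y' * tau σ p) + x' * p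
    have hs1 : ∀ z : Q p, s • z = s₀ • z := by
      intro z
      induction z using Submodule.Quotient.induction_on with
      | _ r =>
        rw [← Submodule.Quotient.mk_smul, ← Submodule.Quotient.mk_smul, Submodule.Quotient.eq, Submodule.mem_span_singleton]
        exact ⟨(x' - s₀ * x') * r, by simp only [smul_eq_mul, s]; linear_combination (-s₀ * r) * hxy⟩
    have hs2 : ∀ z : Q (tau σ p), s • z = z := by
      intro z
      induction z using Submodule.Quotient.induction_on with
      | _ r =>
        rw [← Submodule.Quotient.mk_smul, Submodule.Quotient.eq, Submodule.mem_span_singleton]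
        exact ⟨(s₀ * y' - y') * r, by simp only [smul_eq_mul, s]; linear_combination (-r) * hxy⟩
    refine exists_det_of_subspace σ hh hσ hW hinv hinv' s lam hlam ?_
    have hΨinj : Function.Injective Ψ := by
      rw [← LinearMap.ker_eq_bot, Submodule.eq_bot_iff]
      rintro ⟨y, z⟩ hyz
      obtain ⟨a, rfl⟩ := Submodule.Quotient.mk_surjective _ y
      obtain ⟨b, rfl⟩ := Submodule.Quotient.mk_surjective _ z
      have hsum : aeval (lin g) a v + aeval (lin g) b w = 0 := hyz
      have ha : p ∣ a := by
        by_contra ha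
        refine hcross a ha 0 fun c => ?_
        have := congrArg (fun t => herm σ t (aeval (lin g) c w)) hsum
        simpa [herm_add_left, hww, herm_zero_left] using this
      have hb : tau σ p ∣ b := by
        by_contra hb
        refine hcross' b hb fun c => ?_
        have := congrArg (fun t => herm σ t (aeval (lin g) c v)) hsum
        simpa [herm_add_left, hvv, herm_zero_left] using this
      refine Prod.ext ?_ ?_
      · exact (Submodule.Quotient.mk_eq_zero _).2 (Ideal.mem_span_singleton.2 ha)
      · exact (Submodule.Quotient.mk_eq_zero _).2 (Ideal.mem_span_singleton.2 hb)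
    let Φ : (Q p × Q (tau σ p)) ≃ₗ[F] W := LinearEquiv.ofInjective Ψ hΨinj
    have hΦ : Φ.toLinearMap ∘ₗ LinearMap.prodMap ((LinearMap.lsmul F[X] (Q p) s₀).restrictScalars F) LinearMap.id ∘ₗ
        Φ.symm.toLinearMap = (aeval (lin g) s).restrict (hinv s) := by
      refine LinearMap.ext fun y => ?_
      obtain ⟨⟨x, z⟩, rfl⟩ := Φ.surjective y
      simp only [LinearMap.comp_apply, LinearEquiv.coe_coe, LinearEquiv.symm_apply_apply]
      refine Subtype.ext ?_
      show cycQ hv (s₀ • x) + cycQ hw0 z = aeval (lin g) s (cycQ hv x + cycQ hw0 z)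
      rw [map_add, ← hs1, cycQ_smul]
      conv_lhs => arg 2; rw [← hs2 z, cycQ_smul]
    haveI : Module.Finite F (Q p) := Module.Finite.of_basis (AdjoinRoot.powerBasis hirr.ne_zero).basis
    haveI : Module.Finite F (Q (tau σ p)) := Module.Finite.of_basis (AdjoinRoot.powerBasis hirr'.ne_zero).basis
    rw [← hΦ, LinearMap.det_conj, LinearMap.det_prodMap, LinearMap.det_id, mul_one]
    exact hs₀

end Cfsg.Agent.UnitaryPrimary53
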