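import Mathlib
import Cfsg.Prelude.Def_Classical
import Cfsg.Agent.Lib.UnitaryPrimary53

/-!
Class numbers of `SU(n,q)`.
-/

set_option autoImplicit false

open Polynomial Matrix
open Cfsg.Agent.GLClassBound53 Cfsg.Agent.GLInvariants53 Cfsg.Agent.SLClassCount53
open Cfsg.Agent.UnitaryPolys53 Cfsg.Agent.UnitaryCentralizer53
open Cfsg.Agent.HermitianFactor (ct)

namespace Cfsg.Agent.UnitaryClasses53

universe u

variable {F : Type u} [Field F] [Fintype F] {n q : ℕ} (σ : F →+* F)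

/-- `SU` inside `GL` -/
noncomputable def suGL : Cfsg.SU n F q →* GL (Fin n) F :=
  Matrix.SpecialLinearGroup.toGL.comp (Cfsg.SU n F q).subtype

theorem suGL_unitary (hσ : ∀ x, σ (σ x) = x) (hq : ∀ x, σ x = x ^ q) (x : Cfsg.SU n F q) :
    ct σ ((suGL x : GL (Fin n) F) : Matrix (Fin n) (Fin n) F) * (suGL x : GL (Fin n) F) = 1 :=
  (HermitianFactor.mem_GU_iff hq hσ _).1 x.2

theorem suGL_injective : Function.Injective (suGL (n := n) (F := F) (q := q)) := fun a b h =>
  Subtype.ext (Matrix.SpecialLinearGroup.toGL_injective h)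

/-- build an element of `SU` -/
noncomputable def ofMatrix (hσ : ∀ x, σ (σ x) = x) (hq : ∀ x, σ x = x ^ q) (M : Matrix (Fin n) (Fin n) F)
    (hd : M.det = 1) (hM : ct σ M * M = 1) : Cfsg.SU n F q :=
  ⟨⟨M, hd⟩, (HermitianFactor.mem_GU_iff hq hσ (Matrix.SpecialLinearGroup.toGL ⟨M, hd⟩)).2 hM⟩

variable [NeZero n]

/-- determinants of the unitary centraliser -/
noncomputable def detCentU (q : ℕ) (g : GL (Fin n) F) : Subgroup Fˣ :=
  (Subgroup.centralizer ({g} : Set (GL (Fin n) F)) ⊓ Cfsg.GU n F q).map Matrix.GeneralLinearGroup.det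

/-- elements of norm one -/
noncomputable def normOne (q : ℕ) : Subgroup Fˣ := (powMonoidHom (q + 1)).ker

open scoped Classical in
/-- bound on the number of `SU` classes with a given tuple -/
noncomputable def splitU (q : ℕ) (h : Fin n → F[X]) : ℕ := if h 0 = 1 then Nat.gcd n (q + 1) else 1

theorem splitU_pos (h : Fin n → F[X]) : 0 < splitU q h := by
  unfold splitU
  split_ifs
  · exact Nat.gcd_pos_of_pos_left _ (Nat.pos_of_ne_zero (NeZero.ne n))
  · exact Nat.one_pos

theorem herm_to_ct (hσ : ∀ x, σ (σ x) = x) (hq : ∀ x, σ x = x ^ q) (A : GL (Fin n) F)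
    (h : ∀ x y, herm σ ((A : Matrix (Fin n) (Fin n) F) *ᵥ x) ((A : Matrix (Fin n) (Fin n) F) *ᵥ y) = herm σ x y) :
    A ∈ Cfsg.GU n F q := by
  intro u v
  have := h u v
  simpa [herm, Cfsg.hermForm, dotProduct, hq] using this

theorem card_quot_le (hσ : ∀ x, σ (σ x) = x) (hns : ∃ c, σ c ≠ c) (hq : ∀ x, σ x = x ^ q)
    (hF : Fintype.card F = q ^ 2) (g : GL (Fin n) F) (hg : ct σ (g : Matrix (Fin n) (Fin n) F) * g = 1) :
    Nat.card (normOne (F := F) q ⧸ (detCentU q g).subgroupOf (normOne q)) ≤ splitU q (SLClasses53.tup g) := by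
  classical
  obtain ⟨u, hu⟩ := IsCyclic.exists_generator (α := normOne (F := F) q)
  have hpow : ∀ a : normOne (F := F) q, a ^ n ∈ (detCentU q g).subgroupOf (normOne q) := by
    intro a
    have ha : σ ((a : Fˣ) : F) * ((a : Fˣ) : F) = 1 := by
      rw [hq, ← pow_succ, ← Units.val_pow_eq_pow_val, show (a : Fˣ) ^ (q + 1) = 1 from a.2, Units.val_one]
    have hd : (((a : Fˣ) : F) • (1 : Matrix (Fin n) (Fin n) F)).det = ((a : Fˣ) : F) ^ n := by simp
    let A := Matrix.GeneralLinearGroup.mkOfDetNeZero (((a : Fˣ) : F) • (1 : Matrix (Fin n) (Fin n) F))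
      (by rw [hd]; exact pow_ne_zero _ (a : Fˣ).ne_zero)
    rw [Subgroup.mem_subgroupOf]
    refine Subgroup.mem_map.2 ⟨A, ⟨Subgroup.mem_centralizer_singleton_iff.2 (Units.ext ?_), ?_⟩, Units.ext ?_⟩
    · show (((a : Fˣ) : F) • (1 : Matrix (Fin n) (Fin n) F)) * _ = _ * (((a : Fˣ) : F) • (1 : Matrix (Fin n) (Fin n) F))
      rw [smul_one_mul, mul_smul_one]
    · refine herm_to_ct σ hσ hq A fun x y => ?_
      show herm σ ((((a : Fˣ) : F) • (1 : Matrix (Fin n) (Fin n) F)) *ᵥ x) _ = _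
      rw [Matrix.smul_mulVec, Matrix.one_mulVec, show (A : Matrix (Fin n) (Fin n) F) *ᵥ y = ((a : Fˣ) : F) • y by
        show (((a : Fˣ) : F) • (1 : Matrix (Fin n) (Fin n) F)) *ᵥ y = _
        rw [Matrix.smul_mulVec, Matrix.one_mulVec], herm_smul_left, herm_smul_right, ← mul_assoc, mul_comm ((a : Fˣ) : F),
        ha, one_mul]
    · rw [SubgroupClass.coe_pow, Units.val_pow_eq_pow_val]
      exact hd
  have hgen : ∀ x : normOne (F := F) q ⧸ (detCentU q g).subgroupOf (normOne q),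
      x ∈ Subgroup.zpowers ((u : normOne (F := F) q) : normOne (F := F) q ⧸ (detCentU q g).subgroupOf (normOne q)) := by
    intro x
    obtain ⟨a, rfl⟩ := QuotientGroup.mk_surjective x
    obtain ⟨m, rfl⟩ := Subgroup.mem_zpowers_iff.1 (hu a)
    exact Subgroup.mem_zpowers_iff.2 ⟨m, rfl⟩
  rw [← orderOf_eq_card_of_forall_mem_zpowers hgen]
  refine Nat.le_of_dvd (splitU_pos _) (orderOf_dvd_of_pow_eq_one ?_)
  rw [← QuotientGroup.mk_pow]
  refine (QuotientGroup.eq_one_iff _).2 ?_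
  unfold splitU
  split_ifs with h0
  · refine SLClasses53.zpow_gcd_mem _ u (hpow u) ?_
    rw [show u ^ (q + 1) = 1 from Subtype.ext (by rw [SubgroupClass.coe_pow]; exact u.2)]
    exact one_mem _
  · rw [pow_one, Subgroup.mem_subgroupOf]
    have hn1 : σ ((u : Fˣ) : F) * ((u : Fˣ) : F) = 1 := by
      rw [hq, ← pow_succ, ← Units.val_pow_eq_pow_val, show (u : Fˣ) ^ (q + 1) = 1 from u.2, Units.val_one]
    obtain ⟨c, hc⟩ := hns
    obtain ⟨lam, hlam, hle⟩ := NormHilbert90.exists_isUnit_eq_mul σ hσ c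
      (sub_ne_zero.2 (Ne.symm hc)).isUnit ((u : Fˣ) : F) (by rw [mul_comm]; exact hn1)
    obtain ⟨T, hT1, hT2, hT3⟩ := UnitaryPrimary53.exists_det σ hσ ⟨c, hc⟩ hg h0 lam hlam.ne_zero
    have hlam' : lam * (σ lam)⁻¹ = ((u : Fˣ) : F) := by
      have : σ lam ≠ 0 := fun h => hlam.ne_zero (σ.injective (by rw [h, map_zero]))
      conv_lhs => arg 1; rw [← hle]
      rw [mul_inv_cancel_right₀ this]
    rw [hlam'] at hT3
    let M := LinearMap.toMatrix' T
    have hMd : M.det = ((u : Fˣ) : F) := by rw [LinearMap.det_toMatrix', hT3]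
    let A := Matrix.GeneralLinearGroup.mkOfDetNeZero M (by rw [hMd]; exact (u : Fˣ).ne_zero)
    refine Subgroup.mem_map.2 ⟨A, ⟨Subgroup.mem_centralizer_singleton_iff.2 (Units.ext ?_), ?_⟩, Units.ext hMd⟩
    · show M * _ = _ * M
      have h := congrArg LinearMap.toMatrix' hT1.eq
      rw [Module.End.mul_eq_comp, Module.End.mul_eq_comp, LinearMap.toMatrix'_comp, LinearMap.toMatrix'_comp, lin,
        LinearMap.toMatrix'_toLin'] at h
      exact h
    · refine herm_to_ct σ hσ hq A fun x y => ?_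
      show herm σ (LinearMap.toMatrix' T *ᵥ x) (LinearMap.toMatrix' T *ᵥ y) = _
      rw [LinearMap.toMatrix'_mulVec, LinearMap.toMatrix'_mulVec, hT2]

/-- the tuple of a class of `SU` -/
noncomputable def tupU : ConjClasses (Cfsg.SU n F q) → T F n n :=
  Quotient.lift (fun g => SLClasses53.tupT (suGL g)) fun _ _ h =>
    Subtype.ext (SLClasses53.tup_eq_of_conj (suGL.map_isConj h))

theorem chi_tupU (c : ConjClasses (Cfsg.SU n F q)) : chi (tupU c).1 = 1 := by
  obtain ⟨g, rfl⟩ := Quotient.exists_rep c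
  show chi (SLClasses53.tup (suGL g)) = 1
  rw [← SLClasses53.det_eq_chi]
  exact g.1.2

theorem fixed_tupU (hσ : ∀ x, σ (σ x) = x) (hq : ∀ x, σ x = x ^ q) (c : ConjClasses (Cfsg.SU n F q)) (j : Fin n) :
    Fixed σ ((tupU c).1 j) := by
  obtain ⟨g, rfl⟩ := Quotient.exists_rep c
  exact UnitaryPrimary53.tau_tup σ hσ (suGL_unitary σ hσ hq g) j

theorem card_fiber_le (hσ : ∀ x, σ (σ x) = x) (hns : ∃ c, σ c ≠ c) (hq : ∀ x, σ x = x ^ q)
    (hF : Fintype.card F = q ^ 2) (h : T F n n) :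
    Nat.card {c : ConjClasses (Cfsg.SU n F q) // tupU c = h} ≤ splitU q h.1 := by
  classical
  rcases isEmpty_or_nonempty {c : ConjClasses (Cfsg.SU n F q) // tupU c = h} with hE | ⟨⟨c₀, hc₀⟩⟩
  · simp
  obtain ⟨g₀, rfl⟩ := Quotient.exists_rep c₀
  subst hc₀
  obtain ⟨c', hc'⟩ := hns
  have hconj : ∀ c : {c : ConjClasses (Cfsg.SU n F q) // tupU c = tupU (Quotient.mk _ g₀)},
      ∃ x : Cfsg.SU n F q, ConjClasses.mk x = c.1 ∧ ∃ w : GL (Fin n) F,
        (ct σ (w : Matrix (Fin n) (Fin n) F) * w = 1) ∧ w * suGL g₀ * w⁻¹ = suGL x := by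
    rintro ⟨c, hc⟩
    obtain ⟨x, rfl⟩ := Quotient.exists_rep c
    obtain ⟨z, hz⟩ := isConj_iff.1 ((SLClasses53.dec (suGL g₀)).isConj (SLClasses53.dec (suGL x))
      (SLClasses53.M_eq_of_tup (congrArg Subtype.val hc).symm))
    exact ⟨x, rfl, conj_in_unitary σ hσ c' hc' (suGL_unitary σ hσ hq g₀) (suGL_unitary σ hσ hq x) hz⟩
  choose x hx w hwu hw using hconj
  have hnorm : ∀ c, Matrix.GeneralLinearGroup.det (w c) ∈ normOne (F := F) q := by
    intro c
    refine Units.ext ?_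
    show ((Matrix.GeneralLinearGroup.det (w c) ^ (q + 1) : Fˣ) : F) = ((1 : Fˣ) : F)
    have h := congrArg Matrix.det (hwu c)
    rw [Matrix.det_mul, HermitianFactor.ct, Matrix.det_transpose, Matrix.det_one,
      ← RingHom.mapMatrix_apply, ← RingHom.map_det, hq, ← pow_succ] at h
    simpa using h
  refine (Nat.card_le_card_of_injective
    (fun c => ((⟨_, hnorm c⟩ : normOne (F := F) q) : normOne (F := F) q ⧸ (detCentU q (suGL g₀)).subgroupOf (normOne q)))
    fun c d hcd => ?_).trans (card_quot_le σ hσ ⟨c', hc'⟩ hq hF (suGL g₀) (suGL_unitary σ hσ hq g₀))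
  have hmem := QuotientGroup.eq.1 hcd
  rw [Subgroup.mem_subgroupOf] at hmem
  obtain ⟨z, hz, hzd⟩ := Subgroup.mem_map.1 hmem
  obtain ⟨hzc, hzu⟩ := hz
  have hzc' : z * suGL g₀ = suGL g₀ * z := Subgroup.mem_centralizer_singleton_iff.1 hzc
  set v := w d * z⁻¹ * (w c)⁻¹ with hv
  have hwG : ∀ e, w e ∈ Cfsg.GU n F q := fun e => (HermitianFactor.mem_GU_iff hq hσ _).2 (hwu e)
  have hvG : v ∈ Cfsg.GU n F q := mul_mem (mul_mem (hwG d) (inv_mem hzu)) (inv_mem (hwG c))
  have hv1 : Matrix.GeneralLinearGroup.det v = 1 := by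
    rw [hv, map_mul, map_mul, map_inv, map_inv, hzd]
    simp [mul_comm, mul_left_comm]
  let s : Cfsg.SU n F q := ofMatrix σ hσ hq (v : Matrix (Fin n) (Fin n) F) (by simpa using congrArg Units.val hv1)
    ((HermitianFactor.mem_GU_iff hq hσ v).1 hvG)
  have hs : suGL s = v := Units.ext rfl
  have hz' : z⁻¹ * suGL g₀ * z = suGL g₀ := by rw [mul_assoc, ← hzc']; group
  have key : s * x c * s⁻¹ = x d := by
    apply suGL_injective
    rw [map_mul, map_mul, map_inv, hs, ← hw c, ← hw d, hv]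
    calc _ = w d * (z⁻¹ * suGL g₀ * z) * (w d)⁻¹ := by group
      _ = _ := by rw [hz']
  apply Subtype.ext
  rw [← hx c, ← hx d, ConjClasses.mk_eq_mk_iff_isConj]
  exact isConj_iff.2 ⟨s, key⟩

omit [Fintype F] [NeZero n] in
theorem const_of_cst (p : F[X]) : p.coeff 0 = (-1) ^ p.natDegree * cst p := by
  rw [cst, ← mul_assoc, ← pow_add, Even.neg_one_pow (Even.add_self _), one_mul]

/-- the count -/
theorem card_classes_le {m : ℕ} (hσ : ∀ x, σ (σ x) = x) (hns : ∃ c, σ c ≠ c) (hq : ∀ x, σ x = x ^ q)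
    (hF : Fintype.card F = q ^ 2) :
    Nat.card (ConjClasses (Cfsg.SU (m + 1) F q)) ≤
      (∑ d : Fin (m + 1), q ^ (d : ℕ) * UnitaryCountArith53.tot q 2 m (m - d)) +
        Nat.gcd (m + 1) (q + 1) * UnitaryCountArith53.tot q 2 m (m + 1) := by
  classical
  haveI := fun k s => fun (h : 1 ≤ s) j => (card_TS_le σ hσ hns hq hF k s h j).1
  haveI hfin : ∀ j, Finite (TS σ 2 m j) := fun j => (card_TS_le σ hσ hns hq hF m 2 (by norm_num) j).1
  let A := {h : T F (m + 1) (m + 1) // (∀ j, Fixed σ (h.1 j)) ∧ chi h.1 = 1}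
  haveI : Finite (T F (m + 1) (m + 1)) := (finite_T (F := F) _ _).1
  haveI : Fintype A := Fintype.ofFinite A
  let f : ConjClasses (Cfsg.SU (m + 1) F q) → Σ h : A, {c : ConjClasses (Cfsg.SU (m + 1) F q) // tupU c = h.1} :=
    fun c => ⟨⟨tupU c, fixed_tupU σ hσ hq c, chi_tupU c⟩, ⟨c, rfl⟩⟩
  have hf : Function.Injective f := fun a b hab =>
    congrArg (fun t : Σ h : A, {c : ConjClasses (Cfsg.SU (m + 1) F q) // tupU c = h.1} => t.2.1) hab
  refine (Nat.card_le_card_of_injective f hf).trans ?_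
  rw [Nat.card_sigma]
  refine (Finset.sum_le_sum fun h _ => card_fiber_le σ hσ hns hq hF h.1).trans ?_
  rw [← Finset.sum_filter_add_sum_filter_not Finset.univ (fun h : A => h.1.1 0 ≠ 1)]
  have htail : ∀ h : A, (h.1.1 0).natDegree + ∑ j : Fin m, (2 + (j : ℕ)) * (h.1.1 j.succ).natDegree = m + 1 := by
    intro h
    refine Eq.trans ?_ h.1.2.2
    rw [Fin.sum_univ_succ, Fin.val_zero, zero_add, one_mul]
    exact congrArg _ (Finset.sum_congr rfl fun j _ => by rw [Fin.val_succ]; ring)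
  refine Nat.add_le_add ?_ ?_
  · rw [Finset.sum_congr rfl fun h hh => (show splitU q h.1.1 = 1 by
      unfold splitU; rw [if_neg (Finset.mem_filter.1 hh).2]), ← Finset.card_eq_sum_ones, ← Fintype.card_coe,
      ← Nat.card_eq_fintype_card]
    let ν : ∀ d : ℕ, ∀ {j : ℕ}, TS σ 2 m j → F := fun d {j} t =>
      (-1) ^ d * (∏ i : Fin m, cst (t.1 i) ^ ((i : ℕ) + 2))⁻¹
    let g : (Finset.univ.filter fun h : A => h.1.1 0 ≠ 1) →
        Σ d : Fin (m + 1), Σ t : TS σ 2 m (m - d), {p : P F ((d : ℕ) + 1) // Fixed σ p.1 ∧ p.1.coeff 0 = ν ((d : ℕ) + 1) t} :=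
      fun h => ⟨⟨(h.1.1.1 0).natDegree - 1, by have := htail h.1; omega⟩,
        ⟨fun j => h.1.1.1 j.succ, fun j => h.1.2.1 _, by
          have := htail h.1
          have h0 : (h.1.1.1 0).natDegree ≠ 0 := fun hd => (Finset.mem_filter.1 h.2).2
            ((h.1.2.1 0).1.1.natDegree_eq_zero.1 hd)
          show (∑ j : Fin m, (2 + (j : ℕ)) * (h.1.1.1 j.succ).natDegree) = m - ((h.1.1.1 0).natDegree - 1)
          omega⟩,
        ⟨h.1.1.1 0, (h.1.2.1 0).1, by
          have h0 : (h.1.1.1 0).natDegree ≠ 0 := fun hd => (Finset.mem_filter.1 h.2).2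
            ((h.1.2.1 0).1.1.natDegree_eq_zero.1 hd)
          show _ = (h.1.1.1 0).natDegree - 1 + 1
          omega⟩, h.1.2.1 0, by
          have h0 : (h.1.1.1 0).natDegree ≠ 0 := fun hd => (Finset.mem_filter.1 h.2).2
            ((h.1.2.1 0).1.1.natDegree_eq_zero.1 hd)
          show (h.1.1.1 0).coeff 0 = (-1) ^ ((h.1.1.1 0).natDegree - 1 + 1) * _
          rw [show (h.1.1.1 0).natDegree - 1 + 1 = (h.1.1.1 0).natDegree by omega]
          refine (const_of_cst _).trans ?_
          refine congrArg _ (eq_inv_of_mul_eq_one_left ?_)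
          refine Eq.trans ?_ h.1.2.2
          simp only [chi]
          rw [Fin.prod_univ_succ, Fin.val_zero, zero_add, pow_one]
          exact congrArg _ (Finset.prod_congr rfl fun j _ => by rw [Fin.val_succ])⟩
    have hg : Function.Injective g := by
      intro a b hab
      have h1 := congrArg (fun t : Σ d : Fin (m + 1), Σ t : TS σ 2 m (m - d),
        {p : P F ((d : ℕ) + 1) // Fixed σ p.1 ∧ p.1.coeff 0 = ν ((d : ℕ) + 1) t} => t.2.2.1.1) hab
      have h2 := congrArg (fun t : Σ d : Fin (m + 1), Σ t : TS σ 2 m (m - d),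
        {p : P F ((d : ℕ) + 1) // Fixed σ p.1 ∧ p.1.coeff 0 = ν ((d : ℕ) + 1) t} => t.2.1.1) hab
      refine Subtype.ext (Subtype.ext (Subtype.ext (funext fun j => ?_)))
      refine Fin.cases ?_ (fun i => ?_) j
      · exact h1
      · exact congrFun h2 i
    refine (Nat.card_le_card_of_injective g hg).trans ?_
    haveI : ∀ (d : Fin (m + 1)) (t : TS σ 2 m (m - d)), Finite {p : P F ((d : ℕ) + 1) // Fixed σ p.1 ∧ p.1.coeff 0 = ν ((d : ℕ) + 1) t} :=
      fun d t => Subtype.finite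
    haveI := fun d : Fin (m + 1) => Fintype.ofFinite (TS σ 2 m (m - (d : ℕ)))
    rw [Nat.card_sigma]
    refine Finset.sum_le_sum fun d _ => ?_
    rw [Nat.card_sigma]
    refine (Finset.sum_le_sum fun t _ => card_fixed_const_le σ hσ hns hF _ _).trans ?_
    rw [Finset.sum_const, Finset.card_univ, smul_eq_mul, mul_comm, ← Nat.card_eq_fintype_card]
    exact Nat.mul_le_mul_left _ (card_TS_le σ hσ hns hq hF m 2 (by norm_num) _).2
  · refine (Finset.sum_le_card_nsmul _ _ (Nat.gcd (m + 1) (q + 1)) fun h hh => le_of_eq ?_).trans ?_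
    · unfold splitU
      rw [if_pos (not_not.1 (Finset.mem_filter.1 hh).2)]
    rw [smul_eq_mul, mul_comm]
    refine Nat.mul_le_mul_left _ (le_trans ?_ (card_TS_le σ hσ hns hq hF m 2 (by norm_num) (m + 1)).2)
    rw [← Fintype.card_coe, ← Nat.card_eq_fintype_card]
    refine Nat.card_le_card_of_injective (fun h => (⟨fun j => h.1.1.1 j.succ, fun j => h.1.2.1 _, by
      have := htail h.1
      rw [not_not.1 (Finset.mem_filter.1 h.2).2, natDegree_one, zero_add] at this
      exact this⟩ : TS σ 2 m (m + 1))) fun a b hab => ?_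
    refine Subtype.ext (Subtype.ext (Subtype.ext (funext fun j => ?_)))
    refine Fin.cases ?_ (fun i => ?_) j
    · rw [not_not.1 (Finset.mem_filter.1 a.2).2, not_not.1 (Finset.mem_filter.1 b.2).2]
    · exact congrFun (congrArg (fun t : TS σ 2 m (m + 1) => t.1) hab) i

/-- every admissible polynomial is a characteristic polynomial in `SU` -/
theorem exists_charpoly (hσ : ∀ x, σ (σ x) = x) (hns : ∃ c, σ c ≠ c) (hq : ∀ x, σ x = x ^ q) {f : F[X]}
    (hf : Fixed σ f) (hd : f.natDegree = n) (hdet : cst f = 1) :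
    ∃ g : Cfsg.SU n F q, ((suGL g : GL (Fin n) F) : Matrix (Fin n) (Fin n) F).charpoly = f := by
  classical
  have hf0 : f ≠ 0 := hf.1.1.ne_zero
  let pb := AdjoinRoot.powerBasis hf0
  have hroot : IsUnit (AdjoinRoot.root f) := by
    have h := AdjoinRoot.eval₂_root f
    rw [eval₂_eq_sum_range] at h
    rw [Finset.sum_range_succ'] at h
    simp only [pow_succ', ← mul_assoc, pow_zero, mul_one] at h
    rw [Finset.sum_congr rfl fun i _ => (show AdjoinRoot.of f (f.coeff (i + 1)) * AdjoinRoot.root f * AdjoinRoot.root f ^ i =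
      AdjoinRoot.root f * (AdjoinRoot.of f (f.coeff (i + 1)) * AdjoinRoot.root f ^ i) by ring), ← Finset.mul_sum,
      add_eq_zero_iff_eq_neg] at h
    exact isUnit_of_mul_isUnit_left (h ▸ ((hf.1.2).isUnit.map (AdjoinRoot.of f)).neg)
  obtain ⟨ru, hru⟩ := hroot
  have hlift : f.eval₂ ((AdjoinRoot.of f).comp σ) ((ru⁻¹ : (AdjoinRoot f)ˣ) : AdjoinRoot f) = 0 := by
    rw [← eval₂_map]
    haveI : Invertible (AdjoinRoot.root f) := (ru.invertible).copy _ hru.symm
    have h := AdjoinRoot.eval₂_root f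
    have e : (f.map σ).reverse = C (σ (f.coeff 0)) * f := by
      conv_rhs => arg 2; rw [← hf.2]
      rw [tau, ← mul_assoc, ← C_mul, mul_inv_cancel₀ (fun h => hf.1.2 (σ.injective (by rw [h, map_zero]))), C_1, one_mul]
    have hi : (⅟(AdjoinRoot.root f) : AdjoinRoot f) = ((ru⁻¹ : (AdjoinRoot f)ˣ) : AdjoinRoot f) :=
      invOf_eq_right_inv (by rw [← hru, Units.mul_inv])
    have h2 : eval₂ (AdjoinRoot.of f) (AdjoinRoot.root f) (f.map σ).reverse = 0 := by
      rw [e, eval₂_mul, h, mul_zero]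
    rw [← hi] at *
    have h3 := (eval₂_reverse_eq_zero_iff (AdjoinRoot.of f) (⅟(AdjoinRoot.root f)) (f.map σ))
    simp only [invOf_invOf] at h3
    exact h3.1 h2
  let bar : AdjoinRoot f →+* AdjoinRoot f := AdjoinRoot.lift ((AdjoinRoot.of f).comp σ) _ hlift
  have hbar_root : bar (AdjoinRoot.root f) = ((ru⁻¹ : (AdjoinRoot f)ˣ) : AdjoinRoot f) := AdjoinRoot.lift_root hlift
  have hbar_smul : ∀ (a : F) x, bar (a • x) = σ a • bar x := by
    intro a x
    rw [Algebra.smul_def, Algebra.smul_def, map_mul, AdjoinRoot.algebraMap_eq, AdjoinRoot.lift_of]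
    rfl
  have hbar_bar : ∀ x, bar (bar x) = x := by
    have : bar.comp bar = RingHom.id _ := by
      refine AdjoinRoot.ringHom_ext (RingHom.ext fun a => ?_) ?_
      · simp only [RingHom.comp_apply, RingHom.id_apply, bar, AdjoinRoot.lift_of, hσ]
      · rw [RingHom.comp_apply, hbar_root, RingHom.id_apply, ← hru]
        have h1 := congrArg bar ru.inv_mul
        rw [map_mul, map_one, hru, hbar_root] at h1
        rw [← mul_one (bar _), ← ru.inv_mul, ← mul_assoc, h1, one_mul]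
    exact fun x => RingHom.congr_fun this x
  let L := Algebra.leftMulMatrix pb.basis
  let C₀ := L (AdjoinRoot.root f)
  let J : Matrix (Fin pb.dim) (Fin pb.dim) F := fun i j => pb.basis.repr (bar (pb.basis j)) i
  have hJ : ∀ x, J *ᵥ (fun i => σ (pb.basis.repr x i)) = pb.basis.repr (bar x) := by
    intro x
    conv_rhs => rw [← pb.basis.sum_repr x]
    rw [map_sum, map_sum]
    funext i
    simp only [Finsupp.coe_finsetSum, Finset.sum_apply, Matrix.mulVec, dotProduct, J]
    refine Finset.sum_congr rfl fun j _ => ?_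
    rw [hbar_smul, map_smul, Finsupp.smul_apply, smul_eq_mul, mul_comm]
  have hJJ : J * J.map σ = 1 := by
    ext i j
    have h := congrFun (hJ (bar (pb.basis j))) i
    rw [hbar_bar, pb.basis.repr_self, Finsupp.single_apply, eq_comm] at h
    simp only [Matrix.mulVec, dotProduct] at h
    rw [Matrix.mul_apply, Matrix.one_apply]
    simp only [Matrix.map_apply]
    convert h.symm using 2
    · rw [eq_comm]
  have hcomm : L ((ru⁻¹ : (AdjoinRoot f)ˣ) : AdjoinRoot f) * J = J * C₀.map σ := by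
    ext i j
    have h := congrFun (hJ (AdjoinRoot.root f * pb.basis j)) i
    rw [map_mul bar, hbar_root] at h
    rw [Matrix.mul_apply, Matrix.mul_apply]
    refine Eq.trans ?_ (h.symm.trans ?_)
    · rw [← Algebra.leftMulMatrix_mulVec_repr]
      rfl
    · simp only [Matrix.mulVec, dotProduct]
      refine Finset.sum_congr rfl fun k _ => ?_
      rw [Matrix.map_apply]
      exact congrArg (fun t => J i k * σ t) (Algebra.leftMulMatrix_eq_repr_mul _ _ _ _).symm
  have hJu : IsUnit J := IsUnit.of_mul_eq_one _ hJJ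
  have hCu : IsUnit C₀ := by
    show IsUnit (L (AdjoinRoot.root f))
    rw [← hru]
    exact (ru.isUnit).map L
  have hCinv : L ((ru⁻¹ : (AdjoinRoot f)ˣ) : AdjoinRoot f) * C₀ = 1 := by
    show L _ * L (AdjoinRoot.root f) = 1
    rw [← map_mul, ← hru, Units.inv_mul, map_one]
  obtain ⟨T₀, hT₀⟩ := TransposeSimilar.isConj_transpose (C₀.map σ)
  have hct : (T₀ : Matrix (Fin pb.dim) (Fin pb.dim) F) * C₀.map σ = ct σ C₀ * T₀ := hT₀
  obtain ⟨Ju, hJu'⟩ := hJu
  have hinv : ct σ C₀ * ((T₀ * Ju⁻¹ : (Matrix (Fin pb.dim) (Fin pb.dim) F)ˣ) : Matrix (Fin pb.dim) (Fin pb.dim) F) * C₀ =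
      ((T₀ * Ju⁻¹ : (Matrix (Fin pb.dim) (Fin pb.dim) F)ˣ) : Matrix (Fin pb.dim) (Fin pb.dim) F) := by
    rw [← hJu'] at hcomm
    have e : C₀.map σ * ((Ju⁻¹ : (Matrix (Fin pb.dim) (Fin pb.dim) F)ˣ) : Matrix (Fin pb.dim) (Fin pb.dim) F) =
        ((Ju⁻¹ : (Matrix (Fin pb.dim) (Fin pb.dim) F)ˣ) : Matrix (Fin pb.dim) (Fin pb.dim) F) * L ((ru⁻¹ : (AdjoinRoot f)ˣ) : AdjoinRoot f) := by
      rw [Units.eq_inv_mul_iff_mul_eq, ← mul_assoc, ← hcomm, Units.mul_inv_cancel_right]
    rw [Units.val_mul, ← mul_assoc, ← hct, mul_assoc (T₀ : Matrix (Fin pb.dim) (Fin pb.dim) F) (C₀.map σ), e,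
      mul_assoc, mul_assoc, hCinv, mul_one]
  obtain ⟨c, hc⟩ := hns
  obtain ⟨H, hH, hHh, hHi⟩ := HermitianFactor.exists_hermitian_invariant hσ c hc hCu (T₀ * Ju⁻¹).isUnit hinv
  obtain ⟨s, -, hsu, hse⟩ := HermitianFactor.exists_factor hσ c hc hH hHh
  obtain ⟨S, rfl⟩ := hsu
  let G := (S : Matrix (Fin pb.dim) (Fin pb.dim) F) * C₀ * ((S⁻¹ : (Matrix (Fin pb.dim) (Fin pb.dim) F)ˣ) : Matrix (Fin pb.dim) (Fin pb.dim) F)
  have hGu : ct σ G * G = 1 := by
    have hS' : ct σ ((S⁻¹ : (Matrix (Fin pb.dim) (Fin pb.dim) F)ˣ) : Matrix (Fin pb.dim) (Fin pb.dim) F) * ct σ (S : Matrix (Fin pb.dim) (Fin pb.dim) F) = 1 := by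
      rw [← HermitianFactor.ct_mul, Units.mul_inv, HermitianFactor.ct_one]
    rw [← hse] at hHi
    simp only [G, HermitianFactor.ct_mul]
    set Si := ((S⁻¹ : (Matrix (Fin pb.dim) (Fin pb.dim) F)ˣ) : Matrix (Fin pb.dim) (Fin pb.dim) F) with hSi
    calc ct σ Si * (ct σ C₀ * ct σ (S : Matrix (Fin pb.dim) (Fin pb.dim) F)) * ((S : Matrix (Fin pb.dim) (Fin pb.dim) F) * C₀ * Si)
        = ct σ Si * (ct σ C₀ * (ct σ (S : Matrix (Fin pb.dim) (Fin pb.dim) F) * (S : Matrix (Fin pb.dim) (Fin pb.dim) F)) * C₀) * Si := by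
          simp only [mul_assoc]
      _ = ct σ Si * (ct σ (S : Matrix (Fin pb.dim) (Fin pb.dim) F) * (S : Matrix (Fin pb.dim) (Fin pb.dim) F)) * Si := by rw [hHi]
      _ = (ct σ Si * ct σ (S : Matrix (Fin pb.dim) (Fin pb.dim) F)) * ((S : Matrix (Fin pb.dim) (Fin pb.dim) F) * Si) := by
          simp only [mul_assoc]
      _ = 1 := by rw [hS', hSi, Units.mul_inv, mul_one]
  have hGc : G.charpoly = f := by
    simp only [G]
    rw [Matrix.coe_units_inv, Matrix.charpoly_units_conj]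
    show (L (AdjoinRoot.root f)).charpoly = f
    rw [← AdjoinRoot.powerBasis_gen hf0, charpoly_leftMulMatrix, AdjoinRoot.powerBasis_gen,
      AdjoinRoot.minpoly_root hf0, hf.1.1.leadingCoeff, inv_one, C_1, mul_one]
  have hdim : pb.dim = n := by simp [pb, hd]
  clear_value G
  revert G
  rw [hdim]
  intro G hGu hGc
  refine ⟨ofMatrix σ hσ hq G ?_ hGu, hGc⟩
  rw [Matrix.det_eq_sign_charpoly_coeff, hGc, Fintype.card_fin, ← hd]
  exact hdet

/-- lower bound -/
theorem le_card_classes {m : ℕ} (hσ : ∀ x, σ (σ x) = x) (hns : ∃ c, σ c ≠ c) (hq : ∀ x, σ x = x ^ q)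
    (hF : Fintype.card F = q ^ 2) : q ^ m ≤ Nat.card (ConjClasses (Cfsg.SU (m + 1) F q)) := by
  classical
  have hν : σ ((-1 : F) ^ (m + 1)) * (-1) ^ (m + 1) = 1 := by
    rw [map_pow, map_neg, map_one, ← pow_add, Even.neg_one_pow (Even.add_self _)]
  rw [← card_fix σ hσ hns hF hν m]
  choose p hp hpd hp0 hpv using fun v : Fix σ ((-1 : F) ^ (m + 1)) m => exists_fixed_of_vec σ hσ hν v
  choose g hg using fun v => exists_charpoly σ hσ hns hq (hp v) (hpd v) (by
    rw [cst, hpd, hp0, ← pow_add, Even.neg_one_pow (Even.add_self _)])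
  refine Nat.card_le_card_of_injective (fun v => ConjClasses.mk (g v)) fun a b hab => ?_
  obtain ⟨z, hz⟩ := isConj_iff.1 (ConjClasses.mk_eq_mk_iff_isConj.1 hab)
  have hcp : p a = p b := by
    rw [← hg a, ← hg b, ← hz, map_mul, map_mul, map_inv, Units.val_mul, Units.val_mul, Matrix.coe_units_inv,
      Matrix.charpoly_units_conj]
  refine Subtype.ext (funext fun i => ?_)
  rw [← hpv a i, ← hpv b i, hcp]

theorem upper_bound {m : ℕ} (hm : 1 ≤ m) (hσ : ∀ x, σ (σ x) = x) (hns : ∃ c, σ c ≠ c) (hq : ∀ x, σ x = x ^ q)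
    (hF : Fintype.card F = q ^ 2) :
    100 * Nat.card (ConjClasses (Cfsg.SU (m + 1) F q)) ≤ 826 * q ^ m := by
  have hq2 : 2 ≤ q := by
    rcases Nat.lt_or_ge q 2 with h | h
    · have := Fintype.one_lt_card (α := F)
      rw [hF] at this
      interval_cases q <;> simp at this
    · exact h
  have hk := card_classes_le (m := m) σ hσ hns hq hF
  have hQ0 : (0 : ℚ) < q := by positivity
  set t := UnitaryCountArith53.tot q 2 m with ht
  have hP := UnitaryCountArith53.sum_tot_two_le hq2 m (m + 1 + 1)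
  rw [Finset.sum_range_succ, ← ht] at hP
  set g := Nat.gcd (m + 1) (q + 1) with hg
  have hg1 : g ≤ m + 1 := Nat.gcd_le_left _ (Nat.succ_pos m)
  have hgq : g ≤ q + 1 := Nat.gcd_le_right _ (Nat.succ_pos q)
  -- (g q - 1) t(n) ≤ 2.74 q^n
  have hlast : 50 * (g * q * t (m + 1)) ≤ 137 * q ^ (m + 1) + 50 * t (m + 1) := by
    rcases Nat.lt_or_ge q 3 with h3 | h3
    · obtain rfl : q = 2 := by omega
      have hg3 : g = 1 ∨ g = 3 := (Nat.dvd_prime Nat.prime_three).1 (Nat.gcd_dvd_right _ _)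
      have hU := UnitaryCountArith53.tot_le_U 2 m (m + 1)
      rw [← ht] at hU
      rcases Nat.lt_or_ge m 4 with h4 | h4
      · interval_cases m
        · simp [UnitaryCountArith53.U] at hU
          simp only [Nat.reduceAdd, Nat.reducePow] at *
          rcases hg3 with h | h <;> rw [h] at hg1 ⊢ <;> omega
        · simp [UnitaryCountArith53.U] at hU
          simp only [Nat.reduceAdd, Nat.reducePow] at *
          rcases hg3 with h | h <;> rw [h] <;> omega
        · simp [UnitaryCountArith53.U] at hU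
          have hg4 : g = 1 := by rw [hg]; decide
          simp only [Nat.reduceAdd, Nat.reducePow] at *
          rw [hg4]
          omega
      · obtain ⟨j, rfl⟩ : ∃ j, m = j + 4 := ⟨m - 4, by omega⟩
        have := UnitaryCountArith53.tot_two_le (j + 3) j
        rw [show j + 3 + 1 = j + 4 by omega, show j + 5 = j + 4 + 1 by omega, ← ht] at this
        rcases hg3 with h | h <;> rw [h] <;> omega
    · have key : 10 * (g * t (m + 1)) ≤ 27 * q ^ m := by
        rcases Nat.lt_or_ge m 4 with h4 | h4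
        · have hU := UnitaryCountArith53.tot_le_U q m (m + 1)
          rw [← ht] at hU
          interval_cases m
          · simp [UnitaryCountArith53.U] at hU
            refine le_trans (Nat.mul_le_mul_left _ (Nat.mul_le_mul hg1 hU)) ?_
            simp
            omega
          · simp [UnitaryCountArith53.U] at hU
            refine le_trans (Nat.mul_le_mul_left _ (Nat.mul_le_mul hg1 hU)) ?_
            have := Nat.mul_le_mul_right q h3
            nlinarith
          · have h4' : t 4 ≤ (q + 1) * (q + 1) := by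
              rw [ht]
              simp [UnitaryCountArith53.tot, UnitaryCountArith53.cnt, Finset.sum_range_succ]
              ring_nf
              omega
            refine le_trans (Nat.mul_le_mul_left _ (Nat.mul_le_mul hg1 h4')) ?_
            have h5 := Nat.mul_le_mul_right (q * q) h3
            have h6 := Nat.mul_le_mul_right q h3
            nlinarith
        · obtain ⟨j, rfl⟩ : ∃ j, m = j + 4 := ⟨m - 4, by omega⟩
          refine le_trans (Nat.mul_le_mul_left _ (Nat.mul_le_mul hgq (UnitaryCountArith53.tot_le_U q (j + 4) (j + 4 + 1)))) ?_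
          exact UnitaryCountArith53.U_le h3 j
      have h2 := Nat.mul_le_mul_left (5 * q) key
      have e : q ^ (m + 1) = q * q ^ m := pow_succ' q m
      rw [e]
      calc 50 * (g * q * t (m + 1)) = 5 * q * (10 * (g * t (m + 1))) := by ring
        _ ≤ 5 * q * (27 * q ^ m) := h2
        _ ≤ _ := by
          have h7 := Nat.zero_le (q * q ^ m)
          have h8 := Nat.zero_le (t (m + 1))
          rw [show 5 * q * (27 * q ^ m) = 135 * (q * q ^ m) by ring]
          omega
  have hlastQ : (50 : ℚ) * (g * q * t (m + 1)) ≤ 137 * (q : ℚ) ^ (m + 1) + 50 * t (m + 1) := by exact_mod_cast hlast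
  have hkQ : (Nat.card (ConjClasses (Cfsg.SU (m + 1) F q)) : ℚ) ≤
      (q : ℚ) ^ m * (∑ w ∈ Finset.range (m + 1), (t w : ℚ) * (1 / (q : ℚ)) ^ w) + g * t (m + 1) := by
    refine le_trans (Nat.cast_le.2 hk) ?_
    push_cast
    refine add_le_add (le_of_eq ?_) le_rfl
    rw [← Finset.sum_range (fun d => (q : ℚ) ^ d * (t (m - d) : ℚ)), ← Finset.sum_range_reflect, Finset.mul_sum]
    refine Finset.sum_congr rfl fun w hw => ?_
    rw [Finset.mem_range] at hw
    rw [show m - (m + 1 - 1 - w) = w by omega, show m + 1 - 1 - w = m - w by omega,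
      show (q : ℚ) ^ m = (q : ℚ) ^ (m - w) * (q : ℚ) ^ w by rw [← pow_add, Nat.sub_add_cancel (by omega)],
      _root_.one_div_pow]
    field_simp
  have : (100 : ℚ) * Nat.card (ConjClasses (Cfsg.SU (m + 1) F q)) ≤ 826 * (q : ℚ) ^ m := by
    have h3 := mul_le_mul_of_nonneg_left hP (show (0 : ℚ) ≤ (q : ℚ) ^ m by positivity)
    have e : (q : ℚ) ^ m * ((t (m + 1) : ℚ) * (1 / (q : ℚ)) ^ (m + 1)) = t (m + 1) / q := by
      rw [_root_.one_div_pow, pow_succ]
      field_simp
    rw [mul_add, e] at h3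
    have h4 : (g : ℚ) * t (m + 1) ≤ 137 / 50 * (q : ℚ) ^ m + t (m + 1) / q := by
      rw [pow_succ] at hlastQ
      rw [← mul_le_mul_iff_of_pos_right hQ0, add_mul, div_mul_cancel₀ _ hQ0.ne']
      linarith
    linarith
  exact_mod_cast this

end Cfsg.Agent.UnitaryClasses53
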