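import Mathlib
import Cfsg.Prelude.Def_Classical
import Cfsg.Agent.Lib.PrimeOrderModule84
import Cfsg.Agent.Lib.OrthUnitaryHerm
import Cfsg.Agent.Lib.AutPSU52Lang
import Cfsg.Agent.Lib.SquareScalarBasis

/-!
Elements of prime order modulo scalars and similitudes of the standard hermitian form.
-/

set_option autoImplicit false

namespace Cfsg.Agent.UnitaryDerange84

open Module Cfsg.Agent.OrthUnitaryHerm
open scoped Matrix

variable {F : Type*} [Field F] {n q : ℕ}

/-- `g` is a similitude of some form equivalent to the standard hermitian one. -/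
def Pres (q : ℕ) (g : Module.End F (Fin n → F)) : Prop :=
  ∃ (S : (Fin n → F) ≃ₗ[F] (Fin n → F)) (l : F), l ≠ 0 ∧
    ∀ u v, Cfsg.hermForm n F q (S (g u)) (S (g v)) = l * Cfsg.hermForm n F q (S u) (S v)

theorem herm_smul_left (c : F) (u v : Fin n → F) :
    Cfsg.hermForm n F q (c • u) v = c * Cfsg.hermForm n F q u v := by
  simp [Cfsg.hermForm, Finset.mul_sum, mul_assoc]

theorem herm_smul_right (c : F) (u v : Fin n → F) :
    Cfsg.hermForm n F q u (c • v) = c ^ q * Cfsg.hermForm n F q u v := by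
  simp [Cfsg.hermForm, Finset.mul_sum, mul_pow]
  exact Finset.sum_congr rfl fun i _ => by ring

theorem herm_add_left (x y v : Fin n → F) :
    Cfsg.hermForm n F q (x + y) v = Cfsg.hermForm n F q x v + Cfsg.hermForm n F q y v := by
  simp [Cfsg.hermForm, add_mul, Finset.sum_add_distrib]

theorem Pres.smul {g : Module.End F (Fin n → F)} {w : F} (hw : w ≠ 0) (h : Pres q g) :
    Pres q (w • g) := by
  obtain ⟨S, l, hl, h⟩ := h
  refine ⟨S, w * w ^ q * l, mul_ne_zero (mul_ne_zero hw (pow_ne_zero _ hw)) hl, fun u v => ?_⟩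
  rw [LinearMap.smul_apply, LinearMap.smul_apply, map_smul, map_smul, herm_smul_left, herm_smul_right, h]
  ring

theorem pres_smul_iff {g : Module.End F (Fin n → F)} {w : F} (hw : w ≠ 0) :
    Pres q (w • g) ↔ Pres q g := by
  refine ⟨fun h => ?_, Pres.smul hw⟩
  have := Pres.smul (inv_ne_zero hw) h
  rwa [smul_smul, inv_mul_cancel₀ hw, one_smul] at this

/-- A map similar to a unitary one. -/
theorem pres_of_model {g J : Module.End F (Fin n → F)} (φ : (Fin n → F) ≃ₗ[F] (Fin n → F))
    (hφ : ∀ v, φ (g v) = J (φ v)) {l : F} (hl : l ≠ 0)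
    (hJ : ∀ u v, Cfsg.hermForm n F q (J u) (J v) = l * Cfsg.hermForm n F q u v) : Pres q g :=
  ⟨φ, l, hl, fun u v => by rw [hφ, hφ, hJ]⟩

theorem pow_apply_of_sim {b : (Fin n → F) → (Fin n → F) → F} {g : Module.End F (Fin n → F)} {l : F}
    (h : ∀ u v, b (g u) (g v) = l * b u v) (i : ℕ) (u v : Fin n → F) :
    b ((g ^ i) u) ((g ^ i) v) = l ^ i * b u v := by
  induction i generalizing u v with
  | zero => simp
  | succ i ih => rw [pow_succ, Module.End.mul_apply, Module.End.mul_apply, ih, h, pow_succ]; ring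

variable [Fintype F]

theorem exists_aniso (hF : Fintype.card F = q ^ 2) (hn : 0 < n) :
    ∃ e : Fin n → F, Cfsg.hermForm n F q e e = 1 := by
  refine ⟨Pi.single ⟨0, hn⟩ 1, ?_⟩
  rw [herm_single_right hF]
  simp

/-- The multiplier of an element of order `r` and its fixed field. -/
theorem Pres.multiplier (hF : Fintype.card F = q ^ 2) (hn : 0 < n) {g : Module.End F (Fin n → F)}
    {r : ℕ} {z : F} (hg : g ^ r = z • 1) (h : Pres q g) :
    ∃ (S : (Fin n → F) ≃ₗ[F] (Fin n → F)) (l : F), l ≠ 0 ∧ l ^ r = z ^ (q + 1) ∧ l ^ q = l ∧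
      ∀ u v, Cfsg.hermForm n F q (S (g u)) (S (g v)) = l * Cfsg.hermForm n F q (S u) (S v) := by
  obtain ⟨S, l, hl, h⟩ := h
  obtain ⟨e, he⟩ := exists_aniso (F := F) hF hn
  refine ⟨S, l, hl, ?_, ?_, h⟩
  · have h1 := pow_apply_of_sim (b := fun u v => Cfsg.hermForm n F q (S u) (S v)) h r (S.symm e) (S.symm e)
    simp only [hg, LinearMap.smul_apply, Module.End.one_apply, map_smul, LinearEquiv.apply_symm_apply,
      herm_smul_left, herm_smul_right, he, mul_one] at h1
    rw [← h1, pow_succ']; ring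
  · have h1 := h (S.symm e) (S.symm e)
    rw [LinearEquiv.apply_symm_apply, he, mul_one] at h1
    rw [← h1, herm_self_pow hF]

/-- The eigenspaces of a similitude come in pairs. -/
theorem finrank_eigen (hF : Fintype.card F = q ^ 2) {M : Matrix (Fin n) (Fin n) F} {l : F} (hl : l ≠ 0)
    (hM : ∀ u v, Cfsg.hermForm n F q (M.mulVec u) (M.mulVec v) = l * Cfsg.hermForm n F q u v) {a : F}
    (ha : a ≠ 0) :
    finrank F ↥(LinearMap.ker (Matrix.toLin' M - a • 1)) =
      finrank F ↥(LinearMap.ker (Matrix.toLin' M - (l * (a ^ q)⁻¹) • 1)) := by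
  classical
  obtain ⟨σ, hσ⟩ := exists_frobHom hF
  have hσb : Function.Bijective σ := Finite.injective_iff_bijective.1 σ.injective
  have hG : Mᵀ * M.map σ = l • (1 : Matrix (Fin n) (Fin n) F) := by
    ext i j
    have h := hM (Pi.single i 1) (Pi.single j 1)
    simp only [Cfsg.hermForm, Matrix.mulVec_single_one, Matrix.col_apply] at h
    rw [Matrix.mul_apply, Matrix.smul_apply, Matrix.one_apply, smul_eq_mul]
    simp only [Matrix.transpose_apply, Matrix.map_apply, hσ]
    rw [h]
    congr 1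
    rw [Finset.sum_eq_single i (fun b _ hb => by rw [Pi.single_eq_of_ne hb, zero_mul]) (by simp),
      Pi.single_eq_same, one_mul, Pi.single_apply]
    split_ifs with h1
    · rw [one_pow]
    · rw [zero_pow_q hF]
  have hMu : IsUnit M := by
    rw [← Matrix.isUnit_transpose M]
    refine IsUnit.of_mul_eq_one (b := l⁻¹ • M.map σ) ?_
    rw [Matrix.mul_smul, hG, smul_smul, inv_mul_cancel₀ hl, one_smul]
  have hker : ∀ (N : Matrix (Fin n) (Fin n) F) (b : F),
      LinearMap.ker (Matrix.toLin' N - b • 1) = LinearMap.ker (Matrix.toLin' (N - b • 1)) := fun N b => by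
    rw [map_sub, map_smul, Matrix.toLin'_one]
    rfl
  have hrank : ∀ N N' : Matrix (Fin n) (Fin n) F, N.rank = N'.rank →
      finrank F ↥(LinearMap.ker (Matrix.toLin' N)) = finrank F ↥(LinearMap.ker (Matrix.toLin' N')) := by
    intro N N' h
    have h1 := LinearMap.finrank_range_add_finrank_ker (Matrix.toLin' N)
    have h2 := LinearMap.finrank_range_add_finrank_ker (Matrix.toLin' N')
    have e1 : ∀ X : Matrix (Fin n) (Fin n) F, finrank F ↥(LinearMap.range (Matrix.toLin' X)) = X.rank :=
      fun X => by rw [Matrix.rank, Matrix.toLin'_apply']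
    rw [e1, h] at h1
    rw [e1] at h2
    omega
  -- applying the field automorphism
  have hconj : finrank F ↥(LinearMap.ker (Matrix.toLin' (M - a • 1))) =
      finrank F ↥(LinearMap.ker (Matrix.toLin' ((M - a • 1).map σ))) := by
    set N := M - a • (1 : Matrix (Fin n) (Fin n) F)
    have hc : Nat.card ↥(LinearMap.ker (Matrix.toLin' N)) = Nat.card ↥(LinearMap.ker (Matrix.toLin' (N.map σ))) := by
      refine Nat.card_congr (Equiv.subtypeEquiv (Equiv.piCongrRight fun _ => Equiv.ofBijective σ hσb) fun v => ?_)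
      show v ∈ LinearMap.ker _ ↔ (fun i => σ (v i)) ∈ LinearMap.ker _
      rw [LinearMap.mem_ker, LinearMap.mem_ker, Matrix.toLin'_apply, Matrix.toLin'_apply]
      have : (N.map σ).mulVec (fun i => σ (v i)) = fun i => σ (N.mulVec v i) :=
        funext fun i => (RingHom.map_mulVec σ N v i).symm
      rw [this]
      constructor
      · intro h; funext i; rw [h]; simp
      · intro h; funext i; exact σ.injective (by simpa using congrFun h i)
    rw [Module.natCard_eq_pow_finrank (K := F) (V := ↥(LinearMap.ker (Matrix.toLin' N))),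
      Module.natCard_eq_pow_finrank (K := F) (V := ↥(LinearMap.ker (Matrix.toLin' (N.map σ)))),
      Nat.card_eq_fintype_card] at hc
    exact Nat.pow_right_injective Fintype.one_lt_card hc
  rw [hker, hker, hconj]
  refine hrank _ _ ?_
  set b := l * (a ^ q)⁻¹ with hb
  have hkey : Mᵀ * (M - a • (1 : Matrix (Fin n) (Fin n) F)).map σ = (-(a ^ q)) • (M - b • 1)ᵀ := by
    rw [Matrix.map_sub σ (map_sub σ), Matrix.map_smul' (hf := map_mul σ),
      Matrix.map_one σ (map_zero σ) (map_one σ), mul_sub, hG, Matrix.mul_smul, mul_one, hσ,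
      Matrix.transpose_sub, Matrix.transpose_smul, Matrix.transpose_one, smul_sub, smul_smul,
      show -(a ^ q) * b = -l by rw [hb]; field_simp, neg_smul, neg_smul]
    abel
  rw [← Matrix.rank_mul_eq_right_of_isUnit_det Mᵀ _ ((Matrix.isUnit_iff_isUnit_det _).1
    ((Matrix.isUnit_transpose M).2 hMu)), hkey, ← Matrix.rank_transpose (A := M - b • 1)]
  have hu : IsUnit ((-(a ^ q)) • (1 : Matrix (Fin n) (Fin n) F)).det := by
    rw [Matrix.det_smul, Matrix.det_one, mul_one]
    exact isUnit_iff_ne_zero.2 (pow_ne_zero _ (neg_ne_zero.2 (pow_ne_zero _ ha)))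
  rw [show (-(a ^ q)) • (M - b • 1)ᵀ = ((-(a ^ q)) • 1) * (M - b • 1)ᵀ by rw [Matrix.smul_mul, one_mul],
    Matrix.rank_mul_eq_right_of_isUnit_det _ _ hu]

/-- An isometry of order `r` without fixed points forces a congruence. -/
theorem congr_of_isometry (hF : Fintype.card F = q ^ 2) {r : ℕ} [Fact r.Prime] (hr : (r : F) ≠ 0)
    {g : Module.End F (Fin n → F)} (hg : g ^ r = 1) (S : (Fin n → F) ≃ₗ[F] (Fin n → F))
    (h : ∀ u v, Cfsg.hermForm n F q (S (g u)) (S (g v)) = Cfsg.hermForm n F q (S u) (S v)) {c : ℕ}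
    (hc : finrank F ↥(LinearMap.range (g - 1)) = c) :
    ((q : ZMod r) ^ c - (-1) ^ c) * ((q : ZMod r) ^ c + (-1) ^ c * (q : ZMod r)) = 0 := by
  classical
  set T := LinearMap.range (g - 1)
  let b : (Fin n → F) → (Fin n → F) → F := fun u v => Cfsg.hermForm n F q (S u) (S v)
  have hadd : ∀ x y v, b (x + y) v = b x v + b y v := fun x y v => by
    simp only [b, map_add, herm_add_left]
  have hsmul : ∀ (a : F) x v, b (a • x) v = a * b x v := fun a x v => by
    simp only [b, map_smul, herm_smul_left]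
  have hconj : ∀ u v, b v u = b u v ^ q := fun u v => (herm_conj hF (S u) (S v))
  have hb0 : ∀ x, b x 0 = 0 := fun x => by
    rw [hconj, show b 0 x = 0 by rw [← zero_smul F (0 : Fin n → F), hsmul, zero_mul], zero_pow_q hF]
  have hadd2 : ∀ x y v, b v (x + y) = b v x + b v y := fun x y v => by
    rw [hconj (x + y), hadd, add_pow_q hF, ← hconj, ← hconj]
  have hcompl := PrimeOrderModule84.isCompl_ker_range hr hg
  have hperp : ∀ k, (g - 1) k = 0 → ∀ t ∈ T, b t k = 0 := by
    rintro k hk _ ⟨u, rfl⟩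
    rw [LinearMap.sub_apply, Module.End.one_apply, sub_eq_zero] at hk
    have h1 : b (g u) k = b u k := by
      conv_lhs => rw [← hk]
      exact h u k
    have h2 := hadd (g u - u) u k
    rw [sub_add_cancel, h1] at h2
    show b (g u - u) k = 0
    linear_combination -h2
  have hTn : ∀ u ∈ T, (∀ v ∈ T, b u v = 0) → u = 0 := by
    intro u hu hall
    have h1 : ∀ v, Cfsg.hermForm n F q (S u) v = 0 := by
      intro v
      obtain ⟨w, rfl⟩ := S.surjective v
      obtain ⟨k, hk, t, ht, rfl⟩ := Submodule.mem_sup.1 (hcompl.sup_eq_top ▸ Submodule.mem_top (x := w))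
      show b u (k + t) = 0
      rw [hadd2, hperp k (LinearMap.mem_ker.1 hk) u hu, hall t ht, add_zero]
    exact S.map_eq_zero_iff.1 (eq_zero_of_herm_eq_zero hF h1)
  obtain ⟨e, heT, he⟩ := AutPSU52Lang.exists_orthonormal hF b hadd hsmul hconj c T hc hTn
  let J : (Fin c → F) →ₗ[F] (Fin n → F) := ∑ i, (LinearMap.proj i).smulRight (e i)
  have hJ : ∀ x, J x = ∑ i, x i • e i := fun x => by simp [J, LinearMap.sum_apply]
  have hbsum : ∀ (s : Finset (Fin c)) (x : Fin c → F) (v : Fin n → F),
      b (∑ i ∈ s, x i • e i) v = ∑ i ∈ s, x i * b (e i) v := by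
    intro s x v
    induction s using Finset.induction_on with
    | empty => simp only [Finset.sum_empty]; rw [← zero_smul F (0 : Fin n → F), hsmul, zero_mul]
    | insert a s ha ih => rw [Finset.sum_insert ha, Finset.sum_insert ha, hadd, hsmul, ih]
  have hJb : ∀ x y, b (J x) (J y) = Cfsg.hermForm c F q x y := by
    intro x y
    rw [hJ, hbsum]
    refine Finset.sum_congr rfl fun i _ => congrArg (x i * ·) ?_
    rw [hconj (J y), hJ, hbsum]
    congr 1
    rw [Finset.sum_eq_single i (fun j _ hj => by rw [he, if_neg hj, mul_zero]) (by simp), he, if_pos rfl,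
      mul_one]
  have hJinj : Function.Injective J := by
    rw [← LinearMap.ker_eq_bot, Submodule.eq_bot_iff]
    intro x hx
    funext i
    have h1 : b (J x) (e i) = 0 := by
      rw [LinearMap.mem_ker.1 hx, ← zero_smul F (0 : Fin n → F), hsmul, zero_mul]
    rw [hJ, hbsum, Finset.sum_eq_single i (fun j _ hj => by rw [he, if_neg hj, mul_zero]) (by simp), he,
      if_pos rfl, mul_one] at h1
    exact h1
  have hJT : LinearMap.range J = T := Submodule.eq_of_le_of_finrank_eq (by
      rintro _ ⟨x, rfl⟩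
      rw [hJ]
      exact T.sum_mem fun i _ => T.smul_mem _ (heT i))
    (by rw [LinearMap.finrank_range_of_inj hJinj, Module.finrank_fin_fun, hc])
  have hgT : ∀ x, g (J x) ∈ LinearMap.range J := by
    intro x
    rw [hJT]
    exact PrimeOrderModule84.map_le_iff'.1 (PrimeOrderModule84.range_inv g) _ (show J x ∈ T by rw [← hJT]; exact ⟨x, rfl⟩)
  choose A hA using hgT
  have hpow : ∀ (i : ℕ) x, J (A^[i] x) = (g ^ i) (J x) := by
    intro i
    induction i with
    | zero => intro x; rfl
    | succ i ih => intro x; rw [Function.iterate_succ_apply', hA, ih, pow_succ', Module.End.mul_apply]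
  have hAh : ∀ x, Cfsg.hermForm c F q x x = 0 → Cfsg.hermForm c F q (A x) (A x) = 0 := by
    intro x hx
    rw [← hJb, hA, show b (g (J x)) (g (J x)) = b (J x) (J x) from h _ _, hJb, hx]
  let φ : Function.End {x : Fin c → F // Cfsg.hermForm c F q x x = 0} := fun x => ⟨A x.1, hAh _ x.2⟩
  have hφp : ∀ i : ℕ, ∀ x, ((φ ^ i) x).1 = A^[i] x.1 := by
    intro i
    induction i with
    | zero => intro x; rfl
    | succ i ih => intro x; rw [pow_succ', Function.iterate_succ_apply', ← ih x]; rfl
  have hφ : φ ^ r ^ 1 = 1 := funext fun x => Subtype.ext (hJinj (by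
    rw [pow_one, hφp, hpow, hg]; rfl))
  have h1 := Equiv.Perm.card_fixedPoints_modEq (f := φ) hφ
  have h0 : Cfsg.hermForm c F q (0 : Fin c → F) 0 = 0 := by simp [Cfsg.hermForm]
  have hA0 : A 0 = 0 := hJinj (by rw [hA, map_zero, map_zero])
  have hfix : Fintype.card (Function.fixedPoints φ) = 1 := by
    refine Fintype.card_eq_one_iff.2 ⟨⟨⟨0, h0⟩, Subtype.ext hA0⟩, fun x => Subtype.ext (Subtype.ext ?_)⟩
    have hx : A x.1.1 = x.1.1 := congrArg Subtype.val x.2
    apply hJinj
    show J x.1.1 = J 0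
    rw [map_zero]
    refine Submodule.disjoint_def.1 hcompl.disjoint _ ?_ (show J _ ∈ T by rw [← hJT]; exact ⟨_, rfl⟩)
    rw [LinearMap.mem_ker, LinearMap.sub_apply, Module.End.one_apply, ← hA, hx, sub_self]
  rw [hfix, ← Nat.card_eq_fintype_card] at h1
  have h2 := congrArg (fun z : ℤ => (z : ZMod r)) (q_mul_card_norm_zero hF c)
  simp only [Int.cast_mul, Int.cast_natCast, Int.cast_add, Int.cast_pow, Int.cast_sub, Int.cast_neg,
    Int.cast_one] at h2
  rw [(ZMod.natCast_eq_natCast_iff _ _ _).2 h1, Nat.cast_one, mul_one, pow_mul'] at h2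
  have hsq : ((-1 : ZMod r) ^ c) * (-1) ^ c = 1 := by rw [← mul_pow, neg_one_mul, neg_neg, one_pow]
  linear_combination -h2 - (q : ZMod r) * hsq

end Cfsg.Agent.UnitaryDerange84
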