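import Mathlib
import Cfsg.Agent.Lib.UnitaryF4Geo

/-!
Isometries of determinant one of a unitary space over the field with four elements, in dimension at
least four, are products of transvections.
-/

set_option autoImplicit false
set_option maxHeartbeats 1000000

namespace Cfsg.Agent.UnitaryF4Transvection

open UnitaryF4Geo

variable {F : Type*} [Field F] [Fintype F] [hF : FourField F] {n : ℕ}

/-- Products of transvections with isotropic centres. -/
def prods (F : Type*) [Field F] [Fintype F] (n : ℕ) :
    Submonoid (Module.End F (Fin n → F)) :=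
  Submonoid.closure {f | ∃ u, h u u = 0 ∧ f = tv u}

theorem tv_mem {u : Fin n → F} (hu : h u u = 0) : (tv u : Module.End F _) ∈ prods F n :=
  Submonoid.subset_closure ⟨u, hu, rfl⟩

theorem prods_isom {s : Module.End F (Fin n → F)} (hs : s ∈ prods F n) (v w : Fin n → F) :
    h (s v) (s w) = h v w := by
  induction hs using Submonoid.closure_induction generalizing v w with
  | mem x hx => obtain ⟨u, hu, rfl⟩ := hx; exact tv_isom hu v w
  | one => rfl
  | mul a b _ _ ha hb => exact (ha _ _).trans (hb v w)

theorem prods_inv {s : Module.End F (Fin n → F)} (hs : s ∈ prods F n) :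
    ∃ t ∈ prods F n, t * s = 1 ∧ s * t = 1 := by
  induction hs using Submonoid.closure_induction with
  | mem x hx =>
    obtain ⟨u, hu, rfl⟩ := hx
    exact ⟨_, tv_mem hu, LinearMap.ext (tv_tv hu), LinearMap.ext (tv_tv hu)⟩
  | one => exact ⟨1, one_mem _, mul_one 1, mul_one 1⟩
  | mul a b _ _ ha hb =>
    obtain ⟨a', ha', a1, a2⟩ := ha
    obtain ⟨b', hb', b1, b2⟩ := hb
    exact ⟨b' * a', mul_mem hb' ha', by rw [mul_assoc b', ← mul_assoc a', a1, one_mul, b1],
      by rw [mul_assoc a, ← mul_assoc b, b2, one_mul, a2]⟩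

theorem tv_det {u : Fin n → F} (hu : h u u = 0) : LinearMap.det (tv u) = 1 := by
  have e : LinearMap.det (tv u) * LinearMap.det (tv u) = 1 := by
    rw [← map_mul]
    convert map_one LinearMap.det
    exact LinearMap.ext (tv_tv hu)
  have : (LinearMap.det (tv u) + 1) ^ 2 = 0 := by
    rw [UnitaryF4Geo.sq_add, one_pow, pow_two, e]; exact UnitaryF4Geo.add_self 1
  exact eq_of_add_eq_zero (pow_eq_zero_iff (two_ne_zero) |>.mp this)

theorem prods_det {s : Module.End F (Fin n → F)} (hs : s ∈ prods F n) : LinearMap.det s = 1 := by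
  induction hs using Submonoid.closure_induction with
  | mem x hx => obtain ⟨u, hu, rfl⟩ := hx; exact tv_det hu
  | one => exact map_one _
  | mul a b _ _ ha hb => rw [map_mul, ha, hb, one_mul]

/-- Fixing everything orthogonal to two given vectors. -/
def Fix (s : Module.End F (Fin n → F)) (a b : Fin n → F) : Prop :=
  ∀ x, h x a = 0 → h x b = 0 → s x = x

theorem exists_scal {a b : Fin n → F} (ha : h a a = 1) (hb : h b b = 1) (hab : h a b = 0)
    {c : F} (hc : c ≠ 0) :
    ∃ s ∈ prods F n, s a = c • a ∧ Fix s a b := by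
  have hba := h_comm_zero hab
  have hc3 := cube hc
  have two := two_eq_zero (F := F)
  have h0 : h (a + b) (a + b) = 0 := by
    simp [h_add_left, h_add_right, ha, hb, hab, hba, UnitaryF4Geo.add_self]
  have h1 : h (a + c • b) (a + c • b) = 0 := by
    simp only [h_add_left, h_add_right, h_smul_left, h_smul_right, ha, hb, hab, hba]
    linear_combination hc3 + (two_eq_zero (F := F))
  refine ⟨tv (a + b) * tv (a + c • b), mul_mem (tv_mem h0) (tv_mem h1), ?_, fun x hxa hxb => ?_⟩
  · rw [Module.End.mul_apply]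
    simp only [tv_apply, h_add_left, h_add_right, h_smul_left, h_smul_right, ha, hb, hab, hba]
    match_scalars <;> grobner
  · rw [Module.End.mul_apply, tv_fix (u := a + c • b), tv_fix]
    · rw [h_add_right, hxa, hxb, add_zero]
    · rw [h_add_right, h_smul_right, hxa, hxb, mul_zero, add_zero]

theorem exists_swap {a b : Fin n → F} (ha : h a a = 1) (hb : h b b = 1) (hab : h a b = 0) :
    ∃ s ∈ prods F n, s a = b ∧ Fix s a b := by
  have hba := h_comm_zero hab
  have h0 : h (a + b) (a + b) = 0 := by
    simp [h_add_left, h_add_right, ha, hb, hab, hba, UnitaryF4Geo.add_self]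
  refine ⟨tv (a + b), tv_mem h0, ?_, fun x hxa hxb => tv_fix (by rw [h_add_right, hxa, hxb, add_zero])⟩
  rw [tv_apply, h_add_right, ha, hab, add_zero, one_smul, ← add_assoc, vec_add_self, zero_add]

theorem exists_word {p a y z : Fin n → F} (hp : h p p = 1) (ha : h a a = 1) (hy : h y y = 1)
    (hz : h z z = 1) (hpa : h p a = 0) (hpy : h p y = 0) (hpz : h p z = 0) (hay : h a y = 0)
    (haz : h a z = 0) (hyz : h y z = 0) :
    ∃ s ∈ prods F n, s p = p ∧ s a = a + y + z ∧
      ∀ x, h x p = 0 → h x a = 0 → h x y = 0 → h x z = 0 → s x = x := by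
  obtain ⟨o, ho⟩ := exists_omega (F := F)
  have two := two_eq_zero (F := F)
  have hap := h_comm_zero hpa
  have hyp := h_comm_zero hpy
  have hzp := h_comm_zero hpz
  have hya := h_comm_zero hay
  have hza := h_comm_zero haz
  have hzy := h_comm_zero hyz
  have i1 : h (p + a) (p + a) = 0 := by
    simp [h_add_left, h_add_right, hp, ha, hpa, hap, UnitaryF4Geo.add_self]
  have i2 : h (p + a + o • y + o • z) (p + a + o • y + o • z) = 0 := by
    simp [h_add_left, h_add_right, h_smul_left, h_smul_right, hp, ha, hy, hz, hpa, hpy, hpz, hay,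
      haz, hyz, hap, hyp, hzp, hya, hza, hzy]
    grobner
  have i3 : h (p + o ^ 2 • a) (p + o ^ 2 • a) = 0 := by
    simp [h_add_left, h_add_right, h_smul_left, h_smul_right, hp, ha, hpa, hap]
    grobner
  have i4 : h (p + o ^ 2 • a + o • y + o • z) (p + o ^ 2 • a + o • y + o • z) = 0 := by
    simp [h_add_left, h_add_right, h_smul_left, h_smul_right, hp, ha, hy, hz, hpa, hpy, hpz, hay,
      haz, hyz, hap, hyp, hzp, hya, hza, hzy]
    grobner
  refine ⟨tv (p + o ^ 2 • a + o • y + o • z) * (tv (p + o ^ 2 • a) *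
    (tv (p + a + o • y + o • z) * tv (p + a))),
    mul_mem (tv_mem i4) (mul_mem (tv_mem i3) (mul_mem (tv_mem i2) (tv_mem i1))), ?_, ?_,
    fun x x1 x2 x3 x4 => ?_⟩
  · simp [tv_apply, h_add_left, h_add_right, h_smul_left, h_smul_right, hp, ha, hy, hz, hpa, hpy,
      hpz, hay, haz, hyz, hap, hyp, hzp, hya, hza, hzy]
    match_scalars <;> grobner
  · simp [tv_apply, h_add_left, h_add_right, h_smul_left, h_smul_right, hp, ha, hy, hz, hpa, hpy,
      hpz, hay, haz, hyz, hap, hyp, hzp, hya, hza, hzy]
    match_scalars <;> grobner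
  · simp [tv_apply, h_add_right, h_smul_right, x1, x2, x3, x4]

/-- Moving one norm-one vector onto another, fixing an orthonormal family. -/
theorem exists_move (hn : 4 ≤ n) {k : ℕ} (hk : k + 2 ≤ n) {f : Fin k → Fin n → F} (hf : ON f)
    {a b : Fin n → F} (ha : h a a = 1) (hb : h b b = 1) (haf : ∀ i, h a (f i) = 0)
    (hbf : ∀ i, h b (f i) = 0) : ∃ s ∈ prods F n, (∀ i, s (f i) = f i) ∧ s a = b := by
  have fixf : ∀ {s : Module.End F (Fin n → F)} {x y : Fin n → F}, Fix s x y →
      (∀ i, h x (f i) = 0) → (∀ i, h y (f i) = 0) → ∀ i, s (f i) = f i := fun hs e1 e2 i =>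
    hs _ (h_comm_zero (e1 i)) (h_comm_zero (e2 i))
  by_cases hab : h a b = 0
  · obtain ⟨s, hs, e, hfix⟩ := exists_swap ha hb hab
    exact ⟨s, hs, fixf hfix haf hbf, e⟩
  have hfa : ON (Fin.snoc (α := fun _ => Fin n → F) f a) :=
    hf.snoc ha fun i => ⟨haf i, h_comm_zero (haf i)⟩
  by_cases hbig : k + 3 < n
  · obtain ⟨c, hc, hcf, hcb⟩ : ∃ c, h c c = 1 ∧
        (∀ i, h c (Fin.snoc (α := fun _ => Fin n → F) f a i) = 0) ∧ h c b = 0 := by
      obtain ⟨bb, hbb, hbbf⟩ := exists_frame (n - (k + 1)) (k + 1) _ hfa (by omega)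
      -- three further frame vectors, one of which can be corrected to be orthogonal to `b`
      obtain ⟨c, hc, hcf, hcb⟩ : ∃ c, h c c = 1 ∧
          (∀ i : Fin n, (i : ℕ) < k + 1 → h c (bb i) = 0) ∧ h c b = 0 := by
        set y₁ := bb ⟨k + 1, by omega⟩ with hy₁
        set y₂ := bb ⟨k + 2, by omega⟩ with hy₂
        set y₃ := bb ⟨k + 3, hbig⟩ with hy₃
        have ev : ∀ i j, h (bb i) (bb j) = if i = j then 1 else 0 := hbb
        by_cases c1 : h y₁ b = 0
        · exact ⟨y₁, by simp [hy₁, ev], fun i hi => by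
            simp [hy₁, ev, Fin.ext_iff, show k + 1 ≠ (i : ℕ) by omega], c1⟩
        by_cases c2 : h y₂ b = 0
        · exact ⟨y₂, by simp [hy₂, ev], fun i hi => by
            simp [hy₂, ev, Fin.ext_iff, show k + 2 ≠ (i : ℕ) by omega], c2⟩
        by_cases c3 : h y₃ b = 0
        · exact ⟨y₃, by simp [hy₃, ev], fun i hi => by
            simp [hy₃, ev, Fin.ext_iff, show k + 3 ≠ (i : ℕ) by omega], c3⟩
        obtain ⟨o, ho⟩ := exists_omega (F := F)
        -- weights `1, ω, ω²` on the three coordinates
        refine ⟨(h y₁ b)⁻¹ • y₁ + (o * (h y₂ b)⁻¹) • y₂ + (o ^ 2 * (h y₃ b)⁻¹) • y₃, ?_,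
          fun i hi => ?_, ?_⟩
        · simp [h_add_left, h_add_right, h_smul_left, h_smul_right, hy₁, hy₂, hy₃, ev,
            Fin.ext_iff, -inv_pow]
          rw [← hy₁, ← hy₂, ← hy₃]
          have o3 := cube (omega_ne ho).1
          have t1 := cube (inv_ne_zero c1)
          have t2 := cube (inv_ne_zero c2)
          have t3 := cube (inv_ne_zero c3)
          linear_combination t1 + o ^ 3 * t2 + o ^ 6 * t3 + (o ^ 3 + 2) * o3 +
            (two_eq_zero (F := F))
        · simp [h_add_left, h_smul_left, hy₁, hy₂, hy₃, ev, Fin.ext_iff,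
            show k + 1 ≠ (i : ℕ) by omega, show k + 2 ≠ (i : ℕ) by omega,
            show k + 3 ≠ (i : ℕ) by omega]
        · simp only [h_add_left, h_smul_left, mul_assoc, inv_mul_cancel₀ c1, inv_mul_cancel₀ c2,
            inv_mul_cancel₀ c3]
          linear_combination ho + (o + 1) * (two_eq_zero (F := F))
      refine ⟨c, hc, fun i => ?_, hcb⟩
      rw [← hbbf i (by omega)]
      exact hcf _ i.isLt
    have hcf' : ∀ i, h c (f i) = 0 := fun i => by simpa using hcf i.castSucc
    have hca : h c a = 0 := by simpa using hcf (Fin.last k)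
    obtain ⟨s₁, hs₁, e₁, f₁⟩ := exists_swap ha hc (h_comm_zero hca)
    obtain ⟨s₂, hs₂, e₂, f₂⟩ := exists_swap hc hb hcb
    refine ⟨s₂ * s₁, mul_mem hs₂ hs₁, fun i => ?_, by rw [Module.End.mul_apply, e₁, e₂]⟩
    rw [Module.End.mul_apply, fixf f₁ haf hcf' i, fixf f₂ hcf' hbf i]
  obtain ⟨bb, hbb, hbbf⟩ := exists_frame (n - (k + 1)) (k + 1) _ hfa (by omega)
  have ev : ∀ i j, h (bb i) (bb j) = if i = j then 1 else 0 := hbb
  set y := bb ⟨k + 1, by omega⟩ with hy
  have ba : bb ⟨k, by omega⟩ = a := by
    have := hbbf (Fin.last k) (by simp; omega)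
    simpa using this
  have bfi : ∀ (i : Fin k) (hi : (i : ℕ) < n), bb ⟨i, hi⟩ = f i := fun i hi => by
    have := hbbf i.castSucc (by simpa using hi)
    simpa using this
  have hyy : h y y = 1 := by simp [hy, ev]
  have hay : h a y = 0 := by rw [← ba, hy]; simp [ev]
  have hyf : ∀ i, h y (f i) = 0 := fun i => by
    rw [hy, ← bfi i (by omega)]
    simp [ev, Fin.ext_iff, show k + 1 ≠ (i : ℕ) by omega]
  have hc0 : h b a ≠ 0 := fun e => hab (h_comm_zero e)
  obtain ⟨s₁, hs₁, e₁, f₁⟩ := exists_scal ha hyy hay hc0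
  rcases (show k + 2 = n ∨ k + 3 = n by omega) with hk2 | hk3
  · have hexp : b = h b a • a + h b y • y := by
      apply vec_eq_of_add
      refine eq_zero_of_h fun w => ?_
      rw [hbb.expand w]
      refine h_comm_zero ?_
      rw [h_sum_left, Finset.sum_eq_zero fun i _ => ?_]
      refine mul_eq_zero_of_right _ (h_comm_zero ?_)
      rcases (show (i : ℕ) < k ∨ (i : ℕ) = k ∨ (i : ℕ) = k + 1 by omega) with hi | hi | hi
      · rw [show i = ⟨(⟨i, hi⟩ : Fin k), i.isLt⟩ from rfl, bfi]
        simp [h_add_left, h_smul_left, hbf, haf, hyf]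
      · rw [show i = ⟨k, by omega⟩ from Fin.ext hi, ba]
        simp [h_add_left, h_smul_left, ha, h_comm_zero hay, UnitaryF4Geo.add_self]
      · rw [show i = ⟨k + 1, by omega⟩ from Fin.ext hi, ← hy]
        simp [h_add_left, h_smul_left, hyy, hay, UnitaryF4Geo.add_self]
    have hy0 : h b y = 0 := by
      by_contra hne
      have hN := congrArg (fun v => h v v) hexp
      simp only [h_add_left, h_add_right, h_smul_left, h_smul_right, hb, ha, hyy, hay,
        h_comm_zero hay] at hN
      apply one_ne_zero (α := F)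
      linear_combination hN + cube hc0 + cube hne + (two_eq_zero (F := F))
    refine ⟨s₁, hs₁, fixf f₁ haf hyf, ?_⟩
    rw [e₁]; conv_rhs => rw [hexp, hy0, zero_smul, add_zero]
  · set z := bb ⟨k + 2, by omega⟩ with hz
    have hzz : h z z = 1 := by simp [hz, ev]
    have haz : h a z = 0 := by rw [← ba, hz]; simp [ev]
    have hyz : h y z = 0 := by simp [hy, hz, ev]
    have hzf : ∀ i, h z (f i) = 0 := fun i => by
      rw [hz, ← bfi i (by omega)]
      simp [ev, Fin.ext_iff, show k + 2 ≠ (i : ℕ) by omega]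
    have hexp : b = h b a • a + h b y • y + h b z • z := by
      apply vec_eq_of_add
      refine eq_zero_of_h fun w => ?_
      rw [hbb.expand w]
      refine h_comm_zero ?_
      rw [h_sum_left, Finset.sum_eq_zero fun i _ => ?_]
      refine mul_eq_zero_of_right _ (h_comm_zero ?_)
      rcases (show (i : ℕ) < k ∨ (i : ℕ) = k ∨ (i : ℕ) = k + 1 ∨ (i : ℕ) = k + 2 by omega) with
        hi | hi | hi | hi
      · rw [show i = ⟨(⟨i, hi⟩ : Fin k), i.isLt⟩ from rfl, bfi]
        simp [h_add_left, h_smul_left, hbf, haf, hyf, hzf]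
      · rw [show i = ⟨k, by omega⟩ from Fin.ext hi, ba]
        simp [h_add_left, h_smul_left, ha, h_comm_zero hay, h_comm_zero haz, UnitaryF4Geo.add_self]
      · rw [show i = ⟨k + 1, by omega⟩ from Fin.ext hi, ← hy]
        simp [h_add_left, h_smul_left, hyy, hay, h_comm_zero hyz, UnitaryF4Geo.add_self]
      · rw [show i = ⟨k + 2, by omega⟩ from Fin.ext hi, ← hz]
        simp [h_add_left, h_smul_left, hzz, haz, hyz, UnitaryF4Geo.add_self]
    by_cases hcy : h b y = 0
    · have hcz : h b z = 0 := by
        by_contra hne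
        have hN := congrArg (fun v => h v v) hexp
        simp only [h_add_left, h_add_right, h_smul_left, h_smul_right, hb, ha, hyy, hzz, hay, haz,
          hyz, h_comm_zero hay, h_comm_zero haz, h_comm_zero hyz, hcy] at hN
        apply one_ne_zero (α := F)
        linear_combination hN + cube hc0 + cube hne + (two_eq_zero (F := F))
      refine ⟨s₁, hs₁, fixf f₁ haf hyf, ?_⟩
      rw [e₁]; conv_rhs => rw [hexp, hcy, hcz, zero_smul, zero_smul, add_zero, add_zero]
    · have hcz : h b z ≠ 0 := by
        intro hz0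
        have hN := congrArg (fun v => h v v) hexp
        simp only [h_add_left, h_add_right, h_smul_left, h_smul_right, hb, ha, hyy, hzz, hay, haz,
          hyz, h_comm_zero hay, h_comm_zero haz, h_comm_zero hyz, hz0] at hN
        apply one_ne_zero (α := F)
        linear_combination hN + cube hc0 + cube hcy + (two_eq_zero (F := F))
      have hkpos : 0 < k := by omega
      set p := f ⟨0, hkpos⟩ with hpdef
      have hpp : h p p = 1 := by rw [hpdef, hf]; simp
      have nrm : ∀ {c : F} {v : Fin n → F}, c ≠ 0 → h v v = 1 → h (c • v) (c • v) = 1 :=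
        fun {c v} hc hv => by rw [h_smul_left, h_smul_right, hv]; linear_combination cube hc
      have orth : ∀ {c c' : F} {v w : Fin n → F}, h v w = 0 → h (c • v) (c' • w) = 0 :=
        fun {c c' v w} hvw => by rw [h_smul_left, h_smul_right, hvw, mul_zero, mul_zero]
      have porth : ∀ {c : F} {v : Fin n → F}, h v p = 0 → h p (c • v) = 0 :=
        fun {c v} hvp => by rw [h_smul_right, h_comm_zero hvp, mul_zero]
      obtain ⟨s₂, hs₂, e2p, e2, f₂⟩ := exists_word hpp (nrm hc0 ha) (nrm hcy hyy) (nrm hcz hzz)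
        (porth (haf _)) (porth (hyf _)) (porth (hzf _)) (orth hay) (orth haz) (orth hyz)
      refine ⟨s₂ * s₁, mul_mem hs₂ hs₁, fun i => ?_, ?_⟩
      · rw [Module.End.mul_apply, fixf f₁ haf hyf i]
        by_cases hi : i = ⟨0, hkpos⟩
        · rw [hi]; exact e2p
        · refine f₂ _ ?_ ?_ ?_ ?_
          · rw [hpdef, hf, if_neg hi]
          all_goals rw [h_smul_right]
          · rw [h_comm_zero (haf i), mul_zero]
          · rw [h_comm_zero (hyf i), mul_zero]
          · rw [h_comm_zero (hzf i), mul_zero]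
      · rw [Module.End.mul_apply, e₁, e2, ← hexp]

/-- Isometries of determinant one are products of transvections. -/
theorem mem_prods (hn : 4 ≤ n) {g : Module.End F (Fin n → F)}
    (hg : ∀ v w, h (g v) (g w) = h v w) (hdet : LinearMap.det g = 1) : g ∈ prods F n := by
  classical
  set b : Fin n → Fin n → F := fun i => Pi.single i 1 with hbdef
  have hb : ON b := fun i j => by
    rw [hbdef]
    simp only [h_single, Pi.single_apply, eq_comm]
  have key : ∀ k, k + 1 ≤ n → ∃ s ∈ prods F n, ∀ i : Fin n, (i : ℕ) < k → s (g (b i)) = b i := by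
    intro k
    induction k with
    | zero => intro _; exact ⟨1, one_mem _, fun i hi => absurd hi (Nat.not_lt_zero _)⟩
    | succ k ih =>
      intro hk
      obtain ⟨s, hs, hsb⟩ := ih (by omega)
      let f : Fin k → Fin n → F := fun i => b ⟨i, by omega⟩
      have hf : ON f := fun i j => by
        show h (b _) (b _) = _
        rw [hb]
        simp [Fin.ext_iff]
      have hiso : ∀ v w, h (s (g v)) (s (g w)) = h v w := fun v w => by rw [prods_isom hs, hg]
      have hfix : ∀ i : Fin k, s (g (f i)) = f i := fun i => hsb _ i.isLt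
      obtain ⟨s', hs', hs'f, hs'a⟩ := exists_move hn (k := k) (by omega) hf
        (a := s (g (b ⟨k, by omega⟩))) (b := b ⟨k, by omega⟩)
        (by rw [hiso, hb]; simp) (by rw [hb]; simp)
        (fun i => by
          rw [← hfix i, hiso]
          show h (b _) (b _) = 0
          rw [hb, if_neg (by simp [Fin.ext_iff]; omega)])
        (fun i => by
          show h (b _) (b _) = 0
          rw [hb, if_neg (by simp [Fin.ext_iff]; omega)])
      refine ⟨s' * s, mul_mem hs' hs, fun i hi => ?_⟩
      rw [Module.End.mul_apply]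
      rcases Nat.lt_succ_iff_lt_or_eq.mp hi with h' | h'
      · rw [hsb i h']; exact hs'f ⟨i, h'⟩
      · rw [show i = ⟨k, by omega⟩ from Fin.ext h', hs'a]
  obtain ⟨s, hs, hsb⟩ := key (n - 1) (by omega)
  set last : Fin n := ⟨n - 1, by omega⟩ with hlast
  set g' := s * g with hg'
  have hiso : ∀ v w, h (g' v) (g' w) = h v w := fun v w => by
    rw [hg', Module.End.mul_apply, Module.End.mul_apply, prods_isom hs, hg]
  have hfix : ∀ i, i ≠ last → g' (b i) = b i := fun i hi => by
    rw [hg', Module.End.mul_apply]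
    refine hsb i ?_
    have : (i : ℕ) ≠ n - 1 := fun e => hi (Fin.ext e)
    omega
  set c := h (g' (b last)) (b last) with hc
  have hlastimg : g' (b last) = c • b last := by
    conv_lhs => rw [hb.expand (g' (b last))]
    rw [Finset.sum_eq_single last]
    · intro i _ hi
      rw [← hfix i hi, hiso, hb, if_neg (fun e => hi e.symm), zero_smul]
    · intro e; exact absurd (Finset.mem_univ _) e
  have hmat : LinearMap.toMatrix' g' = Matrix.diagonal (Function.update 1 last c) := by
    ext i j
    rw [LinearMap.toMatrix'_apply]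
    rw [show (Pi.single j (1 : F) : Fin n → F) = b j from rfl]
    by_cases hj : j = last
    · subst hj
      rw [hlastimg]
      by_cases hi : i = last
      · subst hi; simp [hbdef]
      · simp [hbdef, hi, Matrix.diagonal_apply_ne _ hi]
    · rw [hfix j hj]
      by_cases hi : i = j
      · subst hi; simp [hbdef, hj]
      · simp [hbdef, hi, Matrix.diagonal_apply_ne _ hi]
  have hdet' : LinearMap.det g' = c := by
    rw [← LinearMap.det_toMatrix', hmat, Matrix.det_diagonal,
      Finset.prod_update_of_mem (Finset.mem_univ _)]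
    simp
  rw [hg', map_mul, prods_det hs, hdet, one_mul] at hdet'
  have hone : g' = 1 := hb.ext fun i => by
    by_cases hi : i = last
    · rw [hi, hlastimg, ← hdet', one_smul]; rfl
    · rw [hfix i hi]; rfl
  obtain ⟨t, ht, hts, -⟩ := prods_inv hs
  have : g = t := by
    calc g = t * (s * g) := by rw [← mul_assoc, hts, one_mul]
      _ = t := by rw [← hg', hone, mul_one]
  rw [this]; exact ht

end Cfsg.Agent.UnitaryF4Transvection
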