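import Mathlib
import Cfsg.Prelude.Def_LieClassical
import Cfsg.Prelude.Def_GeometricClasses
import Cfsg.Agent.Lib.UnitaryF4Transvection

/-!
Over the field with four elements a non-degenerate Hermitian plane has exactly two lines of
norm-one vectors.  Tools for the non-maximality of small geometric subgroups of `SU_n(2)`.
-/

set_option autoImplicit false

namespace Cfsg.Agent.UnitaryF4NotMaximal

open UnitaryF4Geo
open scoped Matrix

variable {F : Type*} [Field F] [Fintype F] [hF : FourField F]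

section Forms

variable {V : Type*} [AddCommGroup V] [Module F V] {B : V → V → F}

/-- A Hermitian form given as a function. -/
structure Herm (B : V → V → F) : Prop where
  add_left : ∀ x y v, B (x + y) v = B x v + B y v
  smul_left : ∀ (c : F) (x v : V), B (c • x) v = c * B x v
  herm : ∀ v w, B v w = B w v ^ 2

omit hF [Fintype F] in
theorem Herm.zero_left (H : Herm B) (v : V) : B 0 v = 0 := by
  have := H.smul_left 0 0 v
  simpa using this

omit hF [Fintype F] in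
theorem Herm.zero_right (H : Herm B) (v : V) : B v 0 = 0 := by
  rw [H.herm, H.zero_left]; ring

theorem Herm.add_right (H : Herm B) (v x y : V) : B v (x + y) = B v x + B v y := by
  rw [H.herm, H.add_left, sq_add, ← H.herm, ← H.herm]

theorem Herm.smul_right (H : Herm B) (c : F) (v x : V) : B v (c • x) = c ^ 2 * B v x := by
  rw [H.herm, H.smul_left, mul_pow, ← H.herm]

theorem Herm.self (H : Herm B) (v : V) : B v v = 0 ∨ B v v = 1 :=
  fixed_cases (H.herm v v).symm

theorem Herm.self_one (H : Herm B) {v : V} (hv : B v v ≠ 0) : B v v = 1 :=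
  (H.self v).resolve_left hv

omit hF [Fintype F] in
theorem Herm.comm_zero (H : Herm B) {u v : V} (e : B u v = 0) : B v u = 0 := by
  rw [H.herm, e]; ring

theorem Herm.exists_one (H : Herm B) {W : Submodule F V}
    (hW : ∀ w ∈ W, w ≠ 0 → ∃ x ∈ W, B x w ≠ 0) {w : V} (hw : w ∈ W) (hw0 : w ≠ 0) :
    ∃ a ∈ W, B a a = 1 := by
  obtain ⟨x, hx, hxw⟩ := hW w hw hw0
  rcases H.self w with ew | ew
  swap
  · exact ⟨w, hw, ew⟩
  rcases H.self x with ex | ex
  swap
  · exact ⟨x, hx, ex⟩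
  obtain ⟨o, ho⟩ := exists_omega (F := F)
  refine ⟨(o / B x w) • x + w, W.add_mem (W.smul_mem _ hx) hw, ?_⟩
  have e : B w x = B x w ^ 2 := H.herm w x
  have e' : (o / B x w) * B x w = o := div_mul_cancel₀ _ hxw
  simp only [H.add_left, H.smul_left, H.add_right, H.smul_right, ew, ex, e]
  linear_combination (1 + o + (o / B x w) * B x w) * e' + ho + o * two_eq_zero (F := F)

/-- A non-degenerate plane: an orthonormal basis, and every norm-one vector is on one of its lines. -/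
theorem Herm.frame_two (H : Herm B) [FiniteDimensional F V] {W : Submodule F V}
    (hd : Module.finrank F W = 2) (hW : ∀ w ∈ W, w ≠ 0 → ∃ x ∈ W, B x w ≠ 0) :
    ∃ a ∈ W, ∃ b ∈ W, B a a = 1 ∧ B b b = 1 ∧ B a b = 0 ∧
      ∀ v ∈ W, B v v = 1 → ∃ c : F, v = c • a ∨ v = c • b := by
  have hne : W ≠ ⊥ := fun e => by rw [e, finrank_bot] at hd; omega
  obtain ⟨w, hw, hw0⟩ := (Submodule.ne_bot_iff _).mp hne
  obtain ⟨a, ha, haa⟩ := H.exists_one hW hw hw0
  have ha0 : a ≠ 0 := fun e => by rw [e, H.zero_left] at haa; exact zero_ne_one haa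
  obtain ⟨x, hx, hxs⟩ : ∃ x ∈ W, x ∉ Submodule.span F {a} := by
    apply SetLike.not_le_iff_exists.mp
    intro hle
    have := Submodule.finrank_mono hle
    rw [hd, finrank_span_singleton ha0] at this
    omega
  set y := x + B x a • a with hy
  have hya : B y a = 0 := by
    rw [hy, H.add_left, H.smul_left, haa, mul_one, UnitaryF4Geo.add_self]
  have hyW : y ∈ W := W.add_mem hx (W.smul_mem _ ha)
  have hys : y ∉ Submodule.span F {a} := fun h => hxs (by
    have := Submodule.sub_mem _ h (Submodule.smul_mem _ (B x a) (Submodule.mem_span_singleton_self a))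
    simpa [hy] using this)
  have hspan : ∀ v ∈ W, ∃ α β : F, v = α • a + β • y := by
    have hli : LinearIndependent F ![a, y] := by
      rw [LinearIndependent.pair_iff' ha0]
      exact fun c e => hys (e ▸ Submodule.smul_mem _ c (Submodule.mem_span_singleton_self a))
    have hle : Submodule.span F {a, y} ≤ W :=
      Submodule.span_le.mpr (by rintro z (rfl | rfl) <;> assumption)
    have heq : Submodule.span F {a, y} = W := by
      refine Submodule.eq_of_le_of_finrank_le hle ?_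
      have : Set.range ![a, y] = {a, y} := by simp [Set.pair_comm]
      rw [hd, ← this, finrank_span_eq_card hli, Fintype.card_fin]
    intro v hv
    rw [← heq, Submodule.mem_span_pair] at hv
    obtain ⟨α, β, e⟩ := hv
    exact ⟨α, β, e.symm⟩
  have hy0 : y ≠ 0 := fun e => hys (e ▸ Submodule.zero_mem _)
  have hyy : B y y = 1 := H.self_one (fun e => by
    obtain ⟨z, hz, hzy⟩ := hW y hyW hy0
    obtain ⟨α, β, rfl⟩ := hspan z hz
    apply hzy
    rw [H.add_left, H.smul_left, H.smul_left, H.comm_zero hya, e]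
    ring)
  refine ⟨a, ha, y, hyW, haa, hyy, H.comm_zero hya, fun v hv hvv => ?_⟩
  obtain ⟨α, β, rfl⟩ := hspan v hv
  simp only [H.add_left, H.smul_left, H.add_right, H.smul_right, haa, hyy, hya,
    H.comm_zero hya] at hvv
  by_cases hα : α = 0
  · exact ⟨β, Or.inr (by rw [hα, zero_smul, zero_add])⟩
  by_cases hβ : β = 0
  · exact ⟨α, Or.inl (by rw [hβ, zero_smul, add_zero])⟩
  exfalso
  have h1 := cube hα
  have h2 := cube hβ
  exact one_ne_zero (by linear_combination hvv - h1 - h2)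

theorem Herm.exists_isotropic (H : Herm B) {a b : V} (hb : ∀ c : F, b ≠ c • a) (ha : a ≠ 0) :
    ∃ u, u ≠ 0 ∧ B u u = 0 := by
  rcases H.self a with e | e
  · exact ⟨a, ha, e⟩
  obtain ⟨x, hx⟩ : ∃ x, x = b + B b a • a := ⟨_, rfl⟩
  have hxa : B x a = 0 := by rw [hx, H.add_left, H.smul_left, e, mul_one, UnitaryF4Geo.add_self]
  rcases H.self x with ex | ex
  · refine ⟨x, fun h0 => hb (- B b a) ?_, ex⟩
    rw [hx] at h0
    rw [neg_smul]; exact eq_neg_of_add_eq_zero_left h0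
  · refine ⟨x + a, fun h0 => ?_, ?_⟩
    · refine hb (- (B b a + 1)) ?_
      rw [neg_smul, add_smul, one_smul]
      apply eq_neg_of_add_eq_zero_left
      rw [← add_assoc, ← hx]; exact h0
    · rw [H.add_left, H.add_right, H.add_right, ex, e, hxa, H.comm_zero hxa, add_zero, zero_add,
        UnitaryF4Geo.add_self]

end Forms

variable {n : ℕ}

theorem herm_h : Herm (F := F) (h (n := n) (F := F)) :=
  ⟨fun x y v => h_add_left x y v, fun c x v => h_smul_left c x v, fun v w => h_symm w v⟩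

/-- `SU_n(2)` inside the general linear group. -/
abbrev SUn (n : ℕ) (F : Type*) [Field F] : Subgroup (Matrix.GeneralLinearGroup (Fin n) F) :=
  Cfsg.GU n F 2 ⊓ Cfsg.Geo.specialLinear (Fin n) F

/-- Transvections as members of `SU_n(2)`. -/
theorem exists_tvGL (u : Fin n → F) (hu : h u u = 0) :
    ∃ g ∈ SUn n F, ∀ v, ((g : Matrix (Fin n) (Fin n) F)) *ᵥ v = tv u v := by
  classical
  set M := LinearMap.toMatrix' (tv u) with hM
  have hdet : M.det = 1 := by
    rw [hM, LinearMap.det_toMatrix', UnitaryF4Transvection.tv_det hu]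
  have hmul : ∀ v, M *ᵥ v = tv u v := fun v => by
    rw [← Matrix.toLin'_apply, hM, Matrix.toLin'_toMatrix']
  refine ⟨Matrix.GeneralLinearGroup.mkOfDetNeZero M (by rw [hdet]; exact one_ne_zero),
    ⟨fun v w => ?_, ?_⟩, hmul⟩
  · show Cfsg.hermForm n F 2 (M *ᵥ v) (M *ᵥ w) = Cfsg.hermForm n F 2 v w
    rw [hmul, hmul, ← h_eq, ← h_eq, tv_isom hu]
  · refine (MonoidHom.mem_ker).mpr (Units.ext ?_)
    exact hdet

omit hF [Fintype F] in
theorem isom_of_mem {g : Matrix.GeneralLinearGroup (Fin n) F} (hg : g ∈ SUn n F)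
    (v w : Fin n → F) :
    h ((g : Matrix (Fin n) (Fin n) F) *ᵥ v) ((g : Matrix (Fin n) (Fin n) F) *ᵥ w) = h v w :=
  hg.1 v w

omit hF [Fintype F] in
theorem mem_stabilizing_of {g : Matrix.GeneralLinearGroup (Fin n) F} {S : Set (Fin n → F)}
    (h1 : ∀ v ∈ S, (g : Matrix (Fin n) (Fin n) F) *ᵥ v ∈ S)
    (h2 : ∀ v ∈ S, ((g⁻¹ : Matrix.GeneralLinearGroup (Fin n) F) : Matrix (Fin n) (Fin n) F) *ᵥ v ∈ S) :
    g ∈ Cfsg.stabilizing (Units.coeHom (Matrix (Fin n) (Fin n) F)) S := by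
  intro v
  refine ⟨h1 v, fun hv => ?_⟩
  have := h2 _ hv
  rwa [Units.coeHom_apply, Matrix.mulVec_mulVec, ← Units.val_mul, inv_mul_cancel, Units.val_one,
    Matrix.one_mulVec] at this

/-- The shape of both arguments: a set of vectors gives the intermediate subgroup. -/
theorem exists_between {H : Subgroup (Matrix.GeneralLinearGroup (Fin n) F)} (S : Set (Fin n → F))
    (hHS : ∀ g ∈ H ⊓ SUn n F, ∀ v ∈ S, (g : Matrix (Fin n) (Fin n) F) *ᵥ v ∈ S)
    {u : Fin n → F} (hu : h u u = 0) (huS : ∀ v ∈ S, tv u v ∈ S)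
    (huH : ∀ g : Matrix.GeneralLinearGroup (Fin n) F,
      (∀ v, (g : Matrix (Fin n) (Fin n) F) *ᵥ v = tv u v) → g ∉ H)
    {u' : Fin n → F} (hu' : h u' u' = 0) {z : Fin n → F} (hz : z ∈ S) (hz' : tv u' z ∉ S) :
    ∃ K : Subgroup (Matrix.GeneralLinearGroup (Fin n) F), H ⊓ SUn n F < K ∧ K < SUn n F := by
  refine ⟨Cfsg.stabilizing (Units.coeHom (Matrix (Fin n) (Fin n) F)) S ⊓ SUn n F, ?_, ?_⟩
  · refine lt_of_le_of_ne (fun g hg => ⟨mem_stabilizing_of (hHS g hg) (hHS _ (inv_mem hg)), hg.2⟩)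
      fun e => ?_
    obtain ⟨g, hg, hgv⟩ := exists_tvGL u hu
    refine huH g hgv (e.symm.le (show g ∈ _ from ⟨mem_stabilizing_of (fun v hv => ?_) fun v hv => ?_, hg⟩)).1
    · rw [hgv]; exact huS v hv
    · have key : ((g⁻¹ : Matrix.GeneralLinearGroup (Fin n) F) : Matrix (Fin n) (Fin n) F) *ᵥ v
          = tv u v := by
        conv_lhs => rw [← tv_tv hu v, ← hgv (tv u v)]
        rw [Matrix.mulVec_mulVec, ← Units.val_mul, inv_mul_cancel, Units.val_one, Matrix.one_mulVec]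
      rw [key]; exact huS v hv
  · refine lt_of_le_of_ne inf_le_right fun e => ?_
    obtain ⟨g, hg, hgv⟩ := exists_tvGL u' hu'
    have hgS := (e.symm.le hg).1
    exact hz' (hgv z ▸ (hgS z).mp hz)

/-! ### Decompositions into non-degenerate planes -/

theorem decomposition {t : ℕ} (D : Fin t → Submodule F (Fin n → F))
    (hD : Cfsg.Geo.IsNondegenerateMDecomposition (Cfsg.hermForm n F 2) 2 D) :
    ∃ K : Subgroup (Matrix.GeneralLinearGroup (Fin n) F),
      Cfsg.Geo.decompositionStabilizer D ⊓ SUn n F < K ∧ K < SUn n F := by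
  have ht := hD.decomp.two_le
  have frame : ∀ i, ∃ a ∈ D i, ∃ b ∈ D i, h a a = 1 ∧ h b b = 1 ∧ h a b = 0 ∧
      ∀ v ∈ D i, h v v = 1 → ∃ c : F, v = c • a ∨ v = c • b := fun i =>
    herm_h.frame_two (hD.decomp.finrank_eq i) fun w hw hw0 =>
      (hD.nondegenerate i w hw hw0).1
  have orth : ∀ {i j}, i ≠ j → ∀ {v w}, v ∈ D i → w ∈ D j → h v w = 0 :=
    by intro i j hij v w hv hw; exact hD.orthogonal i j hij v hv w hw
  have uniq : ∀ {i j v}, v ∈ D i → v ∈ D j → v ≠ 0 → i = j := by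
    intro i j v hi hj hv
    by_contra hij
    exact hv (Submodule.disjoint_def.mp (hD.decomp.indep.pairwiseDisjoint hij) v hi hj)
  have ne0 : ∀ {v : Fin n → F}, h v v = 1 → v ≠ 0 := fun e e0 => by
    rw [e0, h_zero_left] at e; exact zero_ne_one e
  let i : Fin t := ⟨0, by omega⟩
  let j : Fin t := ⟨1, by omega⟩
  have hij : i ≠ j := by simp [i, j, Fin.ext_iff]
  obtain ⟨a, ha, a', ha', haa, ha'a', haa', hAi⟩ := frame i
  obtain ⟨b, hb, b', hb', hbb, hb'b', hbb', hBj⟩ := frame j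
  have hab := orth hij ha hb
  have hab' := orth hij ha hb'
  have ha'b := orth hij ha' hb
  have ha'b' := orth hij ha' hb'
  have hba := h_comm_zero hab
  have hb'a := h_comm_zero hab'
  have hba' := h_comm_zero ha'b
  have hb'a' := h_comm_zero ha'b'
  have ha'a := h_comm_zero haa'
  have hb'b := h_comm_zero hbb'
  set S : Set (Fin n → F) := {v | h v v = 1 ∧ ∃ k, v ∈ D k} with hS
  have hu : h (a + b) (a + b) = 0 := by
    simp [h_add_left, h_add_right, haa, hbb, hab, hba, UnitaryF4Geo.add_self]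
  have hu' : h (a + a' + b + b') (a + a' + b + b') = 0 := by
    simp [h_add_left, h_add_right, haa, hbb, hab, hba, ha'a', hb'b', haa', ha'a, hbb', hb'b, hab',
      hb'a, ha'b, hba', ha'b', hb'a', UnitaryF4Geo.add_self]
  have tva : tv (a + b) a = b := by
    rw [tv_apply, h_add_right, haa, hab, add_zero, one_smul, ← add_assoc, vec_add_self, zero_add]
  have tvb : tv (a + b) b = a := by
    rw [tv_apply, h_add_right, hbb, hba, zero_add, one_smul, add_comm a b, ← add_assoc,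
      vec_add_self, zero_add]
  refine exists_between S ?_ hu ?_ ?_ hu' (z := a) ⟨haa, i, ha⟩ ?_
  · rintro g ⟨⟨σ, hσ⟩, hg⟩ v ⟨hv, k, hk⟩
    refine ⟨by rw [isom_of_mem hg]; exact hv, σ k, ?_⟩
    rw [← hσ k]
    exact ⟨v, hk, Matrix.toLin'_apply _ _⟩
  · rintro v ⟨hv, k, hk⟩
    refine ⟨by rw [tv_isom hu]; exact hv, ?_⟩
    by_cases hki : k = i
    · subst hki
      obtain ⟨c, rfl | rfl⟩ := hAi v hk hv
      · exact ⟨j, by rw [map_smul, tva]; exact (D j).smul_mem c hb⟩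
      · refine ⟨i, ?_⟩
        rw [tv_fix]
        · exact hk
        · rw [h_smul_left, h_add_right, ha'a, ha'b]; ring
    by_cases hkj : k = j
    · subst hkj
      obtain ⟨c, rfl | rfl⟩ := hBj v hk hv
      · exact ⟨i, by rw [map_smul, tvb]; exact (D i).smul_mem c ha⟩
      · refine ⟨j, ?_⟩
        rw [tv_fix]
        · exact hk
        · rw [h_smul_left, h_add_right, hb'a, hb'b]; ring
    exact ⟨k, by rw [tv_fix (by rw [h_add_right, orth hki hk ha, orth hkj hk hb, add_zero])]; exact hk⟩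
  · rintro g hg ⟨σ, hσ⟩
    have m : ∀ x ∈ D i, tv (a + b) x ∈ D (σ i) := fun x hx => by
      rw [← hσ i, ← hg]
      exact ⟨x, hx, Matrix.toLin'_apply _ _⟩
    have e2 : tv (a + b) a' = a' := tv_fix (by rw [h_add_right, ha'a, ha'b, add_zero])
    have hσi : σ i = i := uniq (e2 ▸ m a' ha') ha' (ne0 ha'a')
    exact hij (uniq (hσi ▸ tva ▸ m a ha) hb (ne0 hbb))
  · rintro ⟨-, k, hk⟩
    have e : h a (a + a' + b + b') = 1 := by
      simp [h_add_right, haa, haa', hab, hab']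
    rw [tv_apply, e, one_smul] at hk
    have k1 : k = j := by
      by_contra hne
      have := orth hne hk hb
      simp [h_add_left, haa, hab, ha'b, hbb, hb'b] at this
    have k2 : k = i := by
      by_contra hne
      have := orth hne hk ha'
      simp [h_add_left, haa', ha'a', hba', hb'a'] at this
    exact hij (k2 ▸ k1)

/-! ### Tensor products with a plane -/

/-- The pure tensor. -/
def tp {n₁ n₂ : ℕ} (y : Fin n₁ → F) (w : Fin n₂ → F) : Fin n₁ × Fin n₂ → F :=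
  fun p => y p.1 * w p.2

omit hF [Fintype F] in
theorem kronecker_tp {n₁ n₂ : ℕ} (A : Matrix (Fin n₁) (Fin n₁) F) (B : Matrix (Fin n₂) (Fin n₂) F)
    (y : Fin n₁ → F) (w : Fin n₂ → F) :
    Matrix.kroneckerMap (· * ·) A B *ᵥ tp y w = tp (A *ᵥ y) (B *ᵥ w) := by
  funext p
  simp only [Matrix.mulVec, dotProduct, tp, Matrix.kroneckerMap_apply, Fintype.sum_prod_type,
    Finset.sum_mul_sum]
  exact Finset.sum_congr rfl fun _ _ => Finset.sum_congr rfl fun _ _ => by ring

omit hF [Fintype F] in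
theorem formOfGram_tp {n₁ n₂ : ℕ} (G₁ : Matrix (Fin n₁) (Fin n₁) F) (G₂ : Matrix (Fin n₂) (Fin n₂) F)
    (y y' : Fin n₁ → F) (w w' : Fin n₂ → F) :
    Cfsg.Geo.formOfGram (fun x : F => x ^ 2) (Matrix.kroneckerMap (· * ·) G₁ G₂) (tp y w) (tp y' w') =
      Cfsg.Geo.formOfGram (fun x : F => x ^ 2) G₁ y y' *
        Cfsg.Geo.formOfGram (fun x : F => x ^ 2) G₂ w w' := by
  simp only [Cfsg.Geo.formOfGram, tp, Matrix.kroneckerMap_apply, Fintype.sum_prod_type,
    Finset.sum_mul_sum]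
  refine Finset.sum_congr rfl fun a _ => Finset.sum_congr rfl fun b _ => ?_
  exact Finset.sum_congr rfl fun _ _ => Finset.sum_congr rfl fun _ _ => by ring

theorem formOfGram_eq {m : ℕ} {f : (Fin m → F) → (Fin m → F) → F} (H : Herm f)
    (x y : Fin m → F) :
    Cfsg.Geo.formOfGram (fun x : F => x ^ 2) (Cfsg.Geo.gramMatrix f) x y = f x y := by
  classical
  let L : (Fin m → F) → (Fin m → F) →ₗ[F] F := fun v =>
    { toFun := fun x => f x v
      map_add' := fun a b => H.add_left a b v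
      map_smul' := fun c a => H.smul_left c a v }
  have key : ∀ x v, f x v = ∑ a, x a * f (Pi.single a 1) v := fun x v => by
    show L v x = _
    conv_lhs => rw [pi_eq_sum_univ' x, map_sum]
    refine Finset.sum_congr rfl fun a _ => ?_
    rw [map_smul, smul_eq_mul]
    rfl
  rw [key x y]
  refine Finset.sum_congr rfl fun a _ => ?_
  rw [H.herm (Pi.single a 1) y, key y, sq_sum, Finset.mul_sum]
  refine Finset.sum_congr rfl fun b _ => ?_
  rw [mul_pow, ← H.herm (Pi.single a 1) (Pi.single b 1), Cfsg.Geo.gramMatrix]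
  ring

theorem tensor (n₂ : ℕ) (hn₂ : 2 ≤ n₂) (e : Fin n ≃ Fin 2 × Fin n₂)
    (P : Matrix.GeneralLinearGroup (Fin n) F)
    (f₁ : (Fin 2 → F) → (Fin 2 → F) → F) (f₂ : (Fin n₂ → F) → (Fin n₂ → F) → F)
    (hf₁ : Cfsg.Geo.IsUnitaryFormPow 2 f₁) (hf₂ : Cfsg.Geo.IsUnitaryFormPow 2 f₂)
    (hT : Cfsg.Geo.IsTensorFormStructure (fun x : F => x ^ 2) (Cfsg.hermForm n F 2) f₁ f₂ e P) :
    ∃ K : Subgroup (Matrix.GeneralLinearGroup (Fin n) F),
      Cfsg.Geo.tensorProductSubgroup 2 n₂ e P ⊓ SUn n F < K ∧ K < SUn n F := by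
  classical
  obtain ⟨c, hc, hT⟩ := hT
  have H₁ : Herm f₁ := ⟨hf₁.add_left, hf₁.smul_left, hf₁.herm⟩
  have H₂ : Herm f₂ := ⟨hf₂.add_left, hf₂.smul_left, hf₂.herm⟩
  obtain ⟨y₁, -, y₂, -, h11, h22, h12, hlines⟩ := H₁.frame_two (W := ⊤)
    (by rw [finrank_top, Module.finrank_fin_fun])
    (fun w _ hw => by obtain ⟨x, hx⟩ := (hf₁.nondegenerate w hw).1; exact ⟨x, trivial, hx⟩)
  have h21 := H₁.comm_zero h12
  let Φ : (Fin 2 → F) → (Fin n₂ → F) → (Fin n → F) := fun y w =>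
    (P : Matrix (Fin n) (Fin n) F) *ᵥ (tp y w ∘ e)
  have hΦh : ∀ y y' w w', h (Φ y w) (Φ y' w') = c * (f₁ y y' * f₂ w w') := fun y y' w w' => by
    rw [h_eq, hT, formOfGram_tp, formOfGram_eq H₁, formOfGram_eq H₂]
  have hΦinj : ∀ {y y' w w'}, Φ y w = Φ y' w' → tp y w = tp y' w' := fun {y y' w w'} hh => by
    have := Matrix.mulVec_injective_of_isUnit P.isUnit hh
    funext p
    simpa using congrFun this (e.symm p)
  have hΦsmul : ∀ (k : F) y w, Φ (k • y) w = Φ y (k • w) := fun k y w => by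
    show (P : Matrix (Fin n) (Fin n) F) *ᵥ _ = (P : Matrix (Fin n) (Fin n) F) *ᵥ _
    congr 1
    funext p
    simp only [Function.comp_apply, tp, Pi.smul_apply, smul_eq_mul]
    ring
  have hΦlin : ∀ (k : F) y w w', Φ y w + k • Φ y w' = Φ y (w + k • w') := fun k y w w' => by
    show (P : Matrix (Fin n) (Fin n) F) *ᵥ _ + k • ((P : Matrix (Fin n) (Fin n) F) *ᵥ _) = _
    rw [← Matrix.mulVec_smul, ← Matrix.mulVec_add]
    show (P : Matrix (Fin n) (Fin n) F) *ᵥ _ = (P : Matrix (Fin n) (Fin n) F) *ᵥ _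
    congr 1
    funext p
    simp only [Function.comp_apply, tp, Pi.add_apply, Pi.smul_apply, smul_eq_mul]
    ring
  obtain ⟨u₀, hu₀, hu00⟩ := H₂.exists_isotropic
    (a := Pi.single (⟨0, by omega⟩ : Fin n₂) (1 : F)) (b := Pi.single (⟨1, by omega⟩ : Fin n₂) (1 : F))
    (fun k hk => by
      have := congrFun hk (⟨1, by omega⟩ : Fin n₂)
      simp at this)
    (fun hk => by
      have := congrFun hk (⟨0, by omega⟩ : Fin n₂)
      simp at this)
  obtain ⟨v₀, hv₀⟩ := (hf₂.nondegenerate u₀ hu₀).1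
  set β := c * f₂ v₀ u₀ with hβdef
  have hβ : β ≠ 0 := mul_ne_zero hc hv₀
  have act : ∀ g ∈ Cfsg.Geo.tensorProductSubgroup 2 n₂ e P,
      ∃ (A : Matrix (Fin 2) (Fin 2) F) (B : Matrix (Fin n₂) (Fin n₂) F),
        ∀ y w, (g : Matrix (Fin n) (Fin n) F) *ᵥ Φ y w = Φ (A *ᵥ y) (B *ᵥ w) := by
    rintro g ⟨-, ⟨k, ⟨A, B, hk⟩, rfl⟩, rfl⟩
    refine ⟨A, B, fun y w => ?_⟩
    simp only [MulEquiv.coe_toMonoidHom, MulAut.conj_apply, Units.val_mul, Cfsg.Geo.glReindex]
    show _ *ᵥ ((P : Matrix (Fin n) (Fin n) F) *ᵥ _) = (P : Matrix (Fin n) (Fin n) F) *ᵥ _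
    rw [Matrix.mulVec_mulVec, mul_assoc, Units.inv_mul, mul_one,
      ← Matrix.mulVec_mulVec]
    congr 1
    show ((Matrix.reindex e.symm e.symm) (k : Matrix (Fin 2 × Fin n₂) (Fin 2 × Fin n₂) F)) *ᵥ _ = _
    rw [Matrix.reindex_apply, Equiv.symm_symm, hk, Matrix.submatrix_mulVec_equiv, ← kronecker_tp]
    congr 2
    funext p
    simp
  set S : Set (Fin n → F) := {v | ∃ w, v = Φ y₁ w ∨ v = Φ y₂ w} with hS
  have hu : h (Φ y₁ u₀) (Φ y₁ u₀) = 0 := by rw [hΦh, hu00]; ring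
  have hu' : h (Φ y₁ u₀ + Φ y₂ u₀) (Φ y₁ u₀ + Φ y₂ u₀) = 0 := by
    simp only [h_add_left, h_add_right, hΦh, hu00]; ring
  refine exists_between S ?_ hu ?_ ?_ hu' (z := Φ y₁ v₀) ⟨v₀, Or.inl rfl⟩ ?_
  · rintro g ⟨hgT, hg⟩ v ⟨w, hv⟩
    obtain ⟨A, B, hAB⟩ := act g hgT
    have key : ∀ y, f₁ y y = 1 → (g : Matrix (Fin n) (Fin n) F) *ᵥ Φ y w ∈ S := fun y hy => by
      have e1 := isom_of_mem hg (Φ y v₀) (Φ y u₀)
      rw [hAB, hAB, hΦh, hΦh, hy, one_mul] at e1
      have hA : f₁ (A *ᵥ y) (A *ᵥ y) = 1 := H₁.self_one fun e0 => hβ (by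
        rw [hβdef, ← e1, e0]; ring)
      rw [hAB]
      obtain ⟨k, hk | hk⟩ := hlines _ trivial hA <;> rw [hk, hΦsmul]
      · exact ⟨_, Or.inl rfl⟩
      · exact ⟨_, Or.inr rfl⟩
    rcases hv with rfl | rfl
    · exact key _ h11
    · exact key _ h22
  · rintro v ⟨w, rfl | rfl⟩
    · exact ⟨w + (c * f₂ w u₀) • u₀, Or.inl (by
        rw [tv_apply, hΦh, h11, one_mul, hΦlin])⟩
    · exact ⟨w, Or.inr (tv_fix (by rw [hΦh, h21]; ring))⟩
  · intro g hg hgT
    obtain ⟨A, B, hAB⟩ := act g hgT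
    have k1 : ∀ w, tv (Φ y₁ u₀) (Φ y₁ w) = Φ y₁ (w + (c * f₂ w u₀) • u₀) := fun w => by
      rw [tv_apply, hΦh, h11, one_mul, hΦlin]
    have k2 : ∀ w, tv (Φ y₁ u₀) (Φ y₂ w) = Φ y₂ w := fun w =>
      tv_fix (by rw [hΦh, h21]; ring)
    have E1 : tp (A *ᵥ y₁) (B *ᵥ u₀) = tp y₁ u₀ := by
      apply hΦinj
      rw [← hAB, hg, k1, hu00, mul_zero, zero_smul, add_zero]
    have E2 : tp (A *ᵥ y₁) (B *ᵥ v₀) = tp y₁ (v₀ + β • u₀) := by
      apply hΦinj
      rw [← hAB, hg, k1]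
    have E3 : tp (A *ᵥ y₂) (B *ᵥ u₀) = tp y₂ u₀ := by
      apply hΦinj
      rw [← hAB, hg, k2]
    have E4 : tp (A *ᵥ y₂) (B *ᵥ v₀) = tp y₂ v₀ := by
      apply hΦinj
      rw [← hAB, hg, k2]
    obtain ⟨p, hp⟩ := Function.ne_iff.mp (show y₁ ≠ 0 from fun e0 => by
      rw [e0, H₁.zero_left] at h11; exact zero_ne_one h11)
    obtain ⟨p', hp'⟩ := Function.ne_iff.mp (show y₂ ≠ 0 from fun e0 => by
      rw [e0, H₁.zero_left] at h22; exact zero_ne_one h22)
    obtain ⟨q, hq⟩ := Function.ne_iff.mp hu₀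
    have a1 := congrFun E1 (p, q)
    have a2 := congrFun E2 (p, q)
    have a3 := congrFun E3 (p', q)
    have a4 := congrFun E4 (p', q)
    simp only [tp, Pi.add_apply, Pi.smul_apply, smul_eq_mul] at a1 a2 a3 a4
    have : y₁ p * y₂ p' * u₀ q * (β * u₀ q) = 0 := by
      linear_combination ((A *ᵥ y₁) p * (B *ᵥ u₀) q) * a4 + (y₂ p' * v₀ q) * a1 -
        ((A *ᵥ y₂) p' * (B *ᵥ u₀) q) * a2 - (y₁ p * (v₀ q + β * u₀ q)) * a3
    simp only [Pi.zero_apply] at hp hp' hq
    exact mul_ne_zero (mul_ne_zero (mul_ne_zero hp hp') hq) (mul_ne_zero hβ hq) this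
  · rintro ⟨w, hw⟩
    have e1 : h (Φ y₁ v₀) (Φ y₁ u₀ + Φ y₂ u₀) = β := by
      rw [h_add_right, hΦh, hΦh, h11, h12, hβdef]; ring
    rw [tv_apply, e1] at hw
    rcases hw with hw | hw
    · have := congrArg (fun v => h v (Φ y₂ v₀)) hw
      simp only [h_add_left, h_smul_left, hΦh, h12, h22] at this
      have e2 : f₂ u₀ v₀ = 0 := by
        have : β * c * f₂ u₀ v₀ = 0 := by linear_combination this
        exact (mul_eq_zero.mp this).resolve_left (mul_ne_zero hβ hc)
      exact hv₀ (H₂.comm_zero e2)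
    · have := congrArg (fun v => h v (Φ y₁ u₀)) hw
      simp only [h_add_left, h_smul_left, hΦh, h11, h21, hu00] at this
      exact hβ (by rw [hβdef]; linear_combination this)

end Cfsg.Agent.UnitaryF4NotMaximal
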