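import Mathlib
import Cfsg.Agent.Lib.OrthUnitaryHerm

/-!
The unitary matrices moved by a field automorphism of odd prime order only by a scalar (helper56).
-/

set_option autoImplicit false

namespace Cfsg.Agent.UnitaryFieldAut56

open Cfsg.Agent.OrthUnitaryHerm
open scoped Matrix

universe u

variable {F : Type u} [Field F] [Fintype F] {n q : ℕ}

theorem isU_iff (hF : Fintype.card F = q ^ 2) (M : Matrix (Fin n) (Fin n) F) :
    IsU q M ↔ ∀ i j, ∑ k, M k i * (M k j) ^ q = if i = j then 1 else 0 := by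
  classical
  constructor
  · intro h i j
    have h1 := h (Pi.single i 1) (Pi.single j 1)
    rw [herm_single_left, Matrix.mulVec_single_one, Matrix.mulVec_single_one] at h1
    simp only [Cfsg.hermForm, Matrix.col_apply] at h1
    rw [h1, Pi.single_apply]
    split_ifs <;> simp [q_ne_zero hF]
  · intro h u v
    simp only [Cfsg.hermForm, Matrix.mulVec, dotProduct]
    calc ∑ k, (∑ i, M k i * u i) * (∑ j, M k j * v j) ^ q
        = ∑ k, ∑ i, ∑ j, (u i * v j ^ q) * (M k i * M k j ^ q) := by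
          refine Finset.sum_congr rfl fun k _ => ?_
          rw [sum_pow_q hF, Finset.sum_mul]
          refine Finset.sum_congr rfl fun i _ => ?_
          rw [Finset.mul_sum]
          refine Finset.sum_congr rfl fun j _ => ?_
          rw [mul_pow]; ring
      _ = ∑ i, ∑ j, (u i * v j ^ q) * ∑ k, M k i * M k j ^ q := by
          rw [Finset.sum_comm]
          refine Finset.sum_congr rfl fun i _ => ?_
          rw [Finset.sum_comm]
          exact Finset.sum_congr rfl fun j _ => (Finset.mul_sum _ _ _).symm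
      _ = ∑ i, u i * v i ^ q := by
          simp [h]

theorem pow_fix {R : Type*} [Monoid R] {x : R} {q₀ : ℕ} (h : x ^ (q₀ ^ 2) = x) :
    ∀ k : ℕ, x ^ (q₀ ^ (2 * k + 1)) = x ^ q₀
  | 0 => by simp
  | k + 1 => by
    rw [show 2 * (k + 1) + 1 = 2 + (2 * k + 1) by ring, pow_add, pow_mul, h, pow_fix h k]

theorem formula (q₀ n : ℕ) (hq : 1 ≤ q₀) :
    ((q₀ ^ (n * (n - 1) / 2) *
      ∏ i ∈ Finset.range n, (if Even i then q₀ ^ (i + 1) + 1 else q₀ ^ (i + 1) - 1) : ℕ) : ℤ) =
    (q₀ : ℤ) ^ (n * (n - 1) / 2) *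
      ∏ i : Fin n, ((q₀ : ℤ) ^ ((i : ℕ) + 1) - (-1) ^ ((i : ℕ) + 1)) := by
  rw [Nat.cast_mul, Nat.cast_pow, Fin.prod_univ_eq_prod_range
    (fun i => (q₀ : ℤ) ^ (i + 1) - (-1) ^ (i + 1)) n, Nat.cast_prod]
  congr 1
  refine Finset.prod_congr rfl fun i _ => ?_
  have h1 : 1 ≤ q₀ ^ (i + 1) := Nat.one_le_pow _ _ hq
  split_ifs with he
  · rw [he.add_one.neg_one_pow]; push_cast; ring
  · rw [(Nat.not_even_iff_odd.1 he).add_one.neg_one_pow]; push_cast [h1]; ring

section Aut

variable {K : Type u} [Field K] [Fintype K] {q₀ r : ℕ}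

theorem coe_pow_aut (σ : K ≃+* K) : ∀ (k : ℕ) (x : K), (σ ^ (k + 1)) x = σ ((σ ^ k) x)
  | k, x => by rw [pow_succ']; rfl

/-- The product `c σ(c) ⋯ σ^(k-1)(c)`. -/
def nrm (σ : K ≃+* K) (c : K) (k : ℕ) : K := ∏ i ∈ Finset.range k, (σ ^ i) c

theorem nrm_succ (σ : K ≃+* K) (c : K) (k : ℕ) : nrm σ c (k + 1) = c * σ (nrm σ c k) := by
  rw [nrm, nrm, map_prod, Finset.prod_range_succ', pow_zero, RingAut.one_apply, mul_comm]
  congr 1
  exact Finset.prod_congr rfl fun i _ => coe_pow_aut σ i c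

/-- Hilbert's Theorem 90 for a cyclic group of automorphisms. -/
theorem hilbert90 (σ : K ≃+* K) (hr : 0 < r) (hσ : orderOf σ = r) {c : K} (hc : c ≠ 0)
    (hn : nrm σ c r = 1) : ∃ b : K, b ≠ 0 ∧ c * σ b = b := by
  classical
  let f : Fin r → (K →* K) := fun i => (σ ^ (i : ℕ)).toRingHom.toMonoidHom
  have hinj : Function.Injective f := by
    intro i j h
    have : σ ^ (i : ℕ) = σ ^ (j : ℕ) := RingEquiv.ext fun x => DFunLike.congr_fun h x
    exact Fin.ext (pow_injOn_Iio_orderOf (hσ ▸ i.2) (hσ ▸ j.2) this)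
  have hli := (linearIndependent_monoidHom K K).comp f hinj
  obtain ⟨θ, hθ⟩ : ∃ θ : K, ∑ i ∈ Finset.range r, nrm σ c i * (σ ^ i) θ ≠ 0 := by
    by_contra h
    simp only [not_exists, ne_eq, not_not] at h
    have h0 := Fintype.linearIndependent_iff.1 hli (fun i => nrm σ c i) (funext fun θ => by
      rw [Finset.sum_apply]
      simp only [Function.comp_apply, Pi.smul_apply, smul_eq_mul, Pi.zero_apply]
      exact (Fin.sum_univ_eq_sum_range (fun i => nrm σ c i * (σ ^ i) θ) r).trans (h θ)) ⟨0, hr⟩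
    simp [nrm] at h0
  refine ⟨_, hθ, ?_⟩
  rw [map_sum, Finset.mul_sum]
  have : ∀ i ∈ Finset.range r, c * σ (nrm σ c i * (σ ^ i) θ) =
      (fun i => nrm σ c i * (σ ^ i) θ) (i + 1) := fun i _ => by
    show _ = nrm σ c (i + 1) * (σ ^ (i + 1)) θ
    rw [map_mul, ← mul_assoc, ← nrm_succ, ← coe_pow_aut]
  rw [Finset.sum_congr rfl this]
  obtain ⟨r', rfl⟩ := Nat.exists_eq_add_of_le' hr
  rw [Finset.sum_range_succ, Finset.sum_range_succ']
  simp only [hn, one_mul, pow_zero, RingAut.one_apply]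
  congr 1
  rw [← hσ, pow_orderOf_eq_one]
  simp [nrm]

theorem main (hr : r.Prime) (hr2 : r ≠ 2) (hn : 1 ≤ n) (hq : q = q₀ ^ r)
    (hK : Fintype.card K = q ^ 2) (σ : K ≃+* K) (hσ : orderOf σ = r) :
    (Nat.card {g : ↥(Cfsg.GU n K q) // ∃ c : K, c ≠ 0 ∧
      ((g : GL (Fin n) K) : Matrix (Fin n) (Fin n) K).map σ =
        c • ((g : GL (Fin n) K) : Matrix (Fin n) (Fin n) K)} : ℤ) =
      ((q + 1) / (q₀ + 1) : ℕ) * ((q₀ : ℤ) ^ (n * (n - 1) / 2) *
        ∏ i : Fin n, ((q₀ : ℤ) ^ ((i : ℕ) + 1) - (-1) ^ ((i : ℕ) + 1))) := by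
  classical
  -- the fixed field
  let F₀ := FixedPoints.subfield ↥(Subgroup.zpowers σ) K
  have hfix : ∀ x : K, x ∈ F₀ ↔ σ x = x := by
    intro x
    refine ⟨fun h => h ⟨σ, Subgroup.mem_zpowers σ⟩, fun h => ?_⟩
    rintro ⟨τ, hτ⟩
    show τ x = x
    have hle : Subgroup.zpowers σ ≤ MulAction.stabilizer (K ≃+* K) x :=
      Subgroup.zpowers_le.2 h
    exact hle hτ
  have : Finite (K ≃+* K) := Finite.of_injective _ (DFunLike.coe_injective (F := K ≃+* K))
  have : Fintype ↥(Subgroup.zpowers σ) := Fintype.ofFinite _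
  have : Fintype F₀ := Fintype.ofFinite _
  have hcard₀ : Fintype.card F₀ = q₀ ^ 2 := by
    have h1 := Module.card_eq_pow_finrank (K := F₀) (V := K)
    rw [FixedPoints.finrank_eq_card ↥(Subgroup.zpowers σ) K, ← Nat.card_eq_fintype_card (α := ↥(Subgroup.zpowers σ)), Nat.card_zpowers, hσ, hK, hq,
      ← pow_mul, mul_comm, pow_mul] at h1
    exact (Nat.pow_left_injective hr.ne_zero h1).symm
  have hq0 := two_le_q hcard₀
  have hodd : Odd r := hr.odd_of_ne_two hr2
  have hpq : ∀ x : F₀, (x : K) ^ q = ((x ^ q₀ : F₀) : K) := by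
    intro x
    have h2 : x ^ (q₀ ^ 2) = x := by rw [← hcard₀]; exact FiniteField.pow_card x
    obtain ⟨k, hk⟩ := hodd
    rw [hq, hk, ← SubmonoidClass.coe_pow, pow_fix h2 k]
  -- scalars of norm one
  let μ : Subgroup Kˣ := (powMonoidHom (q + 1)).ker
  let μ₀ : Subgroup F₀ˣ := (powMonoidHom (q₀ + 1)).ker
  have hμ : Nat.card μ = q + 1 := card_normOne hK
  have hμ₀ : Nat.card μ₀ = q₀ + 1 := card_normOne hcard₀
  -- the big product
  have hU : ∀ M : Matrix (Fin n) (Fin n) F₀,
      IsU q₀ M → IsU q (M.map (Subtype.val : F₀ → K)) := by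
    intro M hM
    rw [isU_iff hcard₀] at hM
    rw [isU_iff hK]
    intro i j
    calc ∑ k, (M k i : K) * (M k j : K) ^ q = ((∑ k, M k i * M k j ^ q₀ : F₀) : K) := by
          rw [AddSubmonoidClass.coe_finsetSum]
          exact Finset.sum_congr rfl fun k _ => by rw [hpq]; rfl
      _ = _ := by rw [hM i j]; split_ifs <;> rfl
  have hscal : ∀ (z : μ) (M : Matrix (Fin n) (Fin n) K), IsU q M → IsU q (((z : Kˣ) : K) • M) := by
    intro z M hM
    rw [isU_iff hK] at hM ⊢
    intro i j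
    have hz : ((z : Kˣ) : K) * ((z : Kˣ) : K) ^ q = 1 := by
      rw [← pow_succ', ← Units.val_pow_eq_pow_val, show (z : Kˣ) ^ (q + 1) = 1 from z.2, Units.val_one]
    rw [← hM i j]
    refine Finset.sum_congr rfl fun k _ => ?_
    simp only [Matrix.smul_apply, smul_eq_mul, mul_pow]
    rw [mul_mul_mul_comm, hz, one_mul]
  let emb : Cfsg.GU n F₀ q₀ → Matrix (Fin n) (Fin n) K := fun h =>
    ((h : GL (Fin n) F₀) : Matrix (Fin n) (Fin n) F₀).map (Subtype.val : F₀ → K)
  have emb_mul : ∀ a b, emb (a * b) = emb a * emb b := fun a b => by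
    show (((a * b : Cfsg.GU n F₀ q₀) : GL (Fin n) F₀) : Matrix (Fin n) (Fin n) F₀).map F₀.subtype = _
    rw [Subgroup.coe_mul, Units.val_mul, Matrix.map_mul]
    rfl
  let Φ : μ × Cfsg.GU n F₀ q₀ →* Cfsg.GU n K q := MonoidHom.mk'
    (fun p => mkGU hK _ (hscal p.1 _ (hU _ (isU_of_mem p.2)))) (fun a b => by
      apply Subtype.ext; apply Units.ext
      show _ = (_ * _ : Matrix (Fin n) (Fin n) K)
      rw [mkGU_coe, mkGU_coe, mkGU_coe, Prod.fst_mul, Prod.snd_mul, Matrix.smul_mul,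
        Matrix.mul_smul, smul_smul]
      show _ • emb (a.2 * b.2) = _ • (emb a.2 * emb b.2)
      rw [emb_mul, Subgroup.coe_mul, Units.val_mul])
  have hΦ : ∀ p, ((Φ p : GL (Fin n) K) : Matrix (Fin n) (Fin n) K) =
      ((p.1 : Kˣ) : K) • emb p.2 := fun p =>
    mkGU_coe hK _ (hscal p.1 _ (hU _ (isU_of_mem p.2)))
  set i₀ : Fin n := ⟨0, hn⟩
  have hσemb : ∀ h, (emb h).map σ = emb h := fun h => Matrix.ext fun i j =>
    (hfix _).1 (((h : GL (Fin n) F₀) : Matrix (Fin n) (Fin n) F₀) i j).2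
  -- identify the set with the range
  have hrange : ∀ g : Cfsg.GU n K q, g ∈ Φ.range ↔ ∃ c : K, c ≠ 0 ∧
      ((g : GL (Fin n) K) : Matrix (Fin n) (Fin n) K).map σ =
        c • ((g : GL (Fin n) K) : Matrix (Fin n) (Fin n) K) := by
    intro g
    constructor
    · rintro ⟨⟨z, h⟩, rfl⟩
      refine ⟨σ ((z : Kˣ) : K) / ((z : Kˣ) : K),
        div_ne_zero ((map_ne_zero σ).2 (Units.ne_zero _)) (Units.ne_zero _), ?_⟩
      rw [hΦ]
      ext i j
      simp only [Matrix.map_apply, Matrix.smul_apply, smul_eq_mul, map_mul]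
      have := congr_fun (congr_fun (hσemb h) i) j
      rw [Matrix.map_apply] at this
      rw [this]
      field_simp
    · rintro ⟨c, hc, hgc⟩
      set A := ((g : GL (Fin n) K) : Matrix (Fin n) (Fin n) K)
      have hA : IsU q A := isU_of_mem g
      have hAij : ∀ i j, σ (A i j) = c * A i j := fun i j => congr_fun (congr_fun hgc i) j
      have hcn : c ^ (q + 1) = 1 := by
        have h1 := (isU_iff hK A).1 hA i₀ i₀
        rw [if_pos rfl] at h1
        have h2 := congrArg σ h1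
        rw [map_sum, map_one] at h2
        simp only [map_mul, map_pow, hAij] at h2
        rw [← h2]
        conv_lhs => rw [← mul_one (c ^ (q + 1)), ← h1, Finset.mul_sum]
        exact Finset.sum_congr rfl fun k _ => by ring
      have hnr : nrm σ c r = 1 := by
        obtain ⟨i, j, hij⟩ : ∃ i j, A i j ≠ 0 := by
          by_contra h
          simp only [not_exists, ne_eq, not_not] at h
          have h1 := (isU_iff hK A).1 hA i₀ i₀
          simp [h] at h1
        have key : ∀ k, (σ ^ k) (A i j) = nrm σ c k * A i j := by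
          intro k
          induction k with
          | zero => simp [nrm]
          | succ k ih => rw [coe_pow_aut, ih, map_mul, hAij, nrm_succ]; ring
        have h3 := key r
        rw [← hσ, pow_orderOf_eq_one, RingAut.one_apply, hσ] at h3
        exact mul_right_cancel₀ hij (by rw [one_mul]; exact h3.symm)
      obtain ⟨b, hb, hcb⟩ := hilbert90 σ hr.pos hσ hc hnr
      have hbn : b ^ (q + 1) ∈ F₀ := by
        rw [hfix, map_pow]
        conv_rhs => rw [← hcb, mul_pow, hcn, one_mul]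
      have hfr : (⟨_, hbn⟩ : F₀) ^ q₀ = ⟨_, hbn⟩ := by
        apply Subtype.ext
        rw [← hpq ⟨_, hbn⟩]
        show (b ^ (q + 1)) ^ q = b ^ (q + 1)
        rw [pow_succ, mul_pow, pow_q_q hK, mul_comm]
      obtain ⟨f, hf⟩ := exists_norm_eq hcard₀ hfr
      have hf0 : (f : K) ≠ 0 := by
        intro h
        have h' : f = 0 := Subtype.ext h
        rw [h', zero_pow (Nat.succ_ne_zero _)] at hf
        exact pow_ne_zero _ hb (congrArg Subtype.val hf).symm
      set z : K := (f : K) / b with hz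
      have hz0 : z ≠ 0 := div_ne_zero hf0 hb
      have hzn : z ^ (q + 1) = 1 := by
        rw [hz, div_pow, pow_succ (f : K), hpq, ← MulMemClass.coe_mul, ← pow_succ, hf]
        exact div_self (pow_ne_zero _ hb)
      have hσz : σ z = c * z := by
        rw [hz, map_div₀, (hfix _).1 f.2]
        have hσb : σ b ≠ 0 := (map_ne_zero σ).2 hb
        rw [mul_div_assoc', div_eq_div_iff hσb hb]
        linear_combination (-(f : K)) * hcb
      let B : Matrix (Fin n) (Fin n) F₀ := fun i j => ⟨z⁻¹ * A i j, by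
        rw [hfix, map_mul, map_inv₀, hσz, hAij]
        field_simp⟩
      have hBA : B.map (Subtype.val : F₀ → K) = z⁻¹ • A := rfl
      have hBU : IsU q₀ B := by
        rw [isU_iff hcard₀]
        intro i j
        apply Subtype.ext
        rw [AddSubmonoidClass.coe_finsetSum]
        calc ∑ k, ((B k i * B k j ^ q₀ : F₀) : K)
            = ∑ k, (z ^ (q + 1))⁻¹ * (A k i * A k j ^ q) :=
              Finset.sum_congr rfl fun k _ => by
                show (B k i : K) * ((B k j ^ q₀ : F₀) : K) = _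
                rw [← hpq]
                show z⁻¹ * A k i * (z⁻¹ * A k j) ^ q = _
                rw [← inv_pow, mul_pow]; ring
          _ = _ := by
              rw [← Finset.mul_sum, (isU_iff hK A).1 hA i j, hzn, inv_one, one_mul]
              split_ifs <;> rfl
      refine ⟨(⟨Units.mk0 z hz0, Units.ext (by simpa using hzn)⟩, mkGU hcard₀ B hBU), ?_⟩
      apply Subtype.ext; apply Units.ext
      rw [hΦ]
      show z • ((mkGU hcard₀ B hBU : GL (Fin n) F₀) : Matrix (Fin n) (Fin n) F₀).map Subtype.val = A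
      rw [mkGU_coe, hBA, smul_smul, mul_inv_cancel₀ hz0, one_smul]
  -- the kernel
  have hker : Nat.card Φ.ker = q₀ + 1 := by
    rw [← hμ₀]
    symm
    let ι : μ₀ → μ := fun a => ⟨Units.map F₀.subtype.toMonoidHom (a : F₀ˣ), by
      apply Units.ext
      show (((a : F₀ˣ) : F₀) : K) ^ (q + 1) = 1
      rw [pow_succ, hpq, ← MulMemClass.coe_mul, ← pow_succ, ← Units.val_pow_eq_pow_val,
        show (a : F₀ˣ) ^ (q₀ + 1) = 1 from a.2]
      rfl⟩
    let sc : μ₀ → Cfsg.GU n F₀ q₀ := fun a => mkGU hcard₀ ((((a : F₀ˣ)⁻¹ : F₀ˣ) : F₀) • 1) (by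
      rw [isU_iff hcard₀]
      intro i j
      have ha : ((((a : F₀ˣ)⁻¹ : F₀ˣ) : F₀)) * ((((a : F₀ˣ)⁻¹ : F₀ˣ) : F₀)) ^ q₀ = 1 := by
        rw [← pow_succ', ← Units.val_pow_eq_pow_val, inv_pow,
          show (a : F₀ˣ) ^ (q₀ + 1) = 1 from a.2, inv_one, Units.val_one]
      rw [Finset.sum_eq_single i]
      · simp only [Matrix.smul_apply, Matrix.one_apply_eq, smul_eq_mul, mul_one]
        by_cases h : i = j
        · subst h; simpa using ha
        · simp [Matrix.one_apply_ne h, h, q_ne_zero hcard₀]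
      · intro k _ hk; simp [Matrix.one_apply_ne hk]
      · simp)
    refine Nat.card_eq_of_bijective (fun a => (⟨(ι a, sc a), ?_⟩ : Φ.ker)) ⟨?_, ?_⟩
    · rw [MonoidHom.mem_ker]
      apply Subtype.ext; apply Units.ext
      rw [hΦ]
      show (((a : F₀ˣ) : F₀) : K) • ((sc a : GL (Fin n) F₀) : Matrix (Fin n) (Fin n) F₀).map Subtype.val
        = (1 : Matrix (Fin n) (Fin n) K)
      rw [mkGU_coe]
      ext i j
      simp only [Matrix.smul_apply, Matrix.map_apply, smul_eq_mul]
      rw [← MulMemClass.coe_mul, ← mul_assoc, ← Units.val_mul, mul_inv_cancel, Units.val_one, one_mul]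
      by_cases h : i = j
      · subst h; simp
      · simp [Matrix.one_apply_ne h]
    · intro a b hab
      have := congrArg (fun p : Φ.ker => (((p.1.1 : Kˣ) : K))) hab
      exact Subtype.ext (Units.ext (Subtype.ext this))
    · rintro ⟨⟨z, h⟩, hzh⟩
      rw [MonoidHom.mem_ker] at hzh
      have h1 := congrArg (fun g : Cfsg.GU n K q => ((g : GL (Fin n) K) : Matrix (Fin n) (Fin n) K)) hzh
      simp only [hΦ, Subgroup.coe_one, Units.val_one] at h1
      have h2 := congr_fun (congr_fun h1 i₀) i₀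
      simp only [Matrix.smul_apply, smul_eq_mul, Matrix.one_apply_eq] at h2
      set e : F₀ := ((h : GL (Fin n) F₀) : Matrix (Fin n) (Fin n) F₀) i₀ i₀
      change ((z : Kˣ) : K) * (e : K) = 1 at h2
      have hzmem : ((z : Kˣ) : K) ∈ F₀ := by
        rw [eq_inv_of_mul_eq_one_left h2]; exact inv_mem e.2
      have hzn : (Units.mk0 (⟨_, hzmem⟩ : F₀) (fun hh => Units.ne_zero (z : Kˣ) (congrArg Subtype.val hh)))
          ∈ μ₀ := by
        apply Units.ext
        apply Subtype.ext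
        show (((⟨_, hzmem⟩ : F₀) ^ (q₀ + 1) : F₀) : K) = 1
        rw [pow_succ, MulMemClass.coe_mul, ← hpq]
        show ((z : Kˣ) : K) ^ q * ((z : Kˣ) : K) = 1
        rw [← pow_succ, ← Units.val_pow_eq_pow_val, show (z : Kˣ) ^ (q + 1) = 1 from z.2,
          Units.val_one]
      refine ⟨⟨_, hzn⟩, Subtype.ext (Prod.ext (Subtype.ext (Units.ext rfl)) ?_)⟩
      apply Subtype.ext; apply Units.ext
      show ((sc ⟨_, hzn⟩ : GL (Fin n) F₀) : Matrix (Fin n) (Fin n) F₀) = _
      rw [mkGU_coe]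
      ext i j
      have h3 := congr_fun (congr_fun h1 i) j
      simp only [Matrix.smul_apply, smul_eq_mul] at h3
      change ((z : Kˣ) : K) * ((((h : GL (Fin n) F₀) : Matrix (Fin n) (Fin n) F₀) i j : F₀) : K) = _
        at h3
      simp only [Matrix.smul_apply, smul_eq_mul, Units.val_inv_eq_inv_val, Units.val_mk0,
        MulMemClass.coe_mul]
      show (((z : Kˣ) : K))⁻¹ * (((1 : Matrix (Fin n) (Fin n) F₀) i j : F₀) : K) = _
      rw [inv_mul_eq_iff_eq_mul₀ (Units.ne_zero _), h3]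
      by_cases hij : i = j
      · subst hij; simp
      · simp [Matrix.one_apply_ne hij]
  have hset : Nat.card {g : ↥(Cfsg.GU n K q) // ∃ c : K, c ≠ 0 ∧
      ((g : GL (Fin n) K) : Matrix (Fin n) (Fin n) K).map σ =
        c • ((g : GL (Fin n) K) : Matrix (Fin n) (Fin n) K)} = Nat.card Φ.range :=
    Nat.card_congr (Equiv.subtypeEquivRight fun g => (hrange g).symm)
  rw [hset, ← formula q₀ n (by omega), ← Nat.cast_mul, ← card_GU hcard₀ n]
  congr 1
  have h1 := Subgroup.card_mul_index Φ.ker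
  rw [Subgroup.index_ker, hker, Nat.card_prod, hμ] at h1
  have hd : q₀ + 1 ∣ q + 1 := by
    rw [hq]
    simpa using hodd.nat_add_dvd_pow_add_pow q₀ 1
  obtain ⟨m, hm⟩ := hd
  rw [hm] at h1 ⊢
  rw [Nat.mul_div_cancel_left _ (Nat.succ_pos _)]
  rw [mul_assoc] at h1
  exact Nat.eq_of_mul_eq_mul_left (Nat.succ_pos _) h1

end Aut

end Cfsg.Agent.UnitaryFieldAut56
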