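import Mathlib
import Cfsg.Agent.Lib.PronormalFixedBorel
import Cfsg.Agent.Lib.SpectrumPSU61
import Cfsg.Agent.Lib.OrthUnitaryTransvection

set_option autoImplicit false
set_option linter.unusedSectionVars false

/-!
The antidiagonal Hermitian form in even dimension and the corresponding involution of `SL(n, q²)`;
subgroups of odd index of `SU(n, q)`, `n` and `q` even, are pronormal.
-/

namespace Cfsg.Agent.UnitaryFormChange

open Matrix
open scoped MatrixGroups
open Cfsg.Agent.SpectrumPSU61 Cfsg.Agent.OrthUnitaryHerm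
open PSLUnipotent PronormalFixedBorel

variable {F : Type*} [Field F] [Fintype F] {q n : ℕ}

/-- The antidiagonal matrix. -/
def antiId (F : Type*) [Field F] (n : ℕ) : Matrix (Fin n) (Fin n) F :=
  Matrix.of fun i j => if j = Fin.rev i then 1 else 0

omit [Fintype F] in
lemma antiId_mul (M : Matrix (Fin n) (Fin n) F) (i j : Fin n) : (antiId F n * M) i j = M (Fin.rev i) j := by
  rw [Matrix.mul_apply, Finset.sum_eq_single (Fin.rev i) (fun b _ hb => by simp [antiId, hb]) (by simp)]
  simp [antiId]

omit [Fintype F] in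
lemma mul_antiId (M : Matrix (Fin n) (Fin n) F) (i j : Fin n) : (M * antiId F n) i j = M i (Fin.rev j) := by
  rw [Matrix.mul_apply, Finset.sum_eq_single (Fin.rev j) (fun b _ hb => by
    simp [antiId, show ¬ j = Fin.rev b from fun e => hb (by rw [e, Fin.rev_rev])]) (by simp)]
  simp [antiId]

omit [Fintype F] in
lemma antiId_sq : antiId F n * antiId F n = 1 := by
  ext i j
  rw [antiId_mul]
  simp [antiId, Matrix.one_apply, eq_comm]

/-- A matrix carrying the antidiagonal form to the standard one. -/
theorem exists_congr (hF : Fintype.card F = q ^ 2) (hn : Even n) :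
    ∃ P : GL (Fin n) F, adj q P.val * P.val = antiId F n := by
  obtain ⟨σ, hσ⟩ := exists_frobHom hF
  obtain ⟨c, hc⟩ := exists_norm_eq hF (a := (-1 : F)) (by rw [neg_pow_q hF, one_pow])
  obtain ⟨z, hz⟩ := OrthUnitaryTransvection.exists_trace hF (a := (1 : F)) (one_pow q)
  obtain ⟨m, rfl⟩ := hn
  let M : Matrix (Fin (m + m)) (Fin (m + m)) F := Matrix.of fun i k =>
    if (k : ℕ) < m then (if i = k then 1 else if i = Fin.rev k then c else 0)
    else (if i = Fin.rev k then z else if i = k then c * (z - 1) else 0)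
  have hzero : ∀ i k, i ≠ k → i ≠ Fin.rev k → M i k = 0 := fun i k h h' => by
    simp [M, h, h']
  have key : adj q M * M = antiId F (m + m) := by
    ext j k
    rw [Matrix.mul_apply]
    have hjr : j ≠ Fin.rev j := fun e => by
      have h' : ((Fin.rev j : Fin (m + m)) : ℕ) = (j : ℕ) := congrArg Fin.val e.symm
      rw [Fin.val_rev] at h'
      omega
    have h0 : ∀ i ∈ (Finset.univ : Finset (Fin (m + m))), i ≠ j ∧ i ≠ Fin.rev j →
        adj q M j i * M i k = 0 := fun i _ hi => by
      rw [adj_apply, hzero i j hi.1 hi.2, zero_pow_q hF, zero_mul]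
    rw [Finset.sum_eq_add j (Fin.rev j) hjr h0 (by simp) (by simp), adj_apply, adj_apply]
    have hc' : c ^ q * c = -1 := by rw [← pow_succ]; exact hc
    by_cases hk : k = j
    · subst hk
      rw [show antiId F (m + m) k k = 0 by simp [antiId, hjr]]
      by_cases hl : (k : ℕ) < m
      · simp [M, hl, hjr.symm]
        linear_combination hc'
      · simp [M, hl, hjr, mul_pow, sub_pow_q hF]
        linear_combination ((z ^ q - 1) * (z - 1)) * hc' + hz
    by_cases hk' : k = Fin.rev j
    · subst hk'
      rw [show antiId F (m + m) j (Fin.rev j) = 1 by simp [antiId]]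
      by_cases hl : (j : ℕ) < m
      · have hl' : ¬ (m + m - ((j : ℕ) + 1) < m) := by omega
        simp [M, hl, hl', hjr, hjr.symm]
        linear_combination (z - 1) * hc'
      · have hl' : m + m - ((j : ℕ) + 1) < m := by omega
        simp [M, hl, hl', hjr, hjr.symm, mul_pow, sub_pow_q hF]
        linear_combination (z ^ q - 1) * hc'
    · rw [show antiId F (m + m) j k = 0 by simp [antiId, hk'],
        hzero j k (Ne.symm hk) (fun e => hk' (by rw [e, Fin.rev_rev])),
        hzero (Fin.rev j) k (fun e => hk' e.symm) (fun e => hk (Fin.rev_injective e).symm)]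
      simp
  have hinv : (antiId F (m + m) * adj q M) * M = 1 := by rw [mul_assoc, key, antiId_sq]
  exact ⟨⟨M, antiId F (m + m) * adj q M, mul_eq_one_comm.1 hinv, hinv⟩, key⟩

local notation "SLn" => SpecialLinearGroup (Fin n) F

/-- The conjugate inverse transpose composed with the antidiagonal. -/
def thetaFun (hF : Fintype.card F = q ^ 2) (g : SLn) : SLn :=
  ⟨Matrix.of fun i j => (g⁻¹).1 (Fin.rev j) (Fin.rev i) ^ q, by
    obtain ⟨σ, hσ⟩ := exists_frobHom hF
    rw [show (Matrix.of fun i j => (g⁻¹).1 (Fin.rev j) (Fin.rev i) ^ q) =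
      (((σ.mapMatrix (g⁻¹).1).submatrix Fin.revPerm Fin.revPerm)ᵀ) by ext i j; simp [hσ],
      Matrix.det_transpose, Matrix.det_submatrix_equiv_self, ← RingHom.map_det, (g⁻¹).2, map_one]⟩

lemma thetaFun_apply (hF : Fintype.card F = q ^ 2) (g : SLn) (i j : Fin n) :
    (thetaFun hF g).1 i j = (g⁻¹).1 (Fin.rev j) (Fin.rev i) ^ q := rfl

lemma thetaFun_mul (hF : Fintype.card F = q ^ 2) (g h : SLn) :
    thetaFun hF (g * h) = thetaFun hF g * thetaFun hF h := by
  apply Subtype.ext
  ext i j
  rw [cmul, Matrix.mul_apply, thetaFun_apply, _root_.mul_inv_rev, cmul, Matrix.mul_apply, sum_pow_q hF]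
  refine Fintype.sum_equiv Fin.revPerm _ _ fun l => ?_
  simp [thetaFun_apply, mul_pow, mul_comm]

lemma thetaFun_invol (hF : Fintype.card F = q ^ 2) (g : SLn) : thetaFun hF (thetaFun hF g) = g := by
  have h : (thetaFun hF g)⁻¹ = thetaFun hF g⁻¹ := by
    refine inv_eq_of_mul_eq_one_right ?_
    rw [← thetaFun_mul, mul_inv_cancel]
    apply Subtype.ext
    ext i j
    rw [thetaFun_apply, inv_one, cone, Matrix.one_apply, Matrix.one_apply]
    by_cases hij : i = j
    · subst hij; simp
    · rw [if_neg hij, if_neg (fun e => hij (Fin.rev_injective e).symm), zero_pow_q hF]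
  apply Subtype.ext
  ext i j
  rw [thetaFun_apply, h, thetaFun_apply, inv_inv, pow_q_q hF, Fin.rev_rev, Fin.rev_rev]

/-- The involution. -/
def theta (hF : Fintype.card F = q ^ 2) : SLn ≃* SLn where
  toFun := thetaFun hF
  invFun := thetaFun hF
  left_inv := thetaFun_invol hF
  right_inv := thetaFun_invol hF
  map_mul' := thetaFun_mul hF

lemma theta_apply (hF : Fintype.card F = q ^ 2) (g : SLn) (i j : Fin n) :
    (theta hF g).1 i j = (g⁻¹).1 (Fin.rev j) (Fin.rev i) ^ q := rfl

theorem pronormal_map {G G' : Type*} [Group G] [Group G'] (e : G ≃* G') (H : Subgroup G)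
    (h : Cfsg.IsPronormal (H.map e.toMonoidHom)) : Cfsg.IsPronormal H := by
  intro g
  obtain ⟨x, hx, he⟩ := h (e g)
  have hc : ∀ a : G, (H.map e.toMonoidHom).map (MulAut.conj (e a)).toMonoidHom =
      (H.map (MulAut.conj a).toMonoidHom).map e.toMonoidHom := fun a => by
    rw [Subgroup.map_map, Subgroup.map_map]
    congr 1
    ext y
    simp
  obtain ⟨x, rfl⟩ := e.surjective x
  rw [hc, hc] at he
  rw [hc, ← Subgroup.map_sup] at hx
  obtain ⟨x', hx', e'⟩ := hx
  obtain rfl : x' = x := e.injective e'
  exact ⟨x', hx', Subgroup.map_injective (f := e.toMonoidHom) e.injective he⟩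

/-- Subgroups of odd index of `SU(n, q)` for even `n` and characteristic two are pronormal. -/
theorem pronormal_su_char_two [CharP F 2] (hF : Fintype.card F = q ^ 2) (hn : Even n)
    (H : Subgroup (Cfsg.SU n F q)) (hH : Odd H.index) : Cfsg.IsPronormal H := by
  obtain ⟨P, hP⟩ := exists_congr (n := n) hF hn
  let c : SLn →* SLn :=
    { toFun := fun g => ⟨(P⁻¹).val * g.1 * P.val, by
        rw [Matrix.det_mul, Matrix.det_mul, g.2, mul_one, ← Matrix.det_mul, ← Units.val_mul, inv_mul_cancel,
          Units.val_one, Matrix.det_one]⟩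
      map_one' := Subtype.ext (by simp [cone])
      map_mul' := fun a b => Subtype.ext (show (P⁻¹).val * (a * b).1 * P.val =
          ((P⁻¹).val * a.1 * P.val) * ((P⁻¹).val * b.1 * P.val) by
        simp only [cmul, mul_assoc, Units.mul_inv_cancel_left]) }
  have hcv : ∀ g, (c g).1 = (P⁻¹).val * g.1 * P.val := fun g => rfl
  have hc : Function.Injective c := fun a b h => Subtype.ext (by
    have h' := congrArg Subtype.val h
    rw [hcv, hcv] at h'
    exact P⁻¹.isUnit.mul_left_cancel (P.isUnit.mul_right_cancel h'))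
  have hiff : ∀ g : SLn, g ∈ Cfsg.SU n F q ↔ c g ∈ fix (theta hF) := by
    intro g
    have hstd : g ∈ Cfsg.SU n F q ↔ adj q g.1 * g.1 = 1 := isU_iff hF g.1
    have hcg : adj q g.1 * g.1 = 1 ↔ adj q (c g).1 * antiId F n * (c g).1 = antiId F n := by
      have e : adj q (c g).1 * antiId F n * (c g).1 = adj q P.val * (adj q g.1 * g.1) * P.val := by
        rw [hcv, adj_mul hF, adj_mul hF, ← hP]
        have h1 : adj q (P⁻¹).val * adj q P.val = 1 := by
          rw [← adj_mul hF, ← Units.val_mul, mul_inv_cancel, Units.val_one, adj_one hF]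
        simp only [mul_assoc, Units.mul_inv_cancel_left]
        rw [← mul_assoc (adj q (P⁻¹).val), h1, one_mul]
      rw [e]
      constructor
      · intro h; rw [h, mul_one, hP]
      · intro h
        have hPu : IsUnit (adj q P.val) := IsUnit.of_mul_eq_one_right _ (show adj q (P⁻¹).val * adj q P.val = 1 by
          rw [← adj_mul hF, ← Units.val_mul, mul_inv_cancel, Units.val_one, adj_one hF])
        have h' : adj q P.val * (adj q g.1 * g.1) * P.val = adj q P.val * 1 * P.val := by rw [h, mul_one, hP]
        exact hPu.mul_left_cancel (P.isUnit.mul_right_cancel h')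
    rw [hstd, hcg, mem_fix]
    constructor
    · intro h
      have hi : ((c g)⁻¹).1 = antiId F n * adj q (c g).1 * antiId F n := by
        have h2 : antiId F n * adj q (c g).1 * antiId F n * (c g).1 = 1 := by
          simp only [mul_assoc] at h ⊢
          rw [h, antiId_sq]
        calc ((c g)⁻¹).1 = (antiId F n * adj q (c g).1 * antiId F n * (c g).1) * ((c g)⁻¹).1 := by
              rw [h2, one_mul]
          _ = _ := by rw [mul_assoc _ (c g).1, ← cmul, mul_inv_cancel, cone, mul_one]
      apply Subtype.ext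
      ext i j
      rw [theta_apply, hi, mul_antiId, antiId_mul, Fin.rev_rev, Fin.rev_rev, adj_apply, pow_q_q hF]
    · intro h
      have hi : ((c g)⁻¹).1 = antiId F n * adj q (c g).1 * antiId F n := by
        ext i j
        rw [mul_antiId, antiId_mul, adj_apply]
        conv_rhs => rw [← h, theta_apply, Fin.rev_rev, Fin.rev_rev, pow_q_q hF]
      calc adj q (c g).1 * antiId F n * (c g).1 =
            antiId F n * (antiId F n * adj q (c g).1 * antiId F n * (c g).1) := by
            simp only [← mul_assoc, antiId_sq, one_mul]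
        _ = antiId F n := by rw [← hi, ← cmul, inv_mul_cancel, cone, mul_one]
  have hsurj : Function.Surjective c := Finite.surjective_of_injective hc
  have himg : (Cfsg.SU n F q).map c = fix (theta hF) := by
    ext x
    constructor
    · rintro ⟨g, hg, rfl⟩; exact (hiff g).1 hg
    · intro hx
      obtain ⟨g, rfl⟩ := hsurj x
      exact ⟨g, (hiff g).2 hx, rfl⟩
  let e : Cfsg.SU n F q ≃* fix (theta hF) :=
    ((Cfsg.SU n F q).equivMapOfInjective c hc).trans (MulEquiv.subgroupCongr himg)
  refine pronormal_map e H (pronormal_fixed (theta hF) (thetaFun_invol hF) ?_ ?_ ?_ _ ?_)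
  · intro u hu
    have hi := mem_U.1 (inv_mem hu)
    exact mem_U.2 ⟨fun i => by rw [theta_apply, hi.1, one_pow],
      fun i j h => by rw [theta_apply, hi.2 _ _ (Fin.rev_lt_rev.2 h), zero_pow_q hF]⟩
  · intro u hu
    have hi := mem_L.1 (inv_mem hu)
    refine mem_L.2 ⟨fun i => ?_, fun i j h => ?_⟩
    · rw [Matrix.transpose_apply, theta_apply, ← Matrix.transpose_apply (u⁻¹).1, hi.1, one_pow]
    · rw [Matrix.transpose_apply, theta_apply, ← Matrix.transpose_apply (u⁻¹).1,
        hi.2 _ _ (Fin.rev_lt_rev.2 h), zero_pow_q hF]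
  · intro m r hm
    refine ⟨(Fin.revPerm.trans r).trans Fin.revPerm, fun i l hil => ?_⟩
    rw [theta_apply]
    have h0 : (m⁻¹).1 (Fin.rev l) (Fin.rev i) = 0 := by
      have h := mono_mul hm m⁻¹ (Fin.rev l) (Fin.rev i)
      rw [mul_inv_cancel, cone, Matrix.one_apply_ne fun e => hil (by simp [e])] at h
      exact (mul_eq_zero.1 h.symm).resolve_left (mono_ne_zero hm _)
    rw [h0, zero_pow_q hF]
  · exact (Subgroup.index_map_equiv H e).symm ▸ hH

end Cfsg.Agent.UnitaryFormChange
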