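import Cfsg.Agent.Lib.PermImageCert
import Cfsg.Agent.Lib.OrthUnitaryHerm

/-!
A special unitary group over a field with `p ^ 2` elements as a group of permutations of some
subspaces, checked from tables of coordinates.
-/

set_option autoImplicit false
set_option linter.style.haveILetI false

namespace Cfsg.Agent.UnitaryImage

open scoped Matrix
open Cfsg Cfsg.Agent.PermImageCert Cfsg.Agent.OrthUnitaryHerm

/-! ### The field as numbers below `p ^ 2` -/

/-- Arithmetic of `F_p(s)` with `s^2 = a s + b`, with its tables. -/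
structure Code where
  p : ℕ
  a : ℕ
  b : ℕ
  addT : ℕ
  mulT : ℕ
  conjT : ℕ

variable (c : Code)

/-- A five bit field. -/
def fld5 (n i : ℕ) : ℕ := Nat.land (Nat.shiftRight n (Nat.mul 5 i)) 31

/-- Sum of two codes. -/
def Code.add (x y : ℕ) : ℕ := fld5 c.addT (Nat.add (Nat.mul 32 x) y)

/-- Product of two codes. -/
def Code.mul (x y : ℕ) : ℕ := fld5 c.mulT (Nat.add (Nat.mul 32 x) y)

/-- Conjugate of a code. -/
def Code.conj (x : ℕ) : ℕ := fld5 c.conjT x

/-- Negative of a code. -/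
def Code.neg (x : ℕ) : ℕ := c.mul (c.p - 1) x

/-- The defining rules of the tables. -/
noncomputable def tablesOK : Bool :=
  decide (2 ≤ c.p ∧ c.p * c.p ≤ 32 ∧ c.a < c.p ∧ c.b < c.p) &&
  allBelow (fun x =>
    Nat.beq (c.conj x) ((x % c.p + c.a * (x / c.p)) % c.p + c.p * ((c.p - x / c.p) % c.p)) &&
    (Nat.beq x 0 || !allBelow (fun y => !Nat.beq (c.mul x y) 1) (c.p * c.p)) &&
    allBelow (fun y =>
      Nat.beq (c.add x y) ((x % c.p + y % c.p) % c.p + c.p * ((x / c.p + y / c.p) % c.p)) &&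
      Nat.beq (c.mul x y) ((x % c.p * (y % c.p) + c.b * (x / c.p * (y / c.p))) % c.p +
        c.p * ((x % c.p * (y / c.p) + x / c.p * (y % c.p) + c.a * (x / c.p * (y / c.p))) % c.p)))
      (c.p * c.p)) (c.p * c.p)

section field

variable {F : Type*} [Field F] (s : F)

/-- The element with a given code. -/
def iota (x : ℕ) : F := ((x % c.p : ℕ) : F) + ((x / c.p : ℕ) : F) * s

/-- What is needed of the generator `s`. -/
structure GenOK : Prop where
  tables : tablesOK c = true
  char : ((c.p : ℕ) : F) = 0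
  sq : s ^ 2 = (c.a : F) * s + (c.b : F)
  frob : s ^ c.p = (c.a : F) - s
  prime : c.p.Prime

variable {c s}

theorem GenOK.cast_mod (h : GenOK c s) (n : ℕ) : ((n % c.p : ℕ) : F) = (n : F) := by
  conv_rhs => rw [← Nat.mod_add_div n c.p]
  rw [Nat.cast_add, Nat.cast_mul, h.char, zero_mul, add_zero]

theorem iota_pack (h : GenOK c s) (u v : ℕ) :
    iota c s (u % c.p + c.p * (v % c.p)) = (u : F) + (v : F) * s := by
  have hp : 0 < c.p := h.prime.pos
  rw [iota, Nat.add_mul_mod_self_left, Nat.mod_mod, Nat.add_mul_div_left _ _ hp,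
    Nat.div_eq_of_lt (Nat.mod_lt _ hp), zero_add, h.cast_mod, h.cast_mod]

theorem pack_lt (h : GenOK c s) (u v : ℕ) : u % c.p + c.p * (v % c.p) < c.p * c.p := by
  have hp : 0 < c.p := h.prime.pos
  have h1 := Nat.mod_lt u hp
  have h2 : c.p * (v % c.p + 1) ≤ c.p * c.p := Nat.mul_le_mul_left _ (Nat.mod_lt v hp)
  rw [Nat.mul_add, Nat.mul_one] at h2
  omega

theorem GenOK.row (h : GenOK c s) {x : ℕ} (hx : x < c.p * c.p) :
    c.conj x = (x % c.p + c.a * (x / c.p)) % c.p + c.p * ((c.p - x / c.p) % c.p) ∧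
    (x ≠ 0 → ∃ y < c.p * c.p, c.mul x y = 1) ∧
    ∀ y < c.p * c.p,
      c.add x y = (x % c.p + y % c.p) % c.p + c.p * ((x / c.p + y / c.p) % c.p) ∧
      c.mul x y = (x % c.p * (y % c.p) + c.b * (x / c.p * (y / c.p))) % c.p +
        c.p * ((x % c.p * (y / c.p) + x / c.p * (y % c.p) + c.a * (x / c.p * (y / c.p))) % c.p) := by
  have ht := h.tables
  rw [tablesOK, Bool.and_eq_true] at ht
  have hr := allBelow_spec ht.2 x hx
  simp only [Bool.and_eq_true, Nat.beq_eq, Bool.or_eq_true] at hr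
  refine ⟨hr.1.1, fun hne => ?_, fun y hy => ?_⟩
  · by_contra hcon
    have hall : allBelow (fun y => !Nat.beq (c.mul x y) 1) (c.p * c.p) = true := by
      have key : ∀ m ≤ c.p * c.p, allBelow (fun y => !Nat.beq (c.mul x y) 1) m = true := by
        intro m
        induction m with
        | zero => exact fun _ => rfl
        | succ m ih =>
          intro hm
          change ((!Nat.beq (c.mul x m) 1) && allBelow (fun y => !Nat.beq (c.mul x y) 1) m) = true
          rw [ih (by omega), Bool.and_true, Bool.not_eq_true']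
          cases hb : Nat.beq (c.mul x m) 1
          · rfl
          · exact absurd ⟨m, by omega, Nat.eq_of_beq_eq_true hb⟩ hcon
      exact key _ le_rfl
    rcases hr.1.2 with h0 | h0
    · exact hne h0
    · rw [hall] at h0; exact Bool.false_ne_true h0
  · have := allBelow_spec hr.2 y hy
    simp only [Bool.and_eq_true, Nat.beq_eq] at this
    exact this

theorem iota_add (h : GenOK c s) {x y : ℕ} (hx : x < c.p * c.p) (hy : y < c.p * c.p) :
    iota c s (c.add x y) = iota c s x + iota c s y ∧ c.add x y < c.p * c.p := by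
  rw [((h.row hx).2.2 y hy).1]
  refine ⟨?_, pack_lt h _ _⟩
  rw [iota_pack h, iota, iota, Nat.cast_add, Nat.cast_add]; ring

theorem iota_mul (h : GenOK c s) {x y : ℕ} (hx : x < c.p * c.p) (hy : y < c.p * c.p) :
    iota c s (c.mul x y) = iota c s x * iota c s y ∧ c.mul x y < c.p * c.p := by
  rw [((h.row hx).2.2 y hy).2]
  refine ⟨?_, pack_lt h _ _⟩
  rw [iota_pack h, iota, iota]
  push_cast
  linear_combination (-((x / c.p : ℕ) : F) * ((y / c.p : ℕ) : F)) * h.sq

theorem iota_conj (h : GenOK c s) {x : ℕ} (hx : x < c.p * c.p) :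
    iota c s (c.conj x) = iota c s x ^ c.p ∧ c.conj x < c.p * c.p := by
  rw [(h.row hx).1]
  refine ⟨?_, pack_lt h _ _⟩
  haveI : CharP F c.p := by
    obtain ⟨q, hq⟩ := CharP.exists F
    have hd : q ∣ c.p := (CharP.cast_eq_zero_iff F q c.p).mp h.char
    rcases (Nat.dvd_prime h.prime).mp hd with rfl | rfl
    · exact absurd rfl (CharP.char_ne_one F 1)
    · exact hq
  haveI : Fact c.p.Prime := ⟨h.prime⟩
  haveI : ExpChar F c.p := ExpChar.prime h.prime
  have hfix : ∀ n : ℕ, ((n : F)) ^ c.p = (n : F) := fun n => map_natCast (frobenius F c.p) n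
  have hle : x / c.p ≤ c.p := Nat.div_le_of_le_mul hx.le
  rw [iota_pack h, iota, add_pow_expChar, mul_pow, hfix, hfix, h.frob, Nat.cast_sub hle, h.char]
  push_cast
  ring

theorem iota_one (h : GenOK c s) : iota c s 1 = 1 := by
  rw [iota, Nat.mod_eq_of_lt h.prime.one_lt, Nat.div_eq_of_lt h.prime.one_lt]; simp

theorem iota_zero : iota c s 0 = 0 := by simp [iota]

theorem iota_ne_zero (h : GenOK c s) {x : ℕ} (hx : x < c.p * c.p) (h0 : x ≠ 0) : iota c s x ≠ 0 := by
  obtain ⟨y, hy, hxy⟩ := (h.row hx).2.1 h0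
  intro hz
  have := (iota_mul h hx hy).1
  rw [hxy, hz, zero_mul, iota_one h] at this
  exact one_ne_zero this

theorem iota_neg (h : GenOK c s) {x : ℕ} (hx : x < c.p * c.p) :
    iota c s (c.neg x) = -iota c s x ∧ c.neg x < c.p * c.p := by
  have hlt : c.p - 1 < c.p := Nat.sub_lt h.prime.pos one_pos
  obtain ⟨h1, h2⟩ := iota_mul h (lt_of_lt_of_le hlt (Nat.le_mul_of_pos_left _ h.prime.pos)) hx
  refine ⟨h1.trans ?_, h2⟩
  rw [show iota c s (c.p - 1) = (((c.p - 1) % c.p : ℕ) : F) + (((c.p - 1) / c.p : ℕ) : F) * s from rfl,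
    Nat.mod_eq_of_lt hlt, Nat.div_eq_of_lt hlt, Nat.cast_sub h.prime.one_le, h.char]
  simp

end field

/-! ### Sums, products and determinants -/

/-- A sum of codes. -/
noncomputable def sumTo (f : ℕ → ℕ) (n : ℕ) : ℕ := Nat.rec 0 (fun k ih => c.add ih (f k)) n

/-- A coordinate of a packed vector. -/
def fld (v i : ℕ) : ℕ := Nat.mod (fld5 v i) (Nat.mul c.p c.p)

/-- The determinant by expansion along the first row. -/
noncomputable def detN : ℕ → (ℕ → ℕ → ℕ) → ℕ
  | 0, _ => 1
  | n + 1, A => sumTo c (fun j =>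
      c.mul (bif Nat.beq (j % 2) 0 then A 0 j else c.neg (A 0 j))
        (detN n fun u v => A (u + 1) (bif Nat.blt v j then v else v + 1))) (n + 1)

variable {c} {F : Type*} [Field F] {s : F}

theorem iota_sumTo (h : GenOK c s) {f : ℕ → ℕ} : ∀ {n : ℕ}, (∀ k < n, f k < c.p * c.p) →
    iota c s (sumTo c f n) = ∑ k : Fin n, iota c s (f k) ∧ sumTo c f n < c.p * c.p
  | 0, _ => ⟨by simpa [sumTo] using iota_zero, Nat.mul_pos h.prime.pos h.prime.pos⟩
  | n + 1, hf => by
    obtain ⟨h1, h2⟩ := iota_sumTo h (n := n) fun k hk => hf k (by omega)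
    obtain ⟨h3, h4⟩ := iota_add h h2 (hf n (by omega))
    refine ⟨?_, h4⟩
    rw [Fin.sum_univ_castSucc]
    exact h3.trans (by rw [h1]; rfl)

theorem iota_detN (h : GenOK c s) : ∀ (n : ℕ) (A : ℕ → ℕ → ℕ), (∀ i j, A i j < c.p * c.p) →
    iota c s (detN c n A) = (Matrix.of fun i j : Fin n => iota c s (A i j)).det ∧ detN c n A < c.p * c.p
  | 0, A, _ => ⟨by rw [detN, iota_one h, Matrix.det_fin_zero],
      Nat.one_lt_mul_iff.mpr ⟨h.prime.pos, h.prime.pos, Or.inl h.prime.one_lt⟩⟩
  | n + 1, A, hA => by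
    have hterm : ∀ j, (bif Nat.beq (j % 2) 0 then A 0 j else c.neg (A 0 j)) < c.p * c.p := fun j => by
      cases Nat.beq (j % 2) 0
      · exact (iota_neg h (hA 0 j)).2
      · exact hA 0 j
    have hminor := fun j => iota_detN h n (fun u v => A (u + 1) (bif Nat.blt v j then v else v + 1))
      (fun u v => hA _ _)
    obtain ⟨h1, h2⟩ := iota_sumTo h (n := n + 1) (f := fun j =>
      c.mul (bif Nat.beq (j % 2) 0 then A 0 j else c.neg (A 0 j))
        (detN c n fun u v => A (u + 1) (bif Nat.blt v j then v else v + 1)))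
      (fun j _ => (iota_mul h (hterm j) (hminor j).2).2)
    refine ⟨?_, h2⟩
    rw [detN, h1, Matrix.det_succ_row_zero]
    refine Finset.sum_congr rfl fun j _ => ?_
    rw [(iota_mul h (hterm j) (hminor j).2).1, (hminor j).1]
    congr 1
    · rcases Nat.mod_two_eq_zero_or_one (j : ℕ) with hj | hj
      · rw [hj, (show Nat.beq 0 0 = true from rfl), cond_true,
          Even.neg_one_pow (Nat.even_iff.mpr hj), one_mul]
        rfl
      · rw [hj, (show Nat.beq 1 0 = false from rfl), cond_false, (iota_neg h (hA 0 j)).1,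
          Odd.neg_one_pow (Nat.odd_iff.mpr hj), neg_one_mul]
        rfl
    · refine congrArg Matrix.det (Matrix.ext fun u v => ?_)
      simp only [Matrix.of_apply, Matrix.submatrix_apply, Fin.val_succ, Fin.succAbove]
      by_cases hv : (v : ℕ) < (j : ℕ)
      · rw [if_pos (show v.castSucc < j from hv), Nat.blt_eq.mpr hv]; rfl
      · rw [if_neg (show ¬ v.castSucc < j from hv),
          Bool.eq_false_iff.mpr (fun hb => hv (Nat.blt_eq.mp hb))]
        rfl

theorem fld_lt (h : GenOK c s) (v i : ℕ) : fld c v i < c.p * c.p :=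
  Nat.mod_lt _ (Nat.mul_pos h.prime.pos h.prime.pos)

end Cfsg.Agent.UnitaryImage
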