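import Mathlib
import Cfsg.Prelude.Def_Classical
import Cfsg.Agent.Lib.OrthUnitaryHerm

/-!
Self-adjoint square-zero maps of a hermitian space in characteristic two: an adapted basis and
conjugacy by special unitary maps.
-/

set_option autoImplicit false

open Cfsg.Agent.OrthUnitaryHerm Module Matrix

namespace Cfsg.Agent.UnitaryInvolClasses

variable {F : Type*} [Field F] [Fintype F] {q : ℕ}

/-- Some element is not fixed by the Frobenius of order two. -/
theorem exists_not_fixed (hF : Fintype.card F = q ^ 2) : ∃ z : F, z ^ q ≠ z := by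
  have hq := two_le_q hF
  by_contra h
  push Not at h
  have h1 : Nat.card {x : Fˣ // x ^ (q - 1) = 1} = Nat.card Fˣ := by
    refine Nat.card_congr (Equiv.subtypeUnivEquiv fun x => ?_)
    ext
    apply mul_right_cancel₀ x.ne_zero
    simp only [Units.val_pow_eq_pow_val, Units.val_one]
    rw [← pow_succ, Nat.sub_add_cancel (by omega), h, one_mul]
  rw [card_fixedUnits hF, card_units_eq hF] at h1
  nlinarith [h1, Nat.sub_add_cancel (by omega : 1 ≤ q)]

/-- A non-degenerate hermitian form in characteristic two has an orthonormal family of full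
length. -/
theorem exists_orthonormal [CharP F 2] (hF : Fintype.card F = q ^ 2) {V : Type*} [AddCommGroup V]
    [Module F V] [FiniteDimensional F V] (b : V → V → F)
    (hadd : ∀ x y v, b (x + y) v = b x v + b y v) (hsmul : ∀ (c : F) x v, b (c • x) v = c * b x v)
    (hconj : ∀ u v, b v u = b u v ^ q) :
    ∀ (k : ℕ) (W : Submodule F V), finrank F W = k →
      (∀ u ∈ W, (∀ v ∈ W, b u v = 0) → u = 0) →
      ∃ e : Fin k → V, (∀ i, e i ∈ W) ∧ ∀ i j, b (e i) (e j) = if i = j then 1 else 0 := by
  have hzero : ∀ v, b 0 v = 0 := fun v => by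
    have := hsmul 0 0 v; rwa [zero_smul, zero_mul] at this
  have hsmul2 : ∀ (c : F) x v, b x (c • v) = c ^ q * b x v := fun c x v => by
    rw [hconj (c • v) x, hsmul, mul_pow, ← hconj v x]
  have hadd2 : ∀ x y v, b v (x + y) = b v x + b v y := fun x y v => by
    rw [hconj (x + y) v, hadd, add_pow_q hF, ← hconj x v, ← hconj y v]
  intro k
  induction k with
  | zero => intro W _ _; exact ⟨fun i => i.elim0, fun i => i.elim0, fun i => i.elim0⟩
  | succ k ih =>
    intro W hk hW
    obtain ⟨x, hx, hx0⟩ : ∃ x ∈ W, b x x ≠ 0 := by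
      by_contra hall
      push Not at hall
      have hne : W ≠ ⊥ := fun h => by rw [h, finrank_bot] at hk; omega
      obtain ⟨x, hx, hx0⟩ := Submodule.exists_mem_ne_zero_of_ne_bot hne
      obtain ⟨y, hy, hxy⟩ : ∃ y ∈ W, b x y ≠ 0 := by
        by_contra h; push Not at h; exact hx0 (hW x hx h)
      obtain ⟨z, hz⟩ := exists_not_fixed hF
      set c := z * (b y x)⁻¹ with hc
      have hyx : b y x ≠ 0 := fun h => hxy (by rw [hconj y x, h, zero_pow_q hF])
      have h0 := hall _ (W.add_mem hx (W.smul_mem c hy))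
      simp only [hadd, hadd2, hsmul, hsmul2, hall x hx, hall y hy, mul_zero, zero_add,
        add_zero] at h0
      rw [hconj y x, ← mul_pow, hc, inv_mul_cancel_right₀ hyx] at h0
      exact hz (CharTwo.add_eq_zero.1 h0)
    obtain ⟨c, hc⟩ := exists_norm_eq hF (a := (b x x)⁻¹) (by rw [inv_pow, ← hconj])
    have he0 : b (c • x) (c • x) = 1 := by
      rw [hsmul, hsmul2, ← mul_assoc, ← pow_succ', hc, inv_mul_cancel₀ hx0]
    let φ : V →ₗ[F] F :=
      { toFun := fun y => b y (c • x), map_add' := fun a d => hadd a d _,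
        map_smul' := fun a d => hsmul a d _ }
    let W' : Submodule F V := W ⊓ LinearMap.ker φ
    have hd : finrank F W' + 1 = finrank F W := by
      have h1 : W ⊔ LinearMap.ker φ = ⊤ := by
        refine eq_top_iff.2 fun y _ => ?_
        rw [show y = φ y • (c • x) + (y - φ y • (c • x)) by abel]
        refine Submodule.add_mem_sup (W.smul_mem _ (W.smul_mem _ hx)) ?_
        rw [LinearMap.mem_ker, map_sub, map_smul, show φ (c • x) = 1 from he0, smul_eq_mul,
          mul_one, sub_self]
      have h2 := Submodule.finrank_sup_add_finrank_inf_eq W (LinearMap.ker φ)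
      have h3 := LinearMap.finrank_range_add_finrank_ker φ
      rw [LinearMap.range_eq_top.2 fun a => ⟨a • (c • x), by
        rw [map_smul, show φ (c • x) = 1 from he0, smul_eq_mul, mul_one]⟩, finrank_top,
        finrank_self] at h3
      rw [h1, finrank_top] at h2
      show finrank F ↥(W ⊓ LinearMap.ker φ) + 1 = _
      omega
    obtain ⟨e, heW, he⟩ := ih W' (by omega) (fun u hu h => hW u hu.1 fun v hv => by
      have hu0 : b u (c • x) = 0 := hu.2
      have hv' : v - φ v • (c • x) ∈ W' := ⟨W.sub_mem hv (W.smul_mem _ (W.smul_mem _ hx)), by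
        rw [SetLike.mem_coe, LinearMap.mem_ker, map_sub, map_smul,
          show φ (c • x) = 1 from he0, smul_eq_mul, mul_one, sub_self]⟩
      calc b u v = b u ((v - φ v • (c • x)) + φ v • (c • x)) := by rw [sub_add_cancel]
        _ = 0 := by rw [hadd2, h _ hv', hsmul2, hu0, mul_zero, add_zero])
    refine ⟨Fin.cons (c • x) e, ?_, ?_⟩
    · intro i
      refine Fin.cases ?_ (fun i => ?_) i
      · simpa using W.smul_mem c hx
      · simpa using (heW i).1
    · intro i j
      refine Fin.cases ?_ (fun i => ?_) i <;> refine Fin.cases ?_ (fun j => ?_) j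
      · simpa using he0
      · have : b (e j) (c • x) = 0 := (heW j).2
        simpa [(Fin.succ_ne_zero j).symm, hconj (e j) (c • x), zero_pow_q hF] using
          congrArg (· ^ q) this
      · simpa [Fin.succ_ne_zero i] using (show b (e i) (c • x) = 0 from (heW i).2)
      · simpa using he i j

variable {n : ℕ}

/-- The Gram matrix of an adapted basis. -/
def gram (r k : ℕ) : Fin r ⊕ Fin r ⊕ Fin k → Fin r ⊕ Fin r ⊕ Fin k → F
  | .inl i, .inr (.inl j) => if i = j then 1 else 0
  | .inr (.inl i), .inl j => if i = j then 1 else 0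
  | .inr (.inr i), .inr (.inr j) => if i = j then 1 else 0
  | _, _ => 0

/-- An adapted basis for a self-adjoint square-zero map. -/
theorem exists_adapted [CharP F 2] (hF : Fintype.card F = q ^ 2)
    (A : (Fin n → F) →ₗ[F] (Fin n → F)) (h1 : ∀ x, A (A x) = 0)
    (h2 : ∀ x y, hermForm n F q (A x) y = hermForm n F q x (A y))
    (r : ℕ) (hr : finrank F (LinearMap.range A) = r) :
    ∃ (k : ℕ) (e : Basis (Fin r ⊕ Fin r ⊕ Fin k) F (Fin n → F)), 2 * r + k = n ∧
      (∀ i, A (e (.inl i)) = e (.inr (.inl i))) ∧ (∀ s, A (e (.inr s)) = 0) ∧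
      ∀ s t, hermForm n F q (e s) (e t) = gram r k s t := by
  classical
  let h := hermForm n F q
  have hl0 : ∀ v, h 0 v = 0 := fun v => by
    have := herm_smul_left (q := q) (0 : F) (0 : Fin n → F) v
    rwa [zero_smul, zero_mul] at this
  have hr0 : ∀ v, h v 0 = 0 := fun v => by
    show hermForm n F q v 0 = 0
    rw [herm_conj hF 0 v]
    exact (congrArg (· ^ q) (hl0 v)).trans (zero_pow_q hF)
  obtain ⟨U, hU⟩ := exists_isCompl (LinearMap.ker A)
  have hdU : finrank F U = r := by
    have e1 := Submodule.finrank_add_eq_of_isCompl hU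
    have e2 := LinearMap.finrank_range_add_finrank_ker A
    omega
  have hdec : ∀ x, ∃ u ∈ U, A u = A x := fun x => by
    obtain ⟨a, ha, c, hc, rfl⟩ := Submodule.mem_sup.1
      (show x ∈ LinearMap.ker A ⊔ U from hU.sup_eq_top ▸ Submodule.mem_top)
    exact ⟨c, hc, by rw [map_add, LinearMap.mem_ker.1 ha, zero_add]⟩
  obtain ⟨e, heU, he⟩ := exists_orthonormal hF (fun u v => h u (A v))
    (fun x y v => herm_add_left x y (A v)) (fun c x v => herm_smul_left c x (A v))
    (fun u v => by
      show hermForm n F q v (A u) = hermForm n F q u (A v) ^ q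
      rw [← h2 u v, ← herm_conj hF]) r U hdU
    (fun u hu hall => by
      refine (Submodule.disjoint_def.1 hU.disjoint) u (LinearMap.mem_ker.2 ?_) hu
      refine eq_zero_of_herm_eq_zero (q := q) hF fun x => ?_
      obtain ⟨w, hw, hwA⟩ := hdec x
      rw [h2, ← hwA]
      exact hall w hw)
  obtain ⟨σ, hσ⟩ := exists_frobHom hF
  have hτ : ∀ i, ∃ t : F, t + t ^ q = h (e i) (e i) := fun i => by
    obtain ⟨z, hz⟩ := exists_not_fixed hF
    have hne : z + z ^ q ≠ 0 := fun h0 => hz (CharTwo.add_eq_zero.1 h0).symm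
    refine ⟨h (e i) (e i) / (z + z ^ q) * z, ?_⟩
    have hs : (z + z ^ q) ^ q = z + z ^ q := by rw [add_pow_q hF, pow_q_q hF, add_comm]
    rw [mul_pow, div_pow, show h (e i) (e i) ^ q = h (e i) (e i) from herm_self_pow hF (e i), hs]
    field_simp
  choose τ hτ using hτ
  let c : Fin r → Fin r → F := fun i j => if i < j then h (e i) (e j) else if i = j then τ i else 0
  let e' : Fin r → Fin n → F := fun i => e i + ∑ j, c i j • A (e j)
  have hAe' : ∀ i, A (e' i) = A (e i) := fun i => by simp [e', h1]
  have hAA : ∀ x y, h (A x) (A y) = 0 := fun x y => by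
    show hermForm n F q (A x) (A y) = 0
    rw [h2, h1]; exact hr0 x
  let lft : (Fin n → F) → ((Fin n → F) →ₗ[F] F) := fun v =>
    { toFun := fun x => h x v, map_add' := fun a b => herm_add_left a b v,
      map_smul' := fun a b => herm_smul_left a b v }
  have hsum : ∀ (a : Fin r → F) (f : Fin r → Fin n → F) v,
      h (∑ i, a i • f i) v = ∑ i, a i * h (f i) v := fun a f v => by
    have := map_sum (lft v) (fun i => a i • f i) Finset.univ
    simp only [map_smul, smul_eq_mul] at this
    exact this
  have heA : ∀ i j, h (e i) (A (e j)) = if i = j then 1 else 0 := he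
  have heA' : ∀ i j, h (A (e i)) (e j) = if i = j then 1 else 0 := fun i j => by
    show hermForm n F q (A (e i)) (e j) = _
    rw [h2]; exact he i j
  have g00 : ∀ i j, h (e' i) (e' j) = 0 := by
    intro i j
    have hA2 : h (e' i) (∑ l, c j l • A (e l)) = c j i ^ q := by
      show hermForm n F q _ _ = _
      rw [herm_conj hF, show hermForm n F q (∑ l, c j l • A (e l)) (e' i) =
        ∑ l, c j l * h (A (e l)) (e' i) from hsum _ _ _]
      congr 1
      rw [Finset.sum_eq_single i]
      · have : h (A (e i)) (e' i) = 1 := by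
          show hermForm n F q (A (e i)) (e' i) = 1
          rw [h2, hAe', ← h2]
          exact (heA' i i).trans (if_pos rfl)
        rw [this, mul_one]
      · intro l _ hl
        have : h (A (e l)) (e' i) = 0 := by
          show hermForm n F q (A (e l)) (e' i) = 0
          rw [h2, hAe', ← h2]
          exact (heA' l i).trans (if_neg hl)
        rw [this, mul_zero]
      · simp
    have hA1 : h (e' i) (e j) = h (e i) (e j) + c i j := by
      show hermForm n F q (e i + _) (e j) = _
      rw [herm_add_left]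
      congr 1
      rw [show hermForm n F q (∑ l, c i l • A (e l)) (e j) =
        ∑ l, c i l * h (A (e l)) (e j) from hsum _ _ _]
      rw [Finset.sum_eq_single j]
      · rw [heA', if_pos rfl, mul_one]
      · intro l _ hl; rw [heA', if_neg hl, mul_zero]
      · simp
    show hermForm n F q (e' i) (e j + _) = 0
    rw [herm_add_right hF]
    show h (e' i) (e j) + h (e' i) (∑ l, c j l • A (e l)) = 0
    rw [hA1, hA2]
    rcases lt_trichotomy i j with hij | rfl | hij
    · simp only [c, if_pos hij, if_neg hij.not_gt, if_neg hij.ne', zero_pow_q hF, add_zero]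
      exact CharTwo.add_self_eq_zero _
    · simp only [c, if_neg (lt_irrefl _), if_true]
      rw [add_assoc, hτ]
      exact CharTwo.add_self_eq_zero _
    · simp only [c, if_pos hij, if_neg hij.not_gt, if_neg hij.ne', add_zero]
      show h (e i) (e j) + hermForm n F q (e j) (e i) ^ q = 0
      rw [← herm_conj hF]
      exact CharTwo.add_self_eq_zero _
  have g01 : ∀ i j, h (e' i) (A (e' j)) = if i = j then 1 else 0 := fun i j => by
    show hermForm n F q (e' i) (A (e' j)) = _
    rw [hAe', ← h2, hAe', h2]
    exact he i j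
  have g10 : ∀ i j, h (A (e' i)) (e' j) = if i = j then 1 else 0 := fun i j => by
    show hermForm n F q (A (e' i)) (e' j) = _
    rw [h2]; exact g01 i j
  -- the orthogonal complement
  let Φ : (Fin n → F) →ₗ[F] (Fin r ⊕ Fin r → F) :=
    LinearMap.pi (fun s => lft (Sum.elim e' (fun i => A (e' i)) s))
  let K := LinearMap.ker Φ
  let pr : (Fin n → F) → (Fin n → F) := fun x =>
    x - ((∑ i, h x (A (e' i)) • e' i) + ∑ i, h x (e' i) • A (e' i))
  have hK : ∀ z, z ∈ K ↔ (∀ i, h z (e' i) = 0) ∧ ∀ i, h z (A (e' i)) = 0 := fun z =>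
    ⟨fun hz => ⟨fun i => congrFun (LinearMap.mem_ker.1 hz) (.inl i),
      fun i => congrFun (LinearMap.mem_ker.1 hz) (.inr i)⟩,
     fun hz => LinearMap.mem_ker.2 (funext fun s => by
      rcases s with i | i
      · exact hz.1 i
      · exact hz.2 i)⟩
  have hpr : ∀ x, pr x ∈ K := by
    intro x
    rw [hK]
    constructor <;> intro j <;> show hermForm n F q (pr x) _ = 0 <;>
      simp only [pr, herm_sub_left, herm_add_left]
    · rw [show hermForm n F q (∑ i, h x (A (e' i)) • e' i) (e' j) =
          ∑ i, h x (A (e' i)) * h (e' i) (e' j) from hsum _ _ _,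
        show hermForm n F q (∑ i, h x (e' i) • A (e' i)) (e' j) =
          ∑ i, h x (e' i) * h (A (e' i)) (e' j) from hsum _ _ _]
      simp [g00, g10, h]
    · rw [show hermForm n F q (∑ i, h x (A (e' i)) • e' i) (A (e' j)) =
          ∑ i, h x (A (e' i)) * h (e' i) (A (e' j)) from hsum _ _ _,
        show hermForm n F q (∑ i, h x (e' i) • A (e' i)) (A (e' j)) =
          ∑ i, h x (e' i) * h (A (e' i)) (A (e' j)) from hsum _ _ _]
      simp [g01, hAA, h]
  have hspanA : ∀ x, A x ∈ Submodule.span F (Set.range fun i => A (e' i)) := by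
    intro x
    obtain ⟨u, hu, hux⟩ := hdec x
    have hli : LinearIndependent F (fun i => (⟨e i, heU i⟩ : U)) := by
      rw [Fintype.linearIndependent_iff]
      intro a ha j
      have := congrArg (fun z : U => h (z : Fin n → F) (A (e j))) ha
      simp only [Submodule.coe_sum, Submodule.coe_smul, hsum, Submodule.coe_zero, hl0, heA] at this
      simpa using this
    have hspan := hli.span_eq_top_of_card_eq_finrank' (by rw [Fintype.card_fin, hdU])
    have humem : (⟨u, hu⟩ : U) ∈ Submodule.span F (Set.range fun i => (⟨e i, heU i⟩ : U)) := by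
      rw [hspan]; trivial
    obtain ⟨a, ha⟩ := (Submodule.mem_span_range_iff_exists_fun F).1 humem
    have hua : u = ∑ i, a i • e i := by simpa using (congrArg Subtype.val ha).symm
    rw [← hux, hua]
    simp only [map_sum, map_smul]
    exact Submodule.sum_mem _ fun i _ => Submodule.smul_mem _ _
      (hAe' i ▸ Submodule.subset_span ⟨i, rfl⟩)
  have hAK : ∀ z ∈ K, A z = 0 := by
    intro z hz
    refine eq_zero_of_herm_eq_zero (q := q) hF fun x => ?_
    rw [h2]
    obtain ⟨a, ha⟩ := (Submodule.mem_span_range_iff_exists_fun F).1 (hspanA x)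
    rw [← ha, herm_conj hF]
    show h (∑ i, a i • A (e' i)) z ^ q = 0
    rw [hsum, Finset.sum_eq_zero fun i _ => ?_, zero_pow_q hF]
    show a i * hermForm n F q (A (e' i)) z = 0
    rw [herm_conj hF, show hermForm n F q z (A (e' i)) = 0 from ((hK z).1 hz).2 i,
      zero_pow_q hF, mul_zero]
  obtain ⟨k, hk⟩ : ∃ k, finrank F K = k := ⟨_, rfl⟩
  obtain ⟨z, hzK, hz⟩ := exists_orthonormal hF h (fun x y v => herm_add_left x y v)
    (fun a x v => herm_smul_left a x v) (fun u v => herm_conj hF u v) k K hk
    (fun u hu hall => eq_zero_of_herm_eq_zero (q := q) hF fun x => by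
      have hd : x = pr x + ((∑ i, h x (A (e' i)) • e' i) + ∑ i, h x (e' i) • A (e' i)) := by
        simp [pr]
      show h u x = 0
      rw [hd]
      have hu' := (hK u).1 hu
      show hermForm n F q u _ = 0
      rw [herm_add_right hF, herm_add_right hF, show hermForm n F q u (pr x) = 0 from
        hall _ (hpr x)]
      have z1 : ∀ (a : Fin r → F) (f : Fin r → Fin n → F), (∀ i, h u (f i) = 0) →
          hermForm n F q u (∑ i, a i • f i) = 0 := fun a f hf => by
        rw [herm_conj hF, show hermForm n F q (∑ i, a i • f i) u = ∑ i, a i * h (f i) u from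
          hsum _ _ _, Finset.sum_eq_zero fun i _ => ?_, zero_pow_q hF]
        show a i * hermForm n F q (f i) u = 0
        rw [herm_conj hF, show hermForm n F q u (f i) = 0 from hf i, zero_pow_q hF, mul_zero]
      rw [z1 _ _ hu'.1, z1 _ _ hu'.2, add_zero, add_zero])
  let f : Fin r ⊕ Fin r ⊕ Fin k → Fin n → F := Sum.elim e' (Sum.elim (fun i => A (e' i)) z)
  have hf : ∀ s t, h (f s) (f t) = gram r k s t := by
    have z0 : ∀ i j, h (e' i) (z j) = 0 ∧ h (A (e' i)) (z j) = 0 := fun i j => by
      constructor <;> show hermForm n F q _ (z j) = 0 <;> rw [herm_conj hF]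
      · rw [show hermForm n F q (z j) (e' i) = 0 from ((hK _).1 (hzK j)).1 i, zero_pow_q hF]
      · rw [show hermForm n F q (z j) (A (e' i)) = 0 from ((hK _).1 (hzK j)).2 i, zero_pow_q hF]
    rintro (i | i | i) (j | j | j) <;> simp only [f, Sum.elim_inl, Sum.elim_inr, gram]
    exacts [g00 i j, g01 i j, (z0 i j).1, g10 i j, hAA _ _, (z0 i j).2,
      ((hK _).1 (hzK i)).1 j, ((hK _).1 (hzK i)).2 j, hz i j]
  have hli : LinearIndependent F f := by
    rw [Fintype.linearIndependent_iff]
    intro a ha
    have key : ∀ t, ∑ s, a s * gram r k s t = 0 := fun t => by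
      have := congrArg (lft (f t)) ha
      simp only [map_sum, map_smul, smul_eq_mul, map_zero] at this
      rw [← this]
      exact Finset.sum_congr rfl fun s _ => by rw [← hf s t]; rfl
    rintro (i | i | i)
    · simpa [Fintype.sum_sum_type, gram] using key (.inr (.inl i))
    · simpa [Fintype.sum_sum_type, gram] using key (.inl i)
    · simpa [Fintype.sum_sum_type, gram] using key (.inr (.inr i))
  have hspan : ⊤ ≤ Submodule.span F (Set.range f) := by
    have hKspan : ∀ y ∈ K, y ∈ Submodule.span F (Set.range f) := by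
      intro y hy
      have hzli : LinearIndependent F (fun i => (⟨z i, hzK i⟩ : K)) := by
        rw [Fintype.linearIndependent_iff]
        intro a ha j
        have := congrArg (fun w : K => lft (z j) (w : Fin n → F)) ha
        simp only [Submodule.coe_sum, Submodule.coe_smul, map_sum, map_smul, Submodule.coe_zero,
          map_zero, smul_eq_mul] at this
        rw [Finset.sum_congr rfl (fun i _ => by rw [show lft (z j) (z i) = h (z i) (z j) from rfl,
          hz i j])] at this
        simpa using this
      have hsp := hzli.span_eq_top_of_card_eq_finrank' (by rw [Fintype.card_fin, hk])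
      have : (⟨y, hy⟩ : K) ∈ Submodule.span F (Set.range fun i => (⟨z i, hzK i⟩ : K)) := by
        rw [hsp]; trivial
      obtain ⟨a, ha⟩ := (Submodule.mem_span_range_iff_exists_fun F).1 this
      rw [show y = ∑ i, a i • z i by
        have := congrArg Subtype.val ha
        simpa using this.symm]
      exact Submodule.sum_mem _ fun i _ => Submodule.smul_mem _ _
        (Submodule.subset_span ⟨.inr (.inr i), rfl⟩)
    intro x _
    rw [show x = pr x + ((∑ i, h x (A (e' i)) • e' i) + ∑ i, h x (e' i) • A (e' i)) by simp [pr]]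
    refine add_mem (hKspan _ (hpr x)) (add_mem ?_ ?_) <;>
      refine Submodule.sum_mem _ fun i _ => Submodule.smul_mem _ _ (Submodule.subset_span ?_)
    · exact ⟨.inl i, rfl⟩
    · exact ⟨.inr (.inl i), rfl⟩
  let be := Basis.mk hli hspan
  have hn : 2 * r + k = n := by
    have := Module.finrank_eq_card_basis be
    rw [Module.finrank_fintype_fun_eq_card, Fintype.card_fin] at this
    simp only [Fintype.card_sum, Fintype.card_fin] at this
    omega
  refine ⟨k, be, hn, fun i => by simp [be, f], ?_, fun s t => ?_⟩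
  · rintro (i | i)
    · simp [be, f, h1]
    · simp [be, f, hAK _ (hzK i)]
  · simp only [be, Basis.coe_mk]
    exact hf s t

/-- Conjugacy of self-adjoint square-zero maps by a special unitary map. -/
theorem exists_conj [CharP F 2] (hF : Fintype.card F = q ^ 2)
    (A B : (Fin n → F) →ₗ[F] (Fin n → F)) (hA1 : ∀ x, A (A x) = 0)
    (hA2 : ∀ x y, hermForm n F q (A x) y = hermForm n F q x (A y)) (hB1 : ∀ x, B (B x) = 0)
    (hB2 : ∀ x y, hermForm n F q (B x) y = hermForm n F q x (B y)) (hA0 : A ≠ 0)
    (hr : finrank F (LinearMap.range A) = finrank F (LinearMap.range B)) :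
    ∃ T : (Fin n → F) →ₗ[F] (Fin n → F), LinearMap.det T = 1 ∧
      (∀ u v, hermForm n F q (T u) (T v) = hermForm n F q u v) ∧ T ∘ₗ A = B ∘ₗ T := by
  classical
  obtain ⟨r, hrA⟩ : ∃ r, finrank F (LinearMap.range A) = r := ⟨_, rfl⟩
  obtain ⟨k, a, hk, ha1, ha2, hag⟩ := exists_adapted hF A hA1 hA2 r hrA
  obtain ⟨k', b, hk', hb1, hb2, hbg⟩ := exists_adapted hF B hB1 hB2 r (hr ▸ hrA)
  obtain rfl : k = k' := by omega
  have hrpos : 0 < r := by
    rw [← hrA]
    by_contra h0
    exact hA0 (LinearMap.range_eq_bot.1 (Submodule.finrank_eq_zero.1 (by omega)))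
  let T0 : (Fin n → F) ≃ₗ[F] (Fin n → F) := a.equiv b (Equiv.refl _)
  let T : (Fin r ⊕ Fin r ⊕ Fin k → F) → ((Fin n → F) →ₗ[F] (Fin n → F)) := fun d =>
    (T0 : (Fin n → F) →ₗ[F] (Fin n → F)) ∘ₗ Matrix.toLin a a (Matrix.diagonal d)
  have hTa : ∀ d i, T d (a i) = d i • b i := by
    intro d i
    simp [T, T0, Matrix.toLin_self, Matrix.diagonal_apply]
  let lft : (Fin n → F) → ((Fin n → F) →ₗ[F] F) := fun v =>
    { toFun := fun x => hermForm n F q x v, map_add' := fun u w => herm_add_left u w v,
      map_smul' := fun c u => herm_smul_left c u v }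
  have hpres : ∀ d, (∀ s t, gram (F := F) r k s t ≠ 0 → d s * d t ^ q = 1) →
      ∀ u v, hermForm n F q (T d u) (T d v) = hermForm n F q u v := by
    intro d hd
    have step : ∀ i u, hermForm n F q (T d u) (T d (a i)) = hermForm n F q u (a i) := by
      intro i u
      have : lft (T d (a i)) ∘ₗ T d = lft (a i) := a.ext fun j => by
        show hermForm n F q (T d (a j)) (T d (a i)) = hermForm n F q (a j) (a i)
        rw [hTa, hTa, herm_smul_left, herm_smul_right, hag, hbg, ← mul_assoc]
        by_cases hg : gram (F := F) r k j i = 0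
        · rw [hg, mul_zero]
        · rw [hd j i hg, one_mul]
      exact LinearMap.congr_fun this u
    intro u v
    have : lft (T d v) ∘ₗ T d = lft v := a.ext fun j => by
      show hermForm n F q (T d (a j)) (T d v) = hermForm n F q (a j) v
      rw [herm_conj hF, step, ← herm_conj hF]
    exact LinearMap.congr_fun this u
  have hcomm : ∀ d, (∀ i, d (.inl i) = d (.inr (.inl i))) → T d ∘ₗ A = B ∘ₗ T d := by
    intro d hd
    refine a.ext fun i => ?_
    simp only [LinearMap.comp_apply]
    rcases i with i | i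
    · rw [ha1, hTa, hTa, map_smul, hb1, hd]
    · rw [ha2, hTa, map_smul, hb2, map_zero, smul_zero]
  have hdet : ∀ d, LinearMap.det (T d) =
      LinearMap.det (T0 : (Fin n → F) →ₗ[F] (Fin n → F)) * ∏ i, d i := fun d => by
    simp only [T, LinearMap.det_comp, LinearMap.det_toLin, Matrix.det_diagonal]
  set δ := LinearMap.det (T0 : (Fin n → F) →ₗ[F] (Fin n → F))
  have hδ : δ ^ (q + 1) = 1 := by
    have h1 := hpres (fun _ => 1) (fun s t _ => by simp)
    have hU : IsU q (LinearMap.toMatrix' (T fun _ => 1)) := by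
      intro u v
      rw [← Matrix.toLin'_apply, ← Matrix.toLin'_apply, Matrix.toLin'_toMatrix']
      exact h1 u v
    have := IsU.det_pow hF hU
    rwa [LinearMap.det_toMatrix', hdet, Finset.prod_const_one, mul_one] at this
  have hδ0 : δ ≠ 0 := fun h => by rw [h, zero_pow (Nat.succ_ne_zero q)] at hδ; exact zero_ne_one hδ
  obtain ⟨μ, hμ⟩ := (Finite.injective_iff_surjective.1 (CharTwo.sq_injective (R := F))) δ⁻¹
  simp only at hμ
  have hμ1 : μ * μ ^ q = 1 := by
    rw [← pow_succ']
    refine CharTwo.sq_injective ?_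
    show (μ ^ (q + 1)) ^ 2 = 1 ^ 2
    rw [← pow_mul, mul_comm, pow_mul, hμ, inv_pow, hδ, inv_one, one_pow]
  let m : Fin r → F := fun i => if i = ⟨0, hrpos⟩ then μ else 1
  have hm : ∀ i, m i * m i ^ q = 1 := fun i => by
    by_cases h : i = ⟨0, hrpos⟩
    · simp [m, h, hμ1]
    · simp [m, h]
  refine ⟨T (Sum.elim m (Sum.elim m fun _ => 1)), ?_, hpres _ ?_, hcomm _ fun i => rfl⟩
  · rw [hdet]
    simp only [Fintype.prod_sum_type, Sum.elim_inl, Sum.elim_inr, m, Finset.prod_ite_eq',
      Finset.mem_univ, if_true, Finset.prod_const_one, mul_one]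
    rw [← pow_two, hμ, mul_inv_cancel₀ hδ0]
  · rintro (i | i | i) (j | j | j) hg <;> simp only [gram, ne_eq, not_true] at hg <;>
      simp at hg <;> subst hg <;> simp [hm]

end Cfsg.Agent.UnitaryInvolClasses
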