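import Mathlib
import Cfsg.Agent.Lib.UnitaryIsoInvariant84

/-!
Non-degenerate invariant subspaces of isometries of hermitian forms.
-/

set_option autoImplicit false

namespace Cfsg.Agent.UnitaryNDInvariant84

open Module Polynomial Cfsg.Agent.OrthUnitaryHerm Cfsg.Agent.PrimeOrderModule84 UnitaryIsoInvariant84
open SympIsoInvariant84 (map_eq pow_mem exists_simple)

variable {F V : Type*} [Field F] [Fintype F] [AddCommGroup V] [Module F V] [FiniteDimensional F V]
  {q : ℕ} {h : V → V → F} {A : Module.End F V}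

omit [FiniteDimensional F V] in
theorem Herm.sub_right (H : Herm F q h) (hF : Fintype.card F = q ^ 2) (u x y : V) :
    h u (x - y) = h u x - h u y := by
  rw [eq_sub_iff_add_eq, ← H.add_right hF, sub_add_cancel]

omit [Fintype F] [FiniteDimensional F V] in
theorem Herm.sub_left (H : Herm F q h) (x y v : V) : h (x - y) v = h x v - h y v := by
  rw [eq_sub_iff_add_eq, ← H.add, sub_add_cancel]

theorem exists_pow_q_ne (hF : Fintype.card F = q ^ 2) : ∃ a : F, a ^ q ≠ a := by
  obtain ⟨a, -, hao⟩ := exists_generator (F := F)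
  refine ⟨(a : F), fun e => ?_⟩
  have hq := two_le_q hF
  have h1 : a ^ (q - 1) = 1 := by
    have h2 : a ^ q = a := Units.ext (by rw [Units.val_pow_eq_pow_val]; exact e)
    rw [show q = q - 1 + 1 by omega, pow_succ] at h2
    exact mul_eq_right.1 h2
  have h3 := Nat.le_of_dvd (by omega) (orderOf_dvd_of_pow_eq_one h1)
  rw [hao, hF] at h3
  have : q * 2 ≤ q ^ 2 := by rw [pow_two]; exact Nat.mul_le_mul_left q hq
  omega

omit [FiniteDimensional F V] in
/-- A hermitian pairing with zero diagonal vanishes. -/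
theorem eq_zero_of_diag (H : Herm F q h) (hF : Fintype.card F = q ^ 2) {R : Submodule F V}
    {C : Module.End F V} (hd : ∀ v ∈ R, h (C v) v = 0) :
    ∀ u ∈ R, ∀ v ∈ R, h (C u) v = 0 := by
  intro u hu v hv
  obtain ⟨a, ha⟩ := exists_pow_q_ne hF
  have key : ∀ t : F, t * h (C u) v + t ^ q * h (C v) u = 0 := by
    intro t
    have h1 := hd (t • u + v) (R.add_mem (R.smul_mem t hu) hv)
    rw [map_add, map_smul, H.add, H.smul, H.add_right hF, H.add_right hF, H.smul_right, H.smul_right,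
      hd u hu, hd v hv] at h1
    linear_combination h1
  have h1 := key 1
  rw [one_pow, one_mul, one_mul] at h1
  have h2 : (a - a ^ q) * h (C u) v = 0 := by linear_combination key a - a ^ q * h1
  exact (mul_eq_zero.1 h2).resolve_left (sub_ne_zero.2 (Ne.symm ha))

omit [FiniteDimensional F V] in
theorem exists_aniso (H : Herm F q h) (hF : Fintype.card F = q ^ 2) {R : Submodule F V} (hR : ND h R)
    (hne : R ≠ ⊥) : ∃ v ∈ R, h v v ≠ 0 := by
  by_contra hcon
  push Not at hcon
  exact hne ((Submodule.eq_bot_iff R).2 fun u hu => hR u hu fun v hv =>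
    eq_zero_of_diag H hF (C := 1) hcon u hu v hv)

theorem nd_sup (H : Herm F q h) (hF : Fintype.card F = q ^ 2) {U W : Submodule F V} (hU : ND h U)
    (hW : ND h W) (horth : ∀ u ∈ U, ∀ w ∈ W, h u w = 0) :
    ND h (U ⊔ W) ∧ finrank F ↥(U ⊔ W) = finrank F ↥U + finrank F ↥W := by
  refine ⟨fun x hx h0 => ?_, ?_⟩
  · obtain ⟨u, hu, w, hw, rfl⟩ := Submodule.mem_sup.1 hx
    have hu0 : u = 0 := hU u hu fun v hv => by
      have h1 := h0 v (Submodule.mem_sup_left hv)
      rwa [H.add, H.zero_comm hF (horth v hv w hw), add_zero] at h1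
    have hw0 : w = 0 := hW w hw fun v hv => by
      have h1 := h0 v (Submodule.mem_sup_right hv)
      rwa [H.add, horth u hu v hv, zero_add] at h1
    rw [hu0, hw0, add_zero]
  · have h1 := Submodule.finrank_sup_add_finrank_inf_eq U W
    have h2 : U ⊓ W = ⊥ := (Submodule.eq_bot_iff _).2 fun x hx => hU x hx.1 fun v hv =>
      H.zero_comm hF (horth v hv x hx.2)
    rw [h2, finrank_bot, add_zero] at h1
    exact h1

/-- The orthogonal complement of a non-degenerate subspace. -/
theorem split (H : Herm F q h) (hF : Fintype.card F = q ^ 2) {R U : Submodule F V} (hR : ND h R)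
    (hUR : U ≤ R) (hU : ND h U) :
    ND h (R ⊓ orth H U) ∧ U ⊔ (R ⊓ orth H U) = R ∧ U ⊓ (R ⊓ orth H U) = ⊥ := by
  have hbot : U ⊓ (R ⊓ orth H U) = ⊥ := (Submodule.eq_bot_iff _).2 fun x hx => hU x hx.1 hx.2.2
  have hsup : U ⊔ (R ⊓ orth H U) = R := by
    refine Submodule.eq_of_le_of_finrank_eq (sup_le hUR inf_le_left) ?_
    have h1 := Submodule.finrank_sup_add_finrank_inf_eq U (R ⊓ orth H U)
    rw [hbot, finrank_bot] at h1
    have := finrank_orth H hF hR hUR
    omega
  refine ⟨fun x hx h0 => hR x hx.1 fun v hv => ?_, hsup, hbot⟩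
  rw [← hsup] at hv
  obtain ⟨u, hu, w, hw, rfl⟩ := Submodule.mem_sup.1 hv
  rw [H.add_right hF, hx.2 u hu, h0 w hw, add_zero]

/-- A totally isotropic subspace and a partner. -/
theorem pair_nd (H : Herm F q h) (hF : Fintype.card F = q ^ 2) {R U U' : Submodule F V} (hR : ND h R)
    (hUR : U ≤ R) (hU : TI h U) (hU'R : U' ≤ R) (hinf : (R ⊓ orth H U) ⊓ U' = ⊥)
    (hsup : (R ⊓ orth H U) ⊔ U' = R) :
    ND h (U ⊔ U') ∧ finrank F ↥(U ⊔ U') = 2 * finrank F ↥U := by
  refine ⟨fun x hx h0 => ?_, ?_⟩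
  · obtain ⟨u, hu, u', hu', rfl⟩ := Submodule.mem_sup.1 hx
    have h1 : u' = 0 := (Submodule.eq_bot_iff _).1 hinf u' ⟨⟨hU'R hu', fun v hv => by
      have h2 := h0 v (Submodule.mem_sup_left hv)
      rwa [H.add, hU u hu v hv, zero_add] at h2⟩, hu'⟩
    subst h1
    rw [add_zero] at h0 ⊢
    refine hR u (hUR hu) fun v hv => ?_
    rw [← hsup] at hv
    obtain ⟨a, ha, c, hc, rfl⟩ := Submodule.mem_sup.1 hv
    rw [H.add_right hF, H.zero_comm hF (ha.2 u hu), h0 c (Submodule.mem_sup_right hc), add_zero]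
  · have hle : U ≤ R ⊓ orth H U := le_inf hUR fun v hv w hw => hU v hv w hw
    have h1 := Submodule.finrank_sup_add_finrank_inf_eq U U'
    have h2 : U ⊓ U' = ⊥ := eq_bot_iff.2 (hinf ▸ inf_le_inf_right U' hle)
    rw [h2, finrank_bot] at h1
    have h3 := Submodule.finrank_sup_add_finrank_inf_eq (R ⊓ orth H U) U'
    rw [hsup, hinf, finrank_bot] at h3
    have := finrank_orth H hF hR hUR
    omega

theorem nd_of_not_ti (H : Herm F q h) (hA : ∀ u v, h (A u) (A v) = h u v) (hAi : Function.Injective A)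
    {U : Submodule F V} (hUi : U.map A ≤ U)
    (hmin : ∀ U' ≤ U, U'.map A ≤ U' → U' ≠ ⊥ → finrank F ↥U ≤ finrank F ↥U')
    (hnt : ¬ TI h U) : ND h U := by
  intro u hu h0
  by_contra hne
  have hinv : (U ⊓ orth H U).map A ≤ U ⊓ orth H U :=
    le_inf ((Submodule.map_mono inf_le_left).trans hUi)
      ((Submodule.map_mono inf_le_right).trans (orth_invariant H hA hAi hUi))
  have hnb : U ⊓ orth H U ≠ ⊥ := fun e => hne ((Submodule.eq_bot_iff _).1 e u ⟨hu, h0⟩)
  have heq : U ⊓ orth H U = U :=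
    Submodule.eq_of_le_of_finrank_le inf_le_left (hmin _ inf_le_left hinv hnb)
  refine hnt fun a ha c hc => ?_
  rw [← heq] at ha
  exact ha.2 c hc

/-- Splitting off non-degenerate invariant subspaces of a fixed dimension. -/
theorem exists_nd_iter (H : Herm F q h) (hF : Fintype.card F = q ^ 2) (hA : ∀ u v, h (A u) (A v) = h u v)
    (hAi : Function.Injective A) {T : Submodule F V} {i : ℕ} (hi : 0 < i)
    (step : ∀ R ≤ T, R.map A ≤ R → ND h R → R ≠ ⊥ →
      ∃ U, U ≤ R ∧ U.map A ≤ U ∧ ND h U ∧ finrank F ↥U = i) :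
    ∀ R ≤ T, R.map A ≤ R → ND h R → ∃ N, finrank F ↥R = i * N ∧
      ∀ j ≤ N, ∃ W, W ≤ R ∧ W.map A ≤ W ∧ ND h W ∧ finrank F ↥W = i * j := by
  suffices hkey : ∀ d, ∀ R ≤ T, finrank F ↥R ≤ d → R.map A ≤ R → ND h R → ∃ N, finrank F ↥R = i * N ∧
      ∀ j ≤ N, ∃ W, W ≤ R ∧ W.map A ≤ W ∧ ND h W ∧ finrank F ↥W = i * j from
    fun R hR => hkey _ R hR le_rfl
  have hzero : ∀ R : Submodule F V, ∃ W, W ≤ R ∧ W.map A ≤ W ∧ ND h W ∧ finrank F ↥W = i * 0 := fun R =>
    ⟨⊥, bot_le, by simp, fun u hu _ => (Submodule.mem_bot F).1 hu, by simp⟩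
  intro d
  induction d with
  | zero =>
    intro R _ hd _ _
    refine ⟨0, by omega, fun j hj => ?_⟩
    rw [Nat.le_zero.1 hj]
    exact hzero R
  | succ d ih =>
    intro R hRT hd hRi hR
    by_cases hne : R = ⊥
    · refine ⟨0, by rw [hne]; simp, fun j hj => ?_⟩
      rw [Nat.le_zero.1 hj]
      exact hzero R
    obtain ⟨U, hUR, hUi, hU, hUd⟩ := step R hRT hRi hR hne
    obtain ⟨hR', hsup, hbot⟩ := split H hF hR hUR hU
    have h1 := Submodule.finrank_sup_add_finrank_inf_eq U (R ⊓ orth H U)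
    rw [hbot, hsup, finrank_bot, hUd, add_zero] at h1
    obtain ⟨N, hN, hW⟩ := ih (R ⊓ orth H U) (inf_le_left.trans hRT) (by omega)
      (le_inf ((Submodule.map_mono inf_le_left).trans hRi)
        ((Submodule.map_mono inf_le_right).trans (orth_invariant H hA hAi hUi))) hR'
    refine ⟨N + 1, by rw [Nat.mul_add, Nat.mul_one]; omega, fun j hj => ?_⟩
    rcases Nat.eq_zero_or_pos j with rfl | hj0
    · exact hzero R
    obtain ⟨W, hWR, hWi, hWn, hWd⟩ := hW (j - 1) (by omega)
    obtain ⟨hn, hdim⟩ := nd_sup H hF hU hWn fun u hu w hw => H.zero_comm hF ((hWR hw).2 u hu)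
    refine ⟨U ⊔ W, sup_le hUR (hWR.trans inf_le_left), by rw [Submodule.map_sup]; exact sup_le_sup hUi hWi,
      hn, ?_⟩
    rw [hdim, hUd, hWd, add_comm, ← Nat.mul_succ]
    congr 1
    omega

theorem step_scalar (H : Herm F q h) (hF : Fintype.card F = q ^ 2) {a : F} {R : Submodule F V}
    (hRa : ∀ v ∈ R, A v = a • v) (hR : ND h R) (hne : R ≠ ⊥) :
    ∃ U, U ≤ R ∧ U.map A ≤ U ∧ ND h U ∧ finrank F ↥U = 1 := by
  obtain ⟨v, hv, hvv⟩ := exists_aniso H hF hR hne
  have hv0 : v ≠ 0 := fun e => hvv (by rw [e, H.zero_left])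
  refine ⟨F ∙ v, (Submodule.span_singleton_le_iff_mem _ _).2 hv, ?_, ?_, finrank_span_singleton hv0⟩
  · rw [Submodule.map_span, Set.image_singleton, Submodule.span_singleton_le_iff_mem, hRa v hv]
    exact Submodule.smul_mem _ _ (Submodule.mem_span_singleton_self v)
  · intro x hx h0
    obtain ⟨c, rfl⟩ := Submodule.mem_span_singleton.1 hx
    have h1 := h0 v (Submodule.mem_span_singleton_self v)
    rw [H.smul, mul_eq_zero] at h1
    rw [h1.resolve_right hvv, zero_smul]

/-- The cyclic subspace of a vector. -/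
def cyc (A : Module.End F V) (v : V) : Submodule F V := Submodule.span F (Set.range fun k : ℕ => (A ^ k) v)

omit [Fintype F] [FiniteDimensional F V] in
theorem mem_cyc (v : V) : v ∈ cyc A v := Submodule.subset_span ⟨0, by simp⟩

omit [Fintype F] [FiniteDimensional F V] in
theorem cyc_inv (v : V) : (cyc A v).map A ≤ cyc A v := by
  rw [cyc, Submodule.map_span, Submodule.span_le]
  rintro _ ⟨_, ⟨k, rfl⟩, rfl⟩
  exact Submodule.subset_span ⟨k + 1, by simp only; rw [pow_succ', Module.End.mul_apply]⟩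

omit [Fintype F] [FiniteDimensional F V] in
theorem cyc_le {R : Submodule F V} (hR : R.map A ≤ R) {v : V} (hv : v ∈ R) : cyc A v ≤ R := by
  rw [cyc, Submodule.span_le]
  rintro _ ⟨k, rfl⟩
  exact aeval_X (R := F) A ▸ (by simpa using aeval_mem hR (X ^ k : F[X]) hv)

omit [Fintype F] in
theorem finrank_cyc_le {v : V} {f : F[X]} (hf : f ≠ 0) (hfv : Polynomial.aeval A f v = 0) :
    finrank F ↥(cyc A v) ≤ f.natDegree := by
  classical
  set g := f * C f.leadingCoeff⁻¹ with hg
  have hgm : g.Monic := monic_mul_leadingCoeff_inv hf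
  have hgd : g.natDegree = f.natDegree := natDegree_mul_leadingCoeff_inv f hf
  have hgv : Polynomial.aeval A g v = 0 := by
    rw [hg, mul_comm, map_mul, Module.End.mul_apply, hfv, map_zero]
  let L : F[X] →ₗ[F] V := (LinearMap.applyₗ (R := F) v).comp (Polynomial.aeval A).toLinearMap
  have hle : cyc A v ≤ (Polynomial.degreeLT F g.natDegree).map L := by
    rw [cyc, Submodule.span_le]
    rintro _ ⟨k, rfl⟩
    refine ⟨X ^ k %ₘ g, ?_, ?_⟩
    · rw [SetLike.mem_coe, Polynomial.mem_degreeLT]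
      calc (X ^ k %ₘ g).degree < g.degree := degree_modByMonic_lt _ hgm
        _ = (g.natDegree : WithBot ℕ) := degree_eq_natDegree hgm.ne_zero
    · have h1 := congrArg (fun P : F[X] => Polynomial.aeval A P v) (modByMonic_add_div (X ^ k : F[X]) g)
      simp only [map_add, LinearMap.add_apply, map_pow, aeval_X] at h1
      rw [mul_comm, map_mul, Module.End.mul_apply, hgv, map_zero, add_zero] at h1
      exact h1
  refine (Submodule.finrank_mono hle).trans ((Submodule.finrank_map_le _ _).trans ?_)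
  rw [(Polynomial.degreeLTEquiv F g.natDegree).finrank_eq, Module.finrank_fin_fun, hgd]

section Order

variable {r : ℕ} [Fact r.Prime]

omit [FiniteDimensional F V] in
theorem adjoint (H : Herm F q h) (hF : Fintype.card F = q ^ 2) (hA : ∀ u v, h (A u) (A v) = h u v)
    (hAr : A ^ r = 1) (σ : F →+* F) (hσ : ∀ x, σ x = x ^ q) (P : F[X]) :
    ∀ u v, h (Polynomial.aeval A P u) v = h u (Polynomial.aeval A ((P.map σ).comp (X ^ (r - 1))) v) := by
  induction P using Polynomial.induction_on with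
  | C a =>
    intro u v
    rw [Polynomial.map_C, C_comp, aeval_C, aeval_C, Module.algebraMap_end_apply, Module.algebraMap_end_apply,
      H.smul, H.smul_right, hσ, pow_q_q hF]
  | add P P' h1 h2 =>
    intro u v
    rw [map_add, LinearMap.add_apply, H.add, h1, h2, Polynomial.map_add, add_comp, map_add, LinearMap.add_apply,
      H.add_right hF]
  | monomial k a ih =>
    intro u v
    simp only [Polynomial.map_mul, Polynomial.map_C, Polynomial.map_pow, Polynomial.map_X, mul_comp, C_comp,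
      pow_comp, X_comp] at ih ⊢
    rw [pow_succ, ← mul_assoc, map_mul, aeval_X, Module.End.mul_apply, ih]
    conv_rhs => rw [← hA]
    congr 1
    rw [pow_succ (X ^ (r - 1) : F[X]), ← mul_assoc, mul_comm _ (X ^ (r - 1) : F[X]),
      map_mul _ (X ^ (r - 1) : F[X]), map_pow _ (X : F[X]), aeval_X, Module.End.mul_apply,
      ← Module.End.mul_apply A (A ^ (r - 1)), ← pow_succ',
      Nat.sub_add_cancel (Fact.out : r.Prime).one_le, hAr, Module.End.one_apply]

omit [FiniteDimensional F V] in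
/-- An irreducible factor is its own conjugate reciprocal. -/
theorem conj_dvd (hF : Fintype.card F = q ^ 2) (σ : F →+* F) (hσ : ∀ x, σ x = x ^ q) {b : ℕ} (hb : Odd b)
    (hd : r ∣ q ^ b + 1) {μ : F[X]} (hμ : Irreducible μ) (hμd : μ ∣ X ^ r - 1) :
    μ ∣ (μ.map σ).comp (X ^ (r - 1)) := by
  have hrp : r.Prime := Fact.out
  haveI : Fact (Irreducible μ) := ⟨hμ⟩
  obtain ⟨p, k, hp, hq⟩ : ∃ p k : ℕ, CharP F p ∧ q = p ^ k := by
    obtain ⟨p, k, -, hp, -, hq⟩ := exists_prime_pow hF
    exact ⟨p, k, hp, hq⟩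
  haveI := hp
  haveI : Fact p.Prime := ⟨CharP.char_is_prime F p⟩
  haveI : CharP (AdjoinRoot μ) p := charP_of_injective_algebraMap (algebraMap F (AdjoinRoot μ)).injective p
  set a := AdjoinRoot.root μ with ha
  have har : a ^ r = 1 := by
    rw [ha, ← AdjoinRoot.mk_X, ← map_pow, ← map_one (AdjoinRoot.mk μ), AdjoinRoot.mk_eq_mk]
    exact hμd
  obtain ⟨t, ht⟩ := hb
  let Φ := iterateFrobenius (AdjoinRoot μ) p (k * b)
  have hΦ : ∀ x, Φ x = x ^ (q ^ b) := fun x => by
    rw [iterateFrobenius_def, hq, ← pow_mul]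
  have hΦc : ∀ c : F, Φ (algebraMap F _ c) = algebraMap F _ (σ c) := fun c => by
    rw [hΦ, ← map_pow, hσ, ht, pow_succ' q, pow_mul q 2, ← hF, pow_mul c q, FiniteField.pow_card_pow]
  have hΦa : Φ a = a ^ (r - 1) := by
    obtain ⟨l, hl⟩ := hd
    obtain ⟨l', rfl⟩ : ∃ l', l = l' + 1 := ⟨l - 1, by
      rcases Nat.eq_zero_or_pos l with e | e
      · simp [e] at hl
      · omega⟩
    rw [hΦ, show q ^ b = r - 1 + r * l' by rw [Nat.mul_add, Nat.mul_one] at hl; have := hrp.one_le; omega,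
      pow_add, pow_mul, har, one_pow, mul_one]
  rw [← AdjoinRoot.mk_eq_zero, ← AdjoinRoot.aeval_eq, aeval_comp, map_pow, aeval_X, ← ha]
  have h0 : Polynomial.eval₂ (algebraMap F (AdjoinRoot μ)) a μ = 0 := by
    rw [← Polynomial.aeval_def, ha, AdjoinRoot.aeval_eq, AdjoinRoot.mk_self]
  have h1 := congrArg Φ h0
  rw [map_zero, Polynomial.hom_eval₂] at h1
  rw [Polynomial.aeval_def, Polynomial.eval₂_map]
  rw [hΦa] at h1
  rwa [show Φ.comp (algebraMap F (AdjoinRoot μ)) = (algebraMap F (AdjoinRoot μ)).comp σ from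
    RingHom.ext hΦc] at h1

/-- The smallest non-degenerate invariant subspaces without fixed vectors. -/
theorem step_nd (H : Herm F q h) (hF : Fintype.card F = q ^ 2) (hA : ∀ u v, h (A u) (A v) = h u v)
    (hr : (r : F) ≠ 0) (hAr : A ^ r = 1) (hAi : Function.Injective A) {b c : ℕ}
    (hb : b = orderOf (Fintype.card F : ZMod r)) (hc : c = orderOf (-(q : ZMod r)))
    (hcase : c = 2 * b ∨ (c = b ∧ Odd b ∧ r ∣ q ^ b + 1))
    {R : Submodule F V} (hRT : R ≤ LinearMap.range (A - 1)) (hRi : R.map A ≤ R) (hR : ND h R) (hne : R ≠ ⊥) :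
    ∃ U, U ≤ R ∧ U.map A ≤ U ∧ ND h U ∧ finrank F ↥U = c := by
  classical
  have hrp : r.Prime := Fact.out
  have hbpos : 0 < b := hb ▸ orderOf_card_pos hr
  have hmin : ∀ U' ≤ R, U'.map A ≤ U' → U' ≠ ⊥ → b ≤ finrank F ↥U' := fun U' h1 h2 h3 =>
    Nat.le_of_dvd (Nat.pos_of_ne_zero fun e => h3 (Submodule.finrank_eq_zero.1 e))
      (hb ▸ dvd_finrank_of_le_range hr hAr h2 (h1.trans hRT))
  by_cases hex : ∃ U, U ≤ R ∧ U.map A ≤ U ∧ finrank F ↥U = b ∧ ¬ TI h U
  · obtain ⟨U, hU, hUi, hUd, hUT⟩ := hex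
    have hnd := nd_of_not_ti H hA hAi hUi (fun U' h1 h2 h3 => hUd.symm ▸ hmin U' (h1.trans hU) h2 h3) hUT
    have hle := le_of_nd H hF hA hr hAr (hU.trans hRT) hUi (fun e => by
      rw [e, finrank_bot] at hUd; omega) hnd
    rw [← hc, hUd] at hle
    exact ⟨U, hU, hUi, hnd, by omega⟩
  push Not at hex
  obtain ⟨U, hU, hUi, hUd⟩ := exists_simple hr hAr hRT hRi hne
  rw [← hb] at hUd
  have hUT := hex U hU hUi hUd
  have hss : A.IsSemisimple := Module.End.isSemisimple_of_squarefree_aeval_eq_zero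
    (p := (X ^ r - 1 : F[X])) (by
      rw [← C_1]; exact (separable_X_pow_sub_C 1 hr one_ne_zero).squarefree) (by simp [hAr])
  obtain ⟨Q, hQ, hQc⟩ := Module.End.isSemisimple_iff.1 hss (R ⊓ orth H U)
    ((Module.End.mem_invtSubmodule_iff_map_le A).2 (le_inf ((Submodule.map_mono inf_le_left).trans hRi)
      ((Submodule.map_mono inf_le_right).trans (orth_invariant H hA hAi hUi))))
  rw [Module.End.mem_invtSubmodule_iff_map_le] at hQ
  set U' := Q ⊓ R with hU'
  have hinf : (R ⊓ orth H U) ⊓ U' = ⊥ := eq_bot_iff.2 fun x hx =>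
    hQc.disjoint.le_bot ⟨hx.1, hx.2.1⟩
  have hsup : (R ⊓ orth H U) ⊔ U' = R := by
    rw [hU', ← sup_inf_assoc_of_le Q (inf_le_left : R ⊓ orth H U ≤ R), hQc.sup_eq_top, top_inf_eq]
  have hU'i : U'.map A ≤ U' := le_inf ((Submodule.map_mono inf_le_left).trans hQ)
    ((Submodule.map_mono inf_le_right).trans hRi)
  obtain ⟨hPn, hPd⟩ := pair_nd H hF hR hU hUT inf_le_right hinf hsup
  rcases hcase with hc2 | ⟨hcb, hbo, hbd⟩
  · exact ⟨U ⊔ U', sup_le hU inf_le_right, by rw [Submodule.map_sup]; exact sup_le_sup hUi hU'i, hPn,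
      by rw [hPd, hUd, hc2]⟩
  exfalso
  obtain ⟨σ, hσ⟩ := exists_frobHom hF
  have hX : (X ^ r - 1 : F[X]) ≠ 0 := (monic_X_pow_sub_C (1 : F) hrp.ne_zero).ne_zero
  obtain ⟨w₀, hw₀, hw₀0⟩ := (Submodule.ne_bot_iff U).1 fun e => by rw [e, finrank_bot] at hUd; omega
  obtain ⟨μ, w, hμi, hμd, hwU, hw, hμw⟩ := exists_prime_step (g := A) (T := U) (S := ⊥) hUi
    (P := (X ^ r - 1 : F[X])) (by simp [hAr]) hX hw₀ (by rwa [Submodule.mem_bot])
  rw [Submodule.mem_bot] at hμw hw
  have hμdeg : μ.natDegree ≤ b := hb ▸ natDegree_le_order hr hμi hμd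
  have hkerinv : (LinearMap.ker (Polynomial.aeval A μ)).map A ≤ LinearMap.ker (Polynomial.aeval A μ) := by
    rintro _ ⟨x, hx, rfl⟩
    rw [SetLike.mem_coe, LinearMap.mem_ker] at hx
    rw [LinearMap.mem_ker]
    have hcomm : Polynomial.aeval A μ * Polynomial.aeval A (X : F[X]) =
        Polynomial.aeval A (X : F[X]) * Polynomial.aeval A μ := by rw [← map_mul, ← map_mul, mul_comm]
    have h2 := LinearMap.congr_fun hcomm x
    rw [aeval_X, Module.End.mul_apply, Module.End.mul_apply, hx, map_zero] at h2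
    exact h2
  have hkU : ∀ u ∈ U, Polynomial.aeval A μ u = 0 := by
    have heq : U ⊓ LinearMap.ker (Polynomial.aeval A μ) = U :=
      Submodule.eq_of_le_of_finrank_le inf_le_left (by
        rw [hUd]
        exact hmin _ (inf_le_left.trans hU) (le_inf ((Submodule.map_mono inf_le_left).trans hUi)
          ((Submodule.map_mono inf_le_right).trans hkerinv))
          (fun e => hw ((Submodule.eq_bot_iff _).1 e w ⟨hwU, hμw⟩)))
    intro u hu
    rw [← heq] at hu
    exact hu.2
  have hkU' : ∀ u' ∈ U', Polynomial.aeval A μ u' = 0 := by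
    intro u' hu'
    have hm : Polynomial.aeval A μ u' ∈ U' := aeval_mem hU'i μ hu'
    refine (Submodule.eq_bot_iff _).1 hinf _ ⟨⟨(inf_le_right : U' ≤ R) hm, fun v hv => ?_⟩, hm⟩
    rw [adjoint H hF hA hAr σ hσ]
    obtain ⟨G, hG⟩ := conj_dvd (r := r) hF σ hσ hbo hbd hμi hμd
    rw [hG, mul_comm, map_mul, Module.End.mul_apply, hkU v hv, map_zero, H.zero_right hF]
  obtain ⟨v, hv, hvv⟩ := exists_aniso H hF hPn fun e => by rw [e, finrank_bot, hUd] at hPd; omega
  have hμv : Polynomial.aeval A μ v = 0 := by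
    obtain ⟨x, hx, y, hy, rfl⟩ := Submodule.mem_sup.1 hv
    rw [map_add, hkU x hx, hkU' y hy, add_zero]
  have hWR : cyc A v ≤ R := cyc_le hRi (sup_le hU inf_le_right hv)
  have hWne : cyc A v ≠ ⊥ := fun e => hvv (by
    rw [(Submodule.eq_bot_iff _).1 e v (mem_cyc v), H.zero_left])
  have hWd : finrank F ↥(cyc A v) = b := le_antisymm ((finrank_cyc_le hμi.ne_zero hμv).trans hμdeg)
    (hmin _ hWR (cyc_inv v) hWne)
  exact hvv (hex _ hWR (cyc_inv v) hWd v (mem_cyc v) v (mem_cyc v))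

/-- The step for a scalar that is not an `r`-th power. -/
theorem step_nd_nonpower (H : Herm F q h) (hF : Fintype.card F = q ^ 2) (hA : ∀ u v, h (A u) (A v) = h u v)
    (hAi : Function.Injective A) {z : F} (hz : z ≠ 0) (hAr : A ^ r = z • 1) (hnp : ∀ b : F, b ^ r ≠ z)
    {R : Submodule F V} (hRi : R.map A ≤ R) (hR : ND h R) (hne : R ≠ ⊥) :
    ∃ U, U ≤ R ∧ U.map A ≤ U ∧ ND h U ∧ finrank F ↥U = r := by
  have hrp : r.Prime := Fact.out
  obtain ⟨v, hv, hvv⟩ := exists_aniso H hF hR hne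
  have hmin : ∀ U' : Submodule F V, U'.map A ≤ U' → U' ≠ ⊥ → r ≤ finrank F ↥U' := fun U' h2 h3 =>
    Nat.le_of_dvd (Nat.pos_of_ne_zero fun e => h3 (Submodule.finrank_eq_zero.1 e))
      (dvd_finrank_of_pow_smul hrp hz hAr hnp h2)
  have hWne : cyc A v ≠ ⊥ := fun e => hvv (by
    rw [(Submodule.eq_bot_iff _).1 e v (mem_cyc v), H.zero_left])
  have hle : finrank F ↥(cyc A v) ≤ r :=
    (finrank_cyc_le (monic_X_pow_sub_C z hrp.ne_zero).ne_zero (by
      simp [hAr, Algebra.algebraMap_eq_smul_one])).trans natDegree_X_pow_sub_C.le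
  have hd : finrank F ↥(cyc A v) = r := le_antisymm hle (hmin _ (cyc_inv v) hWne)
  exact ⟨cyc A v, cyc_le hRi hv, cyc_inv v, nd_of_not_ti H hA hAi (cyc_inv v)
    (fun U' _ h2 h3 => hd.symm ▸ hmin U' h2 h3) (fun hT => hvv (hT v (mem_cyc v) v (mem_cyc v))), hd⟩

/-- An invariant non-degenerate subspace splits into its fixed and moved part. -/
theorem nd_components (H : Herm F q h) (hF : Fintype.card F = q ^ 2) (hA : ∀ u v, h (A u) (A v) = h u v)
    (hr : (r : F) ≠ 0) (hAr : A ^ r = 1) {W : Submodule F V} (hWi : W.map A ≤ W) (hW : ND h W) :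
    ND h (W ⊓ LinearMap.range (A - 1)) ∧ ND h (W ⊓ LinearMap.ker (A - 1)) ∧
      finrank F ↥W = finrank F ↥(W ⊓ LinearMap.ker (A - 1) : Submodule F V) +
        finrank F ↥(W ⊓ LinearMap.range (A - 1) : Submodule F V) := by
  have horth : ∀ u ∈ LinearMap.ker (A - 1), ∀ v ∈ LinearMap.range (A - 1), h v u = 0 := by
    rintro u hu _ ⟨w, rfl⟩
    rw [LinearMap.mem_ker, LinearMap.sub_apply, Module.End.one_apply, sub_eq_zero] at hu
    rw [LinearMap.sub_apply, Module.End.one_apply, Herm.sub_left H]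
    nth_rw 1 [← hu]
    rw [hA, sub_self]
  have hsum : ∀ v ∈ W, ∃ x ∈ W ⊓ LinearMap.ker (A - 1), ∃ y ∈ W ⊓ LinearMap.range (A - 1), x + y = v := by
    intro v hv
    set x := (r : F)⁻¹ • ∑ i ∈ Finset.range r, (A ^ i) v with hx
    have hxW : x ∈ W := W.smul_mem _ (W.sum_mem fun i _ => pow_mem hWi hv i)
    have hxK : x ∈ LinearMap.ker (A - 1) := by
      rw [LinearMap.mem_ker, hx, map_smul, ← LinearMap.sum_apply, ← Module.End.mul_apply, mul_geom_sum, hAr,
        sub_self, LinearMap.zero_apply, smul_zero]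
    refine ⟨x, ⟨hxW, hxK⟩, v - x, ⟨W.sub_mem hv hxW, ?_⟩, add_sub_cancel _ _⟩
    have hpart : ∀ i : ℕ, v - (A ^ i) v ∈ LinearMap.range (A - 1) := by
      intro i
      refine ⟨-(∑ l ∈ Finset.range i, (A ^ l)) v, ?_⟩
      rw [map_neg, ← Module.End.mul_apply, mul_geom_sum, LinearMap.sub_apply, Module.End.one_apply, neg_sub]
    have : v - x = (r : F)⁻¹ • ∑ i ∈ Finset.range r, (v - (A ^ i) v) := by
      rw [hx, Finset.sum_sub_distrib, smul_sub, Finset.sum_const, Finset.card_range, ← Nat.cast_smul_eq_nsmul F,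
        smul_smul, inv_mul_cancel₀ hr, one_smul]
    rw [this]
    exact Submodule.smul_mem _ _ (Submodule.sum_mem _ fun i _ => hpart i)
  refine ⟨fun u hu h0 => hW u hu.1 fun v hv => ?_, fun u hu h0 => hW u hu.1 fun v hv => ?_, ?_⟩
  · obtain ⟨x, hx, y, hy, rfl⟩ := hsum v hv
    rw [H.add_right hF, horth x hx.2 u hu.2, h0 y hy, add_zero]
  · obtain ⟨x, hx, y, hy, rfl⟩ := hsum v hv
    rw [H.add_right hF, h0 x hx, H.zero_comm hF (horth u hu.2 y hy.2), add_zero]
  · have h1 := Submodule.finrank_sup_add_finrank_inf_eq (W ⊓ LinearMap.ker (A - 1))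
      (W ⊓ LinearMap.range (A - 1))
    rw [((disjoint_ker_range hr hAr).mono inf_le_right inf_le_right).eq_bot, finrank_bot, add_zero] at h1
    have heq : W ⊓ LinearMap.ker (A - 1) ⊔ W ⊓ LinearMap.range (A - 1) = W := by
      refine le_antisymm (sup_le inf_le_left inf_le_left) fun v hv => ?_
      obtain ⟨x, hx, y, hy, rfl⟩ := hsum v hv
      exact Submodule.add_mem_sup hx hy
    rw [heq] at h1
    exact h1

end Order

/-! ### Unipotent isometries -/

section Unipotent

/-- The profile `k ↦ ∑ (a - k)` of a multiset of block sizes. -/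
def prof (μ : Multiset ℕ) (k : ℕ) : ℕ := (μ.map fun a => a - k).sum

theorem prof_succ (μ : Multiset ℕ) (k : ℕ) : prof μ k = prof μ (k + 1) + μ.countP (fun a => k < a) := by
  induction μ using Multiset.induction_on with
  | empty => simp [prof]
  | cons a μ ih =>
    simp only [prof, Multiset.map_cons, Multiset.sum_cons, Multiset.countP_cons] at ih ⊢
    split_ifs <;> omega

theorem eq_of_prof {μ ν : Multiset ℕ} (hμ : ∀ a ∈ μ, 0 < a) (hν : ∀ a ∈ ν, 0 < a)
    (h : ∀ k, prof μ k = prof ν k) : μ = ν := by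
  have hP : ∀ k, μ.countP (fun a => k < a) = ν.countP (fun a => k < a) := fun k => by
    have h1 := prof_succ μ k
    have h2 := prof_succ ν k
    rw [h, h] at h1
    omega
  have key : ∀ (ρ : Multiset ℕ) (a : ℕ),
      ρ.countP (fun x => a < x) + ρ.count (a + 1) = ρ.countP (fun x => a < x) + ρ.count (a + 1) ∧
      ρ.countP (fun x => a < x) = ρ.countP (fun x => a + 1 < x) + ρ.count (a + 1) := by
    intro ρ a
    refine ⟨rfl, ?_⟩
    induction ρ using Multiset.induction_on with
    | empty => simp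
    | cons x ρ ih =>
      simp only [Multiset.countP_cons, Multiset.count_cons]
      split_ifs <;> omega
  refine Multiset.ext.2 fun a => ?_
  rcases a with _ | a
  · rw [Multiset.count_eq_zero.2 (fun hm => lt_irrefl 0 (hμ 0 hm)),
      Multiset.count_eq_zero.2 (fun hm => lt_irrefl 0 (hν 0 hm))]
  · have h1 := (key μ a).2
    have h2 := (key ν a).2
    rw [hP, hP] at h1
    omega

omit [Fintype F] in
theorem finrank_map_sup {C R : Submodule F V} {N : Module.End F V} (hC : C.map N ≤ C) (hR : R.map N ≤ R)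
    (hdis : C ⊓ R = ⊥) : finrank F ↥((C ⊔ R).map N) = finrank F ↥(C.map N) + finrank F ↥(R.map N) := by
  have h1 := Submodule.finrank_sup_add_finrank_inf_eq (C.map N) (R.map N)
  rw [eq_bot_iff.2 ((inf_le_inf hC hR).trans hdis.le), finrank_bot, add_zero] at h1
  rw [Submodule.map_sup, h1]

omit [Fintype F] [FiniteDimensional F V] in
theorem map_pow_le {R : Submodule F V} {N : Module.End F V} (hR : R.map N ≤ R) (k : ℕ) :
    R.map (N ^ k) ≤ R := by
  rintro _ ⟨v, hv, rfl⟩
  exact pow_mem hR hv k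

omit [Fintype F] [FiniteDimensional F V] in
theorem map_sub_one_le {R : Submodule F V} (hR : R.map A ≤ R) : R.map (A - 1) ≤ R := by
  rintro _ ⟨v, hv, rfl⟩
  exact R.sub_mem (map_le_iff'.1 hR _ hv) hv

omit [FiniteDimensional F V] in
/-- The pairing of powers of `A - 1`. -/
theorem pow_pairing (H : Herm F q h) (hF : Fintype.card F = q ^ 2) (hA : ∀ u v, h (A u) (A v) = h u v)
    {R : Submodule F V} (hRi : R.map A ≤ R) {e : ℕ} (he : ∀ v ∈ R, ((A - 1) ^ e) v = 0) :
    (∀ j i, e ≤ i + j → ∀ a ∈ R, ∀ b ∈ R, h (((A - 1) ^ i) a) (((A - 1) ^ j) b) = 0) ∧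
      ∀ j i, i + j + 1 = e → ∀ a ∈ R, ∀ b ∈ R,
        h (((A - 1) ^ i) a) (((A - 1) ^ j) b) = (-1) ^ j * h (((A - 1) ^ (e - 1)) a) b := by
  have hstep : ∀ x w, h x ((A - 1) w) = - h ((A - 1) x) (A w) := by
    intro x w
    rw [LinearMap.sub_apply, LinearMap.sub_apply, Module.End.one_apply, Module.End.one_apply,
      Herm.sub_right H hF, Herm.sub_left H, hA]
    ring
  have hcomm : ∀ (j : ℕ) b, A (((A - 1) ^ j) b) = ((A - 1) ^ j) (A b) := by
    intro j b
    have hc : Commute A ((A - 1) ^ j) := ((Commute.refl A).sub_right (Commute.one_right A)).pow_right j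
    exact LinearMap.congr_fun hc b
  have hshift : ∀ (j i : ℕ) (a b : V), h (((A - 1) ^ i) a) (((A - 1) ^ (j + 1)) b) =
      - h (((A - 1) ^ (i + 1)) a) (((A - 1) ^ j) (A b)) := by
    intro j i a b
    rw [pow_succ' (A - 1) j, Module.End.mul_apply, hstep, hcomm, ← Module.End.mul_apply, ← pow_succ']
  have hvan : ∀ j i, e ≤ i + j → ∀ a ∈ R, ∀ b ∈ R, h (((A - 1) ^ i) a) (((A - 1) ^ j) b) = 0 := by
    intro j
    induction j with
    | zero =>
      intro i hi a ha b _
      obtain ⟨l, rfl⟩ : ∃ l, i = l + e := ⟨i - e, by omega⟩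
      rw [pow_add, Module.End.mul_apply, he a ha, map_zero, H.zero_left]
    | succ j ih =>
      intro i hi a ha b hb
      rw [hshift, ih (i + 1) (by omega) a ha (A b) (map_le_iff'.1 hRi _ hb), neg_zero]
  refine ⟨hvan, fun j => ?_⟩
  induction j with
  | zero =>
    intro i hi a ha b _
    rw [show e - 1 = i by omega]
    simp
  | succ j ih =>
    intro i hi a ha b hb
    have h1 := ih (i + 1) (by omega) a ha (A b) (map_le_iff'.1 hRi _ hb)
    have h2 := hvan 1 (e - 1) (by omega) a ha b hb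
    rw [pow_one, LinearMap.sub_apply, Module.End.one_apply, Herm.sub_right H hF, sub_eq_zero] at h2
    rw [hshift, h1, h2, pow_succ]
    ring

/-- Orthogonal decomposition of a unipotent isometry into single Jordan blocks. -/
theorem exists_jordan (H : Herm F q h) (hF : Fintype.card F = q ^ 2) (hA : ∀ u v, h (A u) (A v) = h u v)
    (hAi : Function.Injective A) {p : ℕ} (hN : (A - 1) ^ p = 0) :
    ∀ R : Submodule F V, R.map A ≤ R → ND h R → ∃ μ : Multiset ℕ, (∀ a ∈ μ, 0 < a ∧ a ≤ p) ∧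
      (∀ k, finrank F ↥(R.map ((A - 1) ^ k)) = prof μ k) ∧
      ∀ ν ≤ μ, ∃ W, W ≤ R ∧ W.map A ≤ W ∧ ND h W ∧ finrank F ↥W = ν.sum := by
  classical
  suffices hkey : ∀ d, ∀ R : Submodule F V, finrank F ↥R ≤ d → R.map A ≤ R → ND h R →
      ∃ μ : Multiset ℕ, (∀ a ∈ μ, 0 < a ∧ a ≤ p) ∧
      (∀ k, finrank F ↥(R.map ((A - 1) ^ k)) = prof μ k) ∧
      ∀ ν ≤ μ, ∃ W, W ≤ R ∧ W.map A ≤ W ∧ ND h W ∧ finrank F ↥W = ν.sum from
    fun R => hkey _ R le_rfl
  intro d
  induction d with
  | zero =>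
    intro R hd _ _
    obtain rfl : R = ⊥ := Submodule.finrank_eq_zero.1 (by omega)
    refine ⟨0, by simp, fun k => by simp [prof], fun ν hν => ?_⟩
    rw [Multiset.le_zero.1 hν]
    exact ⟨⊥, le_rfl, by simp, fun u hu _ => (Submodule.mem_bot F).1 hu, by simp⟩
  | succ d ih =>
    intro R hd hRi hR
    by_cases hne : R = ⊥
    · exact ih R (by rw [hne]; simp) hRi hR
    set N := A - 1 with hNdef
    have hex : ∃ e, ∀ v ∈ R, (N ^ e) v = 0 := ⟨p, fun v _ => by rw [hN]; rfl⟩
    set e := Nat.find hex with hedef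
    have he : ∀ v ∈ R, (N ^ e) v = 0 := Nat.find_spec hex
    have hep : e ≤ p := Nat.find_min' hex fun v _ => by rw [hN]; rfl
    have he0 : 0 < e := Nat.pos_of_ne_zero fun e0 => hne ((Submodule.eq_bot_iff _).2 fun v hv => by
      have := he v hv; rwa [e0, pow_zero, Module.End.one_apply] at this)
    obtain ⟨hvan, hval⟩ := pow_pairing H hF hA hRi he
    obtain ⟨v, hv, hvv⟩ : ∃ v ∈ R, h ((N ^ (e - 1)) v) v ≠ 0 := by
      by_contra hcon
      push Not at hcon
      refine Nat.find_min hex (show e - 1 < e by omega) fun u hu => ?_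
      exact hR _ (map_pow_le (map_sub_one_le hRi) _ ⟨u, hu, rfl⟩) fun w hw =>
        eq_zero_of_diag H hF hcon u hu w hw
    set f : Fin e → V := fun i => (N ^ (i : ℕ)) v with hf
    set C := Submodule.span F (Set.range f) with hC
    have hcoef : ∀ c : Fin e → F, (∀ j : Fin e, h (∑ i, c i • f i) (f j) = 0) → c = 0 := by
      intro c hc
      by_contra hc0
      obtain ⟨i₀, hi₀, hmin⟩ := Finset.exists_min_image (Finset.univ.filter fun i => c i ≠ 0)
        (fun i : Fin e => (i : ℕ)) (by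
          obtain ⟨i, hi⟩ := Function.ne_iff.1 hc0
          exact ⟨i, by simpa using hi⟩)
      rw [Finset.mem_filter] at hi₀
      have h1 := hc ⟨e - 1 - i₀, by omega⟩
      have hsum : ∀ s : Finset (Fin e), h (∑ i ∈ s, c i • f i) (f ⟨e - 1 - i₀, by omega⟩) =
          ∑ i ∈ s, c i * h (f i) (f ⟨e - 1 - i₀, by omega⟩) := by
        intro s
        induction s using Finset.induction_on with
        | empty => simp [H.zero_left]
        | insert a s ha ih' => rw [Finset.sum_insert ha, Finset.sum_insert ha, H.add, H.smul, ih']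
      rw [hsum, Finset.sum_eq_single i₀] at h1
      · have h2 := hval (e - 1 - i₀) i₀ (by omega) v hv v hv
        simp only [hf] at h1
        rw [h2, mul_eq_zero, mul_eq_zero] at h1
        rcases h1 with h1 | h1 | h1
        · exact hi₀.2 h1
        · exact pow_ne_zero _ (neg_ne_zero.2 one_ne_zero) h1
        · exact hvv h1
      · intro i _ hi
        by_cases hci : c i = 0
        · rw [hci, zero_mul]
        · have hlt : (i₀ : ℕ) < i := lt_of_le_of_ne (hmin i (by simpa using hci))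
            (fun e' => hi (Fin.ext e'.symm))
          simp only [hf]
          rw [hvan (e - 1 - i₀) i (by omega) v hv v hv, mul_zero]
      · intro hni; exact absurd (Finset.mem_univ i₀) hni
    have hli : LinearIndependent F f := Fintype.linearIndependent_iff.2 fun c hc i => by
      rw [hcoef c fun j => by rw [hc, H.zero_left]]; rfl
    have hCd : finrank F ↥C = e := by rw [hC, finrank_span_eq_card hli, Fintype.card_fin]
    have hCR : C ≤ R := by
      rw [hC, Submodule.span_le]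
      rintro _ ⟨i, rfl⟩
      exact pow_mem (map_sub_one_le hRi) hv _
    have hCi : C.map A ≤ C := by
      rw [hC, Submodule.map_span, Submodule.span_le]
      rintro _ ⟨_, ⟨i, rfl⟩, rfl⟩
      have hAf : A (f i) = f i + (N ^ ((i : ℕ) + 1)) v := by
        rw [pow_succ', Module.End.mul_apply, hNdef, LinearMap.sub_apply, Module.End.one_apply]
        show A (f i) = f i + (A (f i) - f i)
        abel
      rw [SetLike.mem_coe, hAf]
      refine Submodule.add_mem _ (Submodule.subset_span ⟨i, rfl⟩) ?_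
      by_cases hlt : (i : ℕ) + 1 < e
      · exact Submodule.subset_span ⟨⟨i + 1, hlt⟩, rfl⟩
      · rw [show (i : ℕ) + 1 = e by omega, he v hv]
        exact Submodule.zero_mem _
    have hCn : ND h C := by
      intro x hx h0
      rw [hC, Submodule.mem_span_range_iff_exists_fun] at hx
      obtain ⟨c, rfl⟩ := hx
      rw [hcoef c fun j => h0 _ (Submodule.subset_span ⟨j, rfl⟩)]
      simp
    obtain ⟨hR', hsup, hbot⟩ := split H hF hR hCR hCn
    have hR'i : (R ⊓ orth H C).map A ≤ R ⊓ orth H C :=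
      le_inf ((Submodule.map_mono inf_le_left).trans hRi)
        ((Submodule.map_mono inf_le_right).trans (orth_invariant H hA hAi hCi))
    have h1 := Submodule.finrank_sup_add_finrank_inf_eq C (R ⊓ orth H C)
    rw [hsup, hbot, finrank_bot, hCd, add_zero] at h1
    obtain ⟨μ, hμ, hμk, hμW⟩ := ih (R ⊓ orth H C) (by omega) hR'i hR'
    refine ⟨e ::ₘ μ, fun a ha => ?_, fun k => ?_, fun ν hν => ?_⟩
    · rcases Multiset.mem_cons.1 ha with rfl | ha
      exacts [⟨he0, hep⟩, hμ a ha]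
    · have hk := finrank_map_sup (N := N ^ k) (map_pow_le (map_sub_one_le hCi) k)
        (map_pow_le (map_sub_one_le hR'i) k) hbot
      rw [hsup, hμk] at hk
      rw [hk]
      simp only [prof, Multiset.map_cons, Multiset.sum_cons]
      congr 1
      have hspan : C.map (N ^ k) = Submodule.span F (Set.range fun i : Fin (e - k) => (N ^ ((i : ℕ) + k)) v) := by
        rw [hC, Submodule.map_span]
        refine le_antisymm (Submodule.span_le.2 ?_) (Submodule.span_le.2 ?_)
        · rintro _ ⟨_, ⟨i, rfl⟩, rfl⟩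
          rw [SetLike.mem_coe, hf]
          simp only
          rw [← Module.End.mul_apply, ← pow_add, add_comm]
          by_cases hlt : (i : ℕ) < e - k
          · exact Submodule.subset_span ⟨⟨i, hlt⟩, rfl⟩
          · obtain ⟨l, hl⟩ : ∃ l, (i : ℕ) + k = l + e := ⟨i + k - e, by omega⟩
            rw [hl, pow_add, Module.End.mul_apply, he v hv, map_zero]
            exact Submodule.zero_mem _
        · rintro _ ⟨i, rfl⟩
          refine Submodule.subset_span ⟨f ⟨i, by omega⟩, ⟨_, rfl⟩, ?_⟩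
          simp only [hf]
          rw [← Module.End.mul_apply, ← pow_add, add_comm]
      have hli' : LinearIndependent F (fun i : Fin (e - k) => (N ^ ((i : ℕ) + k)) v) :=
        hli.comp (fun i : Fin (e - k) => (⟨i + k, by omega⟩ : Fin e)) fun i j hij => by
          simp only [Fin.mk.injEq] at hij; exact Fin.ext (by omega)
      rw [hspan, finrank_span_eq_card hli', Fintype.card_fin]
    · by_cases hmem : e ∈ ν
      · obtain ⟨ν', rfl⟩ := Multiset.exists_cons_of_mem hmem
        obtain ⟨W, hW, hWi, hWn, hWd⟩ := hμW ν' ((Multiset.cons_le_cons_iff e).1 hν)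
        obtain ⟨hn, hdim⟩ := nd_sup H hF hCn hWn fun u hu w hw => H.zero_comm hF ((hW hw).2 u hu)
        exact ⟨C ⊔ W, sup_le hCR (hW.trans inf_le_left),
          by rw [Submodule.map_sup]; exact sup_le_sup hCi hWi, hn,
          by rw [hdim, hCd, hWd, Multiset.sum_cons]⟩
      · obtain ⟨W, hW, hWi, hWn, hWd⟩ := hμW ν ((Multiset.le_cons_of_notMem hmem).1 hν)
        exact ⟨W, hW.trans inf_le_left, hWi, hWn, hWd⟩

theorem prof_zero (μ : Multiset ℕ) : prof μ 0 = μ.sum := by simp [prof]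

end Unipotent

end Cfsg.Agent.UnitaryNDInvariant84
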