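import Mathlib
import Cfsg.Agent.Lib.UnitarySubfieldRoot
import Cfsg.Agent.Lib.OrthSubfieldMax44
import Cfsg.Agent.Lib.RatLines44

/-!
An overgroup of the rational root elements of an orthogonal subfield structure of a unitary space
which does not preserve the rational lines contains every unitary transvection.
-/

set_option autoImplicit false
set_option linter.unusedSectionVars false

namespace Cfsg.Agent.UnitaryOrthSub44

open QuadraticMap Module
open Cfsg.Agent.OrthUnitaryQuad (polar_self_mul)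
open Cfsg.Agent.TransvectionMax (gl_ext mul_act one_act act_inv_act inv_act_act act_injective)
open Cfsg.Agent.TransvectionUnitary (skew_zero sigma_f sigma_sigma)
open Cfsg.Agent.SubfieldRational (rat rat_add rat_smul rat_zero rat_sub rat_eq_zero)
open Cfsg.Agent.UnitarySubfieldRoot
open Cfsg.Agent.OrthSubfieldCore44 (exists_sing_avoid exists_partner_perp exists_three)
open scoped MatrixGroups Matrix

variable {ι : Type} [Fintype ι] [DecidableEq ι] {F : Type*} [Field F] [Fintype F] {F₀ : Subfield F}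

/-- An orthogonal subfield structure of a unitary space and an overgroup of its root elements. -/
structure UData (σ : F ≃+* F) (f : (ι → F) → (ι → F) → F) (P : GL ι F)
    (q : QuadraticForm F₀ (ι → F₀)) (M : Subgroup (GL ι F)) : Prop where
  hf : Cfsg.Geo.IsUnitaryForm σ f
  hn : 13 ≤ Fintype.card ι
  two : (2 : F) ≠ 0
  fix : ∀ x : F, σ x = x ↔ x ∈ F₀
  fin2 : finrank F₀ F = 2
  hpol : ∀ u v, f (rat P u) (rat P v) = ((polar q u v : F₀) : F)
  iso : ∀ g ∈ M, TransvectionUnitaryGen.Iso f g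
  hrat : ∀ a x, q a = 0 → polar q a x = 0 → InE f M (rat P a) (rat P x) (-(q x : F))

variable {σ : F ≃+* F} {f : (ι → F) → (ι → F) → F} {P : GL ι F} {q : QuadraticForm F₀ (ι → F₀)}
  {M : Subgroup (GL ι F)}

/-- Some root element at `a` with direction `w` lies in `M`. -/
def E (f : (ι → F) → (ι → F) → F) (P : GL ι F) (M : Subgroup (GL ι F)) (a : ι → F₀) (w : ι → F) :
    Prop :=
  f w (rat P a) = 0 ∧ ∃ s, InE f M (rat P a) w s

/-- All directions `l` times rational at `a`. -/
def Good (f : (ι → F) → (ι → F) → F) (P : GL ι F) (q : QuadraticForm F₀ (ι → F₀))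
    (M : Subgroup (GL ι F)) (a : ι → F₀) (l : F) : Prop :=
  ∀ y, polar q a y = 0 → E f P M a (l • rat P y)

variable (X : UData σ f P q M)
include X

theorem fin : 13 ≤ finrank F₀ (ι → F₀) := by rw [Module.finrank_pi]; exact X.hn

theorem sing {a : ι → F₀} (ha : q a = 0) : f (rat P a) (rat P a) = 0 := by
  rw [X.hpol, polar_self_mul, ha, mul_zero]; rfl

theorem orth {a b : ι → F₀} (h : polar q a b = 0) : f (rat P a) (rat P b) = 0 := by
  rw [X.hpol, h]; rfl

theorem orth' {a b : ι → F₀} (h : polar q a b = 0) : f (rat P b) (rat P a) = 0 :=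
  skew_zero X.hf (orth X h)

theorem eq_of_f {v v' : ι → F} (h : ∀ u : ι → F₀, f (rat P u) v = f (rat P u) v') : v = v' := by
  by_contra hne
  obtain ⟨x, hx⟩ := (X.hf.nondegenerate (v - v') (sub_ne_zero.2 hne)).1
  refine hx (SubfieldRational.eq_zero_of_rat P (TransvectionUnitary.uLeft X.hf (v - v'))
    (fun (u : ι → F₀) => ?_) x)
  show f (rat P u) (v - v') = 0
  rw [TransvectionUnitary.sub_right X.hf, h, sub_self]

theorem nd : (polarBilin q).Nondegenerate := by
  have h1 : ∀ x, (∀ y, polar q y x = 0) → x = 0 := fun x hx => rat_eq_zero P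
    (eq_of_f X fun y => by rw [orth X (hx y), TransvectionUnitary.zero_right X.hf])
  exact ⟨fun x hx => h1 x fun y => by rw [polar_comm]; exact hx y, fun x hx => h1 x hx⟩

/-- A vector pairing rationally with the rational vectors is rational. -/
theorem exists_of_val {v : ι → F} (h : ∀ u : ι → F₀, f (rat P u) v ∈ F₀) : ∃ v₀ : ι → F₀, v = rat P v₀ := by
  let φ : (ι → F₀) →ₗ[F₀] F₀ :=
    { toFun := fun u => ⟨f (rat P u) v, h u⟩
      map_add' := fun x y => Subtype.ext (by
        show f (rat P (x + y)) v = f (rat P x) v + f (rat P y) v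
        rw [rat_add, X.hf.add_left])
      map_smul' := fun c x => Subtype.ext (by
        show f (rat P (c • x)) v = (c : F) * f (rat P x) v
        rw [rat_smul, X.hf.smul_left]) }
  obtain ⟨v₀, hv₀⟩ := (LinearMap.BilinForm.toDual (polarBilin q) (nd X)).surjective φ
  refine ⟨v₀, eq_of_f X fun u => ?_⟩
  have := congrArg (fun L => ((L u : F₀) : F)) hv₀
  simp only [LinearMap.BilinForm.toDual_def, polarBilin_apply_apply] at this
  rw [X.hpol, polar_comm q u v₀, this]
  rfl

theorem decomp {l : F} (hl : l ∉ F₀) (c : F) : ∃ r t : F₀, c = r + t * l := by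
  have hd : l - σ l ≠ 0 := fun h => hl ((X.fix l).1 (sub_eq_zero.1 h).symm)
  have ht : (c - σ c) / (l - σ l) ∈ F₀ := (X.fix _).1 (by
    rw [map_div₀, map_sub, map_sub, sigma_sigma X.hf, sigma_sigma X.hf, ← neg_sub c, ← neg_sub l,
      neg_div_neg_eq])
  have hr : c - (c - σ c) / (l - σ l) * l ∈ F₀ := (X.fix _).1 (by
    rw [map_sub, map_mul, (X.fix _).2 ht]
    field_simp
    ring)
  exact ⟨⟨_, hr⟩, ⟨_, ht⟩, by simp⟩

theorem E_add {a : ι → F₀} (ha : q a = 0) {w w' : ι → F} (h : E f P M a w) (h' : E f P M a w') :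
    E f P M a (w + w') := by
  obtain ⟨hw, s, hs⟩ := h
  obtain ⟨hw', s', hs'⟩ := h'
  exact ⟨by rw [X.hf.add_left, hw, hw', add_zero], _, inE_add X.hf (sing X ha) hw hw' hs hs'⟩

theorem E_neg {a : ι → F₀} (ha : q a = 0) {w : ι → F} (h : E f P M a w) : E f P M a (-w) := by
  obtain ⟨hw, s, hs⟩ := h
  exact ⟨by rw [TransvectionUnitary.neg_left X.hf, hw, neg_zero], _,
    inE_neg X.hf (sing X ha) hw hs⟩

theorem E_sub {a : ι → F₀} (ha : q a = 0) {w w' : ι → F} (h : E f P M a w) (h' : E f P M a w') :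
    E f P M a (w - w') := by
  rw [sub_eq_add_neg]; exact E_add X ha h (E_neg X ha h')

theorem E_self {a : ι → F₀} (ha : q a = 0) (κ : F) : E f P M a (κ • rat P a) := by
  refine ⟨by rw [X.hf.smul_left, sing X ha, mul_zero], σ κ - κ, 1, M.one_mem, fun x => ?_⟩
  rw [one_act, TransvectionUnitary.smul_right X.hf]
  module

theorem E_zero {a : ι → F₀} (ha : q a = 0) : E f P M a 0 := by
  simpa using E_self X ha 0

theorem E_rat {a x : ι → F₀} (ha : q a = 0) (hx : polar q a x = 0) : E f P M a (rat P x) :=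
  ⟨orth' X hx, _, X.hrat a x ha hx⟩

theorem E_conj {a : ι → F₀} {g : GL ι F} (hg : g ∈ M)
    (hga : (g : Matrix ι ι F) *ᵥ rat P a = rat P a) {w : ι → F} (h : E f P M a w) :
    E f P M a ((g : Matrix ι ι F) *ᵥ w) := by
  obtain ⟨hw, s, hs⟩ := h
  have h1 := inE_conj X.hf (X.iso g hg) hg hs
  rw [hga] at h1
  refine ⟨?_, s, h1⟩
  conv_lhs => rw [← hga]
  rw [X.iso g hg, hw]

/-- Transfer along a rational root element fixing the centre. -/
theorem E_transfer {a u x : ι → F₀} (ha : q a = 0) (hu : q u = 0) (hx : q x = 0)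
    (hux : polar q u x = 0) (hau : polar q a u = 0) (hax : polar q a x = 0) {w : ι → F}
    (h : E f P M a w) :
    E f P M a (f w (rat P u) • rat P x - f w (rat P x) • rat P u) := by
  obtain ⟨g, hg, hgx⟩ := X.hrat u x hu hux
  have h1 := E_sub X ha (E_conj X hg (by
    rw [hgx, orth X hau, orth X hax]; simp) h) h
  rw [hgx, hx] at h1
  convert h1 using 1
  simp only [ZeroMemClass.coe_zero, neg_zero, zero_mul, zero_smul, add_zero]
  module

/-- From one direction to all. -/
theorem good_of_one {a x : ι → F₀} (ha : q a = 0) (hx : q x = 0) (hax : polar q a x = 0)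
    (hxa : x ∉ Submodule.span F₀ {a}) {l : F} (h : E f P M a (l • rat P x)) : Good f P q M a l := by
  have hq := nd X
  have hfin := fin X
  have move : ∀ x, q x = 0 → polar q a x = 0 → x ∉ Submodule.span F₀ {a} →
      E f P M a (l • rat P x) → ∀ y, q y = 0 → polar q a y = 0 → polar q x y = 0 →
      y ∉ Submodule.span F₀ {a, x} → E f P M a (l • rat P y) := by
    intro x hx hax hxa h y hy hay hxy hyax
    have hxay : x ∉ Submodule.span F₀ (Set.range ![a, y]) := by
      intro hmem
      rw [show Set.range ![a, y] = {a, y} by simp [Set.pair_comm], Submodule.mem_span_pair] at hmem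
      obtain ⟨s, t, hst⟩ := hmem
      by_cases ht : t = 0
      · exact hxa (Submodule.mem_span_singleton.2 ⟨s, by rw [← hst, ht, zero_smul, add_zero]⟩)
      · refine hyax (Submodule.mem_span_pair.2 ⟨-(t⁻¹ * s), t⁻¹, ?_⟩)
        rw [← hst, smul_add, smul_smul, inv_smul_smul₀ ht]; module
    obtain ⟨u, hu, hxu, hup⟩ := exists_partner_perp q hq ![a, y] hx hxay (fun i => by
      fin_cases i
      · exact hax
      · simpa [polar_comm] using hxy)
    have h2 := E_transfer X ha hu hy (by rw [polar_comm]; exact hup 1) (hup 0) hay h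
    simp only [X.hf.smul_left, orth X hxy, X.hpol x u, hxu] at h2
    simpa using h2
  have hsing : ∀ y, q y = 0 → polar q a y = 0 → E f P M a (l • rat P y) := by
    intro y hy hay
    by_cases hya : y ∈ Submodule.span F₀ {a}
    · obtain ⟨s, rfl⟩ := Submodule.mem_span_singleton.1 hya
      rw [rat_smul, smul_smul]
      exact E_self X ha _
    obtain ⟨x', hx', hxp, hxs⟩ := exists_sing_avoid q ![a, x, y] (by omega)
    have hsub : ∀ {s : Set (ι → F₀)}, s ⊆ Set.range ![a, x, y] → x' ∉ Submodule.span F₀ s :=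
      fun hs h => hxs (Submodule.span_mono hs h)
    have h1 : E f P M a (l • rat P x') :=
      move x hx hax hxa h x' hx' (hxp 0) (hxp 1) (hsub (by simp [Set.insert_subset_iff]))
    refine move x' hx' (hxp 0) (hsub (by simp)) h1 y hy hay ?_ ?_
    · rw [polar_comm]; exact hxp 2
    · intro hmem
      obtain ⟨s, t, hst⟩ := Submodule.mem_span_pair.1 hmem
      by_cases ht : t = 0
      · exact hya (Submodule.mem_span_singleton.2 ⟨s, by rw [← hst, ht, zero_smul, add_zero]⟩)
      · refine hsub (s := {a, y}) (by simp [Set.insert_subset_iff])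
          (Submodule.mem_span_pair.2 ⟨-(t⁻¹ * s), t⁻¹, ?_⟩)
        rw [← hst, smul_add, smul_smul, inv_smul_smul₀ ht]; module
  intro y hy
  obtain ⟨b₁, b₂, b₃, rfl, h1, h2, h3⟩ := exists_three q hq ![a] (v := y) (by omega)
    (fun i => by fin_cases i; exact hy)
  rw [rat_add, rat_add, smul_add, smul_add]
  exact E_add X ha (E_add X ha (hsing b₁ h1.1 (h1.2 0)) (hsing b₂ h2.1 (h2.2 0)))
    (hsing b₃ h3.1 (h3.2 0))

/-- An irrational multiplier gives the transvections. -/
theorem tg_of_good {a : ι → F₀} (ha : q a = 0) {l : F} (hl : l ∉ F₀) (hg : Good f P q M a l)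
    {c : F} (hc : σ c = -c) : Tg σ f (rat P a) c ∈ M := by
  have hfin := fin X
  obtain ⟨x, hx, hxp, hxs⟩ := exists_sing_avoid q ![a] (by omega)
  obtain ⟨x', hx', hxx, hx'p⟩ := exists_partner_perp q (nd X) ![a] hx hxs hxp
  have hd : l - σ l ≠ 0 := fun h => hl ((X.fix l).1 (sub_eq_zero.1 h).symm)
  have ht : c / (l - σ l) ∈ F₀ := (X.fix _).1 (by
    rw [map_div₀, hc, map_sub, sigma_sigma X.hf, ← neg_sub l, neg_div_neg_eq])
  obtain ⟨hw, s, hs⟩ := hg x (hxp 0)
  obtain ⟨hw', s', hs'⟩ := E_rat X ha (x := (⟨_, ht⟩ : F₀) • x')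
    (by rw [polar_smul_right, show polar q a x' = 0 from hx'p 0, smul_zero])
  have h := inE_comm X.hf (sing X ha) hw hw' hs hs'
  convert h using 2
  rw [rat_smul, X.hf.smul_left, X.hf.smul_left, TransvectionUnitary.smul_right X.hf,
    TransvectionUnitary.smul_right X.hf, X.hpol, X.hpol, polar_comm q x' x, hxx, (X.fix _).2 ht]
  simp only [OneMemClass.coe_one, mul_one]
  rw [mul_comm (c / (l - σ l)) (σ l), ← sub_mul, mul_div_cancel₀ _ hd]

theorem trace {a : ι → F₀} (ha : q a = 0) (ha0 : a ≠ 0) {g : GL ι F} (hg : g ∈ M) {w : ι → F}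
    {s : F} (hw : f w (rat P a) = 0) (hE : EAct f g (rat P a) w s) : f w w + s + σ s = 0 := by
  obtain ⟨r, hr, har, -⟩ := exists_partner_perp q (nd X) (fun i : Fin 0 => i.elim0) ha
    (by simpa [Set.range_eq_empty] using ha0) (fun i => i.elim0)
  exact hE.trace X.hf (X.iso g hg) (sing X ha) (sing X hr)
    (by rw [X.hpol, polar_comm, har]; rfl) hw

/-- From one centre to an orthogonal one. -/
theorem good_move {a b : ι → F₀} (ha : q a = 0) (ha0 : a ≠ 0) (hb : q b = 0)
    (hab : polar q a b = 0) (hab' : a ∉ Submodule.span F₀ {b}) {l : F} (hl : l ∉ F₀)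
    (hg : Good f P q M a l) : ∃ l', l' ∉ F₀ ∧ Good f P q M b l' := by
  refine ⟨-σ l, fun h => hl ?_, good_of_one X hb ha (by rw [polar_comm, hab]) hab' ?_⟩
  · have h1 : σ l ∈ F₀ := by simpa using F₀.neg_mem h
    have h2 := (X.fix _).2 h1
    rw [sigma_sigma X.hf] at h2
    rw [h2]; exact h1
  obtain ⟨hw, s, g, hgM, hgx⟩ := hg b hab
  have htr := trace X ha ha0 hgM hw hgx
  rw [X.hf.smul_left, TransvectionUnitary.smul_right X.hf, sing X hb, mul_zero, mul_zero,
    zero_add] at htr
  have h0 := inE_shift X.hf (sing X ha) hw ⟨g, hgM, hgx⟩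
    (c := -s) (tg_of_good X ha hl hg (by rw [map_neg]; linear_combination -htr))
  rw [add_neg_cancel] at h0
  obtain ⟨g', hg'M, hg'x⟩ := h0
  refine ⟨by rw [X.hf.smul_left, orth X hab, mul_zero], 0, g', hg'M, fun x => ?_⟩
  rw [hg'x, TransvectionUnitary.smul_right X.hf, TransvectionUnitary.smul_right X.hf, map_neg,
    sigma_sigma X.hf]
  module

/-- An irrational direction gives an irrational multiplier at every centre. -/
theorem exists_good {a : ι → F₀} {w : ι → F} (ha : q a = 0) (ha0 : a ≠ 0) (h : E f P M a w)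
    (hirr : ∀ (v : ι → F₀) (κ : F), w ≠ rat P v + κ • rat P a) {b : ι → F₀} (hb : q b = 0)
    (hb0 : b ≠ 0) : ∃ l, l ∉ F₀ ∧ Good f P q M b l := by
  have hq := nd X
  have hfin := fin X
  obtain ⟨r, hr, har, -⟩ := exists_partner_perp q hq (fun i : Fin 0 => i.elim0) ha
    (by simpa [Set.range_eq_empty] using ha0) (fun i => i.elim0)
  set w' := w - f w (rat P r) • rat P a with hw'
  have hS : E f P M a w' := E_sub X ha h (E_self X ha _)
  have hrw : f w' (rat P r) = 0 := by
    rw [hw', TransvectionUnitary.sub_left X.hf, X.hf.smul_left, X.hpol, har]; simp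
  have haw : f w' (rat P a) = 0 := hS.1
  obtain ⟨u, hu, hau, hru, hl⟩ : ∃ u, q u = 0 ∧ polar q a u = 0 ∧ polar q r u = 0 ∧
      f w' (rat P u) ∉ F₀ := by
    by_contra hno
    push Not at hno
    have hall : ∀ x : ι → F₀, f (rat P x) w' ∈ F₀ := by
      intro x
      obtain ⟨b₁, b₂, b₃, hx, h1, h2, h3⟩ := exists_three q hq ![a, r]
        (v := x + (-(polar q r x)) • a + (-(polar q a x)) • r) (by omega) (fun i => by
          fin_cases i <;>
            simp [polar_add_right, polar_smul_right, polar_self_mul, ha, hr, har, polar_comm q r a])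
      have hjx : f (rat P x) w' =
          f (rat P (x + (-(polar q r x)) • a + (-(polar q a x)) • r)) w' := by
        rw [rat_add, rat_add, rat_smul, rat_smul, X.hf.add_left, X.hf.add_left, X.hf.smul_left,
          X.hf.smul_left, skew_zero X.hf haw, skew_zero X.hf hrw]
        simp
      have hb' : ∀ b, q b = 0 → polar q a b = 0 → polar q r b = 0 → f (rat P b) w' ∈ F₀ :=
        fun b h1 h2 h3 => by
          have h4 := hno b h1 h2 h3
          rw [← sigma_f X.hf w' (rat P b), (X.fix _).2 h4]; exact h4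
      rw [hjx, hx, rat_add, rat_add, X.hf.add_left, X.hf.add_left]
      exact F₀.add_mem (F₀.add_mem (hb' b₁ h1.1 (h1.2 0) (h1.2 1)) (hb' b₂ h2.1 (h2.2 0) (h2.2 1)))
        (hb' b₃ h3.1 (h3.2 0) (h3.2 1))
    obtain ⟨v, hv⟩ := exists_of_val X hall
    exact hirr v (f w (rat P r)) (by rw [← hv, hw']; module)
  set l := f w' (rat P u) with hl'
  obtain ⟨x, hx, hxp, hxs⟩ := exists_sing_avoid q ![a, r, u] (by omega)
  have hS1 := E_transfer X ha hu hx (hxp 2) hau (hxp 0) hS
  obtain ⟨u₂, hu₂, hxu, hu₂p⟩ := exists_partner_perp q hq ![a, r, u] hx hxs hxp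
  obtain ⟨x₂, hx₂, hx₂p, hx₂s⟩ := exists_sing_avoid q ![a, u, x, u₂] (by omega)
  have h1 : polar q u u₂ = 0 := hu₂p 2
  have hS2 := E_transfer X ha hu₂ hx₂ (hx₂p 3) (hu₂p 0) (hx₂p 0) hS1
  simp only [TransvectionUnitary.sub_left X.hf, X.hf.smul_left, orth X h1,
    orth X (show polar q x x₂ = 0 from hx₂p 2), orth X (show polar q u x₂ = 0 from hx₂p 1),
    X.hpol x u₂, hxu] at hS2
  have hga : Good f P q M a l := good_of_one X ha hx₂ (hx₂p 0)
    (fun hm => hx₂s (Submodule.span_mono (by simp) hm)) (by simpa using hS2)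
  obtain ⟨e, he, hep, hes⟩ := exists_sing_avoid q ![a, b] (by omega)
  have hea : a ∉ Submodule.span F₀ {e} := by
    intro h
    obtain ⟨s, hs⟩ := Submodule.mem_span_singleton.1 h
    have hs0 : s ≠ 0 := fun h0 => ha0 (by rw [← hs, h0, zero_smul])
    exact hes (by
      rw [show e = s⁻¹ • a by rw [← hs, inv_smul_smul₀ hs0]]
      exact Submodule.smul_mem _ _ (Submodule.subset_span ⟨0, rfl⟩))
  have he0 : e ≠ 0 := fun h => hes (h ▸ Submodule.zero_mem _)
  obtain ⟨l₁, hl₁, hg₁⟩ := good_move X ha ha0 he (hep 0) hea hl hga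
  refine good_move X he he0 hb (by rw [polar_comm]; exact hep 1) ?_ hl₁ hg₁
  intro h
  obtain ⟨s, hs⟩ := Submodule.mem_span_singleton.1 h
  exact hes (hs ▸ Submodule.smul_mem _ _ (Submodule.subset_span ⟨1, rfl⟩))

/-- The full radical at a rational centre. -/
theorem full {a : ι → F₀} (ha : q a = 0) (ha0 : a ≠ 0) {l : F} (hl : l ∉ F₀)
    (hg : Good f P q M a l) {w : ι → F} (hw : f w (rat P a) = 0) : E f P M a w := by
  obtain ⟨r, hr, har, -⟩ := exists_partner_perp q (nd X) (fun i : Fin 0 => i.elim0) ha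
    (by simpa [Set.range_eq_empty] using ha0) (fun i => i.elim0)
  obtain ⟨y, hy⟩ := SubfieldRational.exists_combination (F₀ := F₀) P w
  have key : ∀ (c : F) (u : ι → F₀), E f P M a (c • rat P (u - polar q a u • r)) := by
    intro c u
    have hu : polar q a (u - polar q a u • r) = 0 := by
      rw [polar_sub_right, polar_smul_right, har]; simp
    obtain ⟨s, t, rfl⟩ := decomp X hl c
    rw [add_smul, mul_comm, ← smul_smul, ← rat_smul, ← rat_smul]
    exact E_add X ha (E_rat X ha (by rw [polar_smul_right, hu, smul_zero]))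
      (hg _ (by rw [polar_smul_right, hu, smul_zero]))
  have hsum : E f P M a (∑ i, y i • rat P (Pi.single i 1 - polar q a (Pi.single i 1) • r)) :=
    Finset.sum_induction _ _ (fun _ _ => E_add X ha) (E_zero X ha) fun i _ => key _ _
  convert hsum using 1
  simp only [rat_sub, rat_smul, smul_sub, Finset.sum_sub_distrib, smul_smul, ← Finset.sum_smul,
    ← hy]
  have h0 : ∑ i, y i * ((polar q a (Pi.single i 1) : F₀) : F) = 0 := by
    rw [← hw]
    show _ = TransvectionUnitary.uLeft X.hf (rat P a) w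
    rw [hy, map_sum]
    refine Finset.sum_congr rfl fun i _ => ?_
    rw [map_smul, smul_eq_mul]
    congr 1
    show _ = f (rat P (Pi.single i 1)) (rat P a)
    rw [X.hpol, polar_comm]
  rw [h0, zero_smul, sub_zero]

/-- Without irrational directions the rational lines are preserved. -/
theorem pres_of_no_irr (hno : ∀ a w, q a = 0 → a ≠ 0 → E f P M a w →
      ∃ (v : ι → F₀) (κ : F), w = rat P v + κ • rat P a) {g : GL ι F} (hg : g ∈ M) :
    ∀ x : ι → F₀, ∃ (c : F) (y : ι → F₀), (g : Matrix ι ι F) *ᵥ rat P x = c • rat P y := by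
  have hq := nd X
  have hfin := fin X
  have hcf : ∀ {k : ℕ} (v : Fin k → ι → F₀), LinearIndependent F₀ v → ∀ (c : Fin k → F) (z : ι → F₀),
      ∑ i, c i • rat P (v i) = rat P z → ∀ i, c i ∈ F₀ := fun v hv c z h i =>
    OrthSubfieldMax44.coeff_rat F₀ P v hv c z h i
  refine RatLines44.preserves (AddMonoidHom.mk' (rat P) (rat_add P)) hcf (rat_smul P)
    (fun _ => rat_eq_zero P) q hq hfin (Matrix.toLin' (g : Matrix ι ι F)) (act_injective g) ?_
  intro c₀ d₀ hc hd hcd hli
  simp only [AddMonoidHom.mk'_apply, Matrix.toLin'_apply]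
  have hind : ∀ p r : F, p • ((g : Matrix ι ι F) *ᵥ rat P c₀) + r • ((g : Matrix ι ι F) *ᵥ rat P d₀)
      = 0 → p = 0 ∧ r = 0 := by
    intro p r h
    rw [← Matrix.mulVec_smul, ← Matrix.mulVec_smul, ← Matrix.mulVec_add] at h
    have h' : p • rat P c₀ + r • rat P d₀ = rat P (0 : ι → F₀) := act_injective g (by
      show (g : Matrix ι ι F) *ᵥ _ = (g : Matrix ι ι F) *ᵥ _
      rw [h, rat_zero, Matrix.mulVec_zero])
    obtain ⟨hp, hr'⟩ := RatLines44.lin2 (AddMonoidHom.mk' (rat P) (rat_add P)) hcf hli h'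
    have h0 := LinearIndependent.pair_iff.1 hli ⟨p, hp⟩ ⟨r, hr'⟩ (rat_eq_zero P (by
      rw [rat_add, rat_smul, rat_smul]; exact h'.trans (rat_zero P)))
    exact ⟨congrArg Subtype.val h0.1, congrArg Subtype.val h0.2⟩
  obtain ⟨k₀, hk₀, hk₀x⟩ : InE f M ((g : Matrix ι ι F) *ᵥ rat P c₀) ((g : Matrix ι ι F) *ᵥ rat P d₀) 0 := by
    have := inE_conj X.hf (X.iso g hg) hg (X.hrat c₀ d₀ hc hcd)
    simpa [hd] using this
  generalize (g : Matrix ι ι F) *ᵥ rat P c₀ = C, (g : Matrix ι ι F) *ᵥ rat P d₀ = C' at hind hk₀x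
  haveI : Module.Finite F₀ F := Module.Finite.of_finite
  have hv : ∀ y : ι → F₀, ∃ v₀ : ι → F₀, f (rat P y) C' • C - f (rat P y) C • C' = rat P v₀ := by
    intro z
    let L : (ι → F₀) →ₗ[F₀] (F × F) × F₀ :=
      { toFun := fun u => ((f (rat P u) C, f (rat P u) C'), polar q z u)
        map_add' := fun u v => by
          simp only [rat_add, X.hf.add_left, polar_add_right, Prod.mk_add_mk]
        map_smul' := fun c u => by
          simp only [rat_smul, X.hf.smul_left, polar_smul_right, RingHom.id_apply, Prod.smul_mk,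
            Subfield.smul_def, smul_eq_mul] }
    have h1 := LinearMap.finrank_range_add_finrank_ker L
    have h2 : finrank F₀ (LinearMap.range L) ≤ 5 :=
      (Submodule.finrank_le _).trans_eq (by
        rw [Module.finrank_prod, Module.finrank_prod, X.fin2, Module.finrank_self])
    obtain ⟨a, hamem, ha0, ha⟩ := QuadClassify.exists_singular q (LinearMap.ker L) (by omega)
    obtain ⟨K, hK⟩ := Submodule.exists_isCompl (Submodule.span F₀ {a})
    have h3 := Submodule.finrank_sup_add_finrank_inf_eq (LinearMap.ker L) K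
    have h4 := Submodule.finrank_le (LinearMap.ker L ⊔ K)
    have h5 := Submodule.finrank_add_eq_of_isCompl hK
    have h6 := finrank_span_singleton (K := F₀) ha0
    obtain ⟨a', ha'mem, ha'0, ha'⟩ :=
      QuadClassify.exists_singular q (LinearMap.ker L ⊓ K) (by omega)
    have hkey : ∀ a ∈ LinearMap.ker L, q a = 0 → a ≠ 0 → ∃ (v : ι → F₀) (κ : F),
        f (rat P z) C • C' - f (rat P z) C' • C = rat P v + κ • rat P a := by
      intro a hamem ha ha0
      have hL := LinearMap.mem_ker.1 hamem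
      have hC : f (rat P a) C = 0 := congrArg (fun p => p.1.1) hL
      have hC' : f (rat P a) C' = 0 := congrArg (fun p => p.1.2) hL
      have haz : polar q a z = 0 := by rw [polar_comm]; exact congrArg (fun p => p.2) hL
      have h7 := E_sub X ha (E_conj X hk₀ (by rw [hk₀x, hC, hC']; simp) (E_rat X ha haz))
        (E_rat X ha haz)
      obtain ⟨v, κ, hvκ⟩ := hno a _ ha ha0 h7
      exact ⟨v, κ, by rw [← hvκ, hk₀x]; module⟩
    obtain ⟨v, κ, e1⟩ := hkey a hamem ha ha0
    obtain ⟨v', κ', e2⟩ := hkey a' ha'mem.1 ha' ha'0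
    have hli2 : LinearIndependent F₀ ![a, a'] := (LinearIndependent.pair_iff' ha0).2 fun s hs =>
      ha'0 (Submodule.disjoint_def.1 hK.disjoint a'
        (Submodule.mem_span_singleton.2 ⟨s, hs⟩) ha'mem.2)
    have h8 : κ • rat P a + (-κ') • rat P a' = rat P (v' - v) := by
      rw [rat_sub, eq_sub_of_add_eq e1.symm, eq_sub_of_add_eq e2.symm]; module
    obtain ⟨hκ, -⟩ := RatLines44.lin2 (AddMonoidHom.mk' (rat P) (rat_add P)) hcf hli2 h8
    refine ⟨-(v + (⟨κ, hκ⟩ : F₀) • a), ?_⟩
    rw [SubfieldRational.rat_neg, rat_add, rat_smul]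
    show _ = -(rat P v + κ • rat P a)
    rw [← e1]; module
  obtain ⟨y, y', hdet⟩ : ∃ y y' : ι → F₀, f (rat P y) C * f (rat P y') C' -
      f (rat P y) C' * f (rat P y') C ≠ 0 := by
    by_contra hall
    push Not at hall
    obtain ⟨y, hy⟩ : ∃ y : ι → F₀, f (rat P y) C ≠ 0 := by
      by_contra h0
      push Not at h0
      have hC : C = 0 := eq_of_f X fun x => by rw [h0, TransvectionUnitary.zero_right X.hf]
      exact one_ne_zero (hind 1 0 (by rw [hC]; simp)).1
    have hprop : C' = σ (f (rat P y) C' / f (rat P y) C) • C := eq_of_f X fun x => by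
      have := hall x y
      rw [TransvectionUnitary.smul_right X.hf, sigma_sigma X.hf, div_mul_eq_mul_div, eq_div_iff hy]
      linear_combination -this
    exact one_ne_zero (hind (-σ (f (rat P y) C' / f (rat P y) C)) 1 (by
      conv_lhs => arg 2; rw [hprop]
      module)).2
  obtain ⟨v₁, hv₁⟩ := hv y
  obtain ⟨v₂, hv₂⟩ := hv y'
  set δ := f (rat P y) C * f (rat P y') C' - f (rat P y) C' * f (rat P y') C with hδ
  refine ⟨v₁, v₂, ?_, ?_, ?_, ?_, ?_⟩
  · refine Submodule.mem_span_pair.2 ⟨-(f (rat P y') C) / δ, f (rat P y) C / δ, ?_⟩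
    rw [← hv₁, ← hv₂]
    match_scalars <;> field_simp <;> (try rw [hδ]) <;> ring
  · refine Submodule.mem_span_pair.2 ⟨-(f (rat P y') C') / δ, f (rat P y) C' / δ, ?_⟩
    rw [← hv₁, ← hv₂]
    match_scalars <;> field_simp <;> (try rw [hδ]) <;> ring
  · rw [← hv₁]
    exact Submodule.mem_span_pair.2 ⟨f (rat P y) C', -(f (rat P y) C), by module⟩
  · rw [← hv₂]
    exact Submodule.mem_span_pair.2 ⟨f (rat P y') C', -(f (rat P y') C), by module⟩
  · refine LinearIndependent.pair_iff.2 fun a b hab => ?_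
    have hab' := congrArg (rat P) hab
    rw [rat_add, rat_smul, rat_smul, rat_zero, ← hv₁, ← hv₂] at hab'
    obtain ⟨e₁, e₂⟩ := hind ((a : F) * f (rat P y) C' + b * f (rat P y') C')
      (-((a : F) * f (rat P y) C + b * f (rat P y') C)) (by rw [← hab']; module)
    rw [neg_eq_zero] at e₂
    constructor
    · have h0 : (a : F) * (f (rat P y) C * f (rat P y') C' - f (rat P y) C' * f (rat P y') C) = 0 := by
        linear_combination f (rat P y') C' * e₂ - f (rat P y') C * e₁
      exact Subtype.ext ((mul_eq_zero.1 h0).resolve_right hdet)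
    · have h0 : (b : F) * (f (rat P y) C * f (rat P y') C' - f (rat P y) C' * f (rat P y') C) = 0 := by
        linear_combination f (rat P y) C * e₁ - f (rat P y) C' * e₂
      exact Subtype.ext ((mul_eq_zero.1 h0).resolve_right hdet)

/-- All transvections. -/
theorem tg_mem {g : GL ι F} (hg : g ∈ M)
    (hnp : ¬ ∀ x : ι → F₀, ∃ (c : F) (y : ι → F₀), (g : Matrix ι ι F) *ᵥ rat P x = c • rat P y)
    {v : ι → F} (hv : f v v = 0) {c : F} (hc : σ c = -c) : Tg σ f v c ∈ M := by
  have hq := nd X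
  have hfin := fin X
  by_cases hv0 : v = 0
  · rw [show Tg σ f v c = 1 from gl_ext fun x => by
      rw [tg_act X.hf hv, one_act, hv0, smul_zero, add_zero]]
    exact M.one_mem
  obtain ⟨a, w, ha, ha0, hE, hirr⟩ : ∃ a w, q a = 0 ∧ a ≠ 0 ∧ E f P M a w ∧
      ∀ (v : ι → F₀) (κ : F), w ≠ rat P v + κ • rat P a := by
    by_contra h
    push Not at h
    exact hnp (pres_of_no_irr X h hg)
  obtain ⟨b, hb, hvb⟩ : ∃ b, q b = 0 ∧ f v (rat P b) ≠ 0 := by
    by_contra h
    push Not at h
    refine hv0 (eq_of_f X fun u => ?_)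
    obtain ⟨b₁, b₂, b₃, rfl, h1, h2, h3⟩ := exists_three q hq (fun i : Fin 0 => i.elim0) (v := u)
      (by omega) (fun i => i.elim0)
    rw [rat_add, rat_add, X.hf.add_left, X.hf.add_left, TransvectionUnitary.zero_right X.hf,
      skew_zero X.hf (h b₁ h1.1), skew_zero X.hf (h b₂ h2.1), skew_zero X.hf (h b₃ h3.1)]
    simp
  have hb0 : b ≠ 0 := fun h => hvb (by rw [h, rat_zero, TransvectionUnitary.zero_right X.hf])
  obtain ⟨l, hl, hgl⟩ := exists_good X ha ha0 hE hirr hb hb0
  obtain ⟨r, hr, hbr, -⟩ := exists_partner_perp q hq (fun i : Fin 0 => i.elim0) hb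
    (by simpa [Set.range_eq_empty] using hb0) (fun i => i.elim0)
  have hr0 : r ≠ 0 := fun h => by rw [h, polar_zero_right] at hbr; exact zero_ne_one hbr
  obtain ⟨l', hl', hgl'⟩ := exists_good X ha ha0 hE hirr hr hr0
  have hrb : f (rat P r) (rat P b) = 1 := by rw [X.hpol, polar_comm, hbr]; rfl
  set m := f v (rat P b) with hm
  set v' := m⁻¹ • v with hv'
  have hv'b : f v' (rat P b) = 1 := by rw [hv', X.hf.smul_left, ← hm, inv_mul_cancel₀ hvb]
  have hv'v : f v' v' = 0 := by
    rw [hv', X.hf.smul_left, TransvectionUnitary.smul_right X.hf, hv, mul_zero, mul_zero]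
  have hw : f (v' - rat P r) (rat P b) = 0 := by
    rw [TransvectionUnitary.sub_left X.hf, hv'b, hrb, sub_self]
  obtain ⟨-, s₀, g₀, hg₀, hg₀x⟩ := full X hb hb0 hl hgl hw
  have htr := trace X hb hb0 hg₀ hw hg₀x
  set s := f (rat P r) (v' - rat P r) with hs
  have hskew : σ (s - s₀) = -(s - s₀) := by
    have h2 : f (v' - rat P r) (v' - rat P r) + s + σ s = 0 := by
      simp only [hs, TransvectionUnitary.sub_left X.hf, TransvectionUnitary.sub_right X.hf, map_sub,
        hv'v, sing X hr, sigma_f X.hf, map_zero]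
      ring
    rw [map_sub]
    linear_combination h2 - htr
  obtain ⟨g₁, hg₁, hg₁x⟩ := inE_shift X.hf (sing X hb) hw ⟨g₀, hg₀, hg₀x⟩
    (c := s - s₀) (tg_of_good X hb hl hgl hskew)
  rw [add_sub_cancel] at hg₁x
  have hmv : (g₁ : Matrix ι ι F) *ᵥ rat P r = v' := by
    rw [hg₁x, hrb, ← hs]; module
  have hc' : σ (c * m * σ m) = -(c * m * σ m) := by
    rw [map_mul, map_mul, hc, sigma_sigma X.hf]; ring
  have h := M.mul_mem (M.mul_mem hg₁ (tg_of_good X hr hl' hgl' hc')) (M.inv_mem hg₁)
  rw [tg_conj X.hf (X.iso g₁ hg₁) (sing X hr), hmv] at h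
  have hvv : v = m • v' := by rw [hv', smul_smul, mul_inv_cancel₀ hvb, one_smul]
  rwa [hvv, tg_smul X.hf hv'v]

end Cfsg.Agent.UnitaryOrthSub44
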