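import Cfsg.Agent.Lib.OrthUnitaryIsotropic
import Cfsg.Agent.Lib.PrimeOrderModule84
import Cfsg.Agent.Lib.UnitaryClasses53
import Cfsg.Prelude.Def_GeometricClasses

/-!
Pairs of complementary totally isotropic subspaces of a hermitian space and the elements of `SU`
of prime order modulo scalars fixing or swapping such a pair.
-/

set_option autoImplicit false
set_option linter.unusedSectionVars false
set_option linter.unusedSimpArgs false

namespace Cfsg.Agent.UnitaryPairs95

open Cfsg Module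
open Cfsg.Agent.OrthUnitaryHerm Cfsg.Agent.OrthUnitarySubspaces Cfsg.Agent.OrthUnitaryIsotropic
open scoped Matrix

variable {F : Type*} [Field F] [Fintype F] {q n k : ℕ}

/-- A pair of complementary totally isotropic `k`-subspaces. -/
structure Pair (q k : ℕ) (D₀ D₁ : Submodule F (Fin n → F)) : Prop where
  dim₀ : finrank F D₀ = k
  dim₁ : finrank F D₁ = k
  compl : IsCompl D₀ D₁
  ts₀ : ∀ u ∈ D₀, ∀ v ∈ D₀, hermForm n F q u v = 0
  ts₁ : ∀ u ∈ D₁, ∀ v ∈ D₁, hermForm n F q u v = 0

theorem herm_zero_right' (hF : Fintype.card F = q ^ 2) (u : Fin n → F) : hermForm n F q u 0 = 0 := by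
  simp [hermForm, zero_pow_q hF]

theorem Pair.split {D₀ D₁ : Submodule F (Fin n → F)} (P : Pair q k D₀ D₁) (v : Fin n → F) :
    ∃ d₀ ∈ D₀, ∃ d₁ ∈ D₁, d₀ + d₁ = v :=
  Submodule.mem_sup.1 (by rw [P.compl.sup_eq_top]; exact Submodule.mem_top)

theorem Pair.zero {D₀ D₁ : Submodule F (Fin n → F)} (P : Pair q k D₀ D₁) {v : Fin n → F} (h₀ : v ∈ D₀)
    (h₁ : v ∈ D₁) : v = 0 :=
  Submodule.disjoint_def.1 P.compl.disjoint v h₀ h₁

theorem Pair.symm {D₀ D₁ : Submodule F (Fin n → F)} (P : Pair q k D₀ D₁) : Pair q k D₁ D₀ :=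
  ⟨P.dim₁, P.dim₀, P.compl.symm, P.ts₁, P.ts₀⟩

/-- An eigenline on an anisotropic vector lies in no member of a fixed pair. -/
theorem not_fix_line {g : Module.End F (Fin n → F)} {μ : F} {v : Fin n → F} (hv : g v = μ • v)
    (hvv : hermForm n F q v v ≠ 0) (hline : ∀ w, g w = μ • w → ∃ c : F, w = c • v)
    {D₀ D₁ : Submodule F (Fin n → F)} (P : Pair q k D₀ D₁) (h₀ : ∀ w ∈ D₀, g w ∈ D₀)
    (h₁ : ∀ w ∈ D₁, g w ∈ D₁) : False := by
  obtain ⟨d₀, hd₀, d₁, hd₁, rfl⟩ := P.split v
  rw [map_add, smul_add] at hv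
  have e : g d₀ - μ • d₀ = μ • d₁ - g d₁ := by linear_combination (norm := module) hv
  have z := P.zero (D₀.sub_mem (h₀ _ hd₀) (D₀.smul_mem μ hd₀))
    (e ▸ D₁.sub_mem (D₁.smul_mem μ hd₁) (h₁ _ hd₁))
  obtain ⟨c, hc⟩ := hline d₀ (sub_eq_zero.1 z)
  by_cases hc0 : c = 0
  · rw [hc0, zero_smul] at hc
    rw [hc, zero_add] at hvv
    exact hvv (P.ts₁ _ hd₁ _ hd₁)
  · have : d₀ + d₁ ∈ D₀ := by
      have := D₀.smul_mem c⁻¹ hd₀
      rw [congrArg (c⁻¹ • ·) hc, inv_smul_smul₀ hc0] at this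
      exact this
    exact hvv (P.ts₀ _ this _ this)

/-- An involution modulo scalars with a one-dimensional eigenspace swaps no pair. -/
theorem not_swap_line {g : Module.End F (Fin n → F)} {μ : F} (hμ : μ ≠ 0) {v : Fin n → F}
    (hg2 : ∀ w, g (g w) = (μ ^ 2) • w) (hk : 2 ≤ k)
    (hline : ∀ w, g w = μ • w → ∃ c : F, w = c • v)
    {D₀ D₁ : Submodule F (Fin n → F)} (P : Pair q k D₀ D₁) (h₀ : ∀ w ∈ D₀, g w ∈ D₁) : False := by
  let T : D₀ →ₗ[F] LinearMap.ker (g - μ • (1 : Module.End F (Fin n → F))) :=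
    LinearMap.codRestrict _ (D₀.subtype + μ⁻¹ • g.comp D₀.subtype) fun d => by
      have e : (μ⁻¹ * μ ^ 2) = μ := by field_simp
      simp only [LinearMap.mem_ker, LinearMap.sub_apply, LinearMap.smul_apply, Module.End.one_apply,
        LinearMap.add_apply, LinearMap.comp_apply, Submodule.subtype_apply, map_add, map_smul, hg2,
        smul_smul, e, smul_add, mul_inv_cancel₀ hμ, one_smul]
      match_scalars <;> field_simp <;> ring
  have hT : Function.Injective T := by
    refine (injective_iff_map_eq_zero T).2 fun d hd => Subtype.ext ?_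
    have h : (d : Fin n → F) + μ⁻¹ • g d = 0 := congrArg Subtype.val hd
    refine P.zero d.2 ?_
    rw [eq_neg_of_add_eq_zero_left h]
    exact D₁.neg_mem (D₁.smul_mem _ (h₀ _ d.2))
  have h1 := LinearMap.finrank_le_finrank_of_injective hT
  have h2 : LinearMap.ker (g - μ • (1 : Module.End F (Fin n → F))) ≤ Submodule.span F {v} := by
    intro w hw
    simp only [LinearMap.mem_ker, LinearMap.sub_apply, LinearMap.smul_apply, Module.End.one_apply, sub_eq_zero] at hw
    obtain ⟨c, rfl⟩ := hline w hw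
    exact Submodule.smul_mem _ _ (Submodule.mem_span_singleton_self v)
  have h3 := (Submodule.finrank_mono h2).trans (finrank_span_singleton_le_one (R := F) v)
  rw [P.dim₀] at h1
  omega
where
  finrank_span_singleton_le_one {R : Type _} [Field R] {M : Type _} [AddCommGroup M] [Module R M] (v : M) :
      finrank R (Submodule.span R {v}) ≤ 1 := by
    rcases eq_or_ne v 0 with rfl | hv
    · rw [Submodule.span_zero_singleton, finrank_bot]; exact Nat.zero_le _
    · exact (finrank_span_singleton hv).le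

/-- A transvection fixes or swaps no pair. -/
theorem not_transv (hF : Fintype.card F = q ^ 2) {v : Fin n → F} (hv : v ≠ 0) {c : F} (hc : c ≠ 0) (hk : 2 ≤ k)
    {D₀ D₁ : Submodule F (Fin n → F)} (P : Pair q k D₀ D₁)
    (h : ((∀ w ∈ D₀, unitaryTransvection n q v c *ᵥ w ∈ D₀) ∧ ∀ w ∈ D₁, unitaryTransvection n q v c *ᵥ w ∈ D₁) ∨
      ∀ w ∈ D₀, unitaryTransvection n q v c *ᵥ w ∈ D₁) : False := by
  rcases h with ⟨h₀, h₁⟩ | h₀
  · have aux : ∀ (D : Submodule F (Fin n → F)), (∀ a ∈ D, ∀ b ∈ D, hermForm n F q a b = 0) →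
        (∀ w ∈ D, unitaryTransvection n q v c *ᵥ w ∈ D) → ∀ w ∈ D, hermForm n F q w v = 0 := by
      intro D hD hT w hw
      by_contra hne
      have := D.sub_mem (hT w hw) hw
      rw [transvection_mulVec, add_sub_cancel_left] at this
      have hvD := D.smul_mem (c * hermForm n F q w v)⁻¹ this
      rw [inv_smul_smul₀ (mul_ne_zero hc hne)] at hvD
      exact hne (hD w hw v hvD)
    refine hv (eq_zero_of_herm_eq_zero hF fun u => ?_)
    obtain ⟨d₀, hd₀, d₁, hd₁, rfl⟩ := P.split u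
    rw [herm_conj hF, herm_add_left, aux D₀ P.ts₀ h₀ _ hd₀, aux D₁ P.ts₁ h₁ _ hd₁, add_zero, zero_pow_q hF]
  · let φ : D₀ →ₗ[F] F :=
      { toFun := fun d => hermForm n F q d.1 v
        map_add' := fun a b => herm_add_left _ _ _
        map_smul' := fun a b => herm_smul_left _ _ _ }
    have h1 := LinearMap.finrank_range_add_finrank_ker φ
    have h2 := Submodule.finrank_le (LinearMap.range φ)
    rw [Module.finrank_self] at h2
    rw [P.dim₀] at h1
    obtain ⟨d, hd, hd0⟩ := Submodule.exists_mem_ne_zero_of_ne_bot (p := LinearMap.ker φ) (fun h => by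
      rw [h, finrank_bot] at h1; omega)
    have := h₀ _ d.2
    rw [transvection_mulVec, show hermForm n F q (d : Fin n → F) v = 0 from hd, mul_zero, zero_smul, add_zero] at this
    exact hd0 (Subtype.ext (P.zero d.2 this))

/-- An element of prime order with moved space of dimension equal to the order of `q^2` fixes no pair. -/
theorem not_fix_range (hF : Fintype.card F = q ^ 2) {r : ℕ} [Fact r.Prime] (hr : (r : F) ≠ 0)
    {g : Module.End F (Fin n → F)} (hiso : ∀ u v, hermForm n F q (g u) (g v) = hermForm n F q u v)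
    (hg : g ^ r = 1) (hdim : finrank F (LinearMap.range (g - 1)) = orderOf (Fintype.card F : ZMod r))
    {D₀ D₁ : Submodule F (Fin n → F)} (P : Pair q k D₀ D₁) (h₀ : ∀ w ∈ D₀, g w ∈ D₀)
    (h₁ : ∀ w ∈ D₁, g w ∈ D₁) : False := by
  set W := LinearMap.range (g - 1) with hW
  have hWi : ∀ w ∈ W, g w ∈ W := by
    rintro _ ⟨u, rfl⟩
    exact ⟨g u, by simp⟩
  have hinv : ∀ D : Submodule F (Fin n → F), (∀ w ∈ D, g w ∈ D) → (W ⊓ D).map g ≤ W ⊓ D := fun D hD =>
    PrimeOrderModule84.map_le_iff'.2 fun w hw => ⟨hWi w hw.1, hD w hw.2⟩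
  have hd0 := PrimeOrderModule84.dvd_finrank_of_le_range hr hg (hinv D₀ h₀) inf_le_left
  have hd1 := PrimeOrderModule84.dvd_finrank_of_le_range hr hg (hinv D₁ h₁) inf_le_left
  have hsup : W = W ⊓ D₀ ⊔ W ⊓ D₁ := by
    refine le_antisymm ?_ (sup_le inf_le_left inf_le_left)
    rintro _ ⟨u, rfl⟩
    obtain ⟨d₀, hd₀, d₁, hd₁, rfl⟩ := P.split u
    rw [map_add]
    exact Submodule.add_mem_sup ⟨⟨d₀, rfl⟩, by simpa using D₀.sub_mem (h₀ _ hd₀) hd₀⟩
      ⟨⟨d₁, rfl⟩, by simpa using D₁.sub_mem (h₁ _ hd₁) hd₁⟩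
  have hdisj : (W ⊓ D₀) ⊓ (W ⊓ D₁) = ⊥ := eq_bot_iff.2 fun w hw => by
    rw [Submodule.mem_bot]; exact P.zero hw.1.2 hw.2.2
  have hsum := Submodule.finrank_sup_add_finrank_inf_eq (W ⊓ D₀) (W ⊓ D₁)
  rw [← hsup, hdisj, finrank_bot, hdim, add_zero] at hsum
  have hts : ∀ a ∈ W, ∀ b ∈ W, hermForm n F q a b = 0 := by
    intro a ha b hb
    rcases Nat.eq_zero_or_pos (finrank F ↥(W ⊓ D₀ : Submodule F (Fin n → F))) with h | h
    · have := Submodule.finrank_eq_zero.1 h
      rw [this, bot_sup_eq] at hsup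
      exact P.ts₁ a (hsup.le ha).2 b (hsup.le hb).2
    · have h0 := Nat.le_of_dvd h hd0
      have : W ⊓ D₁ = ⊥ := Submodule.finrank_eq_zero.1 (by omega)
      rw [this, sup_bot_eq] at hsup
      exact P.ts₀ a (hsup.le ha).2 b (hsup.le hb).2
  have hzero : W = ⊥ := by
    rw [eq_bot_iff]
    intro w hw
    rw [Submodule.mem_bot]
    refine eq_zero_of_herm_eq_zero hF fun u => ?_
    have hu : u ∈ LinearMap.ker (g - 1) ⊔ W := by
      rw [hW, (PrimeOrderModule84.isCompl_ker_range hr hg).sup_eq_top]; exact Submodule.mem_top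
    obtain ⟨a, ha, b, hb, rfl⟩ := Submodule.mem_sup.1 hu
    rw [herm_add_right hF, hts w hw b hb, add_zero]
    obtain ⟨z, rfl⟩ := hw
    have ha' : g a = a := sub_eq_zero.1 ha
    simp only [LinearMap.sub_apply, Module.End.one_apply, herm_sub_left]
    conv_lhs => arg 1; rw [← ha']
    rw [hiso, sub_self]
  rw [hzero, finrank_bot] at hdim
  exact (PrimeOrderModule84.orderOf_card_pos hr).ne' hdim.symm

/-- A pair comes from a hyperbolic frame. -/
theorem Pair.exists_frame (hF : Fintype.card F = q ^ 2) {D₀ D₁ : Submodule F (Fin n → F)} (P : Pair q k D₀ D₁) :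
    ∃ e f : Fin k → Fin n → F, Submodule.span F (Set.range e) = D₀ ∧ Submodule.span F (Set.range f) = D₁ ∧
      IsGram q (pairing (k := k) (m := 0)) (frame e f Fin.elim0) := by
  obtain ⟨e, hli, hspan⟩ := exists_basis P.dim₀
  have hmem : ∀ i, e i ∈ D₀ := fun i => hspan ▸ Submodule.subset_span ⟨i, rfl⟩
  let L : D₁ →ₗ[F] (Fin k → F) :=
    { toFun := fun d i => hermForm n F q d.1 (e i)
      map_add' := fun a b => funext fun i => herm_add_left _ _ _
      map_smul' := fun a b => funext fun i => herm_smul_left _ _ _ }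
  have hL : Function.Injective L := by
    refine (injective_iff_map_eq_zero L).2 fun d hd => Subtype.ext (eq_zero_of_herm_eq_zero hF fun u => ?_)
    obtain ⟨d₀, hd₀, d₁, hd₁, rfl⟩ := P.split u
    rw [herm_add_right hF, P.ts₁ _ d.2 _ hd₁, add_zero]
    rw [← hspan] at hd₀
    obtain ⟨c, rfl⟩ := (Submodule.mem_span_range_iff_exists_fun F).1 hd₀
    rw [herm_sum_right hF]
    exact Finset.sum_eq_zero fun i _ => by
      rw [herm_smul_right, show hermForm n F q d.1 (e i) = 0 from congrFun hd i, mul_zero]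
  have hs : Function.Surjective L :=
    (LinearMap.injective_iff_surjective_of_finrank_eq_finrank (by rw [P.dim₁, Module.finrank_fin_fun])).1 hL
  choose f hf using fun i : Fin k => hs fun j => if i = j then 1 else 0
  have hh : IsHyp q e fun i => (f i).1 :=
    ⟨fun i j => P.ts₀ _ (hmem i) _ (hmem j), fun i j => P.ts₁ _ (f i).2 _ (f j).2, fun i j => congrFun (hf i) j⟩
  have hg : IsGram q (pairing (k := k) (m := 0)) (frame e (fun i => (f i).1) Fin.elim0) :=
    isGram_frame hF hh (fun i => Fin.elim0 i) (fun i => Fin.elim0 i) (fun i => Fin.elim0 i)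
  refine ⟨e, fun i => (f i).1, hspan, ?_, hg⟩
  refine Submodule.eq_of_le_of_finrank_eq (Submodule.span_le.2 (Set.range_subset_iff.2 fun i => (f i).2)) ?_
  rw [P.dim₁, finrank_span_eq_card, Fintype.card_fin]
  exact (gram_li pairing_invol hg).comp (fun i => (Sum.inl (Sum.inr i))) (fun a b h => by simpa using h)

/-- `SU` is transitive on pairs. -/
theorem exists_map_pair (hF : Fintype.card F = q ^ 2) (hn : n = 2 * k) (hk : 0 < k)
    {D₀ D₁ E₀ E₁ : Submodule F (Fin n → F)} (P : Pair q k D₀ D₁) (P' : Pair q k E₀ E₁) :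
    ∃ g ∈ Cfsg.GU n F q ⊓ Cfsg.Geo.specialLinear (Fin n) F,
      D₀.map (Matrix.toLin' (g : Matrix (Fin n) (Fin n) F)) = E₀ ∧
      D₁.map (Matrix.toLin' (g : Matrix (Fin n) (Fin n) F)) = E₁ := by
  classical
  obtain ⟨e, f, he, hf, hw⟩ := P.exists_frame hF
  obtain ⟨e', f', he', hf', hw'⟩ := P'.exists_frame hF
  have hidx := card_idx (k := k) (m := 0) (n := n) (by omega)
  obtain ⟨M, hM, hMw⟩ := exists_witt hF pairing_invol hw hw' hidx
  have hc0 : M.det ≠ 0 := ((Matrix.isUnit_iff_isUnit_det M).1 (hM.isUnit hF)).ne_zero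
  have hc := hM.det_pow hF
  obtain ⟨α, hα0, hα⟩ : ∃ α : F, α ≠ 0 ∧ α ^ q = M.det * α := by
    by_cases h : M.det = -1
    · obtain ⟨c, hc0, hc⟩ := exists_skew hF
      exact ⟨c, hc0, by rw [h, neg_one_mul, eq_neg_iff_add_eq_zero, add_comm, hc]⟩
    · refine ⟨1 + M.det ^ q, fun h0 => h ?_, ?_⟩
      · have := congrArg (· ^ q) (eq_neg_of_add_eq_zero_right h0)
        simp only [pow_q_q hF, neg_pow_q hF, one_pow] at this
        exact this
      · rw [add_pow_q hF, one_pow, pow_q_q hF, mul_add, mul_one, ← pow_succ', hc, add_comm]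
  let i₀ : Fin k := ⟨0, hk⟩
  let d : Idx k 0 → F := Sum.elim
    (Sum.elim (Function.update (fun _ => 1) i₀ α) (Function.update (fun _ => 1) i₀ (α ^ q)⁻¹)) fun _ => 1
  have hd : ∀ b, d (pairing b) * d b ^ q = 1 := by
    rintro ((i | i) | i)
    · by_cases h : i = i₀
      · subst h; simp [d, pairing, hα0]
      · simp [d, pairing, Function.update_of_ne h]
    · by_cases h : i = i₀
      · subst h; simp [d, pairing, inv_pow, pow_q_q hF, hα0]
      · simp [d, pairing, Function.update_of_ne h]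
    · exact i.elim0
  obtain ⟨T, hT, hTw⟩ := exists_witt hF pairing_invol hw (gram_smul hw hd) hidx
  have hTd := det_scale pairing_invol hw hidx hTw
  have hprod : ∏ a, d a = α * (α ^ q)⁻¹ := by
    simp [d, Fintype.prod_sum_type, Finset.prod_update_of_mem]
    exact mul_comm _ _
  have hdet : (M * T).det = 1 := by
    rw [Matrix.det_mul, hTd, hprod, hα, mul_inv, ← mul_assoc, ← mul_assoc, mul_right_comm M.det, mul_assoc,
      mul_inv_cancel₀ hα0, mul_one, mul_inv_cancel₀ hc0]
  refine ⟨(mkGU hF (M * T) (hM.mul hT)).1, ⟨(mkGU hF (M * T) (hM.mul hT)).2, ?_⟩, ?_, ?_⟩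
  · show Matrix.GeneralLinearGroup.det _ = 1
    ext
    rw [Matrix.GeneralLinearGroup.val_det_apply, mkGU_coe, hdet, Units.val_one]
  · rw [mkGU_coe, ← he, ← he']
    refine Submodule.eq_of_le_of_finrank_eq ?_ ?_
    · rw [Submodule.map_span, Submodule.span_le]
      rintro _ ⟨_, ⟨i, rfl⟩, rfl⟩
      rw [Matrix.toLin'_apply, ← Matrix.mulVec_mulVec]
      rw [show T *ᵥ e i = d (.inl (.inl i)) • e i from hTw (.inl (.inl i)), Matrix.mulVec_smul,
        show M *ᵥ e i = e' i from hMw (.inl (.inl i))]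
      exact Submodule.smul_mem _ _ (Submodule.subset_span ⟨i, rfl⟩)
    · rw [← (Submodule.equivMapOfInjective _ (Matrix.mulVec_injective_iff_isUnit.2 ((hM.mul hT).isUnit hF)) _).finrank_eq,
        he, he', P.dim₀, P'.dim₀]
  · rw [mkGU_coe, ← hf, ← hf']
    refine Submodule.eq_of_le_of_finrank_eq ?_ ?_
    · rw [Submodule.map_span, Submodule.span_le]
      rintro _ ⟨_, ⟨i, rfl⟩, rfl⟩
      rw [Matrix.toLin'_apply, ← Matrix.mulVec_mulVec]
      rw [show T *ᵥ f i = d (.inl (.inr i)) • f i from hTw (.inl (.inr i)), Matrix.mulVec_smul,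
        show M *ᵥ f i = f' i from hMw (.inl (.inr i))]
      exact Submodule.smul_mem _ _ (Submodule.subset_span ⟨i, rfl⟩)
    · rw [← (Submodule.equivMapOfInjective _ (Matrix.mulVec_injective_iff_isUnit.2 ((hM.mul hT).isUnit hF)) _).finrank_eq,
        hf, hf', P.dim₁, P'.dim₁]

/-- An orthonormal eigenbasis paired by equal eigenvalues gives a fixed pair. -/
theorem exists_pair_of_onb (hF : Fintype.card F = q ^ 2) (h2 : (2 : F) ≠ 0) {ι : Type} [Fintype ι] [DecidableEq ι]
    (hn : n = 2 * Fintype.card ι) {w : ι × Fin 2 → Fin n → F} (hw : OrthoN q w)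
    {g : Module.End F (Fin n → F)} {ε : ι → F} (hg : ∀ a, g (w a) = ε a.1 • w a) :
    ∃ D₀ D₁, Pair q (Fintype.card ι) D₀ D₁ ∧ (∀ v ∈ D₀, g v ∈ D₀) ∧ ∀ v ∈ D₁, g v ∈ D₁ := by
  obtain ⟨s, hs⟩ := exists_norm_eq hF (a := (-1 : F)) (by rw [neg_pow_q hF, one_pow])
  have hs0 : s ≠ 0 := fun h => by simp [h] at hs
  let vec : F → ι → Fin n → F := fun t i => w (i, 0) + t • w (i, 1)
  let D : F → Submodule F (Fin n → F) := fun t => Submodule.span F (Set.range (vec t))
  have hts : ∀ t : F, t ^ (q + 1) = -1 → ∀ u ∈ D t, ∀ v ∈ D t, hermForm n F q u v = 0 := by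
    intro t ht
    intro x hx y hy
    obtain ⟨c, rfl⟩ := (Submodule.mem_span_range_iff_exists_fun F).1 hx
    obtain ⟨c', rfl⟩ := (Submodule.mem_span_range_iff_exists_fun F).1 hy
    suffices key : ∀ i j, hermForm n F q (vec t i) (vec t j) = 0 by
      simp [herm_sum_left, herm_sum_right hF, herm_smul_left, herm_smul_right, key]
    intro i j
    simp only [vec, herm_add_left, herm_add_right hF, herm_smul_left, herm_smul_right, hw _ _]
    by_cases h : i = j
    · subst h
      simp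
      rw [← pow_succ, ht]; ring
    · simp [Prod.ext_iff, h]
  have hinv : ∀ t v, v ∈ D t → g v ∈ D t := by
    intro t v hv
    induction hv using Submodule.span_induction with
    | mem x hx =>
      obtain ⟨i, rfl⟩ := hx
      rw [show g (vec t i) = ε i • vec t i by simp [vec, hg, smul_comm t]]
      exact Submodule.smul_mem _ _ (Submodule.subset_span ⟨i, rfl⟩)
    | zero => simp
    | add x y _ _ hx hy => rw [map_add]; exact Submodule.add_mem _ hx hy
    | smul c x _ hx => rw [map_smul]; exact Submodule.smul_mem _ _ hx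
  have hle : ∀ t, finrank F (D t) ≤ Fintype.card ι := fun t => finrank_range_le_card (vec t)
  have hwtop : Submodule.span F (Set.range w) = ⊤ :=
    (OrthUnitarySubspaces.linearIndependent hw).span_eq_top_of_card_eq_finrank'
      (by rw [Fintype.card_prod, Fintype.card_fin, Module.finrank_fin_fun]; omega)
  have htop : D s ⊔ D (-s) = ⊤ := by
    rw [eq_top_iff, ← hwtop, Submodule.span_le]
    rintro _ ⟨⟨i, j⟩, rfl⟩
    have hp : vec s i ∈ D s ⊔ D (-s) := Submodule.mem_sup_left (Submodule.subset_span ⟨i, rfl⟩)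
    have hm : vec (-s) i ∈ D s ⊔ D (-s) := Submodule.mem_sup_right (Submodule.subset_span ⟨i, rfl⟩)
    fin_cases j
    · have := Submodule.smul_mem _ (2 : F)⁻¹ (Submodule.add_mem _ hp hm)
      have e : (2 : F)⁻¹ • (vec s i + vec (-s) i) = w (i, 0) := by
        simp only [vec]
        match_scalars <;> field_simp <;> ring
      rw [e] at this
      exact this
    · have := Submodule.smul_mem _ (2 * s)⁻¹ (Submodule.sub_mem _ hp hm)
      have e : (2 * s)⁻¹ • (vec s i - vec (-s) i) = w (i, 1) := by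
        simp only [vec]
        match_scalars <;> field_simp <;> ring
      rw [e] at this
      exact this
  have hsum := Submodule.finrank_sup_add_finrank_inf_eq (D s) (D (-s))
  rw [htop, finrank_top, Module.finrank_fin_fun] at hsum
  have h0 := hle s
  have h1 := hle (-s)
  have hms : (-s) ^ (q + 1) = -1 := by rw [pow_succ, neg_pow_q hF, neg_mul_neg, ← pow_succ, hs]
  exact ⟨D s, D (-s), ⟨by omega, by omega,
    ⟨disjoint_iff.2 (Submodule.finrank_eq_zero.1 (by omega)), codisjoint_iff.2 htop⟩, hts s hs, hts _ hms⟩,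
    hinv s, hinv (-s)⟩

/-- A totally isotropic subspace has at most half the dimension. -/
theorem ts_le (hF : Fintype.card F = q ^ 2) {D : Submodule F (Fin n → F)}
    (h : ∀ u ∈ D, ∀ v ∈ D, hermForm n F q u v = 0) : 2 * finrank F D ≤ n := by
  obtain ⟨e, hli, hspan⟩ := exists_basis (k := finrank F D) (W := D) rfl
  have hmem : ∀ i, e i ∈ D := fun i => hspan ▸ Submodule.subset_span ⟨i, rfl⟩
  obtain ⟨f, hh⟩ := exists_dual hF hli fun i j => h _ (hmem i) _ (hmem j)
  have := (gram_li pairing_invol (isGram_frame hF (m := 0) (u := Fin.elim0) hh (fun i => Fin.elim0 i)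
    (fun i => Fin.elim0 i) (fun i => Fin.elim0 i))).fintype_card_le_finrank
  rw [Module.finrank_fin_fun] at this
  simp only [Fintype.card_sum, Fintype.card_fin] at this
  omega

/-- A scalar-square element of `SU` fixes a pair when the `2`-part of `q+1` divides `n`. -/
theorem exists_pair_of_sq (hF : Fintype.card F = q ^ 2) (hq : Odd q) (hn : n = 2 * k) (hk : 0 < k)
    (hv : padicValNat 2 (q + 1) ≤ padicValNat 2 n) {M : Matrix (Fin n) (Fin n) F} (hM : IsU q M)
    (hd : M.det = 1) {z : F} (hz : M * M = z • (1 : Matrix (Fin n) (Fin n) F)) :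
    ∃ D₀ D₁, Pair q k D₀ D₁ ∧ (∀ v ∈ D₀, M *ᵥ v ∈ D₀) ∧ ∀ v ∈ D₁, M *ᵥ v ∈ D₁ := by
  classical
  have h2 : (2 : F) ≠ 0 := by
    intro h
    haveI : CharP F 2 := by
      obtain ⟨p, hc⟩ := CharP.exists F
      have : p ∣ 2 := (CharP.cast_eq_zero_iff F p 2).1 (by exact_mod_cast h)
      rcases (Nat.dvd_prime Nat.prime_two).1 this with rfl | rfl
      · exact absurd hc (fun hc => CharP.char_ne_one F 1 rfl)
      · exact hc
    obtain ⟨m, -, hm⟩ := FiniteField.card F 2
    rw [hF] at hm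
    have : Odd (2 ^ (m : ℕ)) := hm ▸ hq.pow
    exact (Nat.not_even_iff_odd.2 this) (Nat.even_pow.2 ⟨even_two, m.ne_zero⟩)
  have hMM : ∀ v, M *ᵥ (M *ᵥ v) = z • v := fun v => by
    rw [Matrix.mulVec_mulVec, hz, Matrix.smul_mulVec, Matrix.one_mulVec]
  let v₁ : Fin n → F := Pi.single ⟨0, by omega⟩ 1
  have hzn : z ^ (q + 1) = 1 := by
    have := (hM (M *ᵥ v₁) (M *ᵥ v₁)).trans (hM v₁ v₁)
    rw [hMM, herm_smul_left, herm_smul_right, ← mul_assoc, ← pow_succ'] at this
    have h1 : hermForm n F q v₁ v₁ = 1 := by simp [v₁, herm_single_right hF]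
    rwa [h1, mul_one] at this
  have hz0 : z ≠ 0 := fun h => by simp [h] at hzn
  obtain ⟨l, hl⟩ : IsSquare z := by
    rw [FiniteField.isSquare_iff (by rwa [Ne, ringChar.eq_iff, CharP.charP_iff_prime_eq_zero Nat.prime_two]) hz0,
      hF]
    obtain ⟨m, rfl⟩ := hq
    rw [show (2 * m + 1) ^ 2 / 2 = (2 * m + 1 + 1) * m by
      rw [show (2 * m + 1) ^ 2 = 2 * ((2 * m + 1 + 1) * m) + 1 by ring]; omega, pow_mul, hzn, one_pow]
  have hl0 : l ≠ 0 := fun h => hz0 (by simp [hl, h])
  let g : Module.End F (Fin n → F) := l⁻¹ • Matrix.toLin' M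
  have hgg : ∀ v, g (g v) = v := fun v => by
    simp only [g, LinearMap.smul_apply, Matrix.toLin'_apply, Matrix.mulVec_smul, hMM, smul_smul, hl]
    rw [show l⁻¹ * (l⁻¹ * (l * l)) = 1 by field_simp, one_smul]
  have hMg : ∀ v, M *ᵥ v = l • g v := fun v => by simp [g, hl0]
  let E : F → Submodule F (Fin n → F) := fun ε => LinearMap.ker (g - ε • (1 : Module.End F (Fin n → F)))
  have hE : ∀ ε v, v ∈ E ε ↔ g v = ε • v := fun ε v => by simp [E, sub_eq_zero]
  have hsplit : E 1 ⊔ E (-1) = ⊤ := by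
    rw [eq_top_iff]
    intro v _
    refine Submodule.mem_sup.2 ⟨(2 : F)⁻¹ • (v + g v), (hE _ _).2 ?_, (2 : F)⁻¹ • (v - g v), (hE _ _).2 ?_, ?_⟩
    · rw [map_smul, map_add, hgg, one_smul, add_comm]
    · rw [map_smul, map_sub, hgg]; module
    · match_scalars <;> field_simp <;> ring
  have hdisj : E 1 ⊓ E (-1) = ⊥ := by
    rw [eq_bot_iff]
    intro v hv
    have h1 := (hE _ _).1 hv.1
    rw [(hE _ _).1 hv.2] at h1
    rw [Submodule.mem_bot]
    have : (2 : F) • v = 0 := by linear_combination (norm := module) -h1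
    exact (smul_eq_zero.1 this).resolve_left h2
  have hdim := Submodule.finrank_sup_add_finrank_inf_eq (E 1) (E (-1))
  rw [hsplit, hdisj, finrank_top, finrank_bot, Module.finrank_fin_fun, add_zero] at hdim
  have hinvE : ∀ ε v, v ∈ E ε → M *ᵥ v ∈ E ε := fun ε v hv => by
    rw [hMg, (hE _ _).1 hv, smul_smul]
    exact Submodule.smul_mem _ _ hv
  have hform : ∀ u v, hermForm n F q u v = l ^ (q + 1) * hermForm n F q (g u) (g v) := fun u v => by
    conv_lhs => rw [← hM u v, hMg, hMg, herm_smul_left, herm_smul_right, ← mul_assoc, ← pow_succ']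
  have hl2 : (l ^ (q + 1)) ^ 2 = 1 := by rw [← pow_mul, mul_comm, pow_mul, sq, ← hl, hzn]
  rcases (sq_eq_one_iff.1 hl2) with hl1 | hl1
  swap
  · -- the eigenspaces are totally isotropic
    have hts : ∀ ε : F, ε * ε ^ q = 1 → ∀ u ∈ E ε, ∀ v ∈ E ε, hermForm n F q u v = 0 := by
      intro ε hε u hu v hv
      have := hform u v
      rw [(hE _ _).1 hu, (hE _ _).1 hv, herm_smul_left, herm_smul_right, hl1, ← mul_assoc ε, hε] at this
      have h' : (2 : F) * hermForm n F q u v = 0 := by linear_combination this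
      exact (mul_eq_zero.1 h').resolve_left h2
    have hp := hts 1 (by simp)
    have hm := hts (-1) (by rw [neg_pow_q hF, one_pow]; ring)
    have := ts_le hF hp
    have := ts_le hF hm
    exact ⟨E 1, E (-1), ⟨by omega, by omega, ⟨disjoint_iff.2 hdisj, codisjoint_iff.2 hsplit⟩, hp, hm⟩,
      hinvE 1, hinvE (-1)⟩
  -- the eigenspaces are non-degenerate
  have hperp : ∀ u ∈ E 1, ∀ v ∈ E (-1), hermForm n F q u v = 0 := by
    intro u hu v hv
    have := hform u v
    rw [(hE _ _).1 hu, (hE _ _).1 hv, herm_smul_left, herm_smul_right, hl1, neg_pow_q hF, one_pow] at this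
    have h' : (2 : F) * hermForm n F q u v = 0 := by linear_combination this
    exact (mul_eq_zero.1 h').resolve_left h2
  have hperp' : ∀ u ∈ E (-1), ∀ v ∈ E 1, hermForm n F q u v = 0 := fun u hu v hv => by
    rw [herm_conj hF, hperp v hv u hu, zero_pow_q hF]
  obtain ⟨u, huP, hu⟩ := exists_onb hF (finrank F (E 1)) (E 1) rfl (by
    intro a ha h
    refine eq_zero_of_herm_eq_zero hF fun x => ?_
    obtain ⟨b, hb, c, hc, rfl⟩ := Submodule.mem_sup.1 (show x ∈ E 1 ⊔ E (-1) from hsplit.symm ▸ Submodule.mem_top)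
    rw [herm_add_right hF, h b hb, hperp a ha c hc, add_zero])
  obtain ⟨v, hvP, hv'⟩ := exists_onb hF (finrank F (E (-1))) (E (-1)) rfl (by
    intro a ha h
    refine eq_zero_of_herm_eq_zero hF fun x => ?_
    obtain ⟨b, hb, c, hc, rfl⟩ := Submodule.mem_sup.1 (show x ∈ E 1 ⊔ E (-1) from hsplit.symm ▸ Submodule.mem_top)
    rw [herm_add_right hF, hperp' a ha b hb, h c hc, add_zero])
  generalize ha : finrank F (E 1) = a at u hdim
  generalize hb : finrank F (E (-1)) = b at v hdim
  -- the determinant forces both dimensions to be even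
  have hw : IsGram q id (Sum.elim u v) := by
    rintro (i | i) (j | j)
    · simpa using hu i j
    · simpa using hperp _ (huP i) _ (hvP j)
    · simpa using hperp' _ (hvP i) _ (huP j)
    · simpa using hv' i j
  have hdet := det_scale (fun _ => rfl) hw (by simp; omega) (d := Sum.elim (fun _ => l) fun _ => -l)
    (M := M) (by
      rintro (i | i)
      · simp [hMg, (hE _ _).1 (huP i)]
      · simp [hMg, (hE _ _).1 (hvP i)])
  rw [hd, Fintype.prod_sum_type] at hdet
  simp only [Sum.elim_inl, Sum.elim_inr, Finset.prod_const, Finset.card_univ, Fintype.card_fin] at hdet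
  have hbe : Even b := by
    rw [← Nat.not_odd_iff_even]
    intro hbo
    rw [hbo.neg_pow, mul_neg, ← pow_add, ← hdim] at hdet
    haveI : Fact (Nat.Prime 2) := ⟨Nat.prime_two⟩
    obtain ⟨t, s, hs, hts⟩ := Nat.exists_eq_two_pow_mul_odd (n := q + 1) (by omega)
    have ht : padicValNat 2 (q + 1) = t := by
      rw [hts, padicValNat.mul (by positivity) (by rintro rfl; simp at hs), padicValNat.prime_pow,
        padicValNat.eq_zero_of_not_dvd (by rw [← even_iff_two_dvd]; exact Nat.not_even_iff_odd.2 hs), add_zero]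
    obtain ⟨c, hc⟩ : 2 ^ t ∣ n := (pow_dvd_pow 2 (ht ▸ hv)).trans pow_padicValNat_dvd
    have h1 : (l ^ n) ^ s = 1 := by
      rw [← pow_mul, hc, mul_right_comm, ← hts, pow_mul, hl1, one_pow]
    rw [show l ^ n = -1 from neg_eq_iff_eq_neg.1 hdet.symm, hs.neg_one_pow] at h1
    exact h2 (by linear_combination -h1)
  have hae : Even a := by
    have : Even (a + b) := ⟨k, by omega⟩
    exact (Nat.even_add.1 this).2 hbe
  obtain ⟨a', ha'⟩ := hae
  obtain ⟨b', hb'⟩ := hbe
  let ea : Fin a' × Fin 2 ≃ Fin a := finProdFinEquiv.trans (finCongr (by omega))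
  let eb : Fin b' × Fin 2 ≃ Fin b := finProdFinEquiv.trans (finCongr (by omega))
  let w : (Fin a' ⊕ Fin b') × Fin 2 → Fin n → F := fun p =>
    Sum.elim u v ((Equiv.sumProdDistrib _ _ _).trans (Equiv.sumCongr ea eb) p)
  have hwo : OrthoN q w := fun p p' => by
    have := hw ((Equiv.sumProdDistrib _ _ _).trans (Equiv.sumCongr ea eb) p)
      ((Equiv.sumProdDistrib _ _ _).trans (Equiv.sumCongr ea eb) p')
    simp only [id, (Equiv.injective _).eq_iff] at this
    exact this
  obtain ⟨D₀, D₁, P, h₀, h₁⟩ := exists_pair_of_onb hF h2 (g := Matrix.toLin' M)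
    (ε := Sum.elim (fun _ => l) fun _ => -l) (ι := Fin a' ⊕ Fin b') (by simp; omega) hwo (by
      rintro ⟨i | i, j⟩
      · simp [w, hMg, (hE _ _).1 (huP _)]
      · simp [w, hMg, (hE _ _).1 (hvP _)])
  have hcard : Fintype.card (Fin a' ⊕ Fin b') = k := by simp; omega
  rw [hcard] at P
  exact ⟨D₀, D₁, P, fun x hx => by simpa using h₀ x hx, fun x hx => by simpa using h₁ x hx⟩

end Cfsg.Agent.UnitaryPairs95
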