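import Cfsg.Agent.Lib.SU3PresShort78
import Cfsg.Agent.Lib.ShortPresPairs23
import Cfsg.Agent.Lib.ShortPresTracked

/-!
`SU 3` in three letters, and passing to the projective group.
-/

set_option autoImplicit false
set_option linter.unusedSectionVars false

namespace Cfsg.Agent.UnitaryPres49

open Cfsg Cfsg.Agent.OrthUnitaryHerm Cfsg.Agent.ShortPres Cfsg.Agent.ShortPresTracked Cfsg.Agent.SU3PresModel78

/-- eliminate letters -/
theorem pres_sub {G : Type*} [Group G] {ι : Type} {x : ι → G} {R : List (FreeGroup ι)} (h : Pres x R) {k : ℕ}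
    (τ : Fin k → ι) (hτ : Function.Injective τ) (hgen : Subgroup.closure (Set.range (x ∘ τ)) = ⊤) :
    PresBy G k R.length := by
  classical
  choose w hw using fun i => exists_word hgen (x i)
  let σ : ι → FreeGroup (Fin k) := Function.extend τ FreeGroup.of w
  have hσ : ∀ i, FreeGroup.lift (x ∘ τ) (σ i) = x i := fun i => by
    by_cases hi : ∃ j, τ j = i
    · obtain ⟨j, rfl⟩ := hi
      simp [σ, hτ.extend_apply]
    · simp only [σ, Function.extend_apply' _ _ _ hi, hw]
  refine ⟨x ∘ τ, R.map (FreeGroup.lift σ), (List.length_map ..).le, Pres.of_inj ?_ hgen ?_⟩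
  · intro r hr
    obtain ⟨r0, hr0, rfl⟩ := List.mem_map.1 hr
    rw [map_word (FreeGroup.lift (x ∘ τ)) hσ r0, h.sat r0 hr0]
  · intro H _ y π hπ hgenH hy
    obtain ⟨f, hf⟩ := h.univ (fun i => FreeGroup.lift y (σ i)) fun r hr => by
      rw [← map_word (FreeGroup.lift y) (fun _ => rfl) r]
      exact hy _ (List.mem_map.2 ⟨r, hr, rfl⟩)
    have hfy : ∀ j, f (x (τ j)) = y j := fun j => by rw [hf]; simp [σ, hτ.extend_apply]
    refine (injective_iff_map_eq_one π).2 fun a ha => ?_
    obtain ⟨v, rfl⟩ := exists_word hgenH a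
    rw [map_word π hπ] at ha
    rw [← map_word f (x := x ∘ τ) hfy, ha, map_one]

variable {F : Type} [Field F] [Fintype F] {q n : ℕ}

/-- three letters for `SU 3` -/
theorem su3_pres (hF : Fintype.card F = q ^ 2) (hq : 3 ≤ q) : PresBy (SU 3 F q) 3 20 := by
  obtain ⟨e⟩ := exists_equiv (F := F) hF
  obtain ⟨U, W, Hh, Tt, R, hR, hP, hgen⟩ := SU3PresShort78.pres_four hF hq
  refine ((pres_sub hP ![0, 2, 3] (by decide) ?_).mono hR).congr e
  rw [← hgen]
  congr 1
  ext g
  simp only [Set.mem_range, Function.comp_apply, Set.mem_insert_iff, Set.mem_singleton_iff]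
  constructor
  · rintro ⟨i, rfl⟩; fin_cases i <;> simp
  · rintro (rfl | rfl | rfl)
    · exact ⟨0, rfl⟩
    · exact ⟨1, rfl⟩
    · exact ⟨2, rfl⟩

/-- passing to the projective group -/
theorem to_psu (hF : Fintype.card F = q ^ 2) (hn : 2 ≤ n) {k N : ℕ} (h : PresBy (SU n F q) k N) :
    PresBy (PSU n F q) k (N + 1) := by
  set Z := Subgroup.center (SU n F q) with hZ
  haveI : NeZero n := ⟨by omega⟩
  have hcyc : IsCyclic Z := by
    have hsc : ∀ z : Z, ∀ i j : Fin n,
        ((z : SU n F q) : Matrix.SpecialLinearGroup (Fin n) F).1 i j =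
          if i = j then ((z : SU n F q) : Matrix.SpecialLinearGroup (Fin n) F).1 0 0 else 0 := by
      intro z i j
      exact OrthUnitaryHerm.center_SU_scalar hF hn z.2 i j
    let ψ : Z →* F :=
      { toFun := fun z => ((z : SU n F q) : Matrix.SpecialLinearGroup (Fin n) F).1 0 0
        map_one' := by simp
        map_mul' := fun a b => by
          show (((a : SU n F q) : Matrix.SpecialLinearGroup (Fin n) F).1 *
            ((b : SU n F q) : Matrix.SpecialLinearGroup (Fin n) F).1) 0 0 = _
          rw [Matrix.mul_apply, Finset.sum_eq_single 0]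
          · intro j _ hj; rw [hsc a 0 j, if_neg (Ne.symm hj), zero_mul]
          · simp }
    refine isCyclic_of_subgroup_isDomain ψ fun a b e => ?_
    refine Subtype.ext (Subtype.ext (Subtype.ext (Matrix.ext fun i j => ?_)))
    rw [hsc a i j, hsc b i j]
    split_ifs
    · exact e
    · rfl
  obtain ⟨z, hz⟩ := hcyc.exists_generator
  refine h.quotient (QuotientGroup.mk' Z) (QuotientGroup.mk'_surjective _) z.1
    ((QuotientGroup.eq_one_iff _).2 z.2) fun g hg => ?_
  obtain ⟨i, hi⟩ := hz ⟨g, (QuotientGroup.ker_mk' Z).le hg⟩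
  have : g = z.1 ^ i := by simpa using (congrArg Subtype.val hi).symm
  rw [this]
  exact Subgroup.zpow_mem _ (Subgroup.subset_normalClosure (Set.mem_singleton _)) i

end Cfsg.Agent.UnitaryPres49
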