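import Cfsg.Agent.Lib.UnitaryPres49QThree
import Cfsg.Agent.Lib.UnitaryPres49Three
import Cfsg.Agent.S2288

/-!
The presentations of `SU n` over more than four elements.
-/

set_option autoImplicit false

namespace Cfsg.Agent.UnitaryPres49

open Cfsg Cfsg.Agent.PhanBlocks47 Cfsg.Agent.ShortPres Cfsg.Agent.ShortPresTracked

variable {F : Type} [Field F] [Fintype F] {q n : ℕ}

/-- nine elements -/
theorem su_pres_three (hF : Fintype.card F = 3 ^ 2) (hn : 4 ≤ n) {kA NA kB NB : ℕ}
    (hA : PresBy (Alt n) kA NA) (hB : PresBy (SU 3 F 3) kB NB) :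
    PresBy (SU n F 3) (kA + kB) (NA + NB + 10) := by
  obtain ⟨N⟩ := Nine.exists_nine hF
  obtain ⟨E, hE, hsat, hglue⟩ := exists_relators (q := 3) hF hn
  let A : Alt n → FreeGroup (Alt n ⊕ SU 3 F 3) := fun x => FreeGroup.of (Sum.inl x)
  let B : SU 2 F 3 → FreeGroup (Alt n ⊕ SU 3 F 3) := fun x => FreeGroup.of (Sum.inr (B0' F 3 x))
  let X : List (FreeGroup (Alt n ⊕ SU 3 F 3)) :=
    [(A (cA (by omega)) * (B N.h2)⁻¹ * A (sA hn)) ^ 8,
      (A (sA hn) * (B N.g2)⁻¹ * (A (cA (by omega)))⁻¹ * B N.h2) ^ 8]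
  have hX : ∀ {H : Type} [Group H] (fA : Alt n →* H) (fB : SU 3 F 3 →* H),
      (∀ r ∈ X, FreeGroup.lift (Sum.elim fA fB) r = 1) ↔ ExPair hn fA fB N := by
    intro H _ fA fB
    simp only [X, A, B, ExPair, List.forall_mem_cons, List.not_mem_nil, false_imp_iff, implies_true, and_true,
      map_pow, map_mul, map_inv, FreeGroup.lift_apply_of, Sum.elim_inl, Sum.elim_inr]
  refine PresBy.mono (PresBy.amalgam hA hB (rho F 3 n) (emb 0 (by omega : 0 + 3 ≤ n)) (gen_model hF hn) (E ++ X)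
    ?_ fun H _ fA fB π h1 h2 h3 h4 => ?_) (by simp [X]; omega)
  · intro r hr
    rcases List.mem_append.1 hr with hr | hr
    · exact hsat r hr
    · exact (hX _ _).2 (ex_model N hn) r hr
  · obtain ⟨D, eA, eB⟩ := hglue H fA fB (fun r hr => h4 r (List.mem_append_left _ hr)) π h1 h2 h3
    have hexr : ExPair hn fA fB N := (hX fA fB).1 fun r hr => h4 r (List.mem_append_right _ hr)
    exact D.injective_three hF N (by rw [eA, eB]; exact hexr)

/-- at most ten relators glue, for more than four elements -/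
theorem su_pres_odd (hF : Fintype.card F = q ^ 2) (hn : 4 ≤ n) (hq : 3 ≤ q) {kA NA kB NB : ℕ}
    (hA : PresBy (Alt n) kA NA) (hB : PresBy (SU 3 F q) kB NB) :
    PresBy (SU n F q) (kA + kB) (NA + NB + 10) := by
  rcases Nat.lt_or_ge q 4 with h | h
  · obtain rfl : q = 3 := by omega
    exact su_pres_three hF hn hA hB
  · exact (su_pres_big hF hn h hA hB).mono (by omega)

/-- the counts for more than four elements -/
theorem su_counts (hF : Fintype.card F = q ^ 2) (hn : 4 ≤ n) (hq : 3 ≤ q) :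
    PresBy (SU n F q) 6 37 ∧ (n = 4 ∨ n = 5 → PresBy (SU n F q) 6 35) := by
  have hB := su3_pres hF hq
  rcases (show n = 4 ∨ n = 5 ∨ 6 ≤ n by omega) with rfl | rfl | h
  · have h := (su_pres_odd hF hn hq S2288.alt_four_pres hB).pad
    exact ⟨h.mono (by norm_num), fun _ => h.mono (by norm_num)⟩
  · have h := (su_pres_odd hF hn hq S2288.alt_five_pres hB).pad
    exact ⟨h.mono (by norm_num), fun _ => h.mono (by norm_num)⟩
  · exact ⟨(su_pres_odd hF hn hq (S2288.alt_big_pres n (by omega)) hB).mono (by norm_num), fun h' => by omega⟩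

end Cfsg.Agent.UnitaryPres49
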