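import Cfsg.Agent.Lib.CosetCertCore

/-!
A small checker for coset enumerations: a table of images, a spanning tree, and a list of deductions.
-/

set_option autoImplicit false

namespace Cfsg.Agent.UnitaryPres49Cert

open Cfsg.Agent.CosetCertCore (Tbl entry force force_eq)

/-- A certificate: `L` letters with involution `iv`, `N` points. -/
structure Cert where
  N : Nat
  L : Nat
  k : Nat
  /-- image of point `v` under letter `i` at index `v * L + i` -/
  T : Tbl
  /-- parent edge of point `c` -/
  par : Tbl
  rels : List (List Nat)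
  /-- letters in the subgroup -/
  sub : List Nat

/-- the inverse letter -/
def Cert.iv (C : Cert) (i : Nat) : Nat := if i < C.k then i + C.k else i - C.k

/-- the image -/
noncomputable def Cert.img (C : Cert) (v i : Nat) : Nat := entry C.T 16 (v * C.L + i)

/-- set the bit of an edge -/
noncomputable def mark (C : Cert) (m v i : Nat) : Nat :=
  Nat.lor (Nat.lor m (Nat.shiftLeft 1 (v * C.L + i))) (Nat.shiftLeft 1 (C.img v i * C.L + C.iv i))

/-- both directions are consistent and in range -/
noncomputable def edgeOk (C : Cert) (v i : Nat) : Bool :=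
  Nat.blt (C.img v i) C.N && Nat.blt (C.iv i) C.L && Nat.beq (C.img (C.img v i) (C.iv i)) v

/-- follow a word through known edges -/
noncomputable def follow (C : Cert) (m : Nat) : List Nat → Nat → Option Nat :=
  List.rec (motive := fun _ => Nat → Option Nat) (fun v => some v)
    (fun i _ ih v => force v fun v =>
      cond (Nat.testBit m (v * C.L + i)) (force (C.img v i) ih) none)

theorem follow_nil (C : Cert) (m v : Nat) : follow C m [] v = some v := rfl

theorem follow_cons (C : Cert) (m : Nat) (i : Nat) (w : List Nat) (v : Nat) :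
    follow C m (i :: w) v = cond (Nat.testBit m (v * C.L + i)) (follow C m w (C.img v i)) none := by
  simp only [follow, force_eq]

/-- one deduction: relator number, start, position -/
noncomputable def stepOk (C : Cert) (m r v0 j : Nat) : Option Nat :=
  match C.rels[r]? with
  | none => none
  | some w =>
    match w[j]?, follow C m (w.take j) v0 with
    | some i, some a =>
      force (C.img a i) fun b =>
        match follow C m (w.drop (j + 1)) b with
        | some e => cond (Nat.beq e v0 && edgeOk C a i) (some (mark C m a i)) none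
        | none => none
    | _, _ => none

/-- run the deductions packed in a table -/
noncomputable def run (C : Cert) (S : Tbl) : Nat → Nat → Nat → Option Nat := fun cnt =>
  Nat.rec (motive := fun _ => Nat → Nat → Option Nat) (fun _ m => some m)
    (fun _ ih lo m =>
      force (entry S 48 lo) fun e =>
      match stepOk C m (Nat.land e 65535) (Nat.land (Nat.shiftRight e 16) 65535) (Nat.shiftRight e 32) with
      | some m' => force m' fun m' => ih (lo + 1) m'
      | none => none) cnt

theorem run_zero (C : Cert) (S : Tbl) (lo m : Nat) : run C S 0 lo m = some m := rfl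

theorem run_succ (C : Cert) (S : Tbl) (cnt lo m : Nat) : run C S (cnt + 1) lo m =
    match stepOk C m (Nat.land (entry S 48 lo) 65535) (Nat.land (Nat.shiftRight (entry S 48 lo) 16) 65535)
        (Nat.shiftRight (entry S 48 lo) 32) with
    | some m' => run C S cnt (lo + 1) m'
    | none => none := by
  simp only [run, force_eq]

/-- tree edge of `c` -/
noncomputable def treeOk (C : Cert) (c : Nat) : Bool :=
  force (entry C.par 32 c) fun e =>
    Nat.blt (e / C.L) c && Nat.beq (C.img (e / C.L) (e % C.L)) c && edgeOk C (e / C.L) (e % C.L)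

/-- the edges of the tree -/
noncomputable def treeMask (C : Cert) : Nat → Nat :=
  Nat.rec (motive := fun _ => Nat) 0 fun c m =>
    cond (Nat.beq c 0) m (mark C m (entry C.par 32 c / C.L) (entry C.par 32 c % C.L))

/-- the starting edges -/
noncomputable def initMask (C : Cert) : Nat :=
  List.rec (motive := fun _ => Nat) (treeMask C C.N) (fun i _ m => mark C m 0 i) C.sub

/-- everything checks -/
noncomputable def initOk (C : Cert) : Bool :=
  Nat.blt 0 C.N && Nat.blt 0 C.L &&
    ((List.range C.N).all fun c => Nat.beq c 0 || treeOk C c) &&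
    C.sub.all fun i => Nat.blt i C.L && Nat.beq (C.img 0 i) 0 && edgeOk C 0 i

section Semantics

variable {H : Type*} [Group H] (C : Cert) (K : Subgroup H) (y : Nat → H)

/-- representatives -/
noncomputable def rep : Nat → H :=
  WellFounded.fix Nat.lt_wfRel.wf fun c ih =>
    if h : entry C.par 32 c / C.L < c then ih _ h * y (entry C.par 32 c % C.L) else 1

theorem rep_eq (c : Nat) : rep C y c = if entry C.par 32 c / C.L < c
    then rep C y (entry C.par 32 c / C.L) * y (entry C.par 32 c % C.L) else 1 := by
  rw [rep, WellFounded.fix_eq]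
  split_ifs <;> rfl

theorem rep_zero : rep C y 0 = 1 := by rw [rep_eq, if_neg (Nat.not_lt_zero _)]

/-- the meaning of an edge -/
def Edge (v i : Nat) : Prop := ∃ κ ∈ K, rep C y v * y i = κ * rep C y (C.img v i)

/-- every marked edge is true -/
def Good (m : Nat) : Prop := ∀ v i, i < C.L → Nat.testBit m (v * C.L + i) = true → Edge C K y v i

variable {C K y} (hy : ∀ i, i < C.L → y i * y (C.iv i) = 1)

include hy

theorem good_mark {m a i : Nat} (hi : i < C.L) (hm : Good C K y m) (ok : edgeOk C a i = true)
    (h : Edge C K y a i) : Good C K y (mark C m a i) := by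
  simp only [edgeOk, Bool.and_eq_true, Nat.blt_eq, Nat.beq_eq] at ok
  obtain ⟨⟨-, hj⟩, hb⟩ := ok
  intro v l hl hbit
  have e1 : mark C m a i = m ||| 2 ^ (a * C.L + i) ||| 2 ^ (C.img a i * C.L + C.iv i) := by
    rw [← Nat.one_shiftLeft, ← Nat.one_shiftLeft]; rfl
  simp only [e1, Nat.testBit_or, Nat.testBit_two_pow, Bool.or_eq_true, decide_eq_true_eq] at hbit
  have hinj : ∀ {v' l'}, l' < C.L → v' * C.L + l' = v * C.L + l → v' = v ∧ l' = l := by
    intro v' l' hl' e
    have hL : 0 < C.L := by omega
    constructor
    · have := congrArg (· / C.L) e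
      simpa [Nat.add_comm _ l, Nat.add_comm _ l', Nat.add_mul_div_right _ _ hL, Nat.div_eq_of_lt hl,
        Nat.div_eq_of_lt hl'] using this
    · have := congrArg (· % C.L) e
      simpa [Nat.mod_eq_of_lt hl, Nat.mod_eq_of_lt hl'] using this
  rcases hbit with (h1 | h1) | h1
  · exact hm v l hl h1
  · obtain ⟨rfl, rfl⟩ := hinj hi h1
    exact h
  · obtain ⟨rfl, rfl⟩ := hinj hj h1
    obtain ⟨κ, hκ, e⟩ := h
    refine ⟨κ⁻¹, inv_mem hκ, ?_⟩
    rw [hb, eq_inv_mul_iff_mul_eq, ← mul_assoc, ← e, mul_assoc, hy i hi, mul_one]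

theorem follow_spec {m : Nat} (hm : Good C K y m) :
    ∀ (w : List Nat), (∀ i ∈ w, i < C.L) → ∀ v e, follow C m w v = some e →
      ∃ κ ∈ K, rep C y v * (w.map y).prod = κ * rep C y e
  | [], _, v, e, h => ⟨1, one_mem K, by
      rw [follow_nil, Option.some.injEq] at h
      subst h; simp⟩
  | i :: w, hw, v, e, h => by
      rw [follow_cons] at h
      rcases hb : Nat.testBit m (v * C.L + i) with _ | _
      · rw [hb] at h; simp at h
      · rw [hb, cond_true] at h
        obtain ⟨κ, hκ, e1⟩ := hm v i (hw i (List.mem_cons_self ..)) hb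
        obtain ⟨κ', hκ', e2⟩ := follow_spec hm w (fun j hj => hw j (List.mem_cons_of_mem _ hj)) _ e h
        refine ⟨κ * κ', mul_mem hκ hκ', ?_⟩
        rw [List.map_cons, List.prod_cons, ← mul_assoc, e1, mul_assoc, e2, mul_assoc]

theorem step_spec (hr : ∀ w ∈ C.rels, (w.map y).prod = 1) (hrL : ∀ w ∈ C.rels, ∀ i ∈ w, i < C.L)
    {m m' r v0 j : Nat} (hm : Good C K y m) (h : stepOk C m r v0 j = some m') : Good C K y m' := by
  unfold stepOk at h
  rcases hw : C.rels[r]? with _ | w
  · rw [hw] at h; simp at h
  rw [hw] at h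
  have hwmem : w ∈ C.rels := List.mem_of_getElem? hw
  rcases hi : w[j]? with _ | i
  · simp [hi] at h
  rcases ha : follow C m (w.take j) v0 with _ | a
  · simp [hi, ha] at h
  simp only [hi, ha, force_eq] at h
  rcases he : follow C m (w.drop (j + 1)) (C.img a i) with _ | e
  · rw [he] at h; simp at h
  rw [he] at h
  rcases hok : Nat.beq e v0 && edgeOk C a i with _ | _
  · simp only [hok, cond_false, reduceCtorEq] at h
  simp only [hok, cond_true, Option.some.injEq] at h
  simp only [Bool.and_eq_true, Nat.beq_eq] at hok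
  subst h
  obtain ⟨rfl, hok⟩ := hok
  have hiL : i < C.L := hrL w hwmem i (List.mem_of_getElem? hi)
  refine good_mark hy hiL hm hok ?_
  obtain ⟨κ, hκ, e1⟩ := follow_spec hy hm _ (fun l hl => hrL w hwmem l (List.mem_of_mem_take hl)) _ _ ha
  obtain ⟨κ', hκ', e2⟩ := follow_spec hy hm _ (fun l hl => hrL w hwmem l (List.mem_of_mem_drop hl)) _ _ he
  have hsplit : (w.map y).prod = ((w.take j).map y).prod * y i * ((w.drop (j + 1)).map y).prod := by
    obtain ⟨hjl, hj⟩ := List.getElem?_eq_some_iff.1 hi
    conv_lhs => rw [← List.take_append_drop j w]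
    rw [List.map_append, List.prod_append, List.drop_eq_getElem_cons hjl, hj, List.map_cons, List.prod_cons,
      mul_assoc]
  have h1 := hr w hwmem
  rw [hsplit] at h1
  refine ⟨κ⁻¹ * κ'⁻¹, mul_mem (inv_mem hκ) (inv_mem hκ'), ?_⟩
  calc rep C y a * y i
      = κ⁻¹ * (rep C y e * (((w.take j).map y).prod * y i * ((w.drop (j + 1)).map y).prod)) *
          ((w.drop (j + 1)).map y).prod⁻¹ := by
        have e1' : rep C y a = κ⁻¹ * (rep C y e * ((w.take j).map y).prod) := by rw [e1]; group
        rw [e1']; group
    _ = κ⁻¹ * rep C y e * ((w.drop (j + 1)).map y).prod⁻¹ := by rw [h1, mul_one]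
    _ = κ⁻¹ * κ'⁻¹ * rep C y (C.img a i) := by
        have e2' : rep C y e = κ'⁻¹ * (rep C y (C.img a i) * ((w.drop (j + 1)).map y).prod) := by rw [e2]; group
        rw [e2']; group

theorem run_spec (hr : ∀ w ∈ C.rels, (w.map y).prod = 1) (hrL : ∀ w ∈ C.rels, ∀ i ∈ w, i < C.L) (S : Tbl) :
    ∀ (cnt lo m m' : Nat), Good C K y m → run C S cnt lo m = some m' → Good C K y m'
  | 0, lo, m, m', hm, h => by
      rw [run_zero, Option.some.injEq] at h
      subst h; exact hm
  | cnt + 1, lo, m, m', hm, h => by
      rw [run_succ] at h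
      rcases hs : stepOk C m (Nat.land (entry S 48 lo) 65535) (Nat.land (Nat.shiftRight (entry S 48 lo) 16) 65535)
          (Nat.shiftRight (entry S 48 lo) 32) with _ | m1
      · rw [hs] at h; simp at h
      · rw [hs] at h
        exact run_spec hr hrL S cnt (lo + 1) m1 m' (step_spec hy hr hrL hm hs) h

theorem init_spec (hK : ∀ i ∈ C.sub, y i ∈ K) (h : initOk C = true) : Good C K y (initMask C) := by
  simp only [initOk, Bool.and_eq_true, List.all_eq_true, List.mem_range, Nat.blt_eq, Nat.beq_eq,
    Bool.or_eq_true] at h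
  obtain ⟨⟨⟨-, hL⟩, ht⟩, hsub⟩ := h
  have htree : ∀ c, c ≤ C.N → Good C K y (treeMask C c) := by
    intro c
    induction c with
    | zero => intro _ v i _ hb; simp [treeMask] at hb
    | succ c ih =>
      intro hc
      rcases Nat.eq_zero_or_pos c with rfl | hpos
      · exact ih (by omega)
      have e : treeMask C (c + 1) = mark C (treeMask C c) (entry C.par 32 c / C.L) (entry C.par 32 c % C.L) := by
        show cond (Nat.beq c 0) _ _ = _
        rw [show Nat.beq c 0 = false by rcases c with _ | c; · omega
                                        rfl]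
        rfl
      rw [e]
      have hok := (ht c (by omega)).resolve_left (by omega)
      simp only [treeOk, force_eq, Bool.and_eq_true, Nat.blt_eq, Nat.beq_eq] at hok
      refine good_mark hy (Nat.mod_lt _ hL) (ih (by omega)) hok.2 ⟨1, one_mem K, ?_⟩
      rw [hok.1.2, one_mul]
      conv_rhs => rw [rep_eq, if_pos hok.1.1]
  have hlist : ∀ l : List Nat, (∀ i ∈ l, i ∈ C.sub) → Good C K y
      (List.rec (motive := fun _ => Nat) (treeMask C C.N) (fun i _ m => mark C m 0 i) l) := by
    intro l
    induction l with
    | nil => intro _; exact htree C.N le_rfl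
    | cons i l ih =>
      intro hl
      obtain ⟨⟨hi, hz⟩, hok⟩ := hsub i (hl i (List.mem_cons_self ..))
      refine good_mark hy hi (ih fun j hj => hl j (List.mem_cons_of_mem _ hj)) hok ⟨y i, hK i (hl i (List.mem_cons_self ..)), ?_⟩
      rw [hz, rep_zero, one_mul, mul_one]
  exact hlist C.sub fun i hi => hi

/-- The bound. -/
theorem card_le [Finite K] (hgen : Submonoid.closure (y '' {i | i < C.L}) = ⊤) {m : Nat} (hm : Good C K y m)
    (hN : 0 < C.N)
    (hall : ∀ v, v < C.N → ∀ i, i < C.L → Nat.testBit m (v * C.L + i) = true ∧ C.img v i < C.N) :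
    Finite H ∧ Nat.card H ≤ C.N * Nat.card K := by
  let Φ : Fin C.N × K → H := fun p => (p.2 : H) * rep C y p.1
  have hsurj : Function.Surjective Φ := by
    intro h
    have hmem : h ∈ Submonoid.closure (y '' {i | i < C.L}) := hgen ▸ Submonoid.mem_top h
    induction hmem using Submonoid.closure_induction_right with
    | one => exact ⟨(⟨0, hN⟩, 1), by simp [Φ, rep_zero]⟩
    | mul_right x _ s hs ih =>
      obtain ⟨i, hi, rfl⟩ := hs
      obtain ⟨⟨v, κ⟩, rfl⟩ := ih
      obtain ⟨hb, hlt⟩ := hall v v.isLt i hi
      obtain ⟨κ', hκ', e⟩ := hm v i hi hb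
      exact ⟨(⟨C.img v i, hlt⟩, κ * ⟨κ', hκ'⟩), by simp [Φ, mul_assoc, e]⟩
  refine ⟨Finite.of_surjective Φ hsurj, (Nat.card_le_card_of_surjective Φ hsurj).trans ?_⟩
  simp

end Semantics

/-- the final mask is complete -/
noncomputable def full (C : Cert) (m : Nat) : Bool :=
  (List.range C.N).all fun v => (List.range C.L).all fun i =>
    Nat.testBit m (v * C.L + i) && Nat.blt (C.img v i) C.N

/-- check everything -/
noncomputable def check (C : Cert) (S : Tbl) (cnt : Nat) : Bool :=
  initOk C && (C.rels.all fun w => w.all fun i => Nat.blt i C.L) &&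
    match run C S cnt 0 (initMask C) with
    | some m => full C m
    | none => false

/-- a verified certificate bounds the order -/
theorem bound {C : Cert} {S : Tbl} {cnt : Nat} (hc : check C S cnt = true) {H : Type*} [Group H]
    (K : Subgroup H) [Finite K] (y : Nat → H) (hy : ∀ i, i < C.L → y i * y (C.iv i) = 1)
    (hr : ∀ w ∈ C.rels, (w.map y).prod = 1) (hK : ∀ i ∈ C.sub, y i ∈ K)
    (hgen : Submonoid.closure (y '' {i | i < C.L}) = ⊤) : Finite H ∧ Nat.card H ≤ C.N * Nat.card K := by
  simp only [check, Bool.and_eq_true, List.all_eq_true, Nat.blt_eq] at hc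
  obtain ⟨⟨hi, hrL⟩, hrun⟩ := hc
  rcases hm : run C S cnt 0 (initMask C) with _ | m
  · rw [hm] at hrun; simp at hrun
  rw [hm] at hrun
  simp only [full, List.all_eq_true, List.mem_range, Bool.and_eq_true, Nat.blt_eq] at hrun
  have hN : 0 < C.N := by
    simp only [initOk, Bool.and_eq_true, Nat.blt_eq] at hi
    exact hi.1.1.1
  exact card_le hy hgen (run_spec hy hr hrL S cnt 0 _ m (init_spec hy hK hi) hm) hN hrun

end Cfsg.Agent.UnitaryPres49Cert
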