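import Cfsg.Agent.Lib.UnitaryPres49QTwo
import Cfsg.Agent.Lib.UnitaryPres49Three
import Cfsg.Agent.S2288

/-!
All further relators over four elements, and the resulting presentations.
-/

set_option autoImplicit false
set_option linter.unusedSectionVars false

namespace Cfsg.Agent.UnitaryPres49

open Cfsg Cfsg.Agent.OrthUnitaryHerm Cfsg.Agent.OrthUnitaryTransvection Cfsg.Agent.PhanBlocks47
  Cfsg.Agent.PhanCoset47 Equiv Equiv.Perm Cfsg.Agent.ShortPres Cfsg.Agent.ShortPresTracked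

/-- Two elements, with the three-cycle, generate the stabiliser of the first triple. -/
theorem exists_triple_stab {n : ℕ} (hn : 5 ≤ n) :
    ∃ a s : Alt n, (∀ k, InR 0 3 k → InR 0 3 ((a : Perm (Fin n)) k)) ∧
      (∀ k, InR 0 3 k → InR 0 3 ((s : Perm (Fin n)) k)) ∧
      ∀ σ : Alt n, (∀ k, InR 0 3 k → InR 0 3 ((σ : Perm (Fin n)) k)) →
        σ ∈ Subgroup.closure ({cA (by omega), a, s} : Set (Alt n)) := by
  classical
  obtain ⟨k, rfl⟩ : ∃ k, n = k + 3 := ⟨n - 3, by omega⟩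
  obtain ⟨a, s, ha, hs, hgen⟩ := exists_stab k (by omega)
  set p : Fin (k + 2 + 1) := ⟨2, by omega⟩ with hp
  let e := finSuccAboveEquiv p
  let sk : Alt (k + 2) →* Alt (k + 3) :=
    MonoidHom.codRestrict ((Perm.extendDomainHom e).comp (Alt (k + 2)).subtype) (Alt (k + 3)) fun a => by
      refine mem_Alt.2 ?_
      show sign (Perm.extendDomain (a : Perm (Fin (k + 2))) e) = 1
      rw [sign_extendDomain]
      exact a.2.1
  have hskp : ∀ a, (sk a : Perm (Fin (k + 3))) p = p := fun a =>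
    Perm.extendDomain_apply_not_subtype (a : Perm (Fin (k + 2))) e (fun h => h rfl)
  have hske : ∀ a i, (sk a : Perm (Fin (k + 3))) (e i : Fin (k + 3)) = e ((a : Perm (Fin (k + 2))) i) := fun a i =>
    Perm.extendDomain_apply_image (a : Perm (Fin (k + 2))) e i
  have hval : ∀ i, ((e i : Fin (k + 3)) : ℕ) = if (i : ℕ) < 2 then (i : ℕ) else (i : ℕ) + 1 := fun i => by
    show (p.succAbove i : ℕ) = _
    simp only [Fin.succAbove, hp, Fin.lt_def, Fin.val_castSucc]
    split_ifs <;> simp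
  have hR : ∀ i, InR 0 3 (e i : Fin (k + 3)) ↔ InR 0 2 i := fun i => by
    simp only [InR, hval]
    split_ifs <;> omega
  have hstab : ∀ t : Alt (k + 2), (∀ i, InR 0 2 i → InR 0 2 ((t : Perm (Fin (k + 2))) i)) →
      ∀ l, InR 0 3 l → InR 0 3 ((sk t : Perm (Fin (k + 3))) l) := fun t ht l hl => by
    by_cases h : l = p
    · rw [h, hskp]; simp [InR, hp]
    · obtain ⟨i, hi⟩ := e.surjective ⟨l, h⟩
      have : l = (e i : Fin (k + 3)) := by rw [hi]
      subst this
      rw [hske, hR]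
      exact ht i ((hR i).1 hl)
  refine ⟨sk a, sk s, hstab a ha, hstab s hs, fun σ hσ => ?_⟩
  set T := Subgroup.closure ({cA (by omega), sk a, sk s} : Set (Alt (k + 3)))
  set c : Alt (k + 3) := cA (by omega)
  have hcT : c ∈ T := Subgroup.subset_closure (Or.inl rfl)
  set e0 : Fin (k + 3) := ⟨0, by omega⟩
  set e1 : Fin (k + 3) := ⟨1, by omega⟩
  have c0 : (c : Perm (Fin (k + 3))) e0 = e1 :=
    ShortPresCarmichael.cyc_a (by simp [Fin.ext_iff]) (by simp [Fin.ext_iff])
  have c1 : (c : Perm (Fin (k + 3))) e1 = p :=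
    ShortPresCarmichael.cyc_b (by simp [Fin.ext_iff]) (by simp [Fin.ext_iff])
  have c2 : (c : Perm (Fin (k + 3))) p = e0 := ShortPresCarmichael.cyc_i
  have cs : ∀ l, InR 0 3 l → InR 0 3 ((c : Perm (Fin (k + 3))) l) := fun l hl => by
    simp only [InR] at hl
    rcases (show l = e0 ∨ l = e1 ∨ l = p by simp only [e0, e1, hp, Fin.ext_iff]; omega) with h | h | h <;>
      rw [h] <;> simp only [c0, c1, c2] <;> simp [InR, e0, e1, hp]
  -- the part fixing the last point of the triple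
  have hfix : ∀ ρ : Alt (k + 3), (∀ l, InR 0 3 l → InR 0 3 ((ρ : Perm (Fin (k + 3))) l)) →
      (ρ : Perm (Fin (k + 3))) p = p → ρ ∈ T := by
    intro ρ hρ hρp
    have hne : ∀ x, (x ≠ p) ↔ ((ρ : Perm (Fin (k + 3))) x ≠ p) := fun x => by
      conv_rhs => rw [← hρp]
      exact (ρ : Perm (Fin (k + 3))).injective.ne_iff.symm
    set τ : Perm (Fin (k + 2)) := e.symm.permCongr ((ρ : Perm (Fin (k + 3))).subtypePerm fun x => (hne x).symm)
      with hτ
    have hτe : ∀ i, (e (τ i) : Fin (k + 3)) = (ρ : Perm (Fin (k + 3))) (e i : Fin (k + 3)) := fun i => by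
      simp [hτ, Equiv.permCongr_apply]
    have hext : Perm.extendDomain τ e = (ρ : Perm (Fin (k + 3))) := Equiv.ext fun l => by
      by_cases h : l = p
      · rw [h, hρp]; exact Perm.extendDomain_apply_not_subtype τ e (fun h => h rfl)
      · obtain ⟨i, hi⟩ := e.surjective ⟨l, h⟩
        have : l = (e i : Fin (k + 3)) := by rw [hi]
        subst this
        rw [Perm.extendDomain_apply_image, hτe]
    have hτA : τ ∈ Alt (k + 2) := mem_Alt.2 (by rw [← sign_extendDomain τ e, hext]; exact ρ.2.1)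
    have hρeq : ρ = sk ⟨τ, hτA⟩ := Subtype.ext hext.symm
    rw [hρeq]
    have hin := hgen ⟨τ, hτA⟩ fun i hi => by
      rw [← hR]
      show InR 0 3 (e (τ i) : Fin (k + 3))
      rw [hτe]
      exact hρ _ ((hR i).2 hi)
    have hle : (Subgroup.closure ({a, s} : Set (Alt (k + 2)))).map sk ≤ T := by
      rw [MonoidHom.map_closure, Subgroup.closure_le]
      rintro _ ⟨x, rfl | rfl, rfl⟩
      · exact Subgroup.subset_closure (Or.inr (Or.inl rfl))
      · exact Subgroup.subset_closure (Or.inr (Or.inr rfl))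
    exact hle (Subgroup.mem_map_of_mem sk hin)
  have h := hσ p (by simp [InR, hp])
  simp only [InR] at h
  have hv : ∀ v : Fin (k + 3), (v : ℕ) < 3 → v = p ∨ v = e0 ∨ v = e1 := fun v hv => by
    simp only [e0, e1, hp, Fin.ext_iff]; omega
  rcases hv _ (by omega : ((σ : Perm (Fin (k + 3))) p : ℕ) < 3) with h | h | h
  · exact hfix σ hσ h
  · have := hfix (c * (c * σ)) (fun l hl => by
      simp only [Subgroup.coe_mul, Perm.mul_apply]; exact cs _ (cs _ (hσ l hl))) (by
      simp only [Subgroup.coe_mul, Perm.mul_apply, h, c0, c1])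
    exact (mul_mem_cancel_left hcT).1 ((mul_mem_cancel_left hcT).1 this)
  · have := hfix (c * σ) (fun l hl => by
      simp only [Subgroup.coe_mul, Perm.mul_apply]; exact cs _ (hσ l hl)) (by
      simp only [Subgroup.coe_mul, Perm.mul_apply, h, c1])
    exact (mul_mem_cancel_left hcT).1 this

/-- the shift by two of five points -/
def e5 : Alt 5 := ⟨finRotate 5 * finRotate 5, mem_Alt.2 (by decide +kernel)⟩

/-- the exchange of two triples -/
def e6 : Alt 6 := ⟨swap 0 3 * swap 1 4 * swap 2 5 * swap 0 1, mem_Alt.2 (by decide +kernel)⟩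

/-- two pairwise commuting families commute -/
theorem commute_closure {G : Type} [Group G] {X Y : Set G} (h : ∀ x ∈ X, ∀ y ∈ Y, Commute x y) {x y : G}
    (hx : x ∈ Subgroup.closure X) (hy : y ∈ Subgroup.closure Y) : Commute x y := by
  have hle : Subgroup.closure X ≤ Subgroup.centralizer ((Subgroup.closure Y : Subgroup G) : Set G) := by
    rw [Subgroup.centralizer_closure, Subgroup.closure_le]
    intro x hx
    rw [SetLike.mem_coe, Subgroup.mem_centralizer_iff]
    exact fun y hy => (h x hx y hy).eq.symm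
  exact (Subgroup.mem_centralizer_iff.1 (hle hx) y hy).symm

variable {F : Type} [Field F] [Fintype F]

/-- The extra relators over four elements. -/
theorem exists_relators_two (hF : Fintype.card F = 2 ^ 2) {n : ℕ} (hn : 4 ≤ n) :
    ∃ X : List (FreeGroup (Alt n ⊕ SU 3 F 2)), X.length ≤ 14 ∧
      (∀ r ∈ X, FreeGroup.lift (Sum.elim (rho F 2 n) (emb 0 (by omega : 0 + 3 ≤ n))) r = 1) ∧
      ∀ (H : Type) [Group H] (π : H →* SU n F 2) (D : Glue hn π),
        (∀ r ∈ X, FreeGroup.lift (Sum.elim D.fA D.fB) r = 1) → Function.Injective π := by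
  classical
  obtain ⟨N⟩ := Quad.exists_quad hF
  let iA : Alt n →* SU n F 2 := rho F 2 n
  let iB : SU 3 F 2 →* SU n F 2 := emb 0 (by omega : 0 + 3 ≤ n)
  let A : Alt n → FreeGroup (Alt n ⊕ SU 3 F 2) := fun x => FreeGroup.of (Sum.inl x)
  let B : SU 3 F 2 → FreeGroup (Alt n ⊕ SU 3 F 2) := fun x => FreeGroup.of (Sum.inr x)
  let L : ℕ → FreeGroup (Alt n ⊕ SU 3 F 2)
    | 0 => B (N.xg hF)
    | 1 => B (N.yg hF)
    | 2 => B (B0' F 2 (N.gg hF))
    | 3 => B (B0' F 2 (N.hh hF))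
    | 4 => A (cA (by omega))
    | 5 => A (sA hn)
    | 6 => (B (N.xg hF))⁻¹
    | 7 => (B (N.yg hF))⁻¹
    | 8 => (B (B0' F 2 (N.gg hF)))⁻¹
    | 9 => (B (B0' F 2 (N.hh hF)))⁻¹
    | 10 => (A (cA (by omega)))⁻¹
    | _ => (A (sA hn))⁻¹
  let EX : List (FreeGroup (Alt n ⊕ SU 3 F 2)) :=
    [(([0, 4, 7, 5, 1, 2, 5, 6, 5, 6, 5] : List ℕ).map L).prod, (([0, 5, 1, 0, 5, 7, 5, 7, 5, 9] : List ℕ).map L).prod]
  have hEX : ∀ {H : Type} [Group H] (fA : Alt n →* H) (fB : SU 3 F 2 →* H),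
      (∀ r ∈ EX, FreeGroup.lift (Sum.elim fA fB) r = 1) ↔ N.ExTwo hF hn fA fB := by
    intro H _ fA fB
    have hL : ∀ i, FreeGroup.lift (Sum.elim fA fB) (L i) = N.let2 hF hn fA fB i := fun i => by
      rcases i with _ | _ | _ | _ | _ | _ | _ | _ | _ | _ | _ | i <;> simp [L, A, B, Quad.let2]
    simp only [EX, Quad.ExTwo, List.forall_mem_cons, List.not_mem_nil, false_imp_iff, implies_true, and_true,
      Quad.word_map _ _ _ hL]
  rcases Nat.eq_or_lt_of_le hn with h4 | hn5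
  · subst h4
    refine ⟨EX, by simp [EX], (hEX _ _).2 (N.ex_model2 hF hn), fun H _ π D hX => ?_⟩
    exact N.injective_two_four hF D ((hEX _ _).1 hX)
  obtain ⟨m, rfl⟩ : ∃ m, n = m + 1 := ⟨n - 1, by omega⟩
  obtain ⟨a, s, ha, hs, hgenT⟩ := exists_triple_stab (n := m + 1) (by omega)
  have hblock : ∀ (t : Alt (m + 1)), (∀ k, InR 0 3 k → InR 0 3 ((t : Perm (Fin (m + 1))) k)) → ∀ x,
      ∃ x', rho F 2 (m + 1) t * iB x * (rho F 2 (m + 1) t)⁻¹ = iB x' := fun t ht x => rho_block hF _ _ t ht x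
  obtain ⟨ax, hax⟩ := hblock a ha (N.xg hF)
  obtain ⟨ay, hay⟩ := hblock a ha (N.yg hF)
  obtain ⟨sx, hsx⟩ := hblock s hs (N.xg hF)
  obtain ⟨sy, hsy⟩ := hblock s hs (N.yg hF)
  let cj : Alt (m + 1) → SU 3 F 2 → SU 3 F 2 → FreeGroup (Alt (m + 1) ⊕ SU 3 F 2) := fun t x y =>
    A t * B x * (A t)⁻¹ * (B y)⁻¹
  let cm : Alt (m + 1) → SU 3 F 2 → SU 3 F 2 → FreeGroup (Alt (m + 1) ⊕ SU 3 F 2) := fun d x y =>
    B x * (A d * B y * (A d)⁻¹) * (B x)⁻¹ * (A d * B y * (A d)⁻¹)⁻¹
  set d5 : Alt (m + 1) := altEmb (by omega : 5 ≤ m + 1) e5 with hd5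
  let NC : List (FreeGroup (Alt (m + 1) ⊕ SU 3 F 2)) :=
    [cj a (N.xg hF) ax, cj a (N.yg hF) ay, cj s (N.xg hF) sx, cj s (N.yg hF) sy,
      cm d5 (B0' F 2 (N.gg hF)) (N.xg hF), cm d5 (B0' F 2 (N.gg hF)) (N.yg hF),
      cm d5 (B0' F 2 (N.hh hF)) (N.xg hF), cm d5 (B0' F 2 (N.hh hF)) (N.yg hF)]
  let C6 : List (FreeGroup (Alt (m + 1) ⊕ SU 3 F 2)) :=
    if h : 6 ≤ m + 1 then
      [cm (altEmb h e6) (N.xg hF) (N.xg hF), cm (altEmb h e6) (N.xg hF) (N.yg hF),
        cm (altEmb h e6) (N.yg hF) (N.xg hF), cm (altEmb h e6) (N.yg hF) (N.yg hF)]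
    else []
  have hcm : ∀ {H : Type} [Group H] (fA : Alt (m + 1) →* H) (fB : SU 3 F 2 →* H) d x y,
      FreeGroup.lift (Sum.elim fA fB) (cm d x y) = 1 ↔ Commute (fB x) (fA d * fB y * (fA d)⁻¹) := fun fA fB d x y => by
    simp only [cm, A, B, map_mul, map_inv, FreeGroup.lift_apply_of, Sum.elim_inl, Sum.elim_inr]
    rw [mul_inv_eq_one, mul_inv_eq_iff_eq_mul]
    rfl
  have s5 : ∀ k : Fin (m + 1), InR 0 3 k → InR 2 3 ((d5 : Perm (Fin (m + 1))) k) := fun k hk => by
    simp only [InR] at hk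
    have key : ∀ i : Fin 5, (i : ℕ) < 3 → (((e5 : Perm (Fin 5)) i : ℕ) = i + 2) := by decide +kernel
    rw [show k = Fin.castLE (by omega : 5 ≤ m + 1) ⟨k, by omega⟩ from Fin.ext rfl, hd5, altEmb_lt]
    simp only [InR, Fin.val_castLE, key ⟨k, by omega⟩ (by simp; omega)]
    omega
  have s6 : ∀ (h : 6 ≤ m + 1) (k : Fin (m + 1)), InR 0 3 k →
      InR 3 3 (((altEmb h e6 : Alt (m + 1)) : Perm (Fin (m + 1))) k) := fun h k hk => by
    simp only [InR] at hk
    have key : ∀ i : Fin 6, (i : ℕ) < 3 → 3 ≤ ((e6 : Perm (Fin 6)) i : ℕ) := by decide +kernel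
    have h2 : ∀ i : Fin 6, (((e6 : Perm (Fin 6)) i : ℕ)) < 6 := fun i => Fin.isLt _
    rw [show k = Fin.castLE h ⟨k, by omega⟩ from Fin.ext rfl, altEmb_lt]
    simp only [InR, Fin.val_castLE]
    exact ⟨key _ (by simp; omega), h2 _⟩
  refine ⟨EX ++ NC ++ C6, ?_, ?_, fun H _ π D hX => ?_⟩
  · simp only [List.length_append, EX, NC, C6]
    split_ifs <;> simp
  · intro r hr
    simp only [List.mem_append] at hr
    rcases hr with (hr | hr) | hr
    · exact (hEX _ _).2 (N.ex_model2 hF hn) r hr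
    · revert r
      have c5 : ∀ x z, Commute (iB (B0' F 2 x)) (iA d5 * iB z * (iA d5)⁻¹) := fun x z => by
        obtain ⟨z', hz'⟩ := rho_block hF (by omega : 0 + 3 ≤ m + 1) (by omega : 2 + 3 ≤ m + 1) d5 s5 z
        rw [hz', show iB (B0' F 2 x) = emb 0 (by omega : 0 + 2 ≤ m + 1) x from
          DFunLike.congr_fun (emb3_comp (F := F) (q := 2) (by omega : 0 + 2 ≤ 3) (by omega : 0 + 3 ≤ m + 1)) x]
        exact commute_block _ _ (by omega) x z'
      simp only [NC, List.forall_mem_cons, List.not_mem_nil, false_imp_iff, implies_true, and_true, hcm]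
      simp only [cj, A, B, map_mul, map_inv, FreeGroup.lift_apply_of, Sum.elim_inl, Sum.elim_inr, mul_inv_eq_one]
      exact ⟨hax, hay, hsx, hsy, c5 _ _, c5 _ _, c5 _ _, c5 _ _⟩
    · revert r
      simp only [C6]
      split_ifs with h
      · have c6 : ∀ x z, Commute (iB x) (iA (altEmb h e6) * iB z * (iA (altEmb h e6))⁻¹) := fun x z => by
          obtain ⟨z', hz'⟩ := rho_block hF (by omega : 0 + 3 ≤ m + 1) (by omega : 3 + 3 ≤ m + 1) (altEmb h e6) (s6 h) z
          rw [hz']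
          exact commute_block _ _ (by omega) x z'
        simp only [List.forall_mem_cons, List.not_mem_nil, false_imp_iff, implies_true, and_true, hcm]
        exact ⟨c6 _ _, c6 _ _, c6 _ _, c6 _ _⟩
      · simp
  have hexr : N.ExTwo hF hn D.fA D.fB :=
    (hEX _ _).1 fun r hr => hX r (List.mem_append_left _ (List.mem_append_left _ hr))
  have hNC : ∀ r ∈ NC, FreeGroup.lift (Sum.elim D.fA D.fB) r = 1 := fun r hr =>
    hX r (List.mem_append_left _ (List.mem_append_right _ hr))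
  simp only [NC, List.forall_mem_cons, List.not_mem_nil, false_imp_iff, implies_true, and_true, hcm] at hNC
  simp only [cj, A, B, map_mul, map_inv, FreeGroup.lift_apply_of, Sum.elim_inl, Sum.elim_inr, mul_inv_eq_one] at hNC
  obtain ⟨nax, nay, nsx, nsy, g5x, g5y, h5x, h5y⟩ := hNC
  have hBgen : D.fB.range = Subgroup.closure {D.fB (N.xg hF), D.fB (N.yg hF)} := by
    rw [MonoidHom.range_eq_map, ← N.gen_xy hF, MonoidHom.map_closure, Set.image_pair]
  haveI : Finite D.fB.range := Finite.of_surjective _ D.fB.rangeRestrict_surjective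
  have hnorm : ∀ τ : Alt (m + 1), (∀ k, InR 0 3 k → InR 0 3 ((τ : Perm (Fin (m + 1))) k)) →
      D.mv τ D.fB.range = D.fB.range := by
    let K : Subgroup (Alt (m + 1)) :=
      { carrier := {t | D.mv t D.fB.range = D.fB.range}
        one_mem' := D.mv_one _
        mul_mem' := fun {x y} hx hy => by
          show D.mv (x * y) D.fB.range = D.fB.range
          rw [D.mv_mul, hy, hx]
        inv_mem' := fun {x} hx => by
          show D.mv x⁻¹ D.fB.range = D.fB.range
          conv_lhs => rw [← hx]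
          rw [← D.mv_mul, inv_mul_cancel, D.mv_one] }
    have hK : ∀ t, D.fA t * D.fB (N.xg hF) * (D.fA t)⁻¹ ∈ D.fB.range →
        D.fA t * D.fB (N.yg hF) * (D.fA t)⁻¹ ∈ D.fB.range → t ∈ K := by
      intro t h1 h2
      refine Subgroup.eq_of_le_of_card_ge ?_ (le_of_eq ?_)
      · rw [Glue.mv, Subgroup.map_le_iff_le_comap]
        refine hBgen.le.trans ((Subgroup.closure_le _).2 ?_)
        rintro _ (rfl | rfl)
        · exact h1
        · exact h2
      · exact Nat.card_congr (Subgroup.equivMapOfInjective _ _ (MulAut.conj (D.fA t)).injective).toEquiv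
    obtain ⟨z, hz⟩ := exists_emb hF 0 (by omega : 0 + 3 ≤ m + 1) (rho F 2 (m + 1) (cA (by omega))) (fun l hl => by
      rw [rho_single]
      congr 1
      refine ShortPresCarmichael.cyc_other ?_ ?_ ?_ <;> intro e <;> simp [e, InR] at hl)
    have hc : D.fA (cA (by omega)) ∈ D.fB.range := ⟨z, (D.hc z hz).symm⟩
    have hle : Subgroup.closure ({cA (by omega), a, s} : Set (Alt (m + 1))) ≤ K := by
      rw [Subgroup.closure_le]
      rintro _ (rfl | rfl | rfl)
      · exact hK _ (mul_mem (mul_mem hc ⟨_, rfl⟩) (inv_mem hc)) (mul_mem (mul_mem hc ⟨_, rfl⟩) (inv_mem hc))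
      · exact hK _ ⟨ax, nax.symm⟩ ⟨ay, nay.symm⟩
      · exact hK _ ⟨sx, nsx.symm⟩ ⟨sy, nsy.symm⟩
    exact fun τ hτ => hle (hgenT τ hτ)
  obtain ⟨U, V, hUe, h1, h2, hgen, hU, hV, h4⟩ := D.exists_phan hF hnorm fun S π4 D4 eA eB =>
    N.injective_two_four hF D4 (by
      have hm := N.let2_map hF S.subtype le_rfl hn D4.fA D4.fB D.fA D.fB eB
        ((eA _).trans (by rw [altEmb_cA])) ((eA _).trans (by rw [altEmb_sA]))
      constructor <;> refine Subtype.ext ?_
      · exact (Quad.word_map S.subtype _ _ hm _).trans hexr.1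
      · exact (Quad.word_map S.subtype _ _ hm _).trans hexr.2)
  have conj_comm : ∀ (σ d : Alt (m + 1)) (X Y : Subgroup H), (∀ x ∈ X, ∀ y ∈ D.mv d Y, Commute x y) →
      ∀ x ∈ D.mv σ X, ∀ y ∈ D.mv (σ * d) Y, x * y = y * x := by
    intro σ d X Y h x hx y hy
    rw [D.mv_mul] at hy
    obtain ⟨x0, hx0, rfl⟩ := hx
    obtain ⟨y0, hy0, rfl⟩ := hy
    exact ((h x0 hx0 y0 hy0).map (MulAut.conj (D.fA σ)).toMonoidHom).eq
  have hUgen : D.U0 = Subgroup.closure {D.fB (B0' F 2 (N.gg hF)), D.fB (B0' F 2 (N.hh hF))} := by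
    have hgh : Subgroup.closure ({N.gg hF, N.hh hF} : Set (SU 2 F 2)) = ⊤ := N.gen_gh hF
    rw [Glue.U0, MonoidHom.range_eq_map, ← hgh, MonoidHom.map_closure, Set.image_pair]
    rfl
  have hmvB : ∀ d, D.mv d D.fB.range = Subgroup.closure
      {D.fA d * D.fB (N.xg hF) * (D.fA d)⁻¹, D.fA d * D.fB (N.yg hF) * (D.fA d)⁻¹} := fun d => by
    rw [Glue.mv, hBgen, MonoidHom.map_closure, Set.image_pair]
    rfl
  have hUV : ∀ x ∈ D.U0, ∀ y ∈ D.mv d5 D.fB.range, Commute x y := fun x hx y hy => by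
    rw [hUgen] at hx
    rw [hmvB] at hy
    refine commute_closure ?_ hx hy
    rintro _ (rfl | rfl) _ (rfl | rfl)
    · exact g5x
    · exact g5y
    · exact h5x
    · exact h5y
  obtain ⟨f, hf⟩ := S3711.result m (by omega) F (by simpa using hF) U (fun i => (hUe i).some) V h1 h2 hgen h4
    (fun i j k hjk hd => by
      have hk := k.isLt
      have hi := i.isLt
      obtain ⟨σ, ε, hε, h⟩ := exists_even (r := 5) (by omega : 5 ≤ m + 1)
        (![(⟨i, by omega⟩ : Fin (m + 1)), ⟨i + 1, by omega⟩, ⟨j, by omega⟩, ⟨j + 1, by omega⟩, ⟨j + 2, by omega⟩])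
        (fun a b e => by
          fin_cases a <;> fin_cases b <;> simp [Fin.ext_iff] at e ⊢ <;> omega) 0 1 (by decide)
      have hσ0 : ∀ l, InR 0 2 l → InR i 2 ((σ : Perm (Fin (m + 1))) l) := fun l hl => by
        simp only [InR] at hl
        rw [show l = Fin.castLE (by omega : 5 ≤ m + 1) ⟨l, by omega⟩ from Fin.ext rfl, h]
        rcases (show (l : ℕ) = 0 ∨ (l : ℕ) = 1 by omega) with e | e <;> rcases hε with rfl | rfl <;>
          simp [InR, e, Equiv.swap_apply_def, Fin.ext_iff]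
      have hσ1 : ∀ l, InR 0 3 l → InR j 3 (((σ * d5 : Alt (m + 1)) : Perm (Fin (m + 1))) l) := fun l hl => by
        have h5 := s5 l hl
        rw [Subgroup.coe_mul, Perm.mul_apply]
        set u := (d5 : Perm (Fin (m + 1))) l
        simp only [InR] at h5
        rw [show u = Fin.castLE (by omega : 5 ≤ m + 1) ⟨u, by omega⟩ from Fin.ext rfl, h]
        rcases (show (u : ℕ) = 2 ∨ (u : ℕ) = 3 ∨ (u : ℕ) = 4 by omega) with e | e | e <;>
          rcases hε with rfl | rfl <;> simp [InR, e, Equiv.swap_apply_def, Fin.ext_iff]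
      rw [hU i σ hσ0, hV j k hjk _ hσ1]
      exact conj_comm σ d5 _ _ hUV)
    (fun i j k l hij hkl hjk => by
      have hl := l.isLt
      have h6 : 6 ≤ m + 1 := by omega
      have hC : ∀ r ∈ C6, FreeGroup.lift (Sum.elim D.fA D.fB) r = 1 := fun r hr => hX r (List.mem_append_right _ hr)
      simp only [C6, dif_pos h6, List.forall_mem_cons, List.not_mem_nil, false_imp_iff, implies_true, and_true,
        hcm] at hC
      obtain ⟨xx, xy, yx, yy⟩ := hC
      obtain ⟨σ, ε, hε, h⟩ := exists_even (r := 6) (by omega : 6 ≤ m + 1)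
        (![(⟨i, by omega⟩ : Fin (m + 1)), ⟨i + 1, by omega⟩, ⟨i + 2, by omega⟩, ⟨k, by omega⟩, ⟨k + 1, by omega⟩,
          ⟨k + 2, by omega⟩])
        (fun a b e => by
          fin_cases a <;> fin_cases b <;> simp [Fin.ext_iff] at e ⊢ <;> omega) 0 1 (by decide)
      have hσ0 : ∀ v, InR 0 3 v → InR i 3 ((σ : Perm (Fin (m + 1))) v) := fun v hv => by
        simp only [InR] at hv
        rw [show v = Fin.castLE (by omega : 6 ≤ m + 1) ⟨v, by omega⟩ from Fin.ext rfl, h]
        rcases (show (v : ℕ) = 0 ∨ (v : ℕ) = 1 ∨ (v : ℕ) = 2 by omega) with e | e | e <;>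
          rcases hε with rfl | rfl <;> simp [InR, e, Equiv.swap_apply_def, Fin.ext_iff]
      have hσ1 : ∀ v, InR 0 3 v →
          InR k 3 (((σ * altEmb h6 e6 : Alt (m + 1)) : Perm (Fin (m + 1))) v) := fun v hv => by
        have h5 := s6 h6 v hv
        rw [Subgroup.coe_mul, Perm.mul_apply]
        set u := ((altEmb h6 e6 : Alt (m + 1)) : Perm (Fin (m + 1))) v
        simp only [InR] at h5
        rw [show u = Fin.castLE (by omega : 6 ≤ m + 1) ⟨u, by omega⟩ from Fin.ext rfl, h]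
        rcases (show (u : ℕ) = 3 ∨ (u : ℕ) = 4 ∨ (u : ℕ) = 5 by omega) with e | e | e <;>
          rcases hε with rfl | rfl <;> simp [InR, e, Equiv.swap_apply_def, Fin.ext_iff]
      rw [hV i j hij σ hσ0, hV k l hkl _ hσ1]
      refine conj_comm σ _ _ _ fun x hx y hy => ?_
      rw [hBgen] at hx
      rw [hmvB] at hy
      refine commute_closure ?_ hx hy
      rintro _ (rfl | rfl) _ (rfl | rfl)
      · exact xx
      · exact xy
      · exact yx
      · exact yy)
  exact D.injective_of_surj hF f hf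

end Cfsg.Agent.UnitaryPres49
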