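import Cfsg.Agent.Lib.UnitaryPres49BigField
import Cfsg.Agent.Lib.UnitaryPres49QTwoGlue

/-!
The bounds for all fields, in any universe.
-/

set_option autoImplicit false
set_option linter.unusedSectionVars false

namespace Cfsg.Agent.UnitaryPres49

open Cfsg Cfsg.Agent.OrthUnitaryHerm Cfsg.Agent.OrthUnitaryTransvection Cfsg.Agent.PhanBlocks47
  Cfsg.Agent.ShortPres Cfsg.Agent.ShortPresTracked
open scoped Matrix

section Counts

variable {F : Type} [Field F] [Fintype F] {q n : ℕ}

/-- four elements -/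
theorem su_pres_two (hF : Fintype.card F = 2 ^ 2) (hn : 4 ≤ n) {kA NA : ℕ} (hA : PresBy (Alt n) kA NA) :
    PresBy (SU n F 2) (kA + 2) (NA + 24) := by
  obtain ⟨E, hE, hsat, hglue⟩ := exists_relators (q := 2) hF hn
  obtain ⟨X, hXlen, hXsat, hXinj⟩ := exists_relators_two hF hn
  obtain ⟨N⟩ := Quad.exists_quad hF
  refine PresBy.mono (PresBy.amalgam hA (N.su3_pres_two hF) (rho F 2 n) (emb 0 (by omega : 0 + 3 ≤ n))
    (gen_model hF hn) (E ++ X) ?_ fun H _ fA fB π h1 h2 h3 h4 => ?_) (by simp; omega)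
  · intro r hr
    rcases List.mem_append.1 hr with hr | hr
    · exact hsat r hr
    · exact hXsat r hr
  · obtain ⟨D, eA, eB⟩ := hglue H fA fB (fun r hr => h4 r (List.mem_append_left _ hr)) π h1 h2 h3
    exact hXinj H π D fun r hr => by rw [eA, eB]; exact h4 r (List.mem_append_right _ hr)

/-- the counts in all cases -/
theorem su_counts_all (hF : Fintype.card F = q ^ 2) (hn : 4 ≤ n) :
    PresBy (SU n F q) 6 39 ∧ (n = 4 ∨ n = 5 → PresBy (SU n F q) 6 35) := by
  rcases Nat.lt_or_ge q 3 with h | h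
  · obtain rfl : q = 2 := by have := two_le_q hF; omega
    rcases (show n = 4 ∨ n = 5 ∨ 6 ≤ n by omega) with rfl | rfl | h
    · have h := (su_pres_two hF hn S2288.alt_four_pres).pad.pad
      exact ⟨h.mono (by norm_num), fun _ => h.mono (by norm_num)⟩
    · have h := (su_pres_two hF hn S2288.alt_five_pres).pad.pad
      exact ⟨h.mono (by norm_num), fun _ => h.mono (by norm_num)⟩
    · exact ⟨(su_pres_two hF hn (S2288.alt_big_pres n (by omega))).pad.mono (by norm_num), fun h' => by omega⟩
  · exact ⟨(su_counts hF hn h).1.mono (by norm_num), (su_counts hF hn h).2⟩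

end Counts

section Transport

variable {K L : Type*} [Field K] [Field L] {q n : ℕ}

theorem map_mem (τ : K ≃+* L) {g : Matrix.SpecialLinearGroup (Fin n) K} (hg : g ∈ SU n K q) :
    Matrix.SpecialLinearGroup.map τ.toRingHom g ∈ SU n L q := by
  intro u v
  show hermForm n L q ((g : Matrix (Fin n) (Fin n) K).map τ *ᵥ u) ((g : Matrix (Fin n) (Fin n) K).map τ *ᵥ v) = _
  have e : ∀ w : Fin n → L, (g : Matrix (Fin n) (Fin n) K).map τ *ᵥ w =
      fun i => τ (((g : Matrix (Fin n) (Fin n) K) *ᵥ fun j => τ.symm (w j)) i) := fun w => by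
    funext i
    simp [Matrix.mulVec, dotProduct, map_sum]
  have h := congrArg τ (hg (fun j => τ.symm (u j)) fun j => τ.symm (v j))
  rw [e, e]
  simpa [hermForm, map_sum] using h

/-- the special unitary groups of isomorphic fields -/
def suMap (τ : K ≃+* L) : SU n K q ≃* SU n L q where
  toFun g := ⟨Matrix.SpecialLinearGroup.map τ.toRingHom g.1, map_mem τ g.2⟩
  invFun g := ⟨Matrix.SpecialLinearGroup.map τ.symm.toRingHom g.1, map_mem τ.symm g.2⟩
  left_inv g := Subtype.ext (Subtype.ext (Matrix.ext fun i j => τ.symm_apply_apply _))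
  right_inv g := Subtype.ext (Subtype.ext (Matrix.ext fun i j => τ.apply_symm_apply _))
  map_mul' a b := Subtype.ext (map_mul _ _ _)

theorem center_map_equiv {G H : Type*} [Group G] [Group H] (e : G ≃* H) :
    (Subgroup.center G).map (e : G →* H) = Subgroup.center H := by
  ext x
  constructor
  · rintro ⟨z, hz, rfl⟩
    rw [Subgroup.mem_center_iff]
    intro y
    obtain ⟨w, rfl⟩ := e.surjective y
    show e w * e z = e z * e w
    rw [← map_mul, ← map_mul, Subgroup.mem_center_iff.1 hz w]
  · intro hx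
    refine ⟨e.symm x, Subgroup.mem_center_iff.2 fun w => e.injective ?_, e.apply_symm_apply x⟩
    rw [map_mul, map_mul, e.apply_symm_apply, Subgroup.mem_center_iff.1 hx (e w)]

/-- the projective groups of isomorphic fields -/
noncomputable def psuMap (τ : K ≃+* L) : PSU n K q ≃* PSU n L q :=
  QuotientGroup.congr _ _ (suMap τ) (center_map_equiv (suMap τ))

end Transport

section Main

variable {F : Type*} [Field F] [Fintype F] {q n : ℕ}

/-- a copy of the field in the lowest universe -/
theorem exists_copy (F : Type*) [Field F] [Fintype F] :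
    ∃ (K : Type) (_ : Field K) (_ : Fintype K), Fintype.card K = Fintype.card F ∧ Nonempty (K ≃+* F) := by
  classical
  haveI : Small.{0} F := inferInstance
  letI : Fintype (Shrink.{0} F) := Fintype.ofEquiv F (equivShrink F)
  exact ⟨Shrink.{0} F, inferInstance, inferInstance, (Fintype.card_congr (equivShrink F)).symm, ⟨Shrink.ringEquiv F⟩⟩

/-- all the bounds -/
theorem su_bounds (hF : Fintype.card F = q ^ 2) (hn : 4 ≤ n) :
    PresBy (SU n F q) 6 39 ∧ PresBy (PSU n F q) 6 40 ∧ PresBy (SU 4 F q) 6 35 ∧ PresBy (SU 5 F q) 6 35 ∧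
      PresBy (PSU 4 F q) 6 36 := by
  obtain ⟨K, iK, iK', hK, ⟨τ⟩⟩ := exists_copy F
  rw [hF] at hK
  have h := (su_counts_all hK hn).1
  have h4 := (su_counts_all (n := 4) hK le_rfl).2 (Or.inl rfl)
  have h5 := (su_counts_all (n := 5) hK (by norm_num)).2 (Or.inr rfl)
  exact ⟨h.congr (suMap τ), (to_psu hK (by omega) h).congr (psuMap τ), h4.congr (suMap τ), h5.congr (suMap τ),
    (to_psu hK (by norm_num) h4).congr (psuMap τ)⟩

/-- projective groups, in few relations -/
theorem psu_short (hF : Fintype.card F = q ^ 2) (hn : 3 ≤ n) (h32 : ¬ (n = 3 ∧ q = 2)) :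
    Short (PSU n F q) 78 := by
  rcases Nat.eq_or_lt_of_le hn with rfl | h4
  · obtain ⟨K, iK, iK', hK, ⟨τ⟩⟩ := exists_copy F
    rw [hF] at hK
    have hq : 3 ≤ q := by have := two_le_q hF; omega
    exact ((to_psu hK (by norm_num) (su3_pres hK hq)).congr (psuMap τ) |>.mono (by norm_num)).short
  · exact ((su_bounds hF h4).2.1.mono (by norm_num)).short

end Main

end Cfsg.Agent.UnitaryPres49
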