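import Cfsg.Agent.Lib.UnitaryPres49QThree
import Cfsg.Agent.Lib.UnitaryPres49DataSU3

/-!
Coded matrices over four elements, and two letters with two relations for `SU 3`.
-/

set_option autoImplicit false
set_option linter.unusedSectionVars false

namespace Cfsg.Agent.UnitaryPres49

open Cfsg Cfsg.Agent.OrthUnitaryHerm Cfsg.Agent.OrthUnitaryTransvection Cfsg.Agent.PhanBlocks47
  Cfsg.Agent.ShortPres Cfsg.Agent.ShortPresTracked
open scoped Matrix

/-- a root of `X² = X + 1` in characteristic two -/
structure Quad (F : Type) [Field F] where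
  w : F
  sq : w * w = w + 1
  two : (2 : F) = 0

namespace Quad

variable {F : Type} [Field F] [Fintype F]

theorem exists_quad (hF : Fintype.card F = 2 ^ 2) : Nonempty (Quad F) := by
  classical
  have h4 : ((4 : ℕ) : F) = 0 := by
    have h := FiniteField.cast_card_eq_zero F
    rw [hF] at h
    exact h
  have h2 : (2 : F) = 0 := by
    have e : (2 : F) * 2 = ((4 : ℕ) : F) := by norm_num
    exact mul_self_eq_zero.1 (e.trans h4)
  obtain ⟨w, hw⟩ : ∃ w : F, w ∉ ({0, 1} : Finset F) := by
    refine Finset.exists_mem_notMem_of_card_lt_card (t := Finset.univ) (s := ({0, 1} : Finset F)) ?_ |>.imp fun w h => h.2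
    rw [Finset.card_univ, hF]
    exact lt_of_le_of_lt Finset.card_le_two (by norm_num)
  simp only [Finset.mem_insert, Finset.mem_singleton, not_or] at hw
  have h := FiniteField.pow_card w
  rw [hF] at h
  norm_num at h
  refine ⟨⟨w, ?_, h2⟩⟩
  have h3 : w * (w - 1) * (w * w + w + 1) = 0 := by linear_combination h
  rcases mul_eq_zero.1 h3 with h3 | h3
  · rcases mul_eq_zero.1 h3 with h3 | h3
    · exact absurd h3 hw.1
    · exact absurd (sub_eq_zero.1 h3) hw.2
  · linear_combination h3 - (w + 1) * h2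

/-- addition of codes -/
def cadd (a b : ℕ) : ℕ := (a % 2 + b % 2) % 2 + 2 * ((a / 2 % 2 + b / 2 % 2) % 2)

/-- multiplication of codes -/
def cmul (a b : ℕ) : ℕ :=
  (a % 2 * (b % 2) + a / 2 % 2 * (b / 2 % 2)) % 2 +
    2 * ((a % 2 * (b / 2 % 2) + a / 2 % 2 * (b % 2) + a / 2 % 2 * (b / 2 % 2)) % 2)

/-- conjugation of codes -/
def cconj (a : ℕ) : ℕ := cmul a a

variable {n : ℕ}

/-- sum of codes -/
def csum (f : Fin n → ℕ) : ℕ := ((List.finRange n).map f).foldr cadd 0

/-- product of coded matrices -/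
def cdot (A B : Matrix (Fin n) (Fin n) ℕ) : Matrix (Fin n) (Fin n) ℕ :=
  Matrix.of fun i j => csum fun k => cmul (A i k) (B k j)

/-- the identity -/
def cI (n : ℕ) : Matrix (Fin n) (Fin n) ℕ := Matrix.of fun i j => if i = j then 1 else 0

/-- equality of coded matrices -/
def meq (A B : Matrix (Fin n) (Fin n) ℕ) : Prop :=
  ((List.finRange n).all fun i => (List.finRange n).all fun j => Nat.beq (A i j) (B i j)) = true

instance (A B : Matrix (Fin n) (Fin n) ℕ) : Decidable (meq A B) := instDecidableEqBool _ true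

theorem of_meq {A B : Matrix (Fin n) (Fin n) ℕ} (h : meq A B) : A = B :=
  Matrix.ext fun i j => by
    simpa [meq] using List.all_eq_true.1 (List.all_eq_true.1 h i (List.mem_finRange i)) j (List.mem_finRange j)

/-- the unitarity test -/
def uok (A : Matrix (Fin n) (Fin n) ℕ) : Prop :=
  meq (cdot (Matrix.of fun i j => A j i) (Matrix.of fun i j => cconj (A i j))) (cI n)

instance (A : Matrix (Fin n) (Fin n) ℕ) : Decidable (uok A) := instDecidableEqBool _ true

variable (N : Quad F)
include N

/-- the element with code `a₀ + 2a₁` -/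
def val (a : ℕ) : F := ((a % 2 : ℕ) : F) + ((a / 2 % 2 : ℕ) : F) * N.w

theorem cast_mod (c : ℕ) : ((c % 2 : ℕ) : F) = (c : F) := by
  conv_rhs => rw [← Nat.div_add_mod c 2]
  push_cast
  rw [N.two, zero_mul, zero_add]

theorem val_pack (c d : ℕ) : N.val (c % 2 + 2 * (d % 2)) = (c : F) + (d : F) * N.w := by
  rw [val, show (c % 2 + 2 * (d % 2)) % 2 = c % 2 by omega, show (c % 2 + 2 * (d % 2)) / 2 % 2 = d % 2 by omega,
    N.cast_mod, N.cast_mod]

theorem val_add (a b : ℕ) : N.val (cadd a b) = N.val a + N.val b := by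
  rw [cadd, val_pack, val, val]
  push_cast
  ring

theorem val_mul (a b : ℕ) : N.val (cmul a b) = N.val a * N.val b := by
  rw [cmul, val_pack, val, val]
  push_cast
  linear_combination (-(((a / 2 % 2 : ℕ) : F) * ((b / 2 % 2 : ℕ) : F))) * N.sq

theorem val_zero : N.val 0 = 0 := by simp [val]

theorem val_one : N.val 1 = 1 := by simp [val]

theorem neg_eq (x : F) : -x = x := by linear_combination (-x) * N.two

theorem sub_eq (x y : F) : x - y = x + y := by rw [sub_eq_add_neg, N.neg_eq]

theorem val_inj {a b : ℕ} (ha : a < 4) (hb : b < 4) (e : N.val a = N.val b) : a = b := by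
  have key : ∀ a < 4, ∀ b < 4, a = b ∨ ∃ c < 4, cmul c (cadd a b) = 1 := by decide +kernel
  refine (key a ha b hb).resolve_right ?_
  rintro ⟨c, -, hc⟩
  have := congrArg N.val hc
  rw [val_mul, val_add, val_one, e, ← N.sub_eq, sub_self, mul_zero] at this
  exact zero_ne_one this

theorem map_cdot (A B : Matrix (Fin n) (Fin n) ℕ) : (cdot A B).map N.val = A.map N.val * B.map N.val := by
  have key : ∀ l : List (Fin n), ∀ f : Fin n → ℕ, N.val ((l.map f).foldr cadd 0) = (l.map fun k => N.val (f k)).sum := by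
    intro l f
    induction l with
    | nil => simp [val_zero]
    | cons k l ih => simp [val_add, ih]
  refine Matrix.ext fun i j => ?_
  simp [cdot, csum, key, Matrix.mul_apply, Fin.sum_univ_def, val_mul]

theorem map_cI : (cI n).map N.val = 1 := by
  refine Matrix.ext fun i j => ?_
  simp [cI, Matrix.one_apply, apply_ite N.val, val_zero, val_one]

theorem isU_of_ok (hF : Fintype.card F = 2 ^ 2) (A : Matrix (Fin n) (Fin n) ℕ) (h : uok A) :
    IsU 2 (A.map N.val) := by
  obtain ⟨σ, hσ⟩ := exists_frobHom (q := 2) hF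
  have h' := congrArg (Matrix.map · N.val) (of_meq h)
  simp only [N.map_cdot, N.map_cI] at h'
  have e1 : (Matrix.of fun i j => A j i).map N.val = (A.map N.val)ᵀ := rfl
  have e2 : (Matrix.of fun i j => cconj (A i j)).map N.val = (A.map N.val).map σ :=
    Matrix.ext fun i j => by simp [cconj, val_mul, hσ, pow_two]
  rw [e1, e2] at h'
  intro u v
  have hh : ∀ u v : Fin n → F, hermForm n F 2 u v = u ⬝ᵥ (σ ∘ v) := fun u v => by
    simp [hermForm, dotProduct, hσ]
  rw [hh, hh, show σ ∘ (A.map N.val *ᵥ v) = (A.map N.val).map σ *ᵥ (σ ∘ v) from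
    funext fun i => RingHom.map_mulVec σ _ v i, Matrix.dotProduct_mulVec, Matrix.vecMul_mulVec, h',
    Matrix.vecMul_one]

end Quad

namespace Quad

variable {F : Type} [Field F] [Fintype F]

/-- a three by three matrix from its packed code -/
def unp (c : ℕ) : Matrix (Fin 3) (Fin 3) ℕ := Matrix.of fun i j => c / 4 ^ (3 * (i : ℕ) + j) % 4

theorem unp_inj {c d : ℕ} (hc : c < 4 ^ 9) (hd : d < 4 ^ 9) (h : unp c = unp d) : c = d := by
  have a00 := congrFun (congrFun h 0) 0
  have a01 := congrFun (congrFun h 0) 1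
  have a02 := congrFun (congrFun h 0) 2
  have a10 := congrFun (congrFun h 1) 0
  have a11 := congrFun (congrFun h 1) 1
  have a12 := congrFun (congrFun h 1) 2
  have a20 := congrFun (congrFun h 2) 0
  have a21 := congrFun (congrFun h 2) 1
  have a22 := congrFun (congrFun h 2) 2
  simp [unp] at a00 a01 a02 a10 a11 a12 a20 a21 a22
  omega

/-- the four letters of `SU 3` -/
def Lx : ℕ → Matrix (Fin 3) (Fin 3) ℕ
  | 0 => !![3, 2, 3; 2, 2, 1; 2, 3, 3]
  | 1 => !![2, 1, 3; 1, 2, 3; 3, 3, 3]
  | 2 => !![2, 3, 3; 3, 3, 2; 2, 1, 2]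
  | _ => !![3, 1, 2; 1, 3, 2; 2, 2, 2]

/-- determinant of codes -/
def cdet (A : Matrix (Fin 3) (Fin 3) ℕ) : ℕ :=
  cadd (cadd (cadd (cadd (cadd (cmul (cmul (A 0 0) (A 1 1)) (A 2 2)) (cmul (cmul (A 0 0) (A 1 2)) (A 2 1)))
    (cmul (cmul (A 0 1) (A 1 0)) (A 2 2))) (cmul (cmul (A 0 1) (A 1 2)) (A 2 0)))
    (cmul (cmul (A 0 2) (A 1 0)) (A 2 1))) (cmul (cmul (A 0 2) (A 1 1)) (A 2 0))

variable (N : Quad F) (hF : Fintype.card F = 2 ^ 2)

theorem det_map (A : Matrix (Fin 3) (Fin 3) ℕ) (h : cdet A = 1) : (A.map N.val).det = 1 := by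
  have h' := congrArg N.val h
  simp only [cdet, val_add, val_mul, val_one] at h'
  rw [Matrix.det_fin_three]
  simp only [Matrix.map_apply, N.sub_eq]
  exact h'

/-- the first generator of `SU 3` -/
def xg : SU 3 F 2 := mkSU ((Lx 0).map N.val) (N.det_map _ (by decide +kernel)) (N.isU_of_ok hF _ (by decide +kernel))

/-- the second generator of `SU 3` -/
def yg : SU 3 F 2 := mkSU ((Lx 1).map N.val) (N.det_map _ (by decide +kernel)) (N.isU_of_ok hF _ (by decide +kernel))

/-- the letters -/
def lx {H : Type} [Group H] (a b : H) : ℕ → H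
  | 0 => a
  | 1 => b
  | 2 => a⁻¹
  | _ => b⁻¹

theorem Mt_lx (i : ℕ) (hi : i < 4) : Mt (lx (N.xg hF) (N.yg hF) i) = (Lx i).map N.val := by
  have key : ∀ (g : SU 3 F 2) (A B : Matrix (Fin 3) (Fin 3) ℕ), Mt g = A.map N.val → meq (cdot B A) (cI 3) →
      Mt g⁻¹ = B.map N.val := fun g A B hg h => by
    have h' := congrArg (Matrix.map · N.val) (of_meq h)
    simp only [N.map_cdot, N.map_cI] at h'
    calc Mt g⁻¹ = (B.map N.val * Mt g) * Mt g⁻¹ := by rw [hg, h', one_mul]
      _ = B.map N.val * Mt (g * g⁻¹) := by rw [mul_assoc]; rfl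
      _ = _ := by rw [mul_inv_cancel]; exact mul_one _
  match i, hi with
  | 0, _ => rfl
  | 1, _ => rfl
  | 2, _ => exact key _ (Lx 0) _ rfl (by decide +kernel)
  | 3, _ => exact key _ (Lx 1) _ rfl (by decide +kernel)

/-- the packed elements of `SU 3` -/
def codes : List ℕ := [65793, 255675, 261750, 158718, 174951, 4896, 93849, 227709, 241518, 131208, 189861, 227286, 12816, 179895, 153195, 104445, 196812, 245079, 223701, 161535, 235242, 121815, 126957, 89511, 113337, 159081, 113151, 196329, 109149, 96111, 87774, 243189, 169818, 223146, 122805, 88953, 257373, 111966, 186303, 171366, 126378, 124629, 163803, 95910, 223902, 108006, 220887, 97659, 185721, 244713, 170421, 121434, 87963, 131586, 104811, 251865, 191199, 32880, 155511, 179706, 253614, 49296, 253413, 8976, 16560, 196866, 190443, 8736, 14340, 179103, 33795, 129963, 197121, 131148, 50178, 239190, 11268, 66051, 13104, 178158, 228090, 49248, 18435, 128637, 49392, 19458, 154518, 103866, 130518, 197379, 229035, 105189, 6156, 251487, 15372,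 252858, 196740, 32976, 154329, 4656, 196680, 9228, 93663, 131268, 92526, 66306, 52227, 241131, 10248, 16608, 129774, 252279, 93093, 178521, 32928, 131331, 190806, 7176, 240375, 34818, 130905, 131841, 13320, 192378, 128439, 97245, 261561, 175518, 187047, 162666, 234861, 171003, 260013, 120303, 221085, 110334, 175707, 219750, 124251, 159663, 96666, 237558, 169629, 219006, 114282, 161142, 245658, 122238, 108393, 194013, 187989, 260958, 222567, 112533, 236991, 157146, 171759, 158325, 163221, 196518, 219561, 188382, 194391, 174006, 98037, 260571, 108951, 256998, 186858, 125823, 256431, 110523, 218619, 236187, 225273, 195006, 174573, 120489, 114663, 157335, 257754, 162477, 236373, 244335, 173817, 89709, 88566, 125622, 259815, 195195, 243390, 255861, 224895, 8496, 106134, 240573, 65604, 17409, 177765, 4368, 12576, 192189, 239001, 91770, 153006, 51201, 16464, 65676, 92151, 226719, 35841, 229221, 5124, 106335, 65736, 155133]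

/-- their tree -/
def edges : List ℕ := [0, 0, 1, 2, 3, 4, 5, 7, 8, 9, 10, 13, 14, 15, 16, 18, 19, 20, 21, 23, 24, 25, 26, 28, 30, 31, 32, 33, 35, 36, 37, 38, 41, 42, 43, 44, 45, 46, 49, 50, 51, 52, 54, 55, 56, 57, 59, 61, 62, 63, 64, 66, 67, 68, 69, 71, 72, 73, 74, 76, 78, 79, 80, 81, 83, 84, 85, 86, 89, 90, 91, 92, 93, 95, 97, 98, 99, 100, 102, 103, 104, 105, 108, 109, 112, 114, 115, 119, 120, 121, 122, 125, 126, 127, 128, 129, 130, 133, 134, 135, 136, 138, 139, 143, 145, 146, 149, 150, 151, 153, 154, 157, 160, 162, 167, 174, 176, 179, 181, 184, 187, 190, 200, 205, 208, 212, 215, 216, 218, 220, 222, 223, 224, 227, 230, 233, 234, 235, 236, 237, 239, 242, 243, 244, 247, 248, 249, 252, 256, 258, 259, 264, 266, 269, 271, 272, 274, 277, 278, 280, 282, 284, 287, 289, 292, 295, 298, 308, 313, 316, 321, 326, 333, 341, 344, 355, 357, 358, 362, 363, 370, 372, 374, 381, 385, 387, 403, 418, 430, 438, 445, 451, 459, 500, 503, 504, 507, 513, 516, 517, 524, 527, 528, 535, 537, 540, 542, 545, 552, 557, 572,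 576, 586, 600, 607, 610]

/-- the product along one edge -/
def edgeOK (v : ℕ) : Bool :=
  decide (v = 0) || (Nat.blt (edges.getD v 0 / 4) v &&
    decide (meq (cdot (unp (codes.getD (edges.getD v 0 / 4) 0)) (Lx (edges.getD v 0 % 4))) (unp (codes.getD v 0))))

theorem table_ok : ((List.range 216).all edgeOK = true ∧ meq (unp (codes.getD 0 0)) (cI 3)) ∧
    (codes.length = 216 ∧ codes.all (fun c => Nat.blt c (4 ^ 9)) = true) := by
  decide +kernel

theorem codes_nodup : codes.Nodup := by decide +kernel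

theorem gen_xy : Subgroup.closure ({N.xg hF, N.yg hF} : Set (SU 3 F 2)) = ⊤ := by
  classical
  set T := Subgroup.closure ({N.xg hF, N.yg hF} : Set (SU 3 F 2))
  obtain ⟨⟨hall, h0⟩, hlen, hsmall⟩ := table_ok
  have hl : ∀ i, i < 4 → lx (N.xg hF) (N.yg hF) i ∈ T := fun i hi => by
    match i, hi with
    | 0, _ => exact Subgroup.subset_closure (Or.inl rfl)
    | 1, _ => exact Subgroup.subset_closure (Or.inr rfl)
    | 2, _ => exact inv_mem (Subgroup.subset_closure (Or.inl rfl))
    | 3, _ => exact inv_mem (Subgroup.subset_closure (Or.inr rfl))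
  have hv : ∀ v, v < 216 → ∃ t ∈ T, Mt t = (unp (codes.getD v 0)).map N.val := by
    intro v
    induction v using Nat.strong_induction_on with
    | _ v ih =>
      intro hv
      rcases Nat.eq_zero_or_pos v with rfl | hpos
      · exact ⟨1, one_mem _, by rw [of_meq h0, N.map_cI]; rfl⟩
      · have h := List.all_eq_true.1 hall v (List.mem_range.2 hv)
        simp only [edgeOK, Bool.or_eq_true, decide_eq_true_eq, Bool.and_eq_true, Nat.blt_eq] at h
        obtain ⟨hlt, hm⟩ := h.resolve_left (by omega)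
        obtain ⟨t, ht, e⟩ := ih _ hlt (by omega)
        refine ⟨t * lx (N.xg hF) (N.yg hF) (edges.getD v 0 % 4), mul_mem ht (hl _ (Nat.mod_lt _ (by norm_num))), ?_⟩
        rw [← of_meq hm, N.map_cdot, ← e, ← N.Mt_lx hF _ (Nat.mod_lt _ (by norm_num))]
        rfl
  choose f hf hfe using fun v : Fin 216 => hv v v.isLt
  have hinj : Function.Injective fun v : Fin 216 => (⟨f v, hf v⟩ : T) := by
    intro a b e
    have e' := congrArg (fun t : T => Mt t.1) e
    simp only [hfe] at e'
    have ha : (a : ℕ) < codes.length := hlen.symm ▸ a.isLt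
    have hb : (b : ℕ) < codes.length := hlen.symm ▸ b.isLt
    have hc : codes.getD a 0 = codes.getD b 0 := by
      refine unp_inj ?_ ?_ (Matrix.ext fun i j => N.val_inj ?_ ?_ (congrFun (congrFun e' i) j))
      · rw [List.getD_eq_getElem _ _ ha]; simpa using List.all_eq_true.1 hsmall _ (List.getElem_mem ha)
      · rw [List.getD_eq_getElem _ _ hb]; simpa using List.all_eq_true.1 hsmall _ (List.getElem_mem hb)
      · exact Nat.mod_lt _ (by norm_num)
      · exact Nat.mod_lt _ (by norm_num)
    rw [List.getD_eq_getElem _ _ ha, List.getD_eq_getElem _ _ hb] at hc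
    exact Fin.ext ((List.Nodup.getElem_inj_iff codes_nodup).1 hc)
  refine Subgroup.eq_top_of_le_card _ ?_
  rw [StemSUBaseTools.card_SU_three hF]
  simpa using Nat.card_le_card_of_injective _ hinj

theorem Mt_wordx : ∀ w : List ℕ, (∀ i ∈ w, i < 4) →
    Mt ((w.map (lx (N.xg hF) (N.yg hF))).prod) = (w.foldr (fun i A => cdot (Lx i) A) (cI 3)).map N.val
  | [], _ => N.map_cI.symm
  | i :: w, h => by
    rw [List.map_cons, List.prod_cons, List.foldr_cons, N.map_cdot, ← N.Mt_lx hF i (h i (List.mem_cons_self ..)),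
      ← Mt_wordx w fun j hj => h j (List.mem_cons_of_mem _ hj)]
    rfl

include N hF in
/-- two generators and two relations -/
theorem su3_pres_two : PresBy (SU 3 F 2) 2 2 := by
  classical
  let R : List (FreeGroup (Fin 2)) :=
    UnitaryPres49DataSU3.rels.map fun w => (w.map (lx (FreeGroup.of (0 : Fin 2)) (FreeGroup.of 1))).prod
  have hlift : ∀ {H : Type} [Group H] (y : Fin 2 → H) (w : List ℕ),
      FreeGroup.lift y (w.map (lx (FreeGroup.of (0 : Fin 2)) (FreeGroup.of 1))).prod =
        (w.map (lx (y 0) (y 1))).prod := fun y w => by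
    rw [map_list_prod, List.map_map]
    refine congrArg _ (List.map_congr_left fun i _ => ?_)
    rcases i with _ | _ | _ | i <;> simp [lx]
  refine ⟨![N.xg hF, N.yg hF], R, by simp [R, UnitaryPres49DataSU3.rels], Pres.of_inj ?_ ?_ ?_⟩
  · intro r hr
    obtain ⟨w, hw, rfl⟩ := List.mem_map.1 hr
    rw [hlift]
    refine Mt_inj ?_
    show Mt ((w.map (lx (N.xg hF) (N.yg hF))).prod) = _
    have hok : ∀ w ∈ UnitaryPres49DataSU3.rels, (∀ i ∈ w, i < 4) ∧
        meq (w.foldr (fun i A => cdot (Lx i) A) (cI 3)) (cI 3) := by decide +kernel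
    rw [N.Mt_wordx hF w (hok w hw).1, of_meq (hok w hw).2, N.map_cI]
    rfl
  · rw [show Set.range ![N.xg hF, N.yg hF] = {N.xg hF, N.yg hF} by
      simp [Matrix.range_cons, Matrix.range_empty, Set.pair_comm]]
    exact N.gen_xy hF
  · intro H _ y π hπ hgenH hy
    have hyinv : ∀ i, i < 4 → lx (y 0) (y 1) i * lx (y 0) (y 1) (UnitaryPres49DataSU3.cert.iv i) = 1 := fun i hi => by
      match i, hi with
      | 0, _ => exact mul_inv_cancel _
      | 1, _ => exact mul_inv_cancel _
      | 2, _ => exact inv_mul_cancel _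
      | 3, _ => exact inv_mul_cancel _
    have hr : ∀ w ∈ UnitaryPres49DataSU3.cert.rels, (w.map (lx (y 0) (y 1))).prod = 1 := fun w hw => by
      rw [← hlift]
      exact hy _ (List.mem_map.2 ⟨w, hw, rfl⟩)
    have hgen : Submonoid.closure (lx (y 0) (y 1) '' {i | i < 4}) = ⊤ := by
      set M := Submonoid.closure (lx (y 0) (y 1) '' {i | i < 4})
      have hmem : ∀ i < 4, lx (y 0) (y 1) i ∈ M := fun i hi => Submonoid.subset_closure ⟨i, hi, rfl⟩
      have hle : (Subgroup.closure (Set.range y)).toSubmonoid ≤ M := by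
        rw [Subgroup.closure_toSubmonoid, Submonoid.closure_le]
        rintro g (⟨i, rfl⟩ | hg)
        · fin_cases i
          · exact hmem 0 (by norm_num)
          · exact hmem 1 (by norm_num)
        · obtain ⟨i, hi⟩ := hg
          rw [← inv_inv g, ← hi]
          fin_cases i
          · exact hmem 2 (by norm_num)
          · exact hmem 3 (by norm_num)
      rw [hgenH] at hle
      exact top_le_iff.1 hle
    obtain ⟨hfin, hle⟩ := UnitaryPres49Cert.bound UnitaryPres49DataSU3.check_eq (⊥ : Subgroup H) (lx (y 0) (y 1))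
      hyinv hr (by simp [UnitaryPres49DataSU3.cert]) hgen
    have hsurj : Function.Surjective π := by
      rw [← MonoidHom.range_eq_top, eq_top_iff, ← N.gen_xy hF, Subgroup.closure_le]
      rintro _ (rfl | rfl)
      · exact ⟨_, hπ 0⟩
      · exact ⟨_, hπ 1⟩
    refine ((Nat.bijective_iff_surjective_and_card π).2 ⟨hsurj, le_antisymm ?_
      (Nat.card_le_card_of_surjective π hsurj)⟩).1
    rw [StemSUBaseTools.card_SU_three hF]
    refine hle.trans ?_
    simp [UnitaryPres49DataSU3.cert]

end Quad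

end Cfsg.Agent.UnitaryPres49
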