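import Cfsg.Agent.Lib.UnitaryPres49Model
import Cfsg.Agent.Lib.PhanWeak47
import Cfsg.Agent.Lib.PhanSmall47
import Cfsg.Agent.Lib.OrthUnitaryPSU

/-!
An even permutation group and one block `SU 3`, glued along the first pair, cover at most `SU n`.
-/

set_option autoImplicit false
set_option linter.unusedSectionVars false

namespace Cfsg.Agent.UnitaryPres49

open Cfsg Cfsg.Agent.OrthUnitaryHerm Cfsg.Agent.OrthUnitaryTransvection Cfsg.Agent.PhanBlocks47
  Cfsg.Agent.PhanCoset47 Cfsg.Agent.PhanChain47 Equiv Equiv.Perm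
open Cfsg.Agent.ShortPresGlue (altOn mem_altOn)

variable {F : Type} [Field F] [Fintype F] {q n : ℕ}

/-- the first pair inside the first triple -/
abbrev B0' (F : Type) [Field F] [Fintype F] (q : ℕ) : SU 2 F q →* SU 3 F q := emb 0 (by omega)

/-- the last pair inside the first triple -/
abbrev B1' (F : Type) [Field F] [Fintype F] (q : ℕ) : SU 2 F q →* SU 3 F q := emb 1 (by omega)

/-- the three-cycle -/
def cA (hn : 3 ≤ n) : Alt n :=
  ⟨ShortPresCarmichael.cyc ⟨0, by omega⟩ ⟨1, by omega⟩ ⟨2, by omega⟩,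
    mem_Alt.2 (ShortPresCarmichael.sign_cyc (by simp [Fin.ext_iff]) (by simp [Fin.ext_iff]))⟩

/-- the exchange of the first two pairs -/
def pA (hn : 4 ≤ n) : Alt n :=
  ⟨swap ⟨0, by omega⟩ ⟨2, by omega⟩ * swap ⟨1, by omega⟩ ⟨3, by omega⟩, mem_Alt.2 (by
    rw [map_mul, sign_swap (by simp [Fin.ext_iff]), sign_swap (by simp [Fin.ext_iff])]; rfl)⟩

/-- The image of a block under an even permutation. -/
theorem rho_range {m a b : ℕ} (hF : Fintype.card F = q ^ 2) (ha : a + m ≤ n) (hb : b + m ≤ n) (g : SU n F q)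
    (σ : Fin n → Fin n) (c : Fin n → F) (hc : ∀ i, c i ≠ 0)
    (hg : ∀ i, act g (Pi.single i 1) = c i • Pi.single (σ i) 1) (hsurj : Function.Surjective σ)
    (hσ : ∀ k, InR a m k → InR b m (σ k)) :
    (emb a ha : SU m F q →* SU n F q).range.map (MulAut.conj g).toMonoidHom = (emb b hb).range := by
  classical
  refine Subgroup.eq_of_le_of_card_ge ?_ (le_of_eq ?_)
  · rintro _ ⟨_, ⟨x, rfl⟩, rfl⟩
    obtain ⟨x', hx'⟩ := conj_block hF ha hb g σ c hc hg hsurj hσ x
    exact ⟨x', hx'.symm⟩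
  · rw [Nat.card_congr (Subgroup.equivMapOfInjective _ _ (MulAut.conj g).injective).toEquiv.symm,
      ← Nat.card_congr (MonoidHom.ofInjective (emb_injective (F := F) (q := q) a ha)).toEquiv,
      ← Nat.card_congr (MonoidHom.ofInjective (emb_injective (F := F) (q := q) b hb)).toEquiv]

theorem rho_range' {m a b : ℕ} (hF : Fintype.card F = q ^ 2) (ha : a + m ≤ n) (hb : b + m ≤ n) (σ : Alt n)
    (hσ : ∀ k, InR a m k → InR b m ((σ : Perm (Fin n)) k)) :
    (emb a ha : SU m F q →* SU n F q).range.map (MulAut.conj (rho F q n σ)).toMonoidHom = (emb b hb).range :=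
  rho_range hF ha hb _ (fun k => (σ : Perm (Fin n)) k) (fun _ => 1) (fun _ => one_ne_zero)
    (fun i => by rw [rho_single, one_smul]) (σ : Perm (Fin n)).surjective hσ

theorem emb3_comp {a : ℕ} (ha : a + 2 ≤ 3) (hn : 0 + 3 ≤ n) :
    (emb 0 hn : SU 3 F q →* SU n F q).comp (emb a ha : SU 2 F q →* SU 3 F q) = emb a (by omega) :=
  MonoidHom.ext fun x => PhanCoset47.emb_emb' (a := a) (b := 0) _ _ _ (Nat.zero_add a).symm x

/-- A permuting element of `SU 3` moves one pair to the other. -/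
theorem triple_range (hF : Fintype.card F = q ^ 2) (hn : 4 ≤ n) (z : SU 3 F q)
    (hz : emb 0 (by omega : 0 + 3 ≤ n) z = rho F q n (cA (by omega))) :
    (B0' F q).range.map (MulAut.conj z).toMonoidHom = (B1' F q).range := by
  refine Subgroup.map_injective (emb_injective (F := F) (q := q) 0 (by omega : 0 + 3 ≤ n)) ?_
  rw [Subgroup.map_map, MonoidHom.map_range, MonoidHom.map_range, emb3_comp,
    ← rho_range' hF (by omega : 0 + 2 ≤ n) (by omega : 1 + 2 ≤ n) (cA (by omega)) (fun k hk => by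
      simp only [InR] at hk
      have h : k = ⟨0, by omega⟩ ∨ k = ⟨1, by omega⟩ := by simp only [Fin.ext_iff]; omega
      show InR 1 2 (ShortPresCarmichael.cyc _ _ _ k)
      rcases h with h | h <;> rw [h]
      · rw [ShortPresCarmichael.cyc_a (by simp [Fin.ext_iff]) (by simp [Fin.ext_iff])]; simp [InR]
      · rw [ShortPresCarmichael.cyc_b (by simp [Fin.ext_iff]) (by simp [Fin.ext_iff])]; simp [InR]),
    ← hz, MonoidHom.map_range]
  congr 1
  refine MonoidHom.ext fun x => ?_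
  simp only [MonoidHom.comp_apply, MulEquiv.coe_toMonoidHom, MulAut.conj_apply, map_mul, map_inv]
  rw [← MonoidHom.comp_apply, emb3_comp]

/-- The gluing data in a group over `SU n`. -/
structure Glue (hn : 4 ≤ n) {H : Type} [Group H] (π : H →* SU n F q) where
  fA : Alt n →* H
  fB : SU 3 F q →* H
  hA : ∀ a, π (fA a) = rho F q n a
  hB : ∀ x, π (fB x) = emb 0 (by omega) x
  gen : fA.range ⊔ fB.range = ⊤
  hc : ∀ z, emb 0 (by omega) z = rho F q n (cA (by omega)) → fA (cA (by omega)) = fB z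
  hstab : ∀ σ : Alt n, (∀ k, InR 0 2 k → InR 0 2 ((σ : Perm (Fin n)) k)) → ∀ x,
    ∃ x', fA σ * fB (B0' F q x) * (fA σ)⁻¹ = fB (B0' F q x')
  hcomm : ∀ x y, Commute (fB (B0' F q x)) (fA (pA hn) * fB (B0' F q y) * (fA (pA hn))⁻¹)

variable {hn : 4 ≤ n} {H : Type} [Group H] {π : H →* SU n F q} (D : Glue hn π)

include D

/-- the first pair -/
abbrev Glue.U0 : Subgroup H := (D.fB.comp (B0' F q)).range

/-- moved by a permutation -/
abbrev Glue.mv (σ : Alt n) (S : Subgroup H) : Subgroup H := S.map (MulAut.conj (D.fA σ)).toMonoidHom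

theorem Glue.mv_mul (σ τ : Alt n) (S : Subgroup H) : D.mv (σ * τ) S = D.mv σ (D.mv τ S) := by
  rw [Glue.mv, Glue.mv, Glue.mv, Subgroup.map_map]
  congr 1
  ext x
  simp [mul_assoc]

theorem Glue.mv_one (S : Subgroup H) : D.mv 1 S = S := by
  rw [Glue.mv, map_one, map_one]
  exact Subgroup.map_id S

theorem Glue.fB_inj : Function.Injective D.fB := fun x y e => emb_injective 0 (by omega : 0 + 3 ≤ n) (by
  rw [← D.hB, ← D.hB, e])

theorem Glue.mv_stab (σ : Alt n) (hσ : ∀ k, InR 0 2 k → InR 0 2 ((σ : Perm (Fin n)) k)) :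
    D.mv σ D.U0 = D.U0 := by
  haveI : Finite D.U0 := Finite.of_surjective _ (D.fB.comp (B0' F q)).rangeRestrict_surjective
  refine Subgroup.eq_of_le_of_card_ge ?_ (le_of_eq ?_)
  · rintro _ ⟨_, ⟨x, rfl⟩, rfl⟩
    obtain ⟨x', hx'⟩ := D.hstab σ hσ x
    exact ⟨x', hx'.symm⟩
  · exact Nat.card_congr (Subgroup.equivMapOfInjective _ _ (MulAut.conj (D.fA σ)).injective).toEquiv

/-- The moved first pair depends only on the image of the pair. -/
theorem Glue.mv_eq {σ τ : Alt n} (a : ℕ) (hσ : ∀ k, InR 0 2 k → InR a 2 ((σ : Perm (Fin n)) k))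
    (hτ : ∀ k, InR 0 2 k → InR a 2 ((τ : Perm (Fin n)) k)) : D.mv σ D.U0 = D.mv τ D.U0 := by
  classical
  have hback : ∀ k, InR a 2 ((τ : Perm (Fin n)) k) → InR 0 2 k := by
    intro k hk
    by_contra hc
    have h0 := hτ ⟨0, by omega⟩ (by simp [InR])
    have h1 := hτ ⟨1, by omega⟩ (by simp [InR])
    have e0 : (τ : Perm (Fin n)) k ≠ (τ : Perm (Fin n)) ⟨0, by omega⟩ :=
      (τ : Perm (Fin n)).injective.ne (fun e => hc (e ▸ by simp [InR]))
    have e1 : (τ : Perm (Fin n)) k ≠ (τ : Perm (Fin n)) ⟨1, by omega⟩ :=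
      (τ : Perm (Fin n)).injective.ne (fun e => hc (e ▸ by simp [InR]))
    have e2 : (τ : Perm (Fin n)) ⟨0, by omega⟩ ≠ (τ : Perm (Fin n)) ⟨1, by omega⟩ :=
      (τ : Perm (Fin n)).injective.ne (by simp [Fin.ext_iff])
    simp only [InR, ne_eq, Fin.ext_iff] at hk h0 h1 e0 e1 e2
    omega
  have := D.mv_stab (τ⁻¹ * σ) fun k hk => by
    refine hback _ ?_
    show InR a 2 ((τ : Perm (Fin n)) (((τ⁻¹ * σ : Alt n) : Perm (Fin n)) k))
    simp only [Subgroup.coe_mul, InvMemClass.coe_inv, Perm.mul_apply, Perm.inv_def, Equiv.apply_symm_apply]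
    exact hσ k hk
  rw [← mul_inv_cancel_left τ σ, D.mv_mul, this]

theorem Glue.B1_range (hF : Fintype.card F = q ^ 2) :
    (D.fB.comp (B1' F q)).range = D.mv (cA (by omega)) D.U0 := by
  obtain ⟨z, hz⟩ := exists_emb hF 0 (by omega : 0 + 3 ≤ n) (rho F q n (cA (by omega))) (fun k hk => by
    rw [rho_single]
    congr 1
    refine ShortPresCarmichael.cyc_other ?_ ?_ ?_ <;> intro e <;> simp [e, InR] at hk)
  rw [Glue.mv, Glue.U0, D.hc z hz, ← MonoidHom.map_range, ← triple_range hF hn z hz,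
    ← MonoidHom.map_range D.fB, Subgroup.map_map, Subgroup.map_map]
  congr 1
  ext x
  simp

omit D in
/-- An even permutation moving the first pair to a given pair. -/
theorem exists_pair (hn : 4 ≤ n) (i : ℕ) (hi : i + 2 ≤ n) :
    ∃ σ : Alt n, ∀ k, InR 0 2 k → InR i 2 ((σ : Perm (Fin n)) k) := by
  obtain ⟨σ, ε, -, h⟩ := exists_even (r := 2) (by omega) (fun j => (⟨i + j, by omega⟩ : Fin n))
    (fun a b e => Fin.ext (by simpa using e)) 0 1 (by decide)
  refine ⟨σ, fun k hk => ?_⟩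
  simp only [InR] at hk
  rw [show k = Fin.castLE (by omega : 2 ≤ n) ⟨k, by omega⟩ from Fin.ext rfl, h]
  simp [InR]
  omega

omit D in
/-- The standard homomorphism at the triple starting at `i`. -/
theorem exists_triple (hF : Fintype.card F = q ^ 2) (D : Glue hn π) (i : ℕ) (hi : i + 3 ≤ n) (P : ℕ → Alt n)
    (hP : ∀ j, j + 2 ≤ n → ∀ k, InR 0 2 k → InR j 2 ((P j : Perm (Fin n)) k)) :
    ∃ (σ : Alt n) (f : SU 3 F q →* H), (∀ k, InR 0 3 k → InR i 3 ((σ : Perm (Fin n)) k)) ∧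
      Function.Injective f ∧ f.range = D.mv σ D.fB.range ∧
      (f.comp (B0' F q)).range = D.mv (P i) D.U0 ∧ (f.comp (B1' F q)).range = D.mv (P (i + 1)) D.U0 := by
  classical
  obtain ⟨σ, ε, hε, h⟩ := exists_even (r := 3) (by omega) (fun j => (⟨i + j, by omega⟩ : Fin n))
    (fun a b e => Fin.ext (by simpa using e)) 0 2 (by decide)
  set e0 : Fin n := ⟨0, by omega⟩
  set e1 : Fin n := ⟨1, by omega⟩
  set e2 : Fin n := ⟨2, by omega⟩
  have s0 : (σ : Perm (Fin n)) e0 = ⟨i + (ε 0 : ℕ), by omega⟩ := h 0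
  have s1 : (σ : Perm (Fin n)) e1 = ⟨i + (ε 1 : ℕ), by omega⟩ := h 1
  have s2 : (σ : Perm (Fin n)) e2 = ⟨i + (ε 2 : ℕ), by omega⟩ := h 2
  have hσ3 : ∀ k, InR 0 3 k → InR i 3 ((σ : Perm (Fin n)) k) := fun k hk => by
    simp only [InR] at hk
    rw [show k = Fin.castLE (by omega : 3 ≤ n) ⟨k, by omega⟩ from Fin.ext rfl, h]
    simp [InR]
  have c0 : ((cA (n := n) (by omega) : Alt n) : Perm (Fin n)) e0 = e1 :=
    ShortPresCarmichael.cyc_a (by simp [Fin.ext_iff]) (by simp [Fin.ext_iff])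
  have c1 : ((cA (n := n) (by omega) : Alt n) : Perm (Fin n)) e1 = e2 :=
    ShortPresCarmichael.cyc_b (by simp [Fin.ext_iff]) (by simp [Fin.ext_iff])
  have h01 : ∀ k, InR 0 2 k → k = e0 ∨ k = e1 := fun k hk => by
    simp only [InR] at hk
    simp only [e0, e1, Fin.ext_iff]; omega
  -- the images of the two pairs
  have hlow : ∀ j, j + 2 ≤ n → (∀ x : Fin 3, (x : ℕ) ≤ 1 → j ≤ i + (ε x : ℕ) ∧ i + (ε x : ℕ) < j + 2) →
      D.mv σ D.U0 = D.mv (P j) D.U0 := fun j hj hx => D.mv_eq j (fun k hk => by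
    rcases h01 k hk with rfl | rfl
    · rw [s0]; exact hx 0 (by simp)
    · rw [s1]; exact hx 1 (by simp)) (hP j hj)
  have hhigh : ∀ j, j + 2 ≤ n → (∀ x : Fin 3, 1 ≤ (x : ℕ) → j ≤ i + (ε x : ℕ) ∧ i + (ε x : ℕ) < j + 2) →
      D.mv σ (D.mv (cA (by omega)) D.U0) = D.mv (P j) D.U0 := fun j hj hx => by
    rw [← D.mv_mul]
    refine D.mv_eq j (fun k hk => ?_) (hP j hj)
    rw [Subgroup.coe_mul, Perm.mul_apply]
    rcases h01 k hk with rfl | rfl
    · rw [c0, s1]; exact hx 1 (by simp)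
    · rw [c1, s2]; exact hx 2 (by simp)
  let cj : H →* H := (MulAut.conj (D.fA σ)).toMonoidHom
  rcases hε with rfl | rfl
  · refine ⟨σ, cj.comp D.fB, hσ3, (MulAut.conj (D.fA σ)).injective.comp D.fB_inj,
      (MonoidHom.map_range cj D.fB).symm, ?_, ?_⟩
    · rw [MonoidHom.comp_assoc, ← MonoidHom.map_range]
      exact hlow i (by omega) fun x hx => by simp; omega
    · rw [MonoidHom.comp_assoc, ← MonoidHom.map_range, D.B1_range hF]
      exact hhigh (i + 1) (by omega) fun x hx => by simp; omega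
  · obtain ⟨w, c, hc, hw⟩ := PhanFourBase47.exists_perm_su (F := F) (q := q) hF (k := 2) (swap 0 2)
    let cw : SU 3 F q →* SU 3 F q := (MulAut.conj w).toMonoidHom
    have r0 : (B0' F q).range.map cw = (B1' F q).range :=
      rho_range hF (by omega) (by omega) w (swap (0 : Fin 3) 2) c hc hw (swap (0 : Fin 3) 2).surjective
        (fun k => by fin_cases k <;> simp [InR] <;> decide)
    have r1 : (B1' F q).range.map cw = (B0' F q).range :=
      rho_range hF (by omega) (by omega) w (swap (0 : Fin 3) 2) c hc hw (swap (0 : Fin 3) 2).surjective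
        (fun k => by fin_cases k <;> simp [InR] <;> decide)
    refine ⟨σ, cj.comp (D.fB.comp cw), hσ3,
      (MulAut.conj (D.fA σ)).injective.comp (D.fB_inj.comp (MulAut.conj w).injective), ?_, ?_, ?_⟩
    · rw [← MonoidHom.map_range, ← MonoidHom.map_range D.fB, MonoidHom.range_eq_top.2
        (MulAut.conj w).surjective, ← MonoidHom.range_eq_map]
    · rw [MonoidHom.comp_assoc, MonoidHom.comp_assoc, ← MonoidHom.map_range, ← MonoidHom.map_range,
        ← MonoidHom.map_range, r0, MonoidHom.map_range D.fB, D.B1_range hF]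
      refine hhigh i (by omega) fun x hx => ?_
      fin_cases x <;> simp [swap_apply_of_ne_of_ne] at hx ⊢ <;> omega
    · rw [MonoidHom.comp_assoc, MonoidHom.comp_assoc, ← MonoidHom.map_range, ← MonoidHom.map_range,
        ← MonoidHom.map_range, r1, MonoidHom.map_range D.fB]
      refine hlow (i + 1) (by omega) fun x hx => ?_
      fin_cases x <;> simp [swap_apply_of_ne_of_ne] at hx ⊢ <;> omega

omit D in
/-- An even permutation of the first three points is a power of the three-cycle. -/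
theorem mem_zpowers_cA (hn : 3 ≤ n) (ω : Alt n) (hω : ∀ k : Fin n, 3 ≤ (k : ℕ) → (ω : Perm (Fin n)) k = k) :
    ω ∈ Subgroup.zpowers (cA hn) := by
  classical
  set e0 : Fin n := ⟨0, by omega⟩
  set e1 : Fin n := ⟨1, by omega⟩
  set e2 : Fin n := ⟨2, by omega⟩
  have c0 : (cA hn : Perm (Fin n)) e0 = e1 :=
    ShortPresCarmichael.cyc_a (by simp [Fin.ext_iff]) (by simp [Fin.ext_iff])
  have c1 : (cA hn : Perm (Fin n)) e1 = e2 :=
    ShortPresCarmichael.cyc_b (by simp [Fin.ext_iff]) (by simp [Fin.ext_iff])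
  have cf : ∀ k : Fin n, 3 ≤ (k : ℕ) → (cA hn : Perm (Fin n)) k = k := fun k hk =>
    ShortPresCarmichael.cyc_other (by simp [Fin.ext_iff]; omega) (by simp [Fin.ext_iff]; omega)
      (by simp [Fin.ext_iff]; omega)
  have hw : ((ω : Perm (Fin n)) e0 : ℕ) < 3 := by
    by_contra hc
    have e := (ω : Perm (Fin n)).injective (hω ((ω : Perm (Fin n)) e0) (by omega))
    rw [e] at hc
    simp [e0] at hc
  obtain ⟨u, hu, hu0, huf⟩ : ∃ u : Alt n, u ∈ Subgroup.zpowers (cA hn) ∧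
      (u : Perm (Fin n)) e0 = (ω : Perm (Fin n)) e0 ∧ ∀ k : Fin n, 3 ≤ (k : ℕ) → (u : Perm (Fin n)) k = k := by
    obtain h | h | h : ((ω : Perm (Fin n)) e0 : ℕ) = 0 ∨ ((ω : Perm (Fin n)) e0 : ℕ) = 1 ∨
        ((ω : Perm (Fin n)) e0 : ℕ) = 2 := by omega
    · exact ⟨1, one_mem _, (Fin.ext h.symm : e0 = _), fun _ _ => rfl⟩
    · exact ⟨cA hn, Subgroup.mem_zpowers _, c0.trans (Fin.ext h.symm), cf⟩
    · refine ⟨cA hn * cA hn, mul_mem (Subgroup.mem_zpowers _) (Subgroup.mem_zpowers _), ?_, fun k hk => ?_⟩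
      · rw [Subgroup.coe_mul, Perm.mul_apply, c0, c1]; exact Fin.ext h.symm
      · rw [Subgroup.coe_mul, Perm.mul_apply, cf k hk, cf k hk]
  let r : Alt n := u⁻¹ * ω
  have hr0 : (r : Perm (Fin n)) e0 = e0 := by
    simp [r, Perm.inv_def, Equiv.symm_apply_eq, hu0]
  have hrf : ∀ k : Fin n, 3 ≤ (k : ℕ) → (r : Perm (Fin n)) k = k := fun k hk => by
    simp [r, Perm.inv_def, Equiv.symm_apply_eq, hω k hk, huf k hk]
  have hstay : ∀ k : Fin n, k = e1 ∨ k = e2 → (r : Perm (Fin n)) k = e1 ∨ (r : Perm (Fin n)) k = e2 := by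
    intro k hk
    have a : (r : Perm (Fin n)) k ≠ e0 := fun e => by
      have := (r : Perm (Fin n)).injective (e.trans hr0.symm)
      rcases hk with rfl | rfl <;> simp [e0, e1, e2, Fin.ext_iff] at this
    have b : ((r : Perm (Fin n)) k : ℕ) < 3 := by
      by_contra hc
      have e := (r : Perm (Fin n)).injective (hrf ((r : Perm (Fin n)) k) (by omega))
      rcases hk with rfl | rfl <;> rw [e] at hc <;> simp [e1, e2] at hc
    simp only [e0, e1, e2, ne_eq, Fin.ext_iff] at a ⊢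
    omega
  have hne : e1 ≠ e2 := by simp [e1, e2, Fin.ext_iff]
  have hcases : ∀ k : Fin n, k = e0 ∨ k = e1 ∨ k = e2 ∨ 3 ≤ (k : ℕ) := fun k => by
    simp only [e0, e1, e2, Fin.ext_iff]; omega
  have hr : r = 1 := by
    rcases hstay e1 (Or.inl rfl) with h1 | h1
    · have h2 : (r : Perm (Fin n)) e2 = e2 := (hstay e2 (Or.inr rfl)).resolve_left fun h =>
        hne ((r : Perm (Fin n)).injective (h1.trans h.symm))
      refine Subtype.ext (Equiv.ext fun k => ?_)
      rcases hcases k with rfl | rfl | rfl | hk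
      · exact hr0
      · exact h1
      · exact h2
      · exact hrf k hk
    · have h2 : (r : Perm (Fin n)) e2 = e1 := (hstay e2 (Or.inr rfl)).resolve_right fun h =>
        hne ((r : Perm (Fin n)).injective (h1.trans h.symm))
      have : (r : Perm (Fin n)) = swap e1 e2 := Equiv.ext fun k => by
        rcases hcases k with rfl | rfl | rfl | hk
        · rw [hr0, swap_apply_of_ne_of_ne] <;> simp [e0, e1, e2, Fin.ext_iff]
        · rw [h1, swap_apply_left]
        · rw [h2, swap_apply_right]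
        · rw [hrf k hk, swap_apply_of_ne_of_ne] <;> simp [e1, e2, Fin.ext_iff] <;> omega
      have hs := r.2.1
      rw [this, sign_swap hne] at hs
      exact absurd hs (by decide)
  rw [show ω = u from (inv_mul_eq_one.1 hr).symm]
  exact hu

omit D in
/-- A glued group receiving a surjection from `SU n` is `SU n`. -/
theorem Glue.injective_of_surj {N : ℕ} {hN : 4 ≤ N} {π : H →* SU N F q} (D : Glue hN π)
    (hF : Fintype.card F = q ^ 2) (φ : SU N F q →* H) (hφ : Function.Surjective φ) : Function.Injective π := by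
  haveI : Finite H := Finite.of_surjective φ hφ
  have hsurj : Function.Surjective π := by
    rw [← MonoidHom.range_eq_top, eq_top_iff, ← gen_blocks (q := q) hF N (by omega), Subgroup.closure_le]
    have hρ : ∀ a, rho F q N a ∈ π.range := fun a => ⟨D.fA a, D.hA a⟩
    have h3 : ∀ x, emb 0 (by omega : 0 + 3 ≤ N) x ∈ π.range := fun x => ⟨D.fB x, D.hB x⟩
    rintro _ (⟨k, hk, a, rfl⟩ | ⟨k, hk, b, rfl⟩)
    · obtain ⟨σ, hσ⟩ := exists_pair hN k hk
      have : emb k hk a ∈ (emb k hk : SU 2 F q →* SU N F q).range := ⟨a, rfl⟩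
      rw [← rho_range' hF (by omega : 0 + 2 ≤ N) hk σ hσ] at this
      obtain ⟨_, ⟨x, rfl⟩, e⟩ := this
      rw [← e]
      refine mul_mem (mul_mem (hρ σ) ?_) (inv_mem (hρ σ))
      rw [show emb 0 (by omega : 0 + 2 ≤ N) x = emb 0 (by omega : 0 + 3 ≤ N) (emb 0 (by omega : 0 + 2 ≤ 3) x) from
        (DFunLike.congr_fun (emb3_comp (F := F) (q := q) (by omega : 0 + 2 ≤ 3) (by omega : 0 + 3 ≤ N)) x).symm]
      exact h3 _
    · obtain ⟨σ, ε, -, h⟩ := exists_even (r := 3) (by omega : 3 ≤ N) (fun j => (⟨k + j, by omega⟩ : Fin N))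
        (fun a b e => Fin.ext (by simpa using e)) 0 2 (by decide)
      have hσ : ∀ l, InR 0 3 l → InR k 3 ((σ : Perm (Fin N)) l) := fun l hl => by
        simp only [InR] at hl
        rw [show l = Fin.castLE (by omega : 3 ≤ N) ⟨l, by omega⟩ from Fin.ext rfl, h]
        simp [InR]
      have : emb k hk b ∈ (emb k hk : SU 3 F q →* SU N F q).range := ⟨b, rfl⟩
      rw [← rho_range' hF (by omega : 0 + 3 ≤ N) hk σ hσ] at this
      obtain ⟨_, ⟨x, rfl⟩, e⟩ := this
      rw [← e]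
      exact mul_mem (mul_mem (hρ σ) (h3 _)) (inv_mem (hρ σ))
  have h1 : Nat.card H ≤ Nat.card (SU N F q) := Nat.card_le_card_of_surjective φ hφ
  have h2 : Nat.card (SU N F q) ≤ Nat.card H := Nat.card_le_card_of_surjective π hsurj
  exact ((Nat.bijective_iff_surjective_and_card π).2 ⟨hsurj, le_antisymm h1 h2⟩).1

/-- The data of a surjection onto the glued group. -/
theorem Glue.exists_system (hF : Fintype.card F = q ^ 2) :
    ∃ (U : Fin (n - 1) → Subgroup H) (V : Fin (n - 1) → Fin (n - 1) → Subgroup H) (P : ℕ → Alt n),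
      (∀ j, j + 2 ≤ n → ∀ k, InR 0 2 k → InR j 2 ((P j : Perm (Fin n)) k)) ∧
      (∀ i, U i = D.mv (P i) D.U0) ∧
      (∀ i j : Fin (n - 1), (i : ℕ) + 2 ≤ j → ∀ x ∈ U i, ∀ y ∈ U j, x * y = y * x) ∧
      (∀ i j : Fin (n - 1), (i : ℕ) + 1 = j → IsStandardUnitaryPair (V i j) (U i) (U j) F q) ∧
      (∀ i j : Fin (n - 1), (i : ℕ) + 1 = j → ∀ σ : Alt n,
        (∀ k, InR 0 3 k → InR i 3 ((σ : Perm (Fin n)) k)) → ∃ τ : Alt n,
          (∀ k, InR 0 3 k → InR i 3 ((τ : Perm (Fin n)) k)) ∧ V i j = D.mv τ D.fB.range) ∧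
      (⨆ i, U i) ⊔ (⨆ (i : Fin (n - 1)) (j : Fin (n - 1)) (_ : (i : ℕ) + 1 = j), V i j) = ⊤ := by
  classical
  choose P0 hP0 using fun j : {j : ℕ // j + 2 ≤ n} => exists_pair hn j.1 j.2
  let P : ℕ → Alt n := fun j => if h : j + 2 ≤ n then P0 ⟨j, h⟩ else 1
  have hP : ∀ j, j + 2 ≤ n → ∀ k, InR 0 2 k → InR j 2 ((P j : Perm (Fin n)) k) := fun j h k hk => by
    simp only [P, dif_pos h]; exact hP0 ⟨j, h⟩ k hk
  choose T0 f0 hT hinj hr h0 h1 using fun i : {i : ℕ // i + 3 ≤ n} => exists_triple hF D i.1 i.2 P hP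
  let U : Fin (n - 1) → Subgroup H := fun i => D.mv (P i) D.U0
  let V : Fin (n - 1) → Fin (n - 1) → Subgroup H := fun i _ =>
    if h : (i : ℕ) + 3 ≤ n then (f0 ⟨i, h⟩).range else ⊥
  refine ⟨U, V, P, hP, fun _ => rfl, ?_, ?_, ?_, ?_⟩
  · intro i j hij
    have hi := i.isLt
    have hj := j.isLt
    obtain ⟨σ, ε, hε, h⟩ := exists_even (r := 4) (by omega : 4 ≤ n)
      (![(⟨i, by omega⟩ : Fin n), ⟨i + 1, by omega⟩, ⟨j, by omega⟩, ⟨j + 1, by omega⟩])
      (fun a b e => by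
        fin_cases a <;> fin_cases b <;> simp [Fin.ext_iff] at e ⊢ <;> omega) 0 1 (by decide)
    have hUi : U i = D.mv σ D.U0 := D.mv_eq (i : ℕ) (hP i (by omega)) (fun k hk => by
      simp only [InR] at hk
      rw [show k = Fin.castLE (by omega : 4 ≤ n) ⟨k, by omega⟩ from Fin.ext rfl, h]
      have hx : (⟨k, by omega⟩ : Fin 4) = 0 ∨ (⟨k, by omega⟩ : Fin 4) = 1 := by
        simp only [Fin.ext_iff]; simp; omega
      rcases hε with rfl | rfl <;> rcases hx with hx | hx <;> rw [hx] <;> simp [InR])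
    have hUj : U j = D.mv σ (D.mv (pA hn) D.U0) := by
      rw [← D.mv_mul]
      refine D.mv_eq (j : ℕ) (hP j (by omega)) (fun k hk => ?_)
      simp only [InR] at hk
      have hp : ((pA hn : Alt n) : Perm (Fin n)) k = Fin.castLE (by omega : 4 ≤ n) ⟨(k : ℕ) + 2, by omega⟩ := by
        show (swap _ _ * swap _ _ : Perm (Fin n)) k = _
        have hk' : k = ⟨0, by omega⟩ ∨ k = ⟨1, by omega⟩ := by simp only [Fin.ext_iff]; omega
        rcases hk' with hk' | hk' <;> subst_eqs <;> (simp only [hk'])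
        · rw [Perm.mul_apply, swap_apply_of_ne_of_ne (a := (⟨1, _⟩ : Fin n)), swap_apply_left] <;>
            simp [Fin.ext_iff]
        · rw [Perm.mul_apply, swap_apply_left, swap_apply_of_ne_of_ne] <;> simp [Fin.ext_iff]
      rw [Subgroup.coe_mul, Perm.mul_apply, hp, h]
      have hx : (⟨(k : ℕ) + 2, by omega⟩ : Fin 4) = 2 ∨ (⟨(k : ℕ) + 2, by omega⟩ : Fin 4) = 3 := by
        simp only [Fin.ext_iff]; simp; omega
      rcases hε with rfl | rfl <;> rcases hx with hx | hx <;> rw [hx] <;> simp [InR, swap_apply_of_ne_of_ne]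
    rw [hUi, hUj]
    rintro _ ⟨x, ⟨x0, rfl⟩, rfl⟩ _ ⟨y, ⟨y', ⟨y0, rfl⟩, rfl⟩, rfl⟩
    simp only [MulEquiv.coe_toMonoidHom, ← map_mul, MonoidHom.comp_apply]
    exact congrArg _ (D.hcomm x0 y0).eq
  · intro i j hij
    have hj := j.isLt
    have h : (i : ℕ) + 3 ≤ n := by omega
    have hV : V i j = (f0 ⟨i, h⟩).range := dif_pos h
    have hUj : U j = D.mv (P ((i : ℕ) + 1)) D.U0 := by rw [hij]
    refine Or.inl ⟨(MonoidHom.ofInjective (hinj ⟨i, h⟩)).trans (MulEquiv.subgroupCongr hV.symm), ?_, ?_⟩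
    · rw [PhanAlign47.suBlock_eq hF 0 (by omega) _ fun k => by fin_cases k <;> simp [InR],
        MonoidHom.map_range, show U i = _ from (h0 ⟨i, h⟩).symm]
      rfl
    · rw [PhanAlign47.suBlock_eq hF 1 (by omega) _ fun k => by fin_cases k <;> simp [InR],
        MonoidHom.map_range, hUj, ← h1 ⟨i, h⟩]
      rfl
  · intro i j hij σ _
    have hj := j.isLt
    have h : (i : ℕ) + 3 ≤ n := by omega
    exact ⟨T0 ⟨i, h⟩, hT ⟨i, h⟩, by rw [show V i j = (f0 ⟨i, h⟩).range from dif_pos h, hr]⟩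
  · set T := (⨆ i, U i) ⊔ (⨆ (i : Fin (n - 1)) (j : Fin (n - 1)) (_ : (i : ℕ) + 1 = j), V i j) with hTdef
    have hVle : ∀ (i : ℕ) (hi : i + 3 ≤ n), D.mv (T0 ⟨i, hi⟩) D.fB.range ≤ T := fun i hi => by
      refine le_sup_of_le_right (le_iSup_of_le (⟨i, by omega⟩ : Fin (n - 1)) (le_iSup_of_le (⟨i + 1, by omega⟩ : Fin (n - 1))
        (le_iSup_of_le rfl (le_of_eq ?_))))
      rw [show V ⟨i, by omega⟩ ⟨i + 1, by omega⟩ = _ from dif_pos hi, hr]
    have hK : T.comap D.fA = ⊤ := by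
      refine eq_top_of_cycles (by omega) _ fun i hi τ hτ => ?_
      rw [Subgroup.mem_comap]
      refine hVle i hi ?_
      set T1 := T0 ⟨i, hi⟩ with hT1
      have hω : T1⁻¹ * τ * T1 ∈ Subgroup.zpowers (cA (n := n) (by omega)) := by
        refine mem_zpowers_cA _ _ fun k hk => ?_
        simp only [Subgroup.coe_mul, InvMemClass.coe_inv, Perm.mul_apply, hτ, Perm.inv_def]
        rw [Equiv.symm_apply_eq]
        have e : ∀ x : Fin 3, InR i 3 ((T1 : Perm (Fin n)) (Fin.castLE (by omega) x)) := fun x =>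
          hT ⟨i, hi⟩ _ (by simp [InR])
        have ne : ∀ x : Fin 3, (T1 : Perm (Fin n)) k ≠ (T1 : Perm (Fin n)) (Fin.castLE (by omega) x) :=
          fun x => (T1 : Perm (Fin n)).injective.ne fun e' => by rw [e'] at hk; simp at hk; omega
        have dd : ∀ x y : Fin 3, x ≠ y → (T1 : Perm (Fin n)) (Fin.castLE (by omega) x) ≠
            (T1 : Perm (Fin n)) (Fin.castLE (by omega) y) :=
          fun x y hxy => (T1 : Perm (Fin n)).injective.ne ((Fin.castLE_injective _).ne hxy)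
        have a0 := e 0
        have a1 := e 1
        have a2 := e 2
        have b0 := ne 0
        have b1 := ne 1
        have b2 := ne 2
        have d01 := dd 0 1 (by decide)
        have d02 := dd 0 2 (by decide)
        have d12 := dd 1 2 (by decide)
        simp only [InR, ne_eq, Fin.ext_iff] at a0 a1 a2 b0 b1 b2 d01 d02 d12
        refine ShortPresCarmichael.cyc_other ?_ ?_ ?_ <;> simp only [ne_eq, Fin.ext_iff] <;> omega
      have hmem : T1⁻¹ * τ * T1 ∈ D.fB.range.comap D.fA := by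
        refine (Subgroup.zpowers_le.2 ?_) hω
        obtain ⟨z, hz⟩ := exists_emb hF 0 (by omega : 0 + 3 ≤ n) (rho F q n (cA (by omega))) (fun k hk => by
          rw [rho_single]
          congr 1
          refine ShortPresCarmichael.cyc_other ?_ ?_ ?_ <;> intro e <;> simp [e, InR] at hk)
        exact ⟨z, (D.hc z hz).symm⟩
      refine ⟨_, hmem, ?_⟩
      show D.fA T1 * D.fA (T1⁻¹ * τ * T1) * (D.fA T1)⁻¹ = D.fA τ
      rw [map_mul, map_mul, map_inv]
      group
    rw [eq_top_iff, ← D.gen, sup_le_iff]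
    have hA' : D.fA.range ≤ T := by
      rintro _ ⟨a, rfl⟩
      have : a ∈ T.comap D.fA := hK ▸ Subgroup.mem_top a
      exact this
    refine ⟨hA', ?_⟩
    rintro _ ⟨x, rfl⟩
    have hm := hVle 0 (by omega) (Subgroup.mem_map_of_mem (MulAut.conj (D.fA (T0 ⟨0, by omega⟩))).toMonoidHom
      (MonoidHom.mem_range.2 ⟨x, rfl⟩ : D.fB x ∈ D.fB.range))
    simp only [MulEquiv.coe_toMonoidHom, MulAut.conj_apply] at hm
    have hT0 := hA' ⟨T0 ⟨0, by omega⟩, rfl⟩
    simpa [mul_assoc] using mul_mem (mul_mem (inv_mem hT0) hm) hT0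

/-- The glued group is the special unitary group, given the case of four coordinates. -/
theorem Glue.injective (hF : Fintype.card F = q ^ 2) (hq : 4 ≤ q) : Function.Injective π := by
  classical
  obtain ⟨m, rfl⟩ : ∃ m, n = m + 1 := ⟨n - 1, by omega⟩
  obtain ⟨U, V, P, hP, hU, h1, h2, -, hgen⟩ := D.exists_system hF
  obtain ⟨C, hψ, hf, -⟩ := PhanAlign47.exists_chain hF (by omega) U V h1 h2 (Or.inl (by omega))
  obtain ⟨φ, hφ⟩ := PhanAlign47.exists_surjection (by omega) U V hgen C hψ hf (Or.inl hq)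
  exact D.injective_of_surj hF φ hφ

end Cfsg.Agent.UnitaryPres49
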