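import Cfsg.Agent.Lib.PhanFourBase47
import Cfsg.Agent.Lib.ShortPresGlue
import Cfsg.Agent.Lib.ShortPresSpPres

/-!
Even permutations inside a special unitary group, and how they move the coordinate blocks.
-/

set_option autoImplicit false
set_option linter.unusedSectionVars false

namespace Cfsg.Agent.UnitaryPres49

open Cfsg Cfsg.Agent.OrthUnitaryHerm Cfsg.Agent.OrthUnitaryTransvection Cfsg.Agent.PhanBlocks47
  Cfsg.Agent.PhanCoset47 Equiv Equiv.Perm
open Cfsg.Agent.ShortPresGlue (altOn mem_altOn)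
open scoped Matrix MatrixGroups

variable {F : Type*} [Field F] [Fintype F] {q n m : ℕ}

/-- even permutations of the coordinates -/
abbrev Alt (n : ℕ) : Subgroup (Perm (Fin n)) := altOn (Finset.univ : Finset (Fin n))

theorem mem_Alt {σ : Perm (Fin n)} : σ ∈ Alt n ↔ sign σ = 1 :=
  ⟨fun h => h.1, fun h => ⟨h, fun x hx => absurd (Finset.mem_univ x) hx⟩⟩

theorem pMat_mulVec (σ : Perm (Fin n)) (x : Fin n → F) :
    (Matrix.permMatrixHom σ : Matrix (Fin n) (Fin n) F) *ᵥ x = x ∘ σ.symm := by
  rw [Matrix.permMatrixHom_apply, Matrix.permMatrix_mulVec]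
  rfl

theorem pMat_isU (q : ℕ) (σ : Perm (Fin n)) : IsU q (Matrix.permMatrixHom σ : Matrix (Fin n) (Fin n) F) := by
  intro u v
  simp only [hermForm, pMat_mulVec]
  exact Equiv.sum_comp σ.symm fun i => u i * v i ^ q

theorem pMat_det (σ : Alt n) : (Matrix.permMatrixHom (σ : Perm (Fin n)) : Matrix (Fin n) (Fin n) F).det = 1 := by
  rw [Matrix.permMatrixHom_apply, Matrix.det_permutation, sign_inv, σ.2.1]
  simp

/-- the permutation matrices of even sign -/
def rho (F : Type*) [Field F] [Fintype F] (q n : ℕ) : Alt n →* SU n F q where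
  toFun σ := mkSU (Matrix.permMatrixHom (σ : Perm (Fin n))) (pMat_det σ) (pMat_isU q _)
  map_one' := su_ext fun x => by
    rw [act_one, act_mkSU, OneMemClass.coe_one, map_one, Matrix.one_mulVec]
  map_mul' a b := su_ext fun x => by
    rw [act_mul, act_mkSU, act_mkSU, act_mkSU, Subgroup.coe_mul, map_mul, Matrix.mulVec_mulVec]

theorem act_rho (σ : Alt n) (x : Fin n → F) : act (rho F q n σ) x = x ∘ (σ : Perm (Fin n)).symm := by
  rw [rho, MonoidHom.coe_mk, OneHom.coe_mk, act_mkSU, pMat_mulVec]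

theorem rho_single (σ : Alt n) (i : Fin n) :
    act (rho F q n σ) (Pi.single i 1) = Pi.single ((σ : Perm (Fin n)) i) 1 := by
  rw [act_rho]
  funext j
  simp [Pi.single_apply, Equiv.symm_apply_eq]

/-- Conjugation carries a block into the block with the image support. -/
theorem conj_block (hF : Fintype.card F = q ^ 2) {a b : ℕ} (ha : a + m ≤ n) (hb : b + m ≤ n)
    (g : SU n F q) (σ : Fin n → Fin n) (c : Fin n → F) (hc : ∀ i, c i ≠ 0)
    (hg : ∀ i, act g (Pi.single i 1) = c i • Pi.single (σ i) 1) (hsurj : Function.Surjective σ)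
    (hσ : ∀ k, InR a m k → InR b m (σ k)) (x : SU m F q) :
    ∃ x', g * emb a ha x * g⁻¹ = emb b hb x' := by
  obtain ⟨x', hx'⟩ := exists_emb hF b hb (g * emb a ha x * g⁻¹) (fun k hk => by
    obtain ⟨j, rfl⟩ := hsurj k
    have hj : ¬ InR a m j := fun h => hk (hσ j h)
    have hfix : act (emb a ha x) (Pi.single j 1) = Pi.single j 1 := vec_ext a ha
      (fun i => by
        have hz : slice a ha (Pi.single j (1 : F)) = 0 := funext fun l => by
          refine Pi.single_eq_of_ne (fun e => hj ?_) _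
          rw [← e]; exact inR_idx a ha l
        have h0 : (Pi.single j (1 : F) : Fin n → F) (idx a ha i) = 0 := congrFun hz i
        rw [emb_idx, hz, h0]
        show (_ *ᵥ (0 : Fin m → F)) i = 0
        rw [Matrix.mulVec_zero]; rfl)
      fun l hl => emb_out a ha x _ hl
    rw [act_mul, act_mul, show act g⁻¹ (Pi.single (σ j) 1) = (c j)⁻¹ • Pi.single j 1 by
      conv_lhs => rw [← inv_smul_smul₀ (hc j) ((Pi.single (σ j) (1 : F)) : Fin n → F), ← hg, act_smul, act_inv_act]
      ,
      act_smul, hfix, act_smul, hg, inv_smul_smul₀ (hc j)])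
  exact ⟨x', hx'.symm⟩

/-- A block moved by an even permutation. -/
theorem rho_block (hF : Fintype.card F = q ^ 2) {a b : ℕ} (ha : a + m ≤ n) (hb : b + m ≤ n)
    (σ : Alt n) (hσ : ∀ k, InR a m k → InR b m ((σ : Perm (Fin n)) k)) (x : SU m F q) :
    ∃ x', rho F q n σ * emb a ha x * (rho F q n σ)⁻¹ = emb b hb x' :=
  conj_block hF ha hb _ (fun k => (σ : Perm (Fin n)) k) (fun _ => 1) (fun _ => one_ne_zero)
    (fun i => by rw [rho_single, one_smul]) (σ : Perm (Fin n)).surjective hσ x

/-- Blocks of disjoint support commute. -/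
theorem commute_block {a b r : ℕ} (ha : a + m ≤ n) (hb : b + r ≤ n) (hab : a + m ≤ b)
    (x : SU m F q) (y : SU r F q) : Commute (emb a ha x) (emb b hb y) := by
  have hd : ∀ k : Fin n, InR a m k → ¬ InR b r k := fun k h1 h2 => by
    simp only [InR] at h1 h2; omega
  refine su_ext fun v => funext fun k => ?_
  rw [act_mul, act_mul]
  by_cases h1 : InR a m k
  · obtain ⟨i, rfl⟩ : ∃ i, idx a ha i = k := ⟨⟨(k : ℕ) - a, by simp only [InR] at h1; omega⟩,
      Fin.ext (by simp only [InR] at h1; simp [idx]; omega)⟩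
    rw [emb_idx, emb_out b hb y _ (hd _ h1), emb_idx]
    refine congrFun (congrArg (act x) (funext fun j => ?_)) i
    exact emb_out b hb y v (hd _ (inR_idx a ha j))
  · rw [emb_out a ha x _ h1]
    by_cases h2 : InR b r k
    · obtain ⟨i, rfl⟩ : ∃ i, idx b hb i = k := ⟨⟨(k : ℕ) - b, by simp only [InR] at h2; omega⟩,
        Fin.ext (by simp only [InR] at h2; simp [idx]; omega)⟩
      rw [emb_idx, emb_idx]
      refine congrFun (congrArg (act y) (funext fun j => ?_)) i
      exact (emb_out a ha x v fun hj => hd _ hj (inR_idx b hb j)).symm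
    · rw [emb_out b hb y v h2, emb_out b hb y _ h2, emb_out a ha x v h1]

/-- two generators of `SU 2` -/
theorem exists_two (hF : Fintype.card F = q ^ 2) :
    ∃ g h : SU 2 F q, Subgroup.closure ({g, h} : Set (SU 2 F q)) = ⊤ := by
  haveI : Fintype (PhanAut47.fixedField hF) := Fintype.ofFinite _
  obtain ⟨-, θ, -⟩ := PhanAut47.exists_iso_SL2 hF
  obtain ⟨a, b, h⟩ := ShortPresSpPres.exists_two (F := PhanAut47.fixedField hF)
  refine ⟨θ a, θ b, ?_⟩
  rw [← Set.image_pair, ← MulEquiv.coe_toMonoidHom, ← MonoidHom.map_closure, h]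
  exact Subgroup.map_top_of_surjective _ θ.surjective

/-! ### Permutations -/

/-- An even permutation with prescribed values at the first points, up to a transposition among them. -/
theorem exists_even {r : ℕ} (hr : r ≤ n) (t : Fin r → Fin n) (ht : Function.Injective t) (u v : Fin r)
    (huv : u ≠ v) :
    ∃ (σ : Alt n) (ε : Perm (Fin r)), (ε = 1 ∨ ε = swap u v) ∧
      ∀ i, (σ : Perm (Fin n)) (Fin.castLE hr i) = t (ε i) := by
  classical
  have hι := Fin.castLE_injective hr
  obtain ⟨τ, hτ⟩ := Equiv.Perm.exists_extending_pair (Fin.castLE hr) t hι ht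
  rcases Int.units_eq_one_or (sign τ) with h | h
  · exact ⟨⟨τ, mem_Alt.2 h⟩, 1, Or.inl rfl, fun i => hτ i⟩
  · refine ⟨⟨τ * swap (Fin.castLE hr u) (Fin.castLE hr v), mem_Alt.2 ?_⟩, swap u v, Or.inr rfl, fun i => ?_⟩
    · rw [map_mul, h, sign_swap (hι.ne huv)]; rfl
    · show τ (swap (Fin.castLE hr u) (Fin.castLE hr v) (Fin.castLE hr i)) = _
      rw [← hι.map_swap]
      exact hτ _

/-- The stabiliser of the first pair is generated by two elements. -/
theorem exists_stab (k : ℕ) (hk : 2 ≤ k) :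
    ∃ (a s : Alt (k + 2)),
      (∀ i : Fin (k + 2), InR 0 2 i → InR 0 2 ((a : Perm (Fin (k + 2))) i)) ∧
      (∀ i : Fin (k + 2), InR 0 2 i → InR 0 2 ((s : Perm (Fin (k + 2))) i)) ∧
      ∀ σ : Alt (k + 2), (∀ i : Fin (k + 2), InR 0 2 i → InR 0 2 ((σ : Perm (Fin (k + 2))) i)) →
        σ ∈ Subgroup.closure ({a, s} : Set (Alt (k + 2))) := by
  classical
  let e : Fin k ≃ {i : Fin (k + 2) // ¬ InR 0 2 i} :=
    { toFun := fun j => ⟨⟨(j : ℕ) + 2, by omega⟩, by simp only [InR]; omega⟩
      invFun := fun i => ⟨(i.1 : ℕ) - 2, by have := i.2; simp only [InR] at this; omega⟩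
      left_inv := fun j => Fin.ext (by simp)
      right_inv := fun i => Subtype.ext (Fin.ext (by have := i.2; simp only [InR] at this; simp; omega)) }
  let t : Perm (Fin (k + 2)) := swap ⟨0, by omega⟩ ⟨1, by omega⟩
  have ht : sign t = -1 := sign_swap (by simp [Fin.ext_iff])
  let E : Perm (Fin k) → Perm (Fin (k + 2)) := fun g =>
    g.extendDomain e * if sign g = 1 then 1 else t
  have hEs : ∀ g, sign (E g) = 1 := fun g => by
    simp only [E, map_mul, sign_extendDomain]
    rcases Int.units_eq_one_or (sign g) with h | h <;> simp [h, ht]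
  have hin : ∀ i : Fin (k + 2), InR 0 2 i ↔ i = ⟨0, by omega⟩ ∨ i = ⟨1, by omega⟩ := fun i => by
    simp only [InR, Fin.ext_iff]; omega
  have htR : ∀ i, InR 0 2 (t i) ↔ InR 0 2 i := by
    intro i
    simp only [t, hin, Equiv.apply_eq_iff_eq_symm_apply, Equiv.symm_swap, swap_apply_left, swap_apply_right,
      or_comm]
  have hEin : ∀ g i, InR 0 2 i → E g i = (if sign g = 1 then (1 : Perm (Fin (k + 2))) else t) i := by
    intro g i hi
    show g.extendDomain e _ = _
    refine Perm.extendDomain_apply_not_subtype g e (not_not_intro ?_)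
    split_ifs
    · exact hi
    · exact (htR i).2 hi
  have hER : ∀ g i, InR 0 2 i → InR 0 2 (E g i) := fun g i hi => by
    rw [hEin g i hi]
    split_ifs
    · exact hi
    · exact (htR i).2 hi
  have hEout : ∀ g i, (hi : ¬ InR 0 2 i) → E g i = e (g (e.symm ⟨i, hi⟩)) := by
    intro g i hi
    show g.extendDomain e ((if sign g = 1 then (1 : Perm (Fin (k + 2))) else t) i) = _
    have : (if sign g = 1 then (1 : Perm (Fin (k + 2))) else t) i = i := by
      split_ifs
      · rfl
      · rw [hin, not_or] at hi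
        exact swap_apply_of_ne_of_ne hi.1 hi.2
    rw [this]
    exact Perm.extendDomain_apply_subtype g e hi
  let A : Perm (Fin k) →* Alt (k + 2) := MonoidHom.mk' (fun g => ⟨E g, mem_Alt.2 (hEs g)⟩) fun g h => by
    refine Subtype.ext (Equiv.ext fun i => ?_)
    show E (g * h) i = E g (E h i)
    by_cases hi : InR 0 2 i
    · rw [hEin _ i hi, hEin g _ (hER h i hi), hEin h i hi]
      rcases Int.units_eq_one_or (sign g) with h1 | h1 <;>
        rcases Int.units_eq_one_or (sign h) with h2 | h2 <;> simp [h1, h2, map_mul, t]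
    · rw [hEout _ i hi, hEout h i hi, hEout g _ (e (h (e.symm ⟨i, hi⟩))).2]
      simp
  have hgen : Subgroup.closure ({finRotate k, swap ⟨0, by omega⟩ (finRotate k ⟨0, by omega⟩)} :
      Set (Perm (Fin k))) = ⊤ :=
    closure_cycle_adjacent_swap (isCycle_finRotate_of_le hk) (support_finRotate_of_le hk) _
  refine ⟨A (finRotate k), A (swap ⟨0, by omega⟩ (finRotate k ⟨0, by omega⟩)), hER _, hER _, fun σ hσ => ?_⟩
  rw [← Set.image_pair, ← MonoidHom.map_closure, hgen]
  have hσ' : ∀ i, InR 0 2 i ↔ InR 0 2 ((σ : Perm (Fin (k + 2))) i) := by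
    intro i
    refine ⟨hσ i, fun h => ?_⟩
    have himg : (Finset.univ.filter fun i => InR 0 2 i).image (fun i => (σ : Perm (Fin (k + 2))) i)
        = Finset.univ.filter fun i : Fin (k + 2) => InR 0 2 i := by
      refine Finset.eq_of_subset_of_card_le (fun j hj => ?_) ?_
      · obtain ⟨l, hl, rfl⟩ := Finset.mem_image.1 hj
        simpa using hσ l (by simpa using hl)
      · rw [Finset.card_image_of_injective _ (σ : Perm (Fin (k + 2))).injective]
    have : (σ : Perm (Fin (k + 2))) i ∈ (Finset.univ.filter fun i => InR 0 2 i).image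
        (fun i => (σ : Perm (Fin (k + 2))) i) := by rw [himg]; simpa using h
    obtain ⟨l, hl, hle⟩ := Finset.mem_image.1 this
    rw [← (σ : Perm (Fin (k + 2))).injective hle]
    simpa using hl
  let g : Perm (Fin k) := e.permCongr.symm (Perm.subtypePerm (σ : Perm (Fin (k + 2)))
    fun i => (not_congr (hσ' i)).symm)
  refine ⟨g, Subgroup.mem_top _, Subtype.ext (Equiv.ext fun i => ?_)⟩
  show E g i = _
  have hgs : ∀ (i) (hi : ¬ InR 0 2 i), E g i = (σ : Perm (Fin (k + 2))) i := fun i hi => by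
    rw [hEout g i hi]
    simp [g, Equiv.permCongr, Perm.subtypePerm]
  by_cases hi : InR 0 2 i
  · let r : Perm (Fin (k + 2)) := (E g)⁻¹ * σ
    have hr : ∀ j, ¬ InR 0 2 j → r j = j := fun j hj => by
      show (E g)⁻¹ ((σ : Perm (Fin (k + 2))) j) = j
      rw [← hgs j hj, ← Perm.mul_apply, inv_mul_cancel, Perm.one_apply]
    have hrs : sign r = 1 := by rw [map_mul, sign_inv, hEs, σ.2.1, one_mul]
    have hr1 : r = 1 := by
      have hcases : ∀ i, InR 0 2 i → InR 0 2 (r i) := fun i hi => by
        by_contra hc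
        exact hc (by rw [r.injective (hr _ hc)]; exact hi)
      have h0 := (hin _).1 (hcases ⟨0, by omega⟩ ((hin _).2 (Or.inl rfl)))
      have h1 := (hin _).1 (hcases ⟨1, by omega⟩ ((hin _).2 (Or.inr rfl)))
      have hne : r ⟨0, by omega⟩ ≠ r ⟨1, by omega⟩ := r.injective.ne (by simp [Fin.ext_iff])
      rcases h0 with h0 | h0
      · refine Equiv.ext fun j => ?_
        by_cases hj : InR 0 2 j
        · rcases (hin j).1 hj with rfl | rfl
          · exact h0
          · exact h1.resolve_left fun h => hne (h0.trans h.symm)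
        · exact hr j hj
      · have : r = t := Equiv.ext fun j => by
          by_cases hj : InR 0 2 j
          · rcases (hin j).1 hj with rfl | rfl
            · rw [h0]; exact (swap_apply_left _ _).symm
            · rw [h1.resolve_right fun h => hne (h0.trans h.symm)]; exact (swap_apply_right _ _).symm
          · rw [hr j hj]
            rw [hin, not_or] at hj
            exact (swap_apply_of_ne_of_ne hj.1 hj.2).symm
        rw [this, ht] at hrs
        exact absurd hrs (by decide)
    have : E g = (σ : Perm (Fin (k + 2))) := by simpa [r, inv_mul_eq_one] using hr1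
    rw [this]
  · exact hgs i hi

/-- Three-cycles are moved by conjugation. -/
theorem cyc_conj {α : Type} [DecidableEq α] (σ : Perm α) (a b i : α) :
    σ * ShortPresCarmichael.cyc a b i * σ⁻¹ = ShortPresCarmichael.cyc (σ a) (σ b) (σ i) := by
  refine Equiv.ext fun x => ?_
  obtain ⟨y, rfl⟩ := σ.surjective x
  simp only [Perm.mul_apply, ShortPresCarmichael.cyc, Perm.inv_def, Equiv.symm_apply_apply]
  rw [σ.injective.map_swap, σ.injective.map_swap]

/-- Consecutive three-cycles generate the even permutations. -/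
theorem eq_top_of_cycles (hn : 3 ≤ n) (K : Subgroup (Alt n))
    (h : ∀ (i : ℕ) (hi : i + 3 ≤ n), ∀ σ : Alt n, (σ : Perm (Fin n)) = ShortPresCarmichael.cyc
      ⟨i, by omega⟩ ⟨i + 1, by omega⟩ ⟨i + 2, by omega⟩ → σ ∈ K) : K = ⊤ := by
  classical
  set L : Subgroup (Perm (Fin n)) := K.map (Alt n).subtype with hLdef
  have hstep : ∀ (i : ℕ) (hi : i + 3 ≤ n), ShortPresCarmichael.cyc
      (⟨i, by omega⟩ : Fin n) ⟨i + 1, by omega⟩ ⟨i + 2, by omega⟩ ∈ L := fun i hi => by
    let z : Alt n := ⟨_, mem_Alt.2 (ShortPresCarmichael.sign_cyc (a := (⟨i, by omega⟩ : Fin n))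
      (b := ⟨i + 1, by omega⟩) (i := ⟨i + 2, by omega⟩) (by simp [Fin.ext_iff]) (by simp [Fin.ext_iff]))⟩
    exact ⟨z, h i hi z rfl, rfl⟩
  have hcj : ∀ σ ∈ L, ∀ a b i : Fin n, ShortPresCarmichael.cyc a b i ∈ L →
      ShortPresCarmichael.cyc (σ a) (σ b) (σ i) ∈ L := fun σ hσ a b i hc => by
    rw [← cyc_conj]; exact mul_mem (mul_mem hσ hc) (inv_mem hσ)
  set p0 : Fin n := ⟨0, by omega⟩
  set p1 : Fin n := ⟨1, by omega⟩
  have hall : ∀ (i : ℕ) (hi : i < n), 2 ≤ i → ShortPresCarmichael.cyc p0 p1 ⟨i, hi⟩ ∈ L := by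
    intro i
    induction i with
    | zero => omega
    | succ i ih =>
      intro hi h2
      rcases Nat.lt_or_ge i 2 with h' | h'
      · obtain rfl : i = 1 := by omega
        exact hstep 0 (by omega)
      have hp := ih (by omega) h'
      rcases Nat.eq_or_lt_of_le h' with rfl | h''
      · have hz := hstep 1 (by omega)
        set c := ShortPresCarmichael.cyc p0 p1 (⟨2, by omega⟩ : Fin n) with hc
        have := hcj _ (inv_mem hp) _ _ _ hz
        have e0 : c⁻¹ ⟨1, by omega⟩ = p0 := by
          rw [Perm.inv_eq_iff_eq]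
          exact (ShortPresCarmichael.cyc_a (by simp [p0, p1, Fin.ext_iff]) (by simp [p0, Fin.ext_iff])).symm
        have e1 : c⁻¹ ⟨1 + 1, by omega⟩ = p1 := by
          rw [Perm.inv_eq_iff_eq]
          exact (ShortPresCarmichael.cyc_b (by simp [p0, Fin.ext_iff]) (by simp [p1, Fin.ext_iff])).symm
        have e2 : c⁻¹ ⟨1 + 2, by omega⟩ = ⟨2 + 1, hi⟩ := by
          rw [Perm.inv_eq_iff_eq]
          exact (ShortPresCarmichael.cyc_other (by simp [p0, Fin.ext_iff]) (by simp [p1, Fin.ext_iff])
            (by simp [Fin.ext_iff])).symm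
        rw [e0, e1, e2] at this
        exact this
      · have hz := hstep (i - 1) (by omega)
        have := hcj _ hz _ _ _ hp
        rw [ShortPresCarmichael.cyc_other (x := p0) (by simp [p0, Fin.ext_iff]; omega)
            (by simp [p0, Fin.ext_iff]) (by simp [p0, Fin.ext_iff]),
          ShortPresCarmichael.cyc_other (x := p1) (by simp [p1, Fin.ext_iff]; omega)
            (by simp [p1, Fin.ext_iff]; omega) (by simp [p1, Fin.ext_iff]),
          show (⟨i, by omega⟩ : Fin n) = ⟨i - 1 + 1, by omega⟩ from Fin.ext (by simp; omega),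
          ShortPresCarmichael.cyc_b (by simp [Fin.ext_iff]) (by simp [Fin.ext_iff])] at this
        rwa [show (⟨i - 1 + 2, by omega⟩ : Fin n) = ⟨i + 1, hi⟩ from Fin.ext (by simp; omega)] at this
  rw [eq_top_iff]
  intro σ _
  have hσ : (σ : Perm (Fin n)) ∈ L := by
    refine (Subgroup.closure_le _).2 ?_ (ShortPresCarmichael.mem_closure_cyc (a := p0) (b := p1)
      (by simp [p0, p1, Fin.ext_iff]) ((Finset.univ.erase p0).erase p1) (by simp) (by simp) _ σ.2.1
      fun x hx => absurd ?_ hx)
    · rintro _ ⟨j, hj, rfl⟩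
      simp only [Finset.coe_erase, Finset.coe_univ, Set.mem_diff, Set.mem_singleton_iff] at hj
      refine hall j j.isLt ?_
      have h0 : (j : ℕ) ≠ 0 := fun e => hj.1.2 (Fin.ext e)
      have h1 : (j : ℕ) ≠ 1 := fun e => hj.2 (Fin.ext e)
      omega
    · simp only [Finset.mem_insert, Finset.mem_erase, Finset.mem_univ, and_true]
      by_cases h0 : x = p0
      · exact Or.inl h0
      by_cases h1 : x = p1
      · exact Or.inr (Or.inl h1)
      exact Or.inr (Or.inr ⟨h1, h0⟩)
  obtain ⟨τ, hτ, e⟩ := hσ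
  rwa [← show τ = σ from Subtype.ext e]

end Cfsg.Agent.UnitaryPres49
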