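import Cfsg.Agent.Lib.UnitaryPres49Sub
import Cfsg.Agent.Lib.PhanGen47

/-!
The weak Phan system inside a glued group, once four coordinates are known.
-/

set_option autoImplicit false
set_option linter.unusedSectionVars false

namespace Cfsg.Agent.UnitaryPres49

open Cfsg Cfsg.Agent.OrthUnitaryHerm Cfsg.Agent.OrthUnitaryTransvection Cfsg.Agent.PhanBlocks47
  Cfsg.Agent.PhanCoset47 Equiv Equiv.Perm

variable {F : Type} [Field F] [Fintype F] {q : ℕ}

/-- The system of pairs and triples, with the maps from four coordinates. -/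
theorem Glue.exists_phan {m : ℕ} {hn : 4 ≤ m + 1} {H : Type} [Group H] {π : H →* SU (m + 1) F q}
    (D : Glue hn π) (hF : Fintype.card F = q ^ 2)
    (hnorm : ∀ τ : Alt (m + 1), (∀ k, InR 0 3 k → InR 0 3 ((τ : Perm (Fin (m + 1))) k)) →
      D.mv τ D.fB.range = D.fB.range)
    (hinj4 : ∀ (S : Subgroup H) (π4 : S →* SU 4 F q) (D4 : Glue le_rfl π4),
      (∀ a, (D4.fA a : H) = D.fA (altEmb hn a)) → (∀ x, (D4.fB x : H) = D.fB x) → Function.Injective π4) :
    ∃ (U : Fin m → Subgroup H) (V : Fin m → Fin m → Subgroup H),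
      (∀ i, Nonempty (SU 2 F q ≃* U i)) ∧
      (∀ i j : Fin m, (i : ℕ) + 2 ≤ j → ∀ x ∈ U i, ∀ y ∈ U j, x * y = y * x) ∧
      (∀ i j : Fin m, (i : ℕ) + 1 = j → IsStandardUnitaryPair (V i j) (U i) (U j) F q) ∧
      (⨆ i, U i) ⊔ (⨆ (i : Fin m) (j : Fin m) (_ : (i : ℕ) + 1 = j), V i j) = ⊤ ∧
      (∀ (i : Fin m) (σ : Alt (m + 1)),
        (∀ k, InR 0 2 k → InR i 2 ((σ : Perm (Fin (m + 1))) k)) → U i = D.mv σ D.U0) ∧
      (∀ (i j : Fin m), (i : ℕ) + 1 = j → ∀ σ : Alt (m + 1),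
        (∀ k, InR 0 3 k → InR i 3 ((σ : Perm (Fin (m + 1))) k)) → V i j = D.mv σ D.fB.range) ∧
      (∀ i j k : Fin m, (i : ℕ) + 1 = j → (j : ℕ) + 1 = k →
        ∃ g : SU 4 F q →* ↥(V i j ⊔ V j k), Function.Surjective g) := by
  classical
  obtain ⟨S, π4, D4, eA, eB⟩ := D.exists_sub hF
  have h4inj := hinj4 S π4 D4 eA eB
  let φ : SU 4 F q ≃* S := (MulEquiv.ofBijective π4 ⟨h4inj, D4.surjective hF⟩).symm
  set W := D.fB.range ⊔ D.mv (altEmb hn rA) D.fB.range with hW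
  have hW4 : W = S := by
    have hl : (D4.fB.range ⊔ D4.mv rA D4.fB.range) = ⊤ := by
      refine Subgroup.map_injective h4inj ?_
      rw [Subgroup.map_top_of_surjective π4 (D4.surjective hF), Subgroup.map_sup, Glue.mv, Subgroup.map_map]
      have e1 : D4.fB.range.map π4 = (emb 0 (by omega : 0 + 3 ≤ 4) : SU 3 F q →* SU 4 F q).range := by
        rw [MonoidHom.map_range]; exact congrArg MonoidHom.range (MonoidHom.ext D4.hB)
      have e2 : π4.comp (MulAut.conj (D4.fA rA)).toMonoidHom =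
          (MulAut.conj (rho F q 4 rA)).toMonoidHom.comp π4 := MonoidHom.ext fun x => by
        simp [D4.hA]
      rw [e2, ← Subgroup.map_map, e1, rho_range' hF (by omega : 0 + 3 ≤ 4) (by omega : 1 + 3 ≤ 4) rA (by decide)]
      refine eq_top_iff.2 ((PhanBlocks47.gen_first hF (k := 3) (by omega) (Or.inl le_rfl)).symm.le.trans
        (sup_le_sup ?_ le_rfl))
      rintro _ ⟨x, rfl⟩
      exact ⟨emb 0 (by omega : 0 + 2 ≤ 3) x, PhanCoset47.emb_emb' (a := 0) (b := 0) _ _ _ rfl x⟩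
    have hm := congrArg (Subgroup.map S.subtype) hl
    rw [Subgroup.map_sup, ← MonoidHom.range_eq_map, Subgroup.range_subtype, Glue.mv, Subgroup.map_map,
      MonoidHom.map_range] at hm
    have b1 : S.subtype.comp D4.fB = D.fB := MonoidHom.ext eB
    rw [b1] at hm
    rw [← hm, hW, Glue.mv, ← b1, MonoidHom.range_comp, Subgroup.map_map]
    congr 2
    ext x
    simp [eA]
  have hUe : ∀ j, Nonempty (SU 2 F q ≃* D.mv j D.U0) := fun j =>
    ⟨(MonoidHom.ofInjective (f := D.fB.comp (B0' F q)) (D.fB_inj.comp (emb_injective _ _))).trans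
      (Subgroup.equivMapOfInjective _ _ (MulAut.conj (D.fA j)).injective)⟩
  obtain ⟨U, V, P, hP, hU, h1, h2, hV, hgen⟩ := D.exists_system hF
  have hVσ : ∀ (i j : Fin (m + 1 - 1)) (hij : (i : ℕ) + 1 = j) (σ : Alt (m + 1)),
      (∀ k, InR 0 3 k → InR i 3 ((σ : Perm (Fin (m + 1))) k)) → V i j = D.mv σ D.fB.range := by
    intro i j hij σ hσ
    obtain ⟨τ, hτ, e⟩ := hV i j hij σ hσ
    rw [e, ← mul_inv_cancel_left σ τ, D.mv_mul]
    refine congrArg _ (hnorm _ fun k hk => ?_)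
    simp only [Subgroup.coe_mul, InvMemClass.coe_inv, Perm.mul_apply, Perm.inv_def]
    set l := (σ : Perm (Fin (m + 1))).symm ((τ : Perm (Fin (m + 1))) k) with hl
    have hl' : (σ : Perm (Fin (m + 1))) l = (τ : Perm (Fin (m + 1))) k := Equiv.apply_symm_apply _ _
    by_contra hne
    have ht := hτ k hk
    have e : ∀ x : Fin 3, InR i 3 ((σ : Perm (Fin (m + 1))) (Fin.castLE (by omega) x)) := fun x =>
      hσ _ (by simp [InR])
    have ne : ∀ x : Fin 3, (σ : Perm (Fin (m + 1))) l ≠ (σ : Perm (Fin (m + 1))) (Fin.castLE (by omega) x) :=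
      fun x => (σ : Perm (Fin (m + 1))).injective.ne fun h => hne (by rw [h]; simp [InR])
    have dd : ∀ x z : Fin 3, x ≠ z → (σ : Perm (Fin (m + 1))) (Fin.castLE (by omega) x) ≠
        (σ : Perm (Fin (m + 1))) (Fin.castLE (by omega) z) :=
      fun x z h => (σ : Perm (Fin (m + 1))).injective.ne ((Fin.castLE_injective _).ne h)
    rw [← hl'] at ht
    have a0 := e 0
    have a1 := e 1
    have a2 := e 2
    have b0 := ne 0
    have b1 := ne 1
    have b2 := ne 2
    have d01 := dd 0 1 (by decide)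
    have d02 := dd 0 2 (by decide)
    have d12 := dd 1 2 (by decide)
    simp only [InR, ne_eq, Fin.ext_iff] at ht a0 a1 a2 b0 b1 b2 d01 d02 d12
    omega
  refine ⟨U, V, fun i => (hUe (P i)).map fun e => e.trans (MulEquiv.subgroupCongr (hU i).symm), h1, h2, hgen,
    fun i σ hσ => (hU i).trans (D.mv_eq (i : ℕ) (hP i (by have := i.isLt; omega)) hσ), hVσ, fun i j k hij hjk => ?_⟩
  have hk := k.isLt
  obtain ⟨σ, ε, hε, h⟩ := exists_even (r := 4) (by omega : 4 ≤ m + 1)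
    (fun x => (⟨(i : ℕ) + x, by omega⟩ : Fin (m + 1)))
    (fun a b e => Fin.ext (by simpa using e)) 1 2 (by decide)
  have hσ0 : ∀ l, InR 0 3 l → InR i 3 ((σ : Perm (Fin (m + 1))) l) := fun l hl => by
    simp only [InR] at hl
    rw [show l = Fin.castLE (by omega : 4 ≤ m + 1) ⟨l, by omega⟩ from Fin.ext rfl, h]
    have hx : (⟨l, by omega⟩ : Fin 4) = 0 ∨ (⟨l, by omega⟩ : Fin 4) = 1 ∨ (⟨l, by omega⟩ : Fin 4) = 2 := by
      rcases (show (l : ℕ) = 0 ∨ (l : ℕ) = 1 ∨ (l : ℕ) = 2 by omega) with e | e | e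
      · exact Or.inl (Fin.ext e)
      · exact Or.inr (Or.inl (Fin.ext e))
      · exact Or.inr (Or.inr (Fin.ext e))
    rcases hε with rfl | rfl <;> rcases hx with hx | hx | hx <;> rw [hx] <;>
      simp [InR, Equiv.swap_apply_def]
  have hσ1 : ∀ l, InR 0 3 l →
      InR j 3 (((σ * altEmb hn rA : Alt (m + 1)) : Perm (Fin (m + 1))) l) := fun l hl => by
    simp only [InR] at hl
    rw [Subgroup.coe_mul, Perm.mul_apply, show l = Fin.castLE hn ⟨l, by omega⟩ from Fin.ext rfl, altEmb_lt, h]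
    simp only [← hij]
    have hx : (⟨l, by omega⟩ : Fin 4) = 0 ∨ (⟨l, by omega⟩ : Fin 4) = 1 ∨ (⟨l, by omega⟩ : Fin 4) = 2 := by
      rcases (show (l : ℕ) = 0 ∨ (l : ℕ) = 1 ∨ (l : ℕ) = 2 by omega) with e | e | e
      · exact Or.inl (Fin.ext e)
      · exact Or.inr (Or.inl (Fin.ext e))
      · exact Or.inr (Or.inr (Fin.ext e))
    rcases hε with rfl | rfl <;> rcases hx with hx | hx | hx <;> rw [hx] <;>
      simp [InR, rA, Equiv.swap_apply_def] <;> omega
  have hVW : V i j ⊔ V j k = W.map (MulAut.conj (D.fA σ)).toMonoidHom := by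
    rw [hVσ i j hij σ hσ0, hVσ j k hjk _ hσ1, D.mv_mul, hW, Subgroup.map_sup]
  refine ⟨((Subgroup.equivMapOfInjective S _ (MulAut.conj (D.fA σ)).injective).trans
    (MulEquiv.subgroupCongr (by rw [hVW, hW4]))).toMonoidHom.comp φ.toMonoidHom, ?_⟩
  rw [MonoidHom.coe_comp]
  exact (MulEquiv.surjective _).comp φ.surjective

end Cfsg.Agent.UnitaryPres49
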