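import Cfsg.Agent.Lib.UnitaryPres49Glue
import Cfsg.Agent.Lib.ShortPresTracked

/-!
Eight relators glue an alternating group and `SU 3` to `SU n`.
-/

set_option autoImplicit false
set_option linter.unusedSectionVars false

namespace Cfsg.Agent.UnitaryPres49

open Cfsg Cfsg.Agent.OrthUnitaryHerm Cfsg.Agent.OrthUnitaryTransvection Cfsg.Agent.PhanBlocks47
  Cfsg.Agent.PhanCoset47 Cfsg.Agent.ShortPres Cfsg.Agent.ShortPresTracked Equiv Equiv.Perm

variable {F : Type} [Field F] [Fintype F] {q n : ℕ}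

theorem pA_sq (hn : 4 ≤ n) : (pA hn : Alt n) * pA hn = 1 := by
  refine Subtype.ext (Equiv.ext fun x => ?_)
  show (swap _ _ * swap _ _ * (swap _ _ * swap _ _) : Perm (Fin n)) x = x
  simp only [Perm.mul_apply]
  have hd : ∀ a b : Fin 4, a ≠ b → (⟨a, by omega⟩ : Fin n) ≠ ⟨b, by omega⟩ := fun a b h e =>
    h (Fin.ext (by simpa using e))
  rcases (show x = ⟨0, by omega⟩ ∨ x = ⟨1, by omega⟩ ∨ x = ⟨2, by omega⟩ ∨ x = ⟨3, by omega⟩ ∨ 4 ≤ (x : ℕ) by
    simp only [Fin.ext_iff]; omega) with h | h | h | h | h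
  all_goals simp [Equiv.swap_apply_def, Fin.ext_iff, h]
  all_goals split_ifs <;> simp_all [Fin.ext_iff]

/-- The extra properties a choice of glue relators gives. -/
theorem exists_relators (hF : Fintype.card F = q ^ 2) (hn : 4 ≤ n) :
    ∃ E : List (FreeGroup (Alt n ⊕ SU 3 F q)), E.length ≤ 8 ∧
      (∀ r ∈ E, FreeGroup.lift (Sum.elim (rho F q n) (emb 0 (by omega : 0 + 3 ≤ n))) r = 1) ∧
      ∀ (H : Type) [Group H] (fA : Alt n →* H) (fB : SU 3 F q →* H),
        (∀ r ∈ E, FreeGroup.lift (Sum.elim fA fB) r = 1) → ∀ (π : H →* SU n F q),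
        (∀ a, π (fA a) = rho F q n a) → (∀ b, π (fB b) = emb 0 (by omega) b) → fA.range ⊔ fB.range = ⊤ →
          ∃ D : Glue hn π, D.fA = fA ∧ D.fB = fB := by
  classical
  obtain ⟨k, rfl⟩ : ∃ k, n = k + 2 := ⟨n - 2, by omega⟩
  obtain ⟨a, s, ha, hs, hgen⟩ := exists_stab k (by omega)
  obtain ⟨g, h, hgh⟩ := exists_two (q := q) hF
  obtain ⟨z, hz⟩ := exists_emb hF 0 (by omega : 0 + 3 ≤ k + 2) (rho F q (k + 2) (cA (by omega))) (fun l hl => by
    rw [rho_single]
    congr 1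
    refine ShortPresCarmichael.cyc_other ?_ ?_ ?_ <;> intro e <;> simp [e, InR] at hl)
  have e3 : ∀ x, emb 0 (by omega : 0 + 3 ≤ k + 2) (B0' F q x) = emb 0 (by omega : 0 + 2 ≤ k + 2) x := fun x =>
    DFunLike.congr_fun (emb3_comp (F := F) (q := q) (by omega : 0 + 2 ≤ 3) (by omega : 0 + 3 ≤ k + 2)) x
  have hmov : ∀ (t : Alt (k + 2)), (∀ i, InR 0 2 i → InR 0 2 ((t : Perm (Fin (k + 2))) i)) → ∀ x,
      ∃ x', rho F q (k + 2) t * emb 0 (by omega : 0 + 3 ≤ k + 2) (B0' F q x) * (rho F q (k + 2) t)⁻¹ =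
        emb 0 (by omega : 0 + 3 ≤ k + 2) (B0' F q x') := fun t ht x => by
    obtain ⟨x', hx'⟩ := rho_block hF (by omega : 0 + 2 ≤ k + 2) (by omega : 0 + 2 ≤ k + 2) t ht x
    exact ⟨x', by rw [e3, e3, hx']⟩
  obtain ⟨ag, hag⟩ := hmov a ha g
  obtain ⟨ah, hah⟩ := hmov a ha h
  obtain ⟨sg, hsg⟩ := hmov s hs g
  obtain ⟨sh, hsh⟩ := hmov s hs h
  let A : Alt (k + 2) → FreeGroup (Alt (k + 2) ⊕ SU 3 F q) := fun x => FreeGroup.of (Sum.inl x)
  let B : SU 2 F q → FreeGroup (Alt (k + 2) ⊕ SU 3 F q) := fun x => FreeGroup.of (Sum.inr (B0' F q x))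
  let cj : Alt (k + 2) → SU 2 F q → SU 2 F q → FreeGroup (Alt (k + 2) ⊕ SU 3 F q) := fun t x y =>
    A t * B x * (A t)⁻¹ * (B y)⁻¹
  let cm : SU 2 F q → SU 2 F q → FreeGroup (Alt (k + 2) ⊕ SU 3 F q) := fun x y =>
    B x * (A (pA hn) * B y * (A (pA hn))⁻¹) * (B x)⁻¹ * (A (pA hn) * B y * (A (pA hn))⁻¹)⁻¹
  refine ⟨[A (cA (by omega)) * (FreeGroup.of (Sum.inr z))⁻¹, cj a g ag, cj a h ah, cj s g sg, cj s h sh,
    cm g g, cm g h, cm h h], le_rfl, ?_, ?_⟩
  · have hcom : ∀ x y, Commute (emb 0 (by omega : 0 + 3 ≤ k + 2) (B0' F q x))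
        (rho F q (k + 2) (pA hn) * emb 0 (by omega : 0 + 3 ≤ k + 2) (B0' F q y) *
          (rho F q (k + 2) (pA hn))⁻¹) := fun x y => by
      obtain ⟨y', hy'⟩ := rho_block hF (by omega : 0 + 2 ≤ k + 2) (by omega : 2 + 2 ≤ k + 2) (pA hn)
        (fun l hl => by
          simp only [InR] at hl
          have hl' : l = ⟨0, by omega⟩ ∨ l = ⟨1, by omega⟩ := by simp only [Fin.ext_iff]; omega
          show InR 2 2 ((swap _ _ * swap _ _ : Perm (Fin (k + 2))) l)
          rcases hl' with e | e <;> rw [e] <;> simp [InR, Equiv.swap_apply_def, Fin.ext_iff]) y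
      rw [e3, e3, hy']
      exact commute_block _ _ (by omega) x y'
    simp only [List.forall_mem_cons, List.not_mem_nil, false_imp_iff, implies_true, and_true, cj, cm, A, B,
      map_mul, map_inv, FreeGroup.lift_apply_of, Sum.elim_inl, Sum.elim_inr, mul_inv_eq_one]
    exact ⟨hz.symm, hag, hah, hsg, hsh, mul_inv_eq_iff_eq_mul.2 (hcom g g).eq,
      mul_inv_eq_iff_eq_mul.2 (hcom g h).eq, mul_inv_eq_iff_eq_mul.2 (hcom h h).eq⟩
  · intro H _ fA fB hE π hA hB hgenH
    simp only [List.forall_mem_cons, List.not_mem_nil, false_imp_iff, implies_true, and_true, cj, cm, A, B,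
      map_mul, map_inv, FreeGroup.lift_apply_of, Sum.elim_inl, Sum.elim_inr, mul_inv_eq_one] at hE
    obtain ⟨hc, hag', hah', hsg', hsh', hgg, hgh', hhh⟩ := hE
    set U := (fB.comp (B0' F q)).range with hU
    haveI : Finite U := Finite.of_surjective _ (fB.comp (B0' F q)).rangeRestrict_surjective
    have hUeq : U = Subgroup.closure {fB (B0' F q g), fB (B0' F q h)} := by
      rw [hU, MonoidHom.range_eq_map, ← hgh, MonoidHom.map_closure, Set.image_pair]
      rfl
    let K : Subgroup (Alt (k + 2)) :=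
      { carrier := {t | U.map (MulAut.conj (fA t)).toMonoidHom = U}
        one_mem' := by
          show U.map (MulAut.conj (fA 1)).toMonoidHom = U
          rw [map_one, map_one]; exact Subgroup.map_id U
        mul_mem' := fun {x y} hx hy => by
          show U.map (MulAut.conj (fA (x * y))).toMonoidHom = U
          rw [map_mul, map_mul, show ((MulAut.conj (fA x) * MulAut.conj (fA y)).toMonoidHom) =
            (MulAut.conj (fA x)).toMonoidHom.comp (MulAut.conj (fA y)).toMonoidHom from rfl, ← Subgroup.map_map,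
            hy, hx]
        inv_mem' := fun {x} hx => by
          show U.map (MulAut.conj (fA x⁻¹)).toMonoidHom = U
          conv_lhs => rw [← hx]
          rw [Subgroup.map_map, map_inv, map_inv]
          convert Subgroup.map_id U
          ext y
          simp [mul_assoc] }
    have hK : ∀ t, (∀ x ∈ ({g, h} : Set (SU 2 F q)), fA t * fB (B0' F q x) * (fA t)⁻¹ ∈ U) → t ∈ K := by
      intro t ht
      refine Subgroup.eq_of_le_of_card_ge ?_ (le_of_eq ?_)
      · rw [Subgroup.map_le_iff_le_comap]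
        refine hUeq.le.trans ((Subgroup.closure_le _).2 ?_)
        rintro _ (rfl | rfl)
        · exact ht g (Or.inl rfl)
        · exact ht h (Or.inr rfl)
      · exact Nat.card_congr (Subgroup.equivMapOfInjective _ _ (MulAut.conj (fA t)).injective).toEquiv
    have hmemU : ∀ x, fB (B0' F q x) ∈ U := fun x => ⟨x, rfl⟩
    have hKas : Subgroup.closure ({a, s} : Set (Alt (k + 2))) ≤ K := by
      rw [Subgroup.closure_le]
      rintro _ (rfl | rfl) <;> refine hK _ ?_ <;> rintro _ (rfl | rfl)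
      · rw [hag']; exact hmemU _
      · rw [hah']; exact hmemU _
      · rw [hsg']; exact hmemU _
      · rw [hsh']; exact hmemU _
    have hp2 : fA (pA hn) * fA (pA hn) = 1 := by rw [← map_mul, pA_sq, map_one]
    have hpinv : (fA (pA hn))⁻¹ = fA (pA hn) := inv_eq_of_mul_eq_one_right hp2
    let φ : H →* H := (MulAut.conj (fA (pA hn))).toMonoidHom
    have c1 : Commute (fB (B0' F q g)) (φ (fB (B0' F q g))) := mul_inv_eq_iff_eq_mul.1 hgg
    have c2 : Commute (fB (B0' F q g)) (φ (fB (B0' F q h))) := mul_inv_eq_iff_eq_mul.1 hgh'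
    have c3 : Commute (fB (B0' F q h)) (φ (fB (B0' F q h))) := mul_inv_eq_iff_eq_mul.1 hhh
    have c4 : Commute (fB (B0' F q h)) (φ (fB (B0' F q g))) := by
      have hφφ : ∀ x, φ (φ x) = x := fun x => by
        show fA (pA hn) * (fA (pA hn) * x * (fA (pA hn))⁻¹) * (fA (pA hn))⁻¹ = x
        rw [hpinv]
        calc _ = (fA (pA hn) * fA (pA hn)) * x * (fA (pA hn) * fA (pA hn)) := by group
          _ = x := by rw [hp2, one_mul, mul_one]
      have := c2.map φ
      rw [hφφ] at this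
      exact this.symm
    have hcomm : ∀ x y, Commute (fB (B0' F q x)) (φ (fB (B0' F q y))) := by
      intro x y
      have hle : U ≤ Subgroup.centralizer ((U.map φ : Subgroup H) : Set H) := by
        rw [hUeq, MonoidHom.map_closure, Subgroup.centralizer_closure, Subgroup.closure_le]
        rintro _ (rfl | rfl) <;> rw [SetLike.mem_coe, Subgroup.mem_centralizer_iff] <;>
          rintro _ ⟨_, (rfl | rfl), rfl⟩
        · exact c1.eq.symm
        · exact c2.eq.symm
        · exact c4.eq.symm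
        · exact c3.eq.symm
      exact (Subgroup.mem_centralizer_iff.1 (hle (hmemU x)) _ (Subgroup.mem_map_of_mem φ (hmemU y))).symm
    refine ⟨⟨fA, fB, hA, hB, hgenH, ?_, ?_, hcomm⟩, rfl, rfl⟩
    · intro w hw
      rw [hc, emb_injective 0 _ (hw.trans hz.symm)]
    · intro σ hσ x
      have hm : U.map (MulAut.conj (fA σ)).toMonoidHom = U := hKas (hgen σ hσ)
      obtain ⟨x', hx'⟩ := hm.le (Subgroup.mem_map_of_mem (MulAut.conj (fA σ)).toMonoidHom (hmemU x))
      exact ⟨x', hx'.symm⟩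

/-- `SU n` from an alternating group and `SU 3`. -/
theorem su_pres (hF : Fintype.card F = q ^ 2) (hn : 4 ≤ n)
    (hinj : ∀ (H : Type) [Group H] (π : H →* SU n F q), Glue hn π → Function.Injective π)
    {kA NA kB NB : ℕ} (hA : PresBy (Alt n) kA NA) (hB : PresBy (SU 3 F q) kB NB) :
    PresBy (SU n F q) (kA + kB) (NA + NB + 8) := by
  obtain ⟨E, hE, hsat, hglue⟩ := exists_relators (q := q) hF hn
  have hgen : (rho F q n).range ⊔ (emb 0 (by omega : 0 + 3 ≤ n) : SU 3 F q →* SU n F q).range = ⊤ := by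
    set T := (rho F q n).range ⊔ (emb 0 (by omega : 0 + 3 ≤ n) : SU 3 F q →* SU n F q).range
    rw [eq_top_iff, ← PhanChain47.gen_blocks (q := q) hF n (by omega), Subgroup.closure_le]
    have hρ : ∀ a, rho F q n a ∈ T := fun a => Subgroup.mem_sup_left ⟨a, rfl⟩
    have h3 : ∀ x, emb 0 (by omega : 0 + 3 ≤ n) x ∈ T := fun x => Subgroup.mem_sup_right ⟨x, rfl⟩
    rintro _ (⟨k, hk, a, rfl⟩ | ⟨k, hk, b, rfl⟩)
    · obtain ⟨σ, hσ⟩ := exists_pair hn k hk
      have : emb k hk a ∈ (emb k hk : SU 2 F q →* SU n F q).range := ⟨a, rfl⟩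
      rw [← rho_range' hF (by omega : 0 + 2 ≤ n) hk σ hσ] at this
      obtain ⟨_, ⟨x, rfl⟩, e⟩ := this
      rw [← e]
      refine mul_mem (mul_mem (hρ σ) ?_) (inv_mem (hρ σ))
      rw [show emb 0 (by omega : 0 + 2 ≤ n) x = emb 0 (by omega : 0 + 3 ≤ n) (emb 0 (by omega : 0 + 2 ≤ 3) x) from
        (DFunLike.congr_fun (emb3_comp (F := F) (q := q) (by omega : 0 + 2 ≤ 3) (by omega : 0 + 3 ≤ n)) x).symm]
      exact h3 _
    · obtain ⟨σ, ε, -, h⟩ := exists_even (r := 3) (by omega : 3 ≤ n) (fun j => (⟨k + j, by omega⟩ : Fin n))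
        (fun a b e => Fin.ext (by simpa using e)) 0 2 (by decide)
      have hσ : ∀ l, InR 0 3 l → InR k 3 ((σ : Perm (Fin n)) l) := fun l hl => by
        simp only [InR] at hl
        rw [show l = Fin.castLE (by omega : 3 ≤ n) ⟨l, by omega⟩ from Fin.ext rfl, h]
        simp [InR]
      have : emb k hk b ∈ (emb k hk : SU 3 F q →* SU n F q).range := ⟨b, rfl⟩
      rw [← rho_range' hF (by omega : 0 + 3 ≤ n) hk σ hσ] at this
      obtain ⟨_, ⟨x, rfl⟩, e⟩ := this
      rw [← e]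
      exact mul_mem (mul_mem (hρ σ) (h3 _)) (inv_mem (hρ σ))
  refine PresBy.mono (PresBy.amalgam hA hB (rho F q n) (emb 0 (by omega : 0 + 3 ≤ n)) hgen E hsat
    fun H _ fA fB π h1 h2 h3 h4 => ?_) (by omega)
  obtain ⟨D, -, -⟩ := hglue H fA fB h4 π h1 h2 h3
  exact hinj H π D

/-- the case of large fields -/
theorem su_pres_big (hF : Fintype.card F = q ^ 2) (hn : 4 ≤ n) (hq : 4 ≤ q) {kA NA kB NB : ℕ}
    (hA : PresBy (Alt n) kA NA) (hB : PresBy (SU 3 F q) kB NB) :
    PresBy (SU n F q) (kA + kB) (NA + NB + 8) :=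
  su_pres hF hn (fun _ _ _ D => D.injective hF hq) hA hB

end Cfsg.Agent.UnitaryPres49
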