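import Cfsg.Agent.Lib.UnitaryPres49Phan
import Cfsg.Agent.Lib.UnitaryPres49Data3
import Cfsg.Agent.Lib.StemSUBaseTools
import Cfsg.Agent.S3710

/-!
Two further relators settle the gluing over nine elements: a coset count in four dimensions, then recognition.
-/

set_option autoImplicit false
set_option linter.unusedSectionVars false

namespace Cfsg.Agent.UnitaryPres49

open Cfsg Cfsg.Agent.OrthUnitaryHerm Cfsg.Agent.OrthUnitaryTransvection Cfsg.Agent.PhanBlocks47
  Cfsg.Agent.PhanCoset47 Equiv Equiv.Perm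
open scoped Matrix

/-- a root of `X² = X + 1` in characteristic three -/
structure Nine (F : Type) [Field F] where
  w : F
  sq : w * w = w + 1
  three : (3 : F) = 0

namespace Nine

variable {F : Type} [Field F] [Fintype F]

theorem exists_nine (hF : Fintype.card F = 3 ^ 2) : Nonempty (Nine F) := by
  classical
  have h9 : ((9 : ℕ) : F) = 0 := by
    have h := FiniteField.cast_card_eq_zero F
    rw [hF] at h
    exact h
  have h3 : (3 : F) = 0 := by
    have : (3 : F) * 3 = 0 := by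
      have e : (3 : F) * 3 = ((9 : ℕ) : F) := by norm_num
      rw [e, h9]
    exact mul_self_eq_zero.1 this
  have hchar : ringChar F ≠ 2 := by
    intro h
    have h2 : ((2 : ℕ) : F) = 0 := by rw [← h]; exact ringChar.Nat.cast_ringChar
    push_cast at h2
    have : (1 : F) = 0 := by linear_combination h3 - h2
    exact one_ne_zero this
  have hsq : IsSquare (-1 : F) := by
    rw [FiniteField.isSquare_neg_one_iff, hF]
    decide
  obtain ⟨i, hi⟩ := hsq
  exact ⟨⟨2 + 2 * i, by linear_combination (-4 : F) * hi + (2 * i - 1) * h3, h3⟩⟩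

variable (N : Nine F)
include N

/-- the element with code `a₀ + 3a₁` -/
def val (a : ℕ) : F := ((a % 3 : ℕ) : F) + ((a / 3 % 3 : ℕ) : F) * N.w

theorem cast_mod (c : ℕ) : ((c % 3 : ℕ) : F) = (c : F) := by
  conv_rhs => rw [← Nat.div_add_mod c 3]
  push_cast
  rw [N.three, zero_mul, zero_add]

/-- addition of codes -/
def cadd (a b : ℕ) : ℕ := (a % 3 + b % 3) % 3 + 3 * ((a / 3 % 3 + b / 3 % 3) % 3)

/-- multiplication of codes -/
def cmul (a b : ℕ) : ℕ :=
  (a % 3 * (b % 3) + a / 3 % 3 * (b / 3 % 3)) % 3 +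
    3 * ((a % 3 * (b / 3 % 3) + a / 3 % 3 * (b % 3) + a / 3 % 3 * (b / 3 % 3)) % 3)

theorem val_pack (c d : ℕ) : N.val (c % 3 + 3 * (d % 3)) = (c : F) + (d : F) * N.w := by
  rw [val, show (c % 3 + 3 * (d % 3)) % 3 = c % 3 by omega, show (c % 3 + 3 * (d % 3)) / 3 % 3 = d % 3 by omega,
    N.cast_mod, N.cast_mod]

theorem val_add (a b : ℕ) : N.val (cadd a b) = N.val a + N.val b := by
  rw [cadd, val_pack, val, val]
  push_cast
  ring

theorem val_mul (a b : ℕ) : N.val (cmul a b) = N.val a * N.val b := by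
  rw [cmul, val_pack, val, val]
  push_cast
  linear_combination (-(((a / 3 % 3 : ℕ) : F) * ((b / 3 % 3 : ℕ) : F))) * N.sq

theorem val_zero : N.val 0 = 0 := by simp [val]

theorem val_one : N.val 1 = 1 := by simp [val]

theorem val_two : N.val 2 = -1 := by
  simp [val]
  linear_combination N.three

theorem val_inj {a b : ℕ} (ha : a < 9) (hb : b < 9) (e : N.val a = N.val b) : a = b := by
  have key : ∀ a < 9, ∀ b < 9, a = b ∨ ∃ c < 9, cmul c (cadd a (cmul 2 b)) = 1 := by decide +kernel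
  refine (key a ha b hb).resolve_right ?_
  rintro ⟨c, -, hc⟩
  have := congrArg N.val hc
  rw [val_mul, val_add, val_mul, val_two, val_one, e] at this
  simp at this

/-! ### four by four matrices -/

/-- product of coded matrices -/
def cdot (A B : Matrix (Fin 4) (Fin 4) ℕ) : Matrix (Fin 4) (Fin 4) ℕ :=
  Matrix.of fun i j => cadd (cadd (cadd (cmul (A i 0) (B 0 j)) (cmul (A i 1) (B 1 j))) (cmul (A i 2) (B 2 j)))
    (cmul (A i 3) (B 3 j))

theorem map_cdot (A B : Matrix (Fin 4) (Fin 4) ℕ) : (cdot A B).map N.val = A.map N.val * B.map N.val := by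
  refine Matrix.ext fun i j => ?_
  simp [cdot, Matrix.mul_apply, Fin.sum_univ_four, val_add, val_mul]

/-- the identity -/
def cI : Matrix (Fin 4) (Fin 4) ℕ := !![1, 0, 0, 0; 0, 1, 0, 0; 0, 0, 1, 0; 0, 0, 0, 1]

theorem map_cI : cI.map N.val = 1 := by
  refine Matrix.ext fun i j => ?_
  fin_cases i <;> fin_cases j <;> simp [cI, val_zero, val_one]

/-- the eight letters -/
def Lm : ℕ → Matrix (Fin 4) (Fin 4) ℕ
  | 0 => !![0, 4, 0, 0; 4, 0, 0, 0; 0, 0, 1, 0; 0, 0, 0, 1]
  | 1 => !![5, 3, 0, 0; 5, 6, 0, 0; 0, 0, 1, 0; 0, 0, 0, 1]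
  | 2 => !![0, 0, 1, 0; 1, 0, 0, 0; 0, 1, 0, 0; 0, 0, 0, 1]
  | 3 => !![0, 1, 0, 0; 1, 0, 0, 0; 0, 0, 0, 1; 0, 0, 1, 0]
  | 4 => !![0, 8, 0, 0; 8, 0, 0, 0; 0, 0, 1, 0; 0, 0, 0, 1]
  | 5 => !![6, 6, 0, 0; 7, 5, 0, 0; 0, 0, 1, 0; 0, 0, 0, 1]
  | 6 => !![0, 1, 0, 0; 0, 0, 1, 0; 1, 0, 0, 0; 0, 0, 0, 1]
  | _ => !![0, 1, 0, 0; 1, 0, 0, 0; 0, 0, 0, 1; 0, 0, 1, 0]

/-- the value of a short word -/
def wev : List ℕ → Matrix (Fin 4) (Fin 4) ℕ
  | [] => cI
  | i :: w => cdot (Lm i) (wev w)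

/-- equality of coded matrices -/
def meq (A B : Matrix (Fin 4) (Fin 4) ℕ) : Prop :=
  ((List.finRange 4).all fun i => (List.finRange 4).all fun j => Nat.beq (A i j) (B i j)) = true

instance (A B : Matrix (Fin 4) (Fin 4) ℕ) : Decidable (meq A B) := instDecidableEqBool _ true

omit N in
theorem of_meq {A B : Matrix (Fin 4) (Fin 4) ℕ} (h : meq A B) : A = B :=
  Matrix.ext fun i j => by
    simpa [meq] using List.all_eq_true.1 (List.all_eq_true.1 h i (List.mem_finRange i)) j (List.mem_finRange j)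

omit N in
theorem to_meq {A B : Matrix (Fin 4) (Fin 4) ℕ} (h : ∀ i j, A i j = B i j) : meq A B := by
  simp [meq, List.all_eq_true, h]

/-- all entries are codes -/
def small (A : Matrix (Fin 4) (Fin 4) ℕ) : Bool :=
  (List.finRange 4).all fun i => (List.finRange 4).all fun j => Nat.blt (A i j) 9

omit N in
theorem of_small {A : Matrix (Fin 4) (Fin 4) ℕ} (h : small A = true) (i j : Fin 4) : A i j < 9 := by
  simpa [small] using List.all_eq_true.1 (List.all_eq_true.1 h i (List.mem_finRange i)) j (List.mem_finRange j)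

/-- the first generator of `SU 2` -/
def g2 : SU 2 F 3 := mkSU !![N.val 0, N.val 4; N.val 4, N.val 0]
  (by
    rw [Matrix.det_fin_two_of, sub_eq_add_neg, ← neg_one_mul (N.val 4 * N.val 4), ← val_two N, ← val_mul, ← val_mul, ← val_mul, ← val_add,
      show cadd (cmul 0 0) (cmul 2 (cmul 4 4)) = 1 from rfl, val_one])
  (by
    intro u v
    have hp : ∀ a, N.val a ^ 3 = N.val (cmul a (cmul a a)) := fun a => by rw [val_mul, val_mul]; ring
    have hs : ∀ x y : F, (x + y) ^ 3 = x ^ 3 + y ^ 3 := fun x y => by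
      linear_combination (x ^ 2 * y + x * y ^ 2) * N.three
    simp only [hermForm, Fin.sum_univ_two, Matrix.mulVec, dotProduct, Matrix.of_apply, Matrix.cons_val_zero,
      Matrix.cons_val_one, Matrix.cons_val', Matrix.cons_val_fin_one, hs, mul_pow, hp]
    have e : ∀ a b, N.val a * N.val b = N.val (cmul a b) := fun a b => (N.val_mul a b).symm
    rw [show cmul 4 (cmul 4 4) = 8 from rfl, show cmul 0 (cmul 0 0) = 0 from rfl, N.val_zero]
    linear_combination (u 0 * v 0 ^ 3 + u 1 * v 1 ^ 3) *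
        ((e 4 8).trans ((congrArg N.val (show cmul 4 8 = 1 from rfl)).trans N.val_one)))

/-- the second generator of `SU 2` -/
def h2 : SU 2 F 3 := mkSU !![N.val 5, N.val 3; N.val 5, N.val 6]
  (by
    rw [Matrix.det_fin_two_of, sub_eq_add_neg, ← neg_one_mul (N.val 3 * N.val 5), ← val_two N, ← val_mul, ← val_mul, ← val_mul, ← val_add,
      show cadd (cmul 5 6) (cmul 2 (cmul 3 5)) = 1 from rfl, val_one])
  (by
    intro u v
    have hp : ∀ a, N.val a ^ 3 = N.val (cmul a (cmul a a)) := fun a => by rw [val_mul, val_mul]; ring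
    have hs : ∀ x y : F, (x + y) ^ 3 = x ^ 3 + y ^ 3 := fun x y => by
      linear_combination (x ^ 2 * y + x * y ^ 2) * N.three
    simp only [hermForm, Fin.sum_univ_two, Matrix.mulVec, dotProduct, Matrix.of_apply, Matrix.cons_val_zero,
      Matrix.cons_val_one, Matrix.cons_val', Matrix.cons_val_fin_one, hs, mul_pow, hp]
    have e : ∀ a b c d r, cadd (cmul a b) (cmul c d) = r → N.val a * N.val b + N.val c * N.val d = N.val r :=
      fun a b c d r h => by rw [← val_mul, ← val_mul, ← val_add, h]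
    linear_combination (u 0 * v 0 ^ 3) *
        ((e 5 (cmul 5 (cmul 5 5)) 5 (cmul 5 (cmul 5 5)) 1 rfl).trans N.val_one) +
      (u 0 * v 1 ^ 3) * ((e 5 (cmul 3 (cmul 3 3)) 5 (cmul 6 (cmul 6 6)) 0 rfl).trans N.val_zero) +
      (u 1 * v 0 ^ 3) * ((e 3 (cmul 5 (cmul 5 5)) 6 (cmul 5 (cmul 5 5)) 0 rfl).trans N.val_zero) +
      (u 1 * v 1 ^ 3) * ((e 3 (cmul 3 (cmul 3 3)) 6 (cmul 6 (cmul 6 6)) 1 rfl).trans N.val_one))

end Nine

variable {F : Type} [Field F] [Fintype F]

/-- the products `c^i v` of a three-cycle and the four group -/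
def altFour (k : Fin 3 × Fin 4) : Alt 4 :=
  let c : Alt 4 := cA (by omega)
  let s : Alt 4 := sA le_rfl
  (![1, c, c * c] k.1) * (![1, s, c * s * c⁻¹, s * (c * s * c⁻¹)] k.2)

theorem alt_four_gen : Subgroup.closure ({cA (by omega), sA le_rfl} : Set (Alt 4)) = ⊤ := by
  set T := Subgroup.closure ({cA (by omega), sA le_rfl} : Set (Alt 4))
  have hc : (cA (by omega) : Alt 4) ∈ T := Subgroup.subset_closure (Or.inl rfl)
  have hs : (sA le_rfl : Alt 4) ∈ T := Subgroup.subset_closure (Or.inr rfl)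
  have hcover : ∀ g : Perm (Fin 4), sign g = 1 → ∃ k, (altFour k : Perm (Fin 4)) = g := by decide +kernel
  refine eq_top_iff.2 fun g _ => ?_
  obtain ⟨⟨a, b⟩, hk⟩ := hcover g (mem_Alt.1 g.2)
  rw [show g = altFour (a, b) from Subtype.ext hk.symm]
  refine mul_mem ?_ ?_
  · fin_cases a <;> simp [hc, mul_mem]
  · fin_cases b
    · exact one_mem T
    · exact hs
    · exact mul_mem (mul_mem hc hs) (inv_mem hc)
    · exact mul_mem hs (mul_mem (mul_mem hc hs) (inv_mem hc))

/-- the underlying matrix -/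
abbrev Mt {n q : ℕ} (g : SU n F q) : Matrix (Fin n) (Fin n) F :=
  ((g : Matrix.SpecialLinearGroup (Fin n) F) : Matrix (Fin n) (Fin n) F)

theorem Mt_inj {n q : ℕ} {g h : SU n F q} (e : Mt g = Mt h) : g = h := Subtype.ext (Subtype.ext e)

/-- the first pair in four coordinates -/
abbrev C0 (F : Type) [Field F] [Fintype F] : SU 2 F 3 →* SU 4 F 3 :=
  (emb 0 (by omega : 0 + 3 ≤ 4)).comp (B0' F 3)

theorem Mt_C0 (x : SU 2 F 3) : Mt (C0 F x) =
    !![Mt x 0 0, Mt x 0 1, 0, 0; Mt x 1 0, Mt x 1 1, 0, 0; 0, 0, 1, 0; 0, 0, 0, 1] := by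
  refine Matrix.ext fun i j => ?_
  show embMat 0 _ (embMat 0 _ (Mt x)) i j = _
  fin_cases i <;> fin_cases j <;> rfl

theorem rho_inj {n q : ℕ} : Function.Injective (rho F q n) := fun a b e =>
  Subtype.ext (Equiv.ext fun i => by
    have h := congrArg (fun g => act g (Pi.single i (1 : F))) e
    simp only [rho_single] at h
    by_contra hne
    have h' := congrFun h ((a : Perm (Fin n)) i)
    simp [Pi.single_apply, hne] at h')

/-- the two further relators, in a group under the glue -/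
def ExPair {H : Type} [Group H] {n : ℕ} (hn : 4 ≤ n) (fA : Alt n →* H) (fB : SU 3 F 3 →* H) (N : Nine F) : Prop :=
  (fA (cA (by omega)) * (fB (B0' F 3 N.h2))⁻¹ * fA (sA hn)) ^ 8 = 1 ∧
    (fA (sA hn) * (fB (B0' F 3 N.g2))⁻¹ * (fA (cA (by omega)))⁻¹ * fB (B0' F 3 N.h2)) ^ 8 = 1

/-- the eight letters in a group under the glue -/
def letters {H : Type} [Group H] (fA : Alt 4 →* H) (fB : SU 3 F 3 →* H) (N : Nine F) : ℕ → H
  | 0 => fB (B0' F 3 N.g2)
  | 1 => fB (B0' F 3 N.h2)
  | 2 => fA (cA (by omega))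
  | 3 => fA (sA le_rfl)
  | 4 => (fB (B0' F 3 N.g2))⁻¹
  | 5 => (fB (B0' F 3 N.h2))⁻¹
  | 6 => (fA (cA (by omega)))⁻¹
  | _ => (fA (sA le_rfl))⁻¹

/-- the model letters -/
abbrev el (N : Nine F) : ℕ → SU 4 F 3 := letters (rho F 3 4) (emb 0 (by omega : 0 + 3 ≤ 4)) N

theorem Mt_el_low (N : Nine F) (i : ℕ) (hi : i < 4) : Mt (el N i) = (Nine.Lm i).map N.val := by
  have hp : ∀ σ : Alt 4, ∀ a b, Mt (rho F 3 4 σ) a b = if (σ : Perm (Fin 4)) b = a then 1 else 0 := fun σ a b => by
    have h := congrFun (rho_single (F := F) (q := 3) σ b) a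
    rw [Pi.single_apply] at h
    simp only [eq_comm (a := (σ : Perm (Fin 4)) b)]
    rw [← h]
    show _ = (Mt (rho F 3 4 σ) *ᵥ Pi.single b 1) a
    rw [Matrix.mulVec_single_one]
    rfl
  match i, hi with
  | 0, _ =>
    show Mt (C0 F N.g2) = _
    rw [Mt_C0]
    refine Matrix.ext fun a b => ?_
    fin_cases a <;> fin_cases b <;> simp [Nine.Lm, Nine.g2, mkSU, Mt, N.val_zero, N.val_one]
  | 1, _ =>
    show Mt (C0 F N.h2) = _
    rw [Mt_C0]
    refine Matrix.ext fun a b => ?_
    fin_cases a <;> fin_cases b <;> simp [Nine.Lm, Nine.h2, mkSU, Mt, N.val_zero, N.val_one]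
  | 2, _ =>
    refine Matrix.ext fun a b => ?_
    rw [show el N 2 = rho F 3 4 (cA (by omega)) from rfl, hp]
    fin_cases a <;> fin_cases b <;>
      simp [Nine.Lm, cA, ShortPresCarmichael.cyc, Equiv.swap_apply_def, Fin.ext_iff, N.val_zero, N.val_one]
  | 3, _ =>
    refine Matrix.ext fun a b => ?_
    rw [show el N 3 = rho F 3 4 (sA le_rfl) from rfl, hp]
    fin_cases a <;> fin_cases b <;>
      simp [Nine.Lm, sA, Equiv.swap_apply_def, Fin.ext_iff, N.val_zero, N.val_one]

theorem Mt_el (N : Nine F) (i : ℕ) (hi : i < 8) : Mt (el N i) = (Nine.Lm i).map N.val := by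
  rcases Nat.lt_or_ge i 4 with h | h
  · exact Mt_el_low N i h
  obtain ⟨j, hj, rfl⟩ : ∃ j, j < 4 ∧ i = j + 4 := ⟨i - 4, by omega, by omega⟩
  have h1 : el N j * el N (j + 4) = 1 := by
    match j, hj with
    | 0, _ => exact mul_inv_cancel _
    | 1, _ => exact mul_inv_cancel _
    | 2, _ => exact mul_inv_cancel _
    | 3, _ => exact mul_inv_cancel _
  have h2 : Nine.meq (Nine.cdot (Nine.Lm (j + 4)) (Nine.Lm j)) Nine.cI := by
    match j, hj with
    | 0, _ => decide +kernel
    | 1, _ => decide +kernel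
    | 2, _ => decide +kernel
    | 3, _ => decide +kernel
  have h3 := congrArg (Matrix.map · N.val) (Nine.of_meq h2)
  simp only [N.map_cdot, N.map_cI] at h3
  calc Mt (el N (j + 4)) = ((Nine.Lm (j + 4)).map N.val * Mt (el N j)) * Mt (el N (j + 4)) := by
        rw [Mt_el_low N j hj, h3, one_mul]
    _ = (Nine.Lm (j + 4)).map N.val * Mt (el N j * el N (j + 4)) := by rw [mul_assoc]; rfl
    _ = _ := by rw [h1]; exact mul_one _

theorem Mt_word (N : Nine F) : ∀ w : List ℕ, (∀ i ∈ w, i < 8) →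
    Mt ((w.map (el N)).prod) = (Nine.wev w).map N.val
  | [], _ => N.map_cI.symm
  | i :: w, h => by
    rw [List.map_cons, List.prod_cons, Nine.wev, N.map_cdot, ← Mt_el N i (h i (List.mem_cons_self ..)),
      ← Mt_word N w fun j hj => h j (List.mem_cons_of_mem _ hj)]
    rfl

theorem word_one (N : Nine F) (w : List ℕ) (hw : ∀ i ∈ w, i < 8) (h : Nine.meq (Nine.wev w) Nine.cI) :
    (w.map (el N)).prod = 1 :=
  Mt_inj (by rw [Mt_word N w hw, Nine.of_meq h, N.map_cI]; rfl)

theorem pow_eight (N : Nine F) (x : SU 4 F 3) {A B C : Matrix (Fin 4) (Fin 4) ℕ} (hA : Mt x = A.map N.val)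
    (hB : Nine.meq (Nine.cdot A A) B) (hC : Nine.meq (Nine.cdot B B) C) (hD : Nine.meq (Nine.cdot C C) Nine.cI) :
    x ^ 8 = 1 := by
  refine Mt_inj ?_
  rw [show x ^ 8 = x * x * (x * x) * (x * x * (x * x)) by simp [pow_succ, mul_assoc]]
  show Mt x * Mt x * (Mt x * Mt x) * (Mt x * Mt x * (Mt x * Mt x)) = _
  rw [hA, ← N.map_cdot, Nine.of_meq hB, ← N.map_cdot, Nine.of_meq hC, ← N.map_cdot, Nine.of_meq hD, N.map_cI]
  rfl

theorem ex_four (N : Nine F) : ExPair le_rfl (rho F 3 4) (emb 0 (by omega : 0 + 3 ≤ 4)) N := by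
  constructor
  · refine pow_eight N _ (A := !![0, 0, 0, 1; 6, 6, 0, 0; 5, 7, 0, 0; 0, 0, 1, 0])
      (B := !![0, 0, 1, 0; 4, 4, 0, 6; 1, 1, 0, 5; 5, 7, 0, 0])
      (C := !![1, 1, 0, 5; 1, 0, 4, 5; 0, 8, 1, 6; 6, 6, 5, 1]) ?_ (by decide +kernel) (by decide +kernel)
      (by decide +kernel)
    rw [show rho F 3 4 (cA (by omega)) * _ * rho F 3 4 (sA le_rfl) = ([2, 5, 3].map (el N)).prod by
        simp [el, letters, mul_assoc],
      Mt_word N _ (by decide), Nine.of_meq (show Nine.meq (Nine.wev [2, 5, 3])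
        !![0, 0, 0, 1; 6, 6, 0, 0; 5, 7, 0, 0; 0, 0, 1, 0] by decide +kernel)]
  · refine pow_eight N _ (A := !![6, 7, 0, 0; 0, 0, 8, 0; 0, 0, 0, 1; 5, 3, 0, 0])
      (B := !![4, 1, 3, 0; 0, 0, 0, 8; 5, 3, 0, 0; 2, 4, 5, 0])
      (C := !![0, 8, 7, 8; 4, 1, 6, 0; 3, 5, 1, 5; 4, 0, 6, 1]) ?_ (by decide +kernel) (by decide +kernel)
      (by decide +kernel)
    rw [show rho F 3 4 (sA le_rfl) * _ * _ * _ = ([3, 4, 6, 1].map (el N)).prod by
        simp [el, letters, mul_assoc],
      Mt_word N _ (by decide), Nine.of_meq (show Nine.meq (Nine.wev [3, 4, 6, 1])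
        !![6, 7, 0, 0; 0, 0, 8, 0; 0, 0, 0, 1; 5, 3, 0, 0] by decide +kernel)]

theorem ex_model (N : Nine F) {n : ℕ} (hn : 4 ≤ n) :
    ExPair hn (rho F 3 n) (emb 0 (by omega : 0 + 3 ≤ n)) N := by
  obtain ⟨h1, h2⟩ := ex_four N
  have e : ∀ x : SU 3 F 3, emb 0 (by omega : 0 + 3 ≤ n) x =
      emb 0 (by omega : 0 + 4 ≤ n) (emb 0 (by omega : 0 + 3 ≤ 4) x) := fun x =>
    (PhanCoset47.emb_emb' (a := 0) (b := 0) _ _ _ rfl x).symm
  have ec := rho_altEmb (F := F) (q := 3) hn (cA (by omega : 3 ≤ 4))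
  have es := rho_altEmb (F := F) (q := 3) hn (sA le_rfl)
  rw [altEmb_cA] at ec
  rw [altEmb_sA] at es
  constructor
  · rw [ec, es, e]
    simp only [← map_inv (emb 0 (by omega : 0 + 4 ≤ n) : SU 4 F 3 →* SU n F 3), ← map_mul, ← map_pow]
    rw [h1, map_one]
  · rw [ec, es, e, e]
    simp only [← map_inv (emb 0 (by omega : 0 + 4 ≤ n) : SU 4 F 3 →* SU n F 3), ← map_mul, ← map_pow]
    rw [h2, map_one]

/-- the words giving all of `SU 2` -/
def words : List (List ℕ) := [[], [0], [1], [4], [5], [0, 0], [0, 1], [0, 5], [1, 0], [1, 4], [4, 1], [4, 5],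
  [5, 0], [5, 4], [0, 0, 1], [0, 0, 5], [0, 1, 0], [0, 1, 4], [0, 5, 0], [0, 5, 4], [1, 0, 5], [1, 4, 5],
  [5, 0, 1], [5, 4, 1]]

theorem gen_two (hF : Fintype.card F = 3 ^ 2) (N : Nine F) :
    Subgroup.closure ({N.g2, N.h2} : Set (SU 2 F 3)) = ⊤ := by
  classical
  set T := Subgroup.closure ({N.g2, N.h2} : Set (SU 2 F 3))
  have hlet : ∀ i ∈ [0, 1, 4, 5], ∃ t ∈ T, C0 F t = el N i := by
    simp only [List.forall_mem_cons, List.not_mem_nil, false_imp_iff, implies_true, and_true]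
    exact ⟨⟨_, Subgroup.subset_closure (Or.inl rfl), rfl⟩, ⟨_, Subgroup.subset_closure (Or.inr rfl), rfl⟩,
      ⟨_, inv_mem (Subgroup.subset_closure (Or.inl rfl)), map_inv _ _⟩,
      ⟨_, inv_mem (Subgroup.subset_closure (Or.inr rfl)), map_inv _ _⟩⟩
  have hwd : ∀ w : List ℕ, (∀ i ∈ w, i ∈ [0, 1, 4, 5]) → ∃ t ∈ T, C0 F t = (w.map (el N)).prod := by
    intro w
    induction w with
    | nil => intro _; exact ⟨1, one_mem _, map_one _⟩
    | cons i w ih =>
      intro h
      obtain ⟨t, ht, e⟩ := hlet i (h i (List.mem_cons_self ..))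
      obtain ⟨t', ht', e'⟩ := ih fun j hj => h j (List.mem_cons_of_mem _ hj)
      exact ⟨t * t', mul_mem ht ht', by rw [map_mul, e, e', List.map_cons, List.prod_cons]⟩
  have hw4 : ∀ k : Fin 24, ∀ i ∈ words.getD k.val [], i ∈ [0, 1, 4, 5] := by decide
  choose f hf hfe using fun k : Fin 24 => hwd (words.getD k.val []) (hw4 k)
  have hlt : ∀ k : Fin 24, ∀ a b, (Nine.wev (words.getD k.val [])) a b < 9 := by
    have h : ∀ k : Fin 24, Nine.small (Nine.wev (words.getD k.val [])) = true := by decide +kernel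
    exact fun k => Nine.of_small (h k)
  have hne : ∀ k l : Fin 24, k ≠ l → ¬ Nine.meq (Nine.wev (words.getD k.val [])) (Nine.wev (words.getD l.val [])) := by
    decide +kernel
  have hinj : Function.Injective fun k : Fin 24 => (⟨f k, hf k⟩ : T) := by
    intro k l e
    by_contra hkl
    refine hne k l hkl (Nine.to_meq fun a b => N.val_inj (hlt k a b) (hlt l a b) ?_)
    have h := congrArg (fun t : T => Mt (C0 F t.1) a b) e
    have h8 : ∀ k : Fin 24, ∀ i ∈ words.getD k.val [], i < 8 := fun k i hi => by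
      have := hw4 k i hi
      simp only [List.mem_cons, List.not_mem_nil, or_false] at this
      omega
    simp only [hfe, Mt_word N _ (h8 k), Mt_word N _ (h8 l), Matrix.map_apply] at h
    exact h
  refine Subgroup.eq_top_of_le_card _ ?_
  rw [StemSUBaseTools.card_SU_two hF]
  simpa using Nat.card_le_card_of_injective _ hinj

/-- four coordinates -/
theorem injective_three_four (hF : Fintype.card F = 3 ^ 2) (N : Nine F) {H : Type} [Group H]
    {π : H →* SU 4 F 3} (D : Glue le_rfl π) (hex : ExPair le_rfl D.fA D.fB N) : Function.Injective π := by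
  classical
  set y := letters D.fA D.fB N with hy
  set K := D.fB.range with hK
  haveI : Finite K := Finite.of_surjective _ D.fB.rangeRestrict_surjective
  have hval : ∀ i, π (y i) = el N i := fun i =>
    match i with
    | 0 => D.hB _
    | 1 => D.hB _
    | 2 => D.hA _
    | 3 => D.hA _
    | 4 => (map_inv π _).trans (congrArg _ (D.hB _))
    | 5 => (map_inv π _).trans (congrArg _ (D.hB _))
    | 6 => (map_inv π _).trans (congrArg _ (D.hA _))
    | _ + 7 => (map_inv π _).trans (congrArg _ (D.hA _))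
  have hwval : ∀ w : List ℕ, π (w.map y).prod = (w.map (el N)).prod := fun w => by
    rw [map_list_prod, List.map_map]
    exact congrArg _ (List.map_congr_left fun i _ => hval i)
  obtain ⟨z, hz⟩ := exists_emb hF 0 (by omega : 0 + 3 ≤ 4) (rho F 3 4 (cA (by omega))) (fun l hl => by
    rw [rho_single]
    congr 1
    refine ShortPresCarmichael.cyc_other ?_ ?_ ?_ <;> intro e <;> simp [e, InR] at hl)
  have hc : D.fA (cA (by omega)) ∈ K := ⟨z, (D.hc z hz).symm⟩
  have hKi : ∀ i ∈ [0, 1, 2, 4, 5, 6], y i ∈ K := by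
    simp only [List.forall_mem_cons, List.not_mem_nil, false_imp_iff, implies_true, and_true]
    exact ⟨⟨_, rfl⟩, ⟨_, rfl⟩, hc, inv_mem ⟨_, rfl⟩, inv_mem ⟨_, rfl⟩, inv_mem hc⟩
  have hKw : ∀ w : List ℕ, (∀ i ∈ w, i ∈ [0, 1, 2, 4, 5, 6]) → (w.map y).prod ∈ K := fun w hw =>
    list_prod_mem fun x hx => by
      obtain ⟨i, hi, rfl⟩ := List.mem_map.1 hx
      exact hKi i (hw i hi)
  have oneK : ∀ x ∈ K, π x = 1 → x = 1 := by
    rintro _ ⟨b, rfl⟩ h
    rw [D.hB] at h
    rw [emb_injective 0 (by omega : 0 + 3 ≤ 4) (h.trans (map_one _).symm), map_one]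
  have oneA : ∀ x ∈ D.fA.range, π x = 1 → x = 1 := by
    rintro _ ⟨a, rfl⟩ h
    rw [D.hA] at h
    rw [rho_inj (h.trans (map_one _).symm), map_one]
  have hs2 : y 3 * y 3 = 1 := oneA _ (mul_mem ⟨_, rfl⟩ ⟨_, rfl⟩) (by
    have := word_one N [3, 3] (by decide) (by decide +kernel)
    rw [← hwval] at this
    simpa using this)
  have hsU : ∀ x, D.fA (sA le_rfl) * D.fB (B0' F 3 x) * (D.fA (sA le_rfl))⁻¹ ∈ K := fun x => by
    obtain ⟨x', hx'⟩ := D.hstab (sA le_rfl) (by decide) x
    exact ⟨_, hx'.symm⟩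
  have hsinv : (D.fA (sA le_rfl))⁻¹ = D.fA (sA le_rfl) := inv_eq_of_mul_eq_one_right hs2
  have hr : ∀ w ∈ UnitaryPres49Data3.cert.rels, (w.map y).prod = 1 := by
    simp only [UnitaryPres49Data3.cert, UnitaryPres49Data3.rels, List.forall_mem_cons, List.not_mem_nil,
      false_imp_iff, implies_true, and_true]
    refine ⟨oneK _ ?_ ?_, oneK _ ?_ ?_, ?_, oneA _ ?_ ?_, oneK _ (hKw _ (by decide)) ?_,
      oneK _ (hKw _ (by decide)) ?_, oneK _ (hKw _ (by decide)) ?_, oneK _ (hKw _ (by decide)) ?_,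
      oneK _ (hKw _ (by decide)) ?_, oneK _ (hKw _ (by decide)) ?_, ?_, ?_⟩
    any_goals (rw [hwval]; exact word_one N _ (by decide) (by decide +kernel))
    · have := mul_mem (hsU N.g2) (hKi 4 (by decide))
      rw [hsinv] at this
      simpa [hy, letters, mul_assoc] using this
    · have := mul_mem (hsU N.h2) (mul_mem (hKi 0 (by decide)) (mul_mem (hKi 5 (by decide)) (hKi 4 (by decide))))
      rw [hsinv] at this
      simpa [hy, letters, mul_assoc] using this
    · simpa using hs2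
    · exact list_prod_mem fun x hx => by
        simp only [hy, letters, List.map_cons, List.map_nil, List.mem_cons, List.not_mem_nil, or_false] at hx
        rcases hx with rfl | rfl | rfl | rfl | rfl | rfl <;> exact ⟨_, rfl⟩
    · simpa [hy, letters, pow_succ, mul_assoc] using hex.1
    · simpa [hy, letters, pow_succ, mul_assoc] using hex.2
  have hyinv : ∀ i, i < 8 → y i * y (UnitaryPres49Data3.cert.iv i) = 1 := fun i hi => by
    match i, hi with
    | 0, _ => exact mul_inv_cancel _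
    | 1, _ => exact mul_inv_cancel _
    | 2, _ => exact mul_inv_cancel _
    | 3, _ => exact mul_inv_cancel _
    | 4, _ => exact inv_mul_cancel _
    | 5, _ => exact inv_mul_cancel _
    | 6, _ => exact inv_mul_cancel _
    | 7, _ => exact inv_mul_cancel _
  have hgen : Submonoid.closure (y '' {i | i < 8}) = ⊤ := by
    set M := Submonoid.closure (y '' {i | i < 8}) with hM
    have hmem : ∀ i < 8, y i ∈ M := fun i hi => Submonoid.subset_closure ⟨i, hi, rfl⟩
    let S : Subgroup H :=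
      { M with
        inv_mem' := fun {x} hx => by
          induction hx using Submonoid.closure_induction with
          | mem x hx =>
            obtain ⟨i, hi, rfl⟩ := hx
            rw [inv_eq_of_mul_eq_one_right (hyinv i hi)]
            exact hmem _ (by
              simp only [Set.mem_setOf_eq] at hi
              show (if i < 4 then i + 4 else i - 4) < 8
              split_ifs <;> omega)
          | one => rw [inv_one]; exact M.one_mem
          | mul a b _ _ iha ihb => rw [mul_inv_rev]; exact M.mul_mem ihb iha }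
    have hsU0 : D.U0 ≤ S := by
      rw [Glue.U0, MonoidHom.range_eq_map, ← gen_two hF N, MonoidHom.map_closure, Subgroup.closure_le]
      rintro _ ⟨x, rfl | rfl, rfl⟩
      · exact hmem 0 (by omega)
      · exact hmem 1 (by omega)
    have hsA : D.fA.range ≤ S := by
      have hcl : Subgroup.closure ({cA (by omega), sA le_rfl} : Set (Alt 4)) = ⊤ := alt_four_gen
      rw [MonoidHom.range_eq_map, ← hcl, MonoidHom.map_closure, Subgroup.closure_le]
      rintro _ ⟨x, rfl | rfl, rfl⟩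
      · exact hmem 2 (by omega)
      · exact hmem 3 (by omega)
    have hsB : D.fB.range ≤ S := by
      rw [MonoidHom.range_eq_map, ← PhanBlocks47.gen_first hF (k := 2) le_rfl (Or.inr le_rfl), Subgroup.map_sup,
        MonoidHom.map_range, MonoidHom.map_range, D.B1_range hF]
      refine sup_le hsU0 ?_
      rintro _ ⟨u, hu, rfl⟩
      exact mul_mem (mul_mem (hmem 2 (by omega)) (hsU0 hu)) (hmem 6 (by omega))
    have htop : (⊤ : Subgroup H) ≤ S := by
      rw [← D.gen]; exact sup_le hsA hsB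
    exact eq_top_iff.2 fun x _ => htop (Subgroup.mem_top x)
  obtain ⟨hfin, hle⟩ := UnitaryPres49Cert.bound UnitaryPres49Data3.check_eq K y hyinv hr hKi hgen
  have hKc : Nat.card K = Nat.card (SU 3 F 3) :=
    (Nat.card_congr (MonoidHom.ofInjective D.fB_inj).toEquiv).symm
  rw [hKc, StemSUBaseTools.card_SU_three hF] at hle
  refine ((Nat.bijective_iff_surjective_and_card π).2 ⟨D.surjective hF, le_antisymm ?_
    (Nat.card_le_card_of_surjective π (D.surjective hF))⟩).1
  rw [StemSUBaseTools.card_SU_four hF]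
  exact hle.trans (le_of_eq (by simp [UnitaryPres49Data3.cert]))

/-- The glued group over nine elements is the special unitary group. -/
theorem Glue.injective_three {n : ℕ} {hn : 4 ≤ n} (hF : Fintype.card F = 3 ^ 2) (N : Nine F) {H : Type} [Group H]
    {π : H →* SU n F 3} (D : Glue hn π) (hex : ExPair hn D.fA D.fB N) : Function.Injective π := by
  classical
  rcases Nat.eq_or_lt_of_le hn with rfl | hn5
  · exact injective_three_four hF N D hex
  obtain ⟨m, rfl⟩ : ∃ m, n = m + 1 := ⟨n - 1, by omega⟩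
  obtain ⟨U, V, hUe, h1, h2, hgen, -, -, h4⟩ := D.exists_phan hF (fun τ hτ => D.mv_triple hF le_rfl τ hτ)
    fun S π4 D4 eA eB => injective_three_four hF N D4 (by
      constructor <;> refine Subtype.ext ?_
      · simpa [eA, eB, altEmb_cA, altEmb_sA] using hex.1
      · simpa [eA, eB, altEmb_cA, altEmb_sA] using hex.2)
  obtain ⟨f, hf⟩ := S3710.result m (by omega) F (by simpa using hF) U (fun i => (hUe i).some) V h1 h2 hgen h4
  exact D.injective_of_surj hF f hf

end Cfsg.Agent.UnitaryPres49
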