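import Cfsg.Agent.Lib.UnitaryPres49Four
import Cfsg.Agent.Lib.UnitaryPres49Data2
import Cfsg.Agent.Lib.UnitaryPres49Phan
import Cfsg.Agent.S3711

/-!
Further relators settle the gluing over four elements: a coset count, stabiliser and commutation relations.
-/

set_option autoImplicit false
set_option linter.unusedSectionVars false

namespace Cfsg.Agent.UnitaryPres49

open Cfsg Cfsg.Agent.OrthUnitaryHerm Cfsg.Agent.OrthUnitaryTransvection Cfsg.Agent.PhanBlocks47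
  Cfsg.Agent.PhanCoset47 Equiv Equiv.Perm
open scoped Matrix

variable {F : Type} [Field F] [Fintype F]

namespace Quad

/-- the twelve letters -/
def L4 : ℕ → Matrix (Fin 4) (Fin 4) ℕ
  | 0 => !![3, 2, 3, 0; 2, 2, 1, 0; 2, 3, 3, 0; 0, 0, 0, 1]
  | 1 => !![2, 1, 3, 0; 1, 2, 3, 0; 3, 3, 3, 0; 0, 0, 0, 1]
  | 2 => !![0, 2, 0, 0; 3, 0, 0, 0; 0, 0, 1, 0; 0, 0, 0, 1]
  | 3 => !![2, 0, 0, 0; 0, 3, 0, 0; 0, 0, 1, 0; 0, 0, 0, 1]
  | 4 => !![0, 0, 1, 0; 1, 0, 0, 0; 0, 1, 0, 0; 0, 0, 0, 1]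
  | 5 => !![0, 1, 0, 0; 1, 0, 0, 0; 0, 0, 0, 1; 0, 0, 1, 0]
  | 6 => !![2, 3, 3, 0; 3, 3, 2, 0; 2, 1, 2, 0; 0, 0, 0, 1]
  | 7 => !![3, 1, 2, 0; 1, 3, 2, 0; 2, 2, 2, 0; 0, 0, 0, 1]
  | 8 => !![0, 2, 0, 0; 3, 0, 0, 0; 0, 0, 1, 0; 0, 0, 0, 1]
  | 9 => !![3, 0, 0, 0; 0, 2, 0, 0; 0, 0, 1, 0; 0, 0, 0, 1]
  | 10 => !![0, 1, 0, 0; 0, 0, 1, 0; 1, 0, 0, 0; 0, 0, 0, 1]
  | _ => !![0, 1, 0, 0; 1, 0, 0, 0; 0, 0, 0, 1; 0, 0, 1, 0]

/-- the checked relators with their partial products -/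
def chains : List (List (ℕ × Matrix (Fin 4) (Fin 4) ℕ)) :=
  [[(5, !![0, 1, 0, 0; 1, 0, 0, 0; 0, 0, 0, 1; 0, 0, 1, 0]),
    (2, !![3, 0, 0, 0; 0, 2, 0, 0; 0, 0, 0, 1; 0, 0, 1, 0]),
    (5, !![0, 3, 0, 0; 2, 0, 0, 0; 0, 0, 1, 0; 0, 0, 0, 1]),
    (3, !![0, 2, 0, 0; 3, 0, 0, 0; 0, 0, 1, 0; 0, 0, 0, 1]),
    (8, !![1, 0, 0, 0; 0, 1, 0, 0; 0, 0, 1, 0; 0, 0, 0, 1])],
   [(5, !![0, 1, 0, 0; 1, 0, 0, 0; 0, 0, 0, 1; 0, 0, 1, 0]),
    (3, !![0, 3, 0, 0; 2, 0, 0, 0; 0, 0, 0, 1; 0, 0, 1, 0]),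
    (5, !![3, 0, 0, 0; 0, 2, 0, 0; 0, 0, 1, 0; 0, 0, 0, 1]),
    (3, !![1, 0, 0, 0; 0, 1, 0, 0; 0, 0, 1, 0; 0, 0, 0, 1])],
   [(5, !![0, 1, 0, 0; 1, 0, 0, 0; 0, 0, 0, 1; 0, 0, 1, 0]),
    (5, !![1, 0, 0, 0; 0, 1, 0, 0; 0, 0, 1, 0; 0, 0, 0, 1])],
   [(5, !![0, 1, 0, 0; 1, 0, 0, 0; 0, 0, 0, 1; 0, 0, 1, 0]),
    (4, !![1, 0, 0, 0; 0, 0, 1, 0; 0, 0, 0, 1; 0, 1, 0, 0]),
    (5, !![0, 1, 0, 0; 0, 0, 0, 1; 0, 0, 1, 0; 1, 0, 0, 0]),
    (4, !![1, 0, 0, 0; 0, 0, 0, 1; 0, 1, 0, 0; 0, 0, 1, 0]),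
    (5, !![0, 1, 0, 0; 0, 0, 1, 0; 1, 0, 0, 0; 0, 0, 0, 1]),
    (4, !![1, 0, 0, 0; 0, 1, 0, 0; 0, 0, 1, 0; 0, 0, 0, 1])],
   [(8, !![0, 2, 0, 0; 3, 0, 0, 0; 0, 0, 1, 0; 0, 0, 0, 1]),
    (8, !![1, 0, 0, 0; 0, 1, 0, 0; 0, 0, 1, 0; 0, 0, 0, 1])],
   [(1, !![2, 1, 3, 0; 1, 2, 3, 0; 3, 3, 3, 0; 0, 0, 0, 1]),
    (10, !![3, 2, 1, 0; 3, 1, 2, 0; 3, 3, 3, 0; 0, 0, 0, 1]),
    (7, !![2, 0, 0, 0; 0, 3, 0, 0; 0, 0, 1, 0; 0, 0, 0, 1]),
    (9, !![1, 0, 0, 0; 0, 1, 0, 0; 0, 0, 1, 0; 0, 0, 0, 1])],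
   [(1, !![2, 1, 3, 0; 1, 2, 3, 0; 3, 3, 3, 0; 0, 0, 0, 1]),
    (3, !![3, 3, 3, 0; 2, 1, 3, 0; 1, 2, 3, 0; 0, 0, 0, 1]),
    (7, !![0, 0, 1, 0; 1, 0, 0, 0; 0, 1, 0, 0; 0, 0, 0, 1]),
    (10, !![1, 0, 0, 0; 0, 1, 0, 0; 0, 0, 1, 0; 0, 0, 0, 1])],
   [(0, !![3, 2, 3, 0; 2, 2, 1, 0; 2, 3, 3, 0; 0, 0, 0, 1]),
    (0, !![0, 0, 2, 0; 0, 3, 0, 0; 1, 0, 0, 0; 0, 0, 0, 1]),
    (4, !![0, 2, 0, 0; 3, 0, 0, 0; 0, 0, 1, 0; 0, 0, 0, 1]),
    (2, !![1, 0, 0, 0; 0, 1, 0, 0; 0, 0, 1, 0; 0, 0, 0, 1])],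
   [(0, !![3, 2, 3, 0; 2, 2, 1, 0; 2, 3, 3, 0; 0, 0, 0, 1]),
    (10, !![3, 3, 2, 0; 1, 2, 2, 0; 3, 2, 3, 0; 0, 0, 0, 1]),
    (6, !![0, 2, 0, 0; 0, 0, 3, 0; 1, 0, 0, 0; 0, 0, 0, 1]),
    (4, !![2, 0, 0, 0; 0, 3, 0, 0; 0, 0, 1, 0; 0, 0, 0, 1]),
    (9, !![1, 0, 0, 0; 0, 1, 0, 0; 0, 0, 1, 0; 0, 0, 0, 1])],
   [(1, !![2, 1, 3, 0; 1, 2, 3, 0; 3, 3, 3, 0; 0, 0, 0, 1]),
    (1, !![0, 2, 0, 0; 2, 0, 0, 0; 0, 0, 2, 0; 0, 0, 0, 1]),
    (6, !![1, 1, 3, 0; 3, 1, 1, 0; 3, 2, 3, 0; 0, 0, 0, 1]),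
    (9, !![3, 2, 3, 0; 2, 2, 1, 0; 2, 3, 3, 0; 0, 0, 0, 1]),
    (6, !![1, 0, 0, 0; 0, 1, 0, 0; 0, 0, 1, 0; 0, 0, 0, 1])],
   [(0, !![3, 2, 3, 0; 2, 2, 1, 0; 2, 3, 3, 0; 0, 0, 0, 1]),
    (4, !![2, 3, 3, 0; 2, 1, 2, 0; 3, 3, 2, 0; 0, 0, 0, 1]),
    (7, !![3, 1, 3, 0; 3, 2, 2, 0; 2, 2, 3, 0; 0, 0, 0, 1]),
    (5, !![1, 3, 0, 3; 2, 3, 0, 2; 2, 2, 0, 3; 0, 0, 1, 0]),
    (1, !![1, 0, 1, 3; 0, 3, 3, 2; 1, 1, 0, 3; 3, 3, 3, 0]),
    (2, !![0, 2, 1, 3; 2, 0, 3, 2; 3, 2, 0, 3; 2, 1, 3, 0]),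
    (5, !![2, 0, 3, 1; 0, 2, 2, 3; 2, 3, 3, 0; 1, 2, 0, 3]),
    (6, !![2, 2, 0, 1; 2, 3, 0, 3; 0, 0, 1, 0; 3, 2, 0, 3]),
    (5, !![2, 2, 1, 0; 3, 2, 3, 0; 0, 0, 0, 1; 2, 3, 3, 0]),
    (6, !![0, 1, 0, 0; 1, 0, 0, 0; 0, 0, 0, 1; 0, 0, 1, 0]),
    (5, !![1, 0, 0, 0; 0, 1, 0, 0; 0, 0, 1, 0; 0, 0, 0, 1])],
   [(0, !![3, 2, 3, 0; 2, 2, 1, 0; 2, 3, 3, 0; 0, 0, 0, 1]),
    (5, !![2, 3, 0, 3; 2, 2, 0, 1; 3, 2, 0, 3; 0, 0, 1, 0]),
    (1, !![0, 3, 3, 3; 1, 1, 0, 1; 3, 0, 3, 3; 3, 3, 3, 0]),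
    (0, !![0, 3, 1, 3; 1, 0, 2, 1; 3, 3, 0, 3; 2, 2, 3, 0]),
    (5, !![3, 0, 3, 1; 0, 1, 1, 2; 3, 3, 3, 0; 2, 2, 0, 3]),
    (7, !![3, 2, 0, 1; 3, 1, 0, 2; 0, 0, 1, 0; 3, 3, 0, 3]),
    (5, !![2, 3, 1, 0; 1, 3, 2, 0; 0, 0, 0, 1; 3, 3, 3, 0]),
    (7, !![0, 2, 0, 0; 3, 0, 0, 0; 0, 0, 0, 1; 0, 0, 1, 0]),
    (5, !![2, 0, 0, 0; 0, 3, 0, 0; 0, 0, 1, 0; 0, 0, 0, 1]),
    (9, !![1, 0, 0, 0; 0, 1, 0, 0; 0, 0, 1, 0; 0, 0, 0, 1])]]

/-- follow a chain down to the identity -/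
def chainOK : List (ℕ × Matrix (Fin 4) (Fin 4) ℕ) → Matrix (Fin 4) (Fin 4) ℕ → Bool
  | [], A => decide (meq A (cI 4))
  | (i, B) :: r, A => Nat.blt i 12 && decide (meq (cdot A (L4 i)) B) && chainOK r B

variable (N : Quad F) (hF : Fintype.card F = 2 ^ 2)

/-- the first generator of `SU 2` -/
def gg : SU 2 F 2 := mkSU ((!![0, 2; 3, 0] : Matrix (Fin 2) (Fin 2) ℕ).map N.val)
  (by
    rw [Matrix.det_fin_two, Matrix.map_apply, Matrix.map_apply, Matrix.map_apply, Matrix.map_apply, N.sub_eq,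
      ← val_mul, ← val_mul, ← val_add,
      show cadd (cmul ((!![0, 2; 3, 0] : Matrix (Fin 2) (Fin 2) ℕ) 0 0) ((!![0, 2; 3, 0] : Matrix (Fin 2) (Fin 2) ℕ) 1 1))
        (cmul ((!![0, 2; 3, 0] : Matrix (Fin 2) (Fin 2) ℕ) 0 1) ((!![0, 2; 3, 0] : Matrix (Fin 2) (Fin 2) ℕ) 1 0)) = 1 by
        decide +kernel, val_one])
  (N.isU_of_ok hF _ (by decide +kernel))

/-- the second generator of `SU 2` -/
def hh : SU 2 F 2 := mkSU ((!![2, 0; 0, 3] : Matrix (Fin 2) (Fin 2) ℕ).map N.val)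
  (by
    rw [Matrix.det_fin_two, Matrix.map_apply, Matrix.map_apply, Matrix.map_apply, Matrix.map_apply, N.sub_eq,
      ← val_mul, ← val_mul, ← val_add,
      show cadd (cmul ((!![2, 0; 0, 3] : Matrix (Fin 2) (Fin 2) ℕ) 0 0) ((!![2, 0; 0, 3] : Matrix (Fin 2) (Fin 2) ℕ) 1 1))
        (cmul ((!![2, 0; 0, 3] : Matrix (Fin 2) (Fin 2) ℕ) 0 1) ((!![2, 0; 0, 3] : Matrix (Fin 2) (Fin 2) ℕ) 1 0)) = 1 by
        decide +kernel, val_one])
  (N.isU_of_ok hF _ (by decide +kernel))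

theorem gen_gh : Subgroup.closure ({N.gg hF, N.hh hF} : Set (SU 2 F 2)) = ⊤ := by
  set T := Subgroup.closure ({N.gg hF, N.hh hF} : Set (SU 2 F 2))
  have hsq : ∀ (g : SU 2 F 2) (A : Matrix (Fin 2) (Fin 2) ℕ), Mt g = A.map N.val → ¬ meq A (cI 2) →
      (∀ i j, A i j < 4) → g ≠ 1 := fun g A hg hne hlt h => by
    refine hne ?_
    have e : (cI 2).map N.val = A.map N.val := by rw [← hg, h, N.map_cI]; rfl
    have : A = cI 2 := Matrix.ext fun i j => N.val_inj (hlt i j) (by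
      simp only [cI, Matrix.of_apply]; split_ifs <;> norm_num) (congrFun (congrFun e.symm i) j)
    rw [this]
    decide +kernel
  have og : orderOf (N.gg hF) = 2 := by
    refine orderOf_eq_prime (Mt_inj ?_) (hsq _ (!![0, 2; 3, 0] : Matrix (Fin 2) (Fin 2) ℕ) rfl (by decide +kernel)
      fun i j => by fin_cases i <;> fin_cases j <;> decide)
    rw [pow_two]
    show Mt (N.gg hF) * Mt (N.gg hF) = _
    rw [show Mt (N.gg hF) = (!![0, 2; 3, 0] : Matrix (Fin 2) (Fin 2) ℕ).map N.val from rfl, ← N.map_cdot,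
      of_meq (show meq (cdot (!![0, 2; 3, 0] : Matrix (Fin 2) (Fin 2) ℕ) !![0, 2; 3, 0]) (cI 2) by decide +kernel),
      N.map_cI]
    rfl
  have oh : orderOf (N.hh hF) = 3 := by
    haveI : Fact (Nat.Prime 3) := ⟨by norm_num⟩
    refine orderOf_eq_prime (Mt_inj ?_) (hsq _ (!![2, 0; 0, 3] : Matrix (Fin 2) (Fin 2) ℕ) rfl (by decide +kernel)
      fun i j => by fin_cases i <;> fin_cases j <;> decide)
    rw [show (3 : ℕ) = 2 + 1 from rfl, pow_succ, pow_two]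
    show Mt (N.hh hF) * Mt (N.hh hF) * Mt (N.hh hF) = _
    rw [show Mt (N.hh hF) = (!![2, 0; 0, 3] : Matrix (Fin 2) (Fin 2) ℕ).map N.val from rfl, ← N.map_cdot, ← N.map_cdot,
      of_meq (show meq (cdot (cdot (!![2, 0; 0, 3] : Matrix (Fin 2) (Fin 2) ℕ) !![2, 0; 0, 3]) !![2, 0; 0, 3]) (cI 2) by
        decide +kernel),
      N.map_cI]
    rfl
  have hg : N.gg hF ∈ T := Subgroup.subset_closure (Or.inl rfl)
  have hh' : N.hh hF ∈ T := Subgroup.subset_closure (Or.inr rfl)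
  have d2 : 2 ∣ Nat.card T := by have h := Subgroup.orderOf_dvd_natCard T hg; rwa [og] at h
  have d3 : 3 ∣ Nat.card T := by have h := Subgroup.orderOf_dvd_natCard T hh'; rwa [oh] at h
  refine Subgroup.eq_top_of_le_card _ ?_
  rw [StemSUBaseTools.card_SU_two hF]
  exact Nat.le_of_dvd Nat.card_pos ((Nat.Coprime.mul_dvd_of_dvd_of_dvd (by norm_num) d2 d3))

/-- the twelve letters in a group under the glue -/
def let2 {H : Type} [Group H] {n : ℕ} (hn : 4 ≤ n) (fA : Alt n →* H) (fB : SU 3 F 2 →* H) : ℕ → H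
  | 0 => fB (N.xg hF)
  | 1 => fB (N.yg hF)
  | 2 => fB (B0' F 2 (N.gg hF))
  | 3 => fB (B0' F 2 (N.hh hF))
  | 4 => fA (cA (by omega))
  | 5 => fA (sA hn)
  | 6 => (fB (N.xg hF))⁻¹
  | 7 => (fB (N.yg hF))⁻¹
  | 8 => (fB (B0' F 2 (N.gg hF)))⁻¹
  | 9 => (fB (B0' F 2 (N.hh hF)))⁻¹
  | 10 => (fA (cA (by omega)))⁻¹
  | _ => (fA (sA hn))⁻¹

/-- the two further relators -/
def ExTwo {H : Type} [Group H] {n : ℕ} (hn : 4 ≤ n) (fA : Alt n →* H) (fB : SU 3 F 2 →* H) : Prop :=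
  (([0, 4, 7, 5, 1, 2, 5, 6, 5, 6, 5] : List ℕ).map (N.let2 hF hn fA fB)).prod = 1 ∧
    (([0, 5, 1, 0, 5, 7, 5, 7, 5, 9] : List ℕ).map (N.let2 hF hn fA fB)).prod = 1

theorem let2_map {H K : Type} [Group H] [Group K] (f : H →* K) {n r : ℕ} (hn : 4 ≤ n) (hr : 4 ≤ r)
    (fA : Alt n →* H) (fB : SU 3 F 2 →* H) (gA : Alt r →* K) (gB : SU 3 F 2 →* K)
    (hB : ∀ x, f (fB x) = gB x) (hc : f (fA (cA (by omega))) = gA (cA (by omega)))
    (hs : f (fA (sA hn)) = gA (sA hr)) (i : ℕ) : f (N.let2 hF hn fA fB i) = N.let2 hF hr gA gB i := by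
  match i with
  | 0 => exact hB _
  | 1 => exact hB _
  | 2 => exact hB _
  | 3 => exact hB _
  | 4 => exact hc
  | 5 => exact hs
  | 6 => exact (map_inv f _).trans (congrArg _ (hB _))
  | 7 => exact (map_inv f _).trans (congrArg _ (hB _))
  | 8 => exact (map_inv f _).trans (congrArg _ (hB _))
  | 9 => exact (map_inv f _).trans (congrArg _ (hB _))
  | 10 => exact (map_inv f _).trans (congrArg _ hc)
  | _ + 11 => exact (map_inv f _).trans (congrArg _ hs)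

theorem word_map {H K : Type} [Group H] [Group K] (f : H →* K) (y : ℕ → H) (z : ℕ → K) (h : ∀ i, f (y i) = z i)
    (w : List ℕ) : f (w.map y).prod = (w.map z).prod := by
  rw [map_list_prod, List.map_map]
  exact congrArg _ (List.map_congr_left fun i _ => h i)

/-- the model letters -/
abbrev el2 : ℕ → SU 4 F 2 := N.let2 hF le_rfl (rho F 2 4) (emb 0 (by omega : 0 + 3 ≤ 4))

theorem Mt_emb3 (x : SU 3 F 2) : Mt (emb 0 (by omega : 0 + 3 ≤ 4) x : SU 4 F 2) =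
    !![Mt x 0 0, Mt x 0 1, Mt x 0 2, 0; Mt x 1 0, Mt x 1 1, Mt x 1 2, 0; Mt x 2 0, Mt x 2 1, Mt x 2 2, 0;
      0, 0, 0, 1] := by
  refine Matrix.ext fun i j => ?_
  show embMat 0 _ (Mt x) i j = _
  fin_cases i <;> fin_cases j <;> rfl

theorem Mt_B0 (x : SU 2 F 2) : Mt (B0' F 2 x) =
    !![Mt x 0 0, Mt x 0 1, 0; Mt x 1 0, Mt x 1 1, 0; 0, 0, 1] := by
  refine Matrix.ext fun i j => ?_
  show embMat 0 _ (Mt x) i j = _
  fin_cases i <;> fin_cases j <;> rfl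

theorem Mt_el2_low (i : ℕ) (hi : i < 6) : Mt (N.el2 hF i) = (L4 i).map N.val := by
  have hp : ∀ σ : Alt 4, ∀ a b, Mt (rho F 2 4 σ) a b = if (σ : Perm (Fin 4)) b = a then 1 else 0 := fun σ a b => by
    have h := congrFun (rho_single (F := F) (q := 2) σ b) a
    rw [Pi.single_apply] at h
    simp only [eq_comm (a := (σ : Perm (Fin 4)) b)]
    rw [← h]
    show _ = (Mt (rho F 2 4 σ) *ᵥ Pi.single b 1) a
    rw [Matrix.mulVec_single_one]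
    rfl
  match i, hi with
  | 0, _ =>
    show Mt (emb 0 _ (N.xg hF) : SU 4 F 2) = _
    rw [Mt_emb3]
    refine Matrix.ext fun a b => ?_
    fin_cases a <;> fin_cases b <;> simp [L4, Lx, xg, mkSU, Mt, N.val_zero, N.val_one]
  | 1, _ =>
    show Mt (emb 0 _ (N.yg hF) : SU 4 F 2) = _
    rw [Mt_emb3]
    refine Matrix.ext fun a b => ?_
    fin_cases a <;> fin_cases b <;> simp [L4, Lx, yg, mkSU, Mt, N.val_zero, N.val_one]
  | 2, _ =>
    show Mt (emb 0 _ (B0' F 2 (N.gg hF)) : SU 4 F 2) = _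
    rw [Mt_emb3, Mt_B0]
    refine Matrix.ext fun a b => ?_
    fin_cases a <;> fin_cases b <;> simp [L4, gg, mkSU, Mt, N.val_zero, N.val_one]
  | 3, _ =>
    show Mt (emb 0 _ (B0' F 2 (N.hh hF)) : SU 4 F 2) = _
    rw [Mt_emb3, Mt_B0]
    refine Matrix.ext fun a b => ?_
    fin_cases a <;> fin_cases b <;> simp [L4, hh, mkSU, Mt, N.val_zero, N.val_one]
  | 4, _ =>
    refine Matrix.ext fun a b => ?_
    rw [show N.el2 hF 4 = rho F 2 4 (cA (by omega)) from rfl, hp]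
    fin_cases a <;> fin_cases b <;>
      simp [L4, cA, ShortPresCarmichael.cyc, Equiv.swap_apply_def, Fin.ext_iff, N.val_zero, N.val_one]
  | 5, _ =>
    refine Matrix.ext fun a b => ?_
    rw [show N.el2 hF 5 = rho F 2 4 (sA le_rfl) from rfl, hp]
    fin_cases a <;> fin_cases b <;>
      simp [L4, sA, Equiv.swap_apply_def, Fin.ext_iff, N.val_zero, N.val_one]

theorem inverse_table : ∀ j : Fin 6, meq (cdot (L4 (j.val + 6)) (L4 j.val)) (cI 4) := by decide +kernel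

theorem Mt_el2 (i : ℕ) (hi : i < 12) : Mt (N.el2 hF i) = (L4 i).map N.val := by
  rcases Nat.lt_or_ge i 6 with h | h
  · exact N.Mt_el2_low hF i h
  obtain ⟨j, hj, rfl⟩ : ∃ j, j < 6 ∧ i = j + 6 := ⟨i - 6, by omega, by omega⟩
  have h1 : N.el2 hF j * N.el2 hF (j + 6) = 1 := by
    match j, hj with
    | 0, _ => exact mul_inv_cancel _
    | 1, _ => exact mul_inv_cancel _
    | 2, _ => exact mul_inv_cancel _
    | 3, _ => exact mul_inv_cancel _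
    | 4, _ => exact mul_inv_cancel _
    | 5, _ => exact mul_inv_cancel _
  have h3 := congrArg (Matrix.map · N.val) (of_meq (inverse_table ⟨j, hj⟩))
  simp only [N.map_cdot, N.map_cI] at h3
  calc Mt (N.el2 hF (j + 6)) = ((L4 (j + 6)).map N.val * Mt (N.el2 hF j)) * Mt (N.el2 hF (j + 6)) := by
        rw [N.Mt_el2_low hF j hj, h3, one_mul]
    _ = (L4 (j + 6)).map N.val * Mt (N.el2 hF j * N.el2 hF (j + 6)) := by rw [mul_assoc]; rfl
    _ = _ := by rw [h1]; exact mul_one _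

theorem chain_spec : ∀ (r : List (ℕ × Matrix (Fin 4) (Fin 4) ℕ)) (A : Matrix (Fin 4) (Fin 4) ℕ) (x : SU 4 F 2),
    Mt x = A.map N.val → chainOK r A = true → x * ((r.map Prod.fst).map (N.el2 hF)).prod = 1
  | [], A, x, hx, h => by
    simp only [chainOK, decide_eq_true_eq] at h
    refine (mul_one x).trans (Mt_inj ?_)
    rw [hx, of_meq h, N.map_cI]
    rfl
  | (i, B) :: r, A, x, hx, h => by
    simp only [chainOK, Bool.and_eq_true, decide_eq_true_eq, Nat.blt_eq] at h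
    rw [List.map_cons, List.map_cons, List.prod_cons, ← mul_assoc]
    refine chain_spec r B _ ?_ h.2
    show Mt x * Mt (N.el2 hF i) = _
    rw [hx, N.Mt_el2 hF i h.1.1, ← N.map_cdot, of_meq h.1.2]

theorem chains_ok : chains.all (fun r => chainOK r (cI 4)) = true := by decide +kernel

theorem chains_words : chains.map (List.map Prod.fst) = UnitaryPres49Data2.rels := by decide +kernel

theorem model_rels : ∀ w ∈ UnitaryPres49Data2.rels, (w.map (N.el2 hF)).prod = 1 := by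
  intro w hw
  rw [← chains_words] at hw
  obtain ⟨r, hr, rfl⟩ := List.mem_map.1 hw
  have := N.chain_spec hF r (cI 4) 1 N.map_cI.symm (List.all_eq_true.1 chains_ok r hr)
  rwa [one_mul] at this

theorem ex_model2 {n : ℕ} (hn : 4 ≤ n) : N.ExTwo hF hn (rho F 2 n) (emb 0 (by omega : 0 + 3 ≤ n)) := by
  let ι : SU 4 F 2 →* SU n F 2 := emb 0 (by omega : 0 + 4 ≤ n)
  have hm := N.let2_map hF ι le_rfl hn (rho F 2 4) (emb 0 (by omega : 0 + 3 ≤ 4)) (rho F 2 n) (emb 0 (by omega : 0 + 3 ≤ n))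
    (fun x => PhanCoset47.emb_emb' (a := 0) (b := 0) _ _ _ rfl x)
    ((rho_altEmb hn _).symm.trans (by rw [altEmb_cA]))
    ((rho_altEmb hn _).symm.trans (by rw [altEmb_sA]))
  constructor <;> rw [← word_map ι _ _ hm, N.model_rels hF _ (by decide), map_one]

/-- four coordinates -/
theorem injective_two_four {H : Type} [Group H] {π : H →* SU 4 F 2} (D : Glue le_rfl π)
    (hex : N.ExTwo hF le_rfl D.fA D.fB) : Function.Injective π := by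
  classical
  set y := N.let2 hF le_rfl D.fA D.fB with hy
  set K := D.fB.range with hK
  haveI : Finite K := Finite.of_surjective _ D.fB.rangeRestrict_surjective
  have hwval : ∀ w : List ℕ, π (w.map y).prod = (w.map (N.el2 hF)).prod :=
    word_map π _ _ (N.let2_map hF π le_rfl le_rfl D.fA D.fB _ _ D.hB (D.hA _) (D.hA _))
  obtain ⟨z, hz⟩ := exists_emb hF 0 (by omega : 0 + 3 ≤ 4) (rho F 2 4 (cA (by omega))) (fun l hl => by
    rw [rho_single]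
    congr 1
    refine ShortPresCarmichael.cyc_other ?_ ?_ ?_ <;> intro e <;> simp [e, InR] at hl)
  have hc : D.fA (cA (by omega)) ∈ K := ⟨z, (D.hc z hz).symm⟩
  have hKi : ∀ i ∈ [0, 1, 2, 3, 4, 6, 7, 8, 9, 10], y i ∈ K := by
    simp only [List.forall_mem_cons, List.not_mem_nil, false_imp_iff, implies_true, and_true]
    exact ⟨⟨_, rfl⟩, ⟨_, rfl⟩, ⟨_, rfl⟩, ⟨_, rfl⟩, hc, inv_mem ⟨_, rfl⟩, inv_mem ⟨_, rfl⟩, inv_mem ⟨_, rfl⟩,
      inv_mem ⟨_, rfl⟩, inv_mem hc⟩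
  have hKw : ∀ w : List ℕ, (∀ i ∈ w, i ∈ [0, 1, 2, 3, 4, 6, 7, 8, 9, 10]) → (w.map y).prod ∈ K := fun w hw =>
    list_prod_mem fun x hx => by
      obtain ⟨i, hi, rfl⟩ := List.mem_map.1 hx
      exact hKi i (hw i hi)
  have oneK : ∀ x ∈ K, π x = 1 → x = 1 := by
    rintro _ ⟨b, rfl⟩ h
    rw [D.hB] at h
    rw [emb_injective 0 (by omega : 0 + 3 ≤ 4) (h.trans (map_one _).symm), map_one]
  have oneA : ∀ x ∈ D.fA.range, π x = 1 → x = 1 := by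
    rintro _ ⟨a, rfl⟩ h
    rw [D.hA] at h
    rw [rho_inj (h.trans (map_one _).symm), map_one]
  have hone : ∀ w ∈ UnitaryPres49Data2.rels, π (w.map y).prod = 1 := fun w hw => by
    rw [hwval]; exact N.model_rels hF w hw
  have hs2 : y 5 * y 5 = 1 := oneA _ (mul_mem ⟨_, rfl⟩ ⟨_, rfl⟩) (by
    have := hone [5, 5] (by decide)
    simpa using this)
  have hsU : ∀ x, D.fA (sA le_rfl) * D.fB (B0' F 2 x) * (D.fA (sA le_rfl))⁻¹ ∈ K := fun x => by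
    obtain ⟨x', hx'⟩ := D.hstab (sA le_rfl) (by decide) x
    exact ⟨_, hx'.symm⟩
  have hsinv : (D.fA (sA le_rfl))⁻¹ = D.fA (sA le_rfl) := inv_eq_of_mul_eq_one_right hs2
  have hr : ∀ w ∈ UnitaryPres49Data2.cert.rels, (w.map y).prod = 1 := by
    have h1 := hone
    simp only [UnitaryPres49Data2.cert, UnitaryPres49Data2.rels, List.forall_mem_cons, List.not_mem_nil,
      false_imp_iff, implies_true, and_true] at h1 ⊢
    obtain ⟨a0, a1, a2, a3, a4, a5, a6, a7, a8, a9, -, -⟩ := h1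
    refine ⟨oneK _ ?_ a0, oneK _ ?_ a1, oneA _ ?_ a2, oneA _ ?_ a3, oneK _ (hKw _ (by decide)) a4,
      oneK _ (hKw _ (by decide)) a5, oneK _ (hKw _ (by decide)) a6, oneK _ (hKw _ (by decide)) a7,
      oneK _ (hKw _ (by decide)) a8, oneK _ (hKw _ (by decide)) a9, hex.1, hex.2⟩
    · have := mul_mem (hsU (N.gg hF)) (mul_mem (hKi 3 (by decide)) (hKi 8 (by decide)))
      rw [hsinv] at this
      simpa [hy, let2, mul_assoc] using this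
    · have := mul_mem (hsU (N.hh hF)) (hKi 3 (by decide))
      rw [hsinv] at this
      simpa [hy, let2, mul_assoc] using this
    · exact list_prod_mem fun x hx => by
        simp only [hy, let2, List.map_cons, List.map_nil, List.mem_cons, List.not_mem_nil, or_false] at hx
        rcases hx with rfl | rfl <;> exact ⟨_, rfl⟩
    · exact list_prod_mem fun x hx => by
        simp only [hy, let2, List.map_cons, List.map_nil, List.mem_cons, List.not_mem_nil, or_false] at hx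
        rcases hx with rfl | rfl | rfl | rfl | rfl | rfl <;> exact ⟨_, rfl⟩
  have hyinv : ∀ i, i < 12 → y i * y (UnitaryPres49Data2.cert.iv i) = 1 := fun i hi => by
    match i, hi with
    | 0, _ => exact mul_inv_cancel _
    | 1, _ => exact mul_inv_cancel _
    | 2, _ => exact mul_inv_cancel _
    | 3, _ => exact mul_inv_cancel _
    | 4, _ => exact mul_inv_cancel _
    | 5, _ => exact mul_inv_cancel _
    | 6, _ => exact inv_mul_cancel _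
    | 7, _ => exact inv_mul_cancel _
    | 8, _ => exact inv_mul_cancel _
    | 9, _ => exact inv_mul_cancel _
    | 10, _ => exact inv_mul_cancel _
    | 11, _ => exact inv_mul_cancel _
  have hgen : Submonoid.closure (y '' {i | i < 12}) = ⊤ := by
    set M := Submonoid.closure (y '' {i | i < 12}) with hM
    have hmem : ∀ i < 12, y i ∈ M := fun i hi => Submonoid.subset_closure ⟨i, hi, rfl⟩
    let S : Subgroup H :=
      { M with
        inv_mem' := fun {x} hx => by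
          induction hx using Submonoid.closure_induction with
          | mem x hx =>
            obtain ⟨i, hi, rfl⟩ := hx
            rw [inv_eq_of_mul_eq_one_right (hyinv i hi)]
            exact hmem _ (by
              simp only [Set.mem_setOf_eq] at hi
              show (if i < 6 then i + 6 else i - 6) < 12
              split_ifs <;> omega)
          | one => rw [inv_one]; exact M.one_mem
          | mul a b _ _ iha ihb => rw [mul_inv_rev]; exact M.mul_mem ihb iha }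
    have hsA : D.fA.range ≤ S := by
      rw [MonoidHom.range_eq_map, ← alt_four_gen, MonoidHom.map_closure, Subgroup.closure_le]
      rintro _ ⟨x, rfl | rfl, rfl⟩
      · exact hmem 4 (by omega)
      · exact hmem 5 (by omega)
    have hsB : D.fB.range ≤ S := by
      rw [MonoidHom.range_eq_map, ← N.gen_xy hF, MonoidHom.map_closure, Subgroup.closure_le]
      rintro _ ⟨x, rfl | rfl, rfl⟩
      · exact hmem 0 (by omega)
      · exact hmem 1 (by omega)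
    have htop : (⊤ : Subgroup H) ≤ S := by
      rw [← D.gen]; exact sup_le hsA hsB
    exact eq_top_iff.2 fun x _ => htop (Subgroup.mem_top x)
  obtain ⟨hfin, hle⟩ := UnitaryPres49Cert.bound UnitaryPres49Data2.check_eq K y hyinv hr hKi hgen
  have hKc : Nat.card K = Nat.card (SU 3 F 2) :=
    (Nat.card_congr (MonoidHom.ofInjective D.fB_inj).toEquiv).symm
  rw [hKc, StemSUBaseTools.card_SU_three hF] at hle
  refine ((Nat.bijective_iff_surjective_and_card π).2 ⟨D.surjective hF, le_antisymm ?_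
    (Nat.card_le_card_of_surjective π (D.surjective hF))⟩).1
  rw [StemSUBaseTools.card_SU_four hF]
  exact hle.trans (le_of_eq (by simp [UnitaryPres49Data2.cert]))

end Quad

end Cfsg.Agent.UnitaryPres49
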