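import Cfsg.Agent.Lib.UnitaryPres49Pres
import Cfsg.Agent.Lib.PhanGen47

/-!
The first four coordinates inside a glued group, and the stabiliser of the first triple.
-/

set_option autoImplicit false
set_option linter.unusedSectionVars false

namespace Cfsg.Agent.UnitaryPres49

open Cfsg Cfsg.Agent.OrthUnitaryHerm Cfsg.Agent.OrthUnitaryTransvection Cfsg.Agent.PhanBlocks47
  Cfsg.Agent.PhanCoset47 Equiv Equiv.Perm

/-- even permutations of the first `r` points -/
def altEmb {r n : ℕ} (h : r ≤ n) : Alt r →* Alt n :=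
  MonoidHom.codRestrict ((Perm.extendDomainHom (Fin.castLEquiv h)).comp (Alt r).subtype) (Alt n) fun a => by
    refine mem_Alt.2 ?_
    show sign (Perm.extendDomain (a : Perm (Fin r)) (Fin.castLEquiv h)) = 1
    rw [sign_extendDomain]
    exact a.2.1

theorem altEmb_lt {r n : ℕ} (h : r ≤ n) (a : Alt r) (k : Fin r) :
    (altEmb h a : Perm (Fin n)) (Fin.castLE h k) = Fin.castLE h ((a : Perm (Fin r)) k) :=
  Perm.extendDomain_apply_image (a : Perm (Fin r)) (Fin.castLEquiv h) k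

theorem altEmb_ge {r n : ℕ} (h : r ≤ n) (a : Alt r) (k : Fin n) (hk : r ≤ (k : ℕ)) :
    (altEmb h a : Perm (Fin n)) k = k :=
  Perm.extendDomain_apply_not_subtype (a : Perm (Fin r)) (Fin.castLEquiv h) (not_lt.2 hk)

/-- two neighbouring transpositions -/
def sA {n : ℕ} (hn : 4 ≤ n) : Alt n :=
  ⟨swap ⟨0, by omega⟩ ⟨1, by omega⟩ * swap ⟨2, by omega⟩ ⟨3, by omega⟩, mem_Alt.2 (by
    rw [map_mul, sign_swap (by simp [Fin.ext_iff]), sign_swap (by simp [Fin.ext_iff])]; rfl)⟩

/-- the reversal of four points -/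
def rA : Alt 4 := ⟨swap 0 3 * swap 1 2, mem_Alt.2 (by
  rw [map_mul, sign_swap (by decide), sign_swap (by decide)]; rfl)⟩

theorem altEmb_ext {n : ℕ} (hn : 4 ≤ n) (a : Alt 4) (b : Alt n)
    (h1 : ∀ k : Fin 4, (b : Perm (Fin n)) (Fin.castLE hn k) = Fin.castLE hn ((a : Perm (Fin 4)) k))
    (h2 : ∀ k : Fin n, 4 ≤ (k : ℕ) → (b : Perm (Fin n)) k = k) : altEmb hn a = b := by
  refine Subtype.ext (Equiv.ext fun k => ?_)
  rcases Nat.lt_or_ge (k : ℕ) 4 with hk | hk
  · rw [show k = Fin.castLE hn ⟨k, hk⟩ from Fin.ext rfl, altEmb_lt, h1]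
  · rw [altEmb_ge _ _ _ hk, h2 k hk]

theorem altEmb_cA {n : ℕ} (hn : 4 ≤ n) : altEmb hn (cA (by omega : 3 ≤ 4)) = cA (by omega : 3 ≤ n) := by
  refine altEmb_ext hn _ _ (fun k => ?_) fun k hk =>
    ShortPresCarmichael.cyc_other (by simp [Fin.ext_iff]; omega) (by simp [Fin.ext_iff]; omega)
      (by simp [Fin.ext_iff]; omega)
  fin_cases k <;>
    simp [cA, ShortPresCarmichael.cyc, Equiv.swap_apply_def, Fin.castLE, Fin.ext_iff]

theorem altEmb_pA {n : ℕ} (hn : 4 ≤ n) : altEmb hn (pA le_rfl) = pA hn := by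
  refine altEmb_ext hn _ _ (fun k => ?_) fun k hk => ?_
  · fin_cases k <;> simp [pA, Equiv.swap_apply_def, Fin.castLE, Fin.ext_iff]
  · show (swap _ _ * swap _ _ : Perm (Fin n)) k = k
    rw [Perm.mul_apply, swap_apply_of_ne_of_ne (a := (⟨1, _⟩ : Fin n)) (by simp [Fin.ext_iff]; omega)
      (by simp [Fin.ext_iff]; omega), swap_apply_of_ne_of_ne] <;> simp [Fin.ext_iff] <;> omega

theorem altEmb_sA {n : ℕ} (hn : 4 ≤ n) : altEmb hn (sA le_rfl) = sA hn := by
  refine altEmb_ext hn _ _ (fun k => ?_) fun k hk => ?_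
  · fin_cases k <;> simp [sA, Equiv.swap_apply_def, Fin.castLE, Fin.ext_iff]
  · show (swap _ _ * swap _ _ : Perm (Fin n)) k = k
    rw [Perm.mul_apply, swap_apply_of_ne_of_ne (a := (⟨2, _⟩ : Fin n)) (by simp [Fin.ext_iff]; omega)
      (by simp [Fin.ext_iff]; omega), swap_apply_of_ne_of_ne] <;> simp [Fin.ext_iff] <;> omega

section Model

variable {F : Type} [Field F] [Fintype F] {q n : ℕ}

theorem rho_altEmb {r : ℕ} (h : r ≤ n) (a : Alt r) :
    rho F q n (altEmb h a) = emb 0 (by omega : 0 + r ≤ n) (rho F q r a) := by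
  refine su_ext fun x => funext fun k => ?_
  rw [act_rho]
  show x ((altEmb h a : Perm (Fin n)).symm k) = _
  rcases Nat.lt_or_ge (k : ℕ) r with hk | hk
  · have e : idx 0 (by omega : 0 + r ≤ n) ⟨k, hk⟩ = k := Fin.ext (by simp [idx])
    conv_rhs => rw [← e, emb_idx]
    show _ = act (rho F q r a) (slice 0 _ x) ⟨k, hk⟩
    rw [act_rho]
    show _ = x (idx 0 _ ((a : Perm (Fin r)).symm ⟨k, hk⟩))
    refine congrArg x ((Equiv.symm_apply_eq _).2 ?_)
    rw [show ∀ i, idx 0 (by omega : 0 + r ≤ n) i = Fin.castLE h i from fun i => Fin.ext (by simp [idx]),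
      altEmb_lt, Equiv.apply_symm_apply]
    exact Fin.ext rfl
  · rw [emb_out 0 _ _ x (by simp [InR]; omega)]
    exact congrArg x ((Equiv.symm_apply_eq _).2 (altEmb_ge h a k hk).symm)

/-- The model is generated by the even permutations and the first block. -/
theorem gen_model (hF : Fintype.card F = q ^ 2) (hn : 4 ≤ n) :
    (rho F q n).range ⊔ (emb 0 (by omega : 0 + 3 ≤ n) : SU 3 F q →* SU n F q).range = ⊤ := by
  set T := (rho F q n).range ⊔ (emb 0 (by omega : 0 + 3 ≤ n) : SU 3 F q →* SU n F q).range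
  rw [eq_top_iff, ← PhanChain47.gen_blocks (q := q) hF n (by omega), Subgroup.closure_le]
  have hρ : ∀ a, rho F q n a ∈ T := fun a => Subgroup.mem_sup_left ⟨a, rfl⟩
  have h3 : ∀ x, emb 0 (by omega : 0 + 3 ≤ n) x ∈ T := fun x => Subgroup.mem_sup_right ⟨x, rfl⟩
  rintro _ (⟨k, hk, a, rfl⟩ | ⟨k, hk, b, rfl⟩)
  · obtain ⟨σ, hσ⟩ := exists_pair hn k hk
    have : emb k hk a ∈ (emb k hk : SU 2 F q →* SU n F q).range := ⟨a, rfl⟩
    rw [← rho_range' hF (by omega : 0 + 2 ≤ n) hk σ hσ] at this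
    obtain ⟨_, ⟨x, rfl⟩, e⟩ := this
    rw [← e]
    refine mul_mem (mul_mem (hρ σ) ?_) (inv_mem (hρ σ))
    rw [show emb 0 (by omega : 0 + 2 ≤ n) x = emb 0 (by omega : 0 + 3 ≤ n) (emb 0 (by omega : 0 + 2 ≤ 3) x) from
      (DFunLike.congr_fun (emb3_comp (F := F) (q := q) (by omega : 0 + 2 ≤ 3) (by omega : 0 + 3 ≤ n)) x).symm]
    exact h3 _
  · obtain ⟨σ, ε, -, h⟩ := exists_even (r := 3) (by omega : 3 ≤ n) (fun j => (⟨k + j, by omega⟩ : Fin n))
      (fun a b e => Fin.ext (by simpa using e)) 0 2 (by decide)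
    have hσ : ∀ l, InR 0 3 l → InR k 3 ((σ : Perm (Fin n)) l) := fun l hl => by
      simp only [InR] at hl
      rw [show l = Fin.castLE (by omega : 3 ≤ n) ⟨l, by omega⟩ from Fin.ext rfl, h]
      simp [InR]
    have : emb k hk b ∈ (emb k hk : SU 3 F q →* SU n F q).range := ⟨b, rfl⟩
    rw [← rho_range' hF (by omega : 0 + 3 ≤ n) hk σ hσ] at this
    obtain ⟨_, ⟨x, rfl⟩, e⟩ := this
    rw [← e]
    exact mul_mem (mul_mem (hρ σ) (h3 _)) (inv_mem (hρ σ))

variable {hn : 4 ≤ n} {H : Type} [Group H] {π : H →* SU n F q} (D : Glue hn π)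

include D

theorem Glue.surjective (hF : Fintype.card F = q ^ 2) : Function.Surjective π := by
  rw [← MonoidHom.range_eq_top, eq_top_iff, ← gen_model hF hn, sup_le_iff]
  constructor <;> rintro _ ⟨a, rfl⟩
  · exact ⟨_, D.hA a⟩
  · exact ⟨_, D.hB a⟩

/-- The stabiliser of the first triple normalises the first block. -/
theorem Glue.mv_triple (hF : Fintype.card F = q ^ 2) (hq : 3 ≤ q) (τ : Alt n)
    (hτ : ∀ k, InR 0 3 k → InR 0 3 ((τ : Perm (Fin n)) k)) : D.mv τ D.fB.range = D.fB.range := by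
  obtain ⟨z, hz⟩ := exists_emb hF 0 (by omega : 0 + 3 ≤ n) (rho F q n (cA (by omega))) (fun l hl => by
    rw [rho_single]
    congr 1
    refine ShortPresCarmichael.cyc_other ?_ ?_ ?_ <;> intro e <;> simp [e, InR] at hl)
  have hc : D.fA (cA (by omega)) ∈ D.fB.range := ⟨z, (D.hc z hz).symm⟩
  have hU : D.U0 ≤ D.fB.range := by rintro _ ⟨x, rfl⟩; exact ⟨_, rfl⟩
  have hin : ∀ c : Alt n, D.fA c ∈ D.fB.range → D.mv c D.U0 ≤ D.fB.range := by
    rintro c hc' _ ⟨u, hu, rfl⟩
    exact mul_mem (mul_mem hc' (hU hu)) (inv_mem hc')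
  set e0 : Fin n := ⟨0, by omega⟩
  set e1 : Fin n := ⟨1, by omega⟩
  set e2 : Fin n := ⟨2, by omega⟩
  have c0 : ((cA (n := n) (by omega) : Alt n) : Perm (Fin n)) e0 = e1 :=
    ShortPresCarmichael.cyc_a (by simp [Fin.ext_iff]) (by simp [Fin.ext_iff])
  have c1 : ((cA (n := n) (by omega) : Alt n) : Perm (Fin n)) e1 = e2 :=
    ShortPresCarmichael.cyc_b (by simp [Fin.ext_iff]) (by simp [Fin.ext_iff])
  have c2 : ((cA (n := n) (by omega) : Alt n) : Perm (Fin n)) e2 = e0 := ShortPresCarmichael.cyc_i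
  have cs : ∀ k, InR 0 3 k → InR 0 3 (((cA (n := n) (by omega) : Alt n) : Perm (Fin n)) k) := fun k hk => by
    simp only [InR] at hk
    rcases (show k = e0 ∨ k = e1 ∨ k = e2 by simp only [e0, e1, e2, Fin.ext_iff]; omega) with h | h | h <;>
      rw [h] <;> simp only [c0, c1, c2] <;> simp [InR, e0, e1, e2]
  have key : ∀ σ : Alt n, (∀ k, InR 0 3 k → InR 0 3 ((σ : Perm (Fin n)) k)) → D.mv σ D.U0 ≤ D.fB.range := by
    intro σ hσ
    obtain ⟨c, hcm, hc2, hcstab⟩ : ∃ c : Alt n, D.fA c ∈ D.fB.range ∧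
        (c : Perm (Fin n)) e2 = (σ : Perm (Fin n)) e2 ∧ ∀ k, InR 0 3 k → InR 0 3 ((c : Perm (Fin n)) k) := by
      have h := hσ e2 (by simp [InR, e2])
      simp only [InR] at h
      have hv : ∀ v : Fin n, (v : ℕ) < 3 → v = e2 ∨ v = e0 ∨ v = e1 := fun v hv => by
        simp only [e0, e1, e2, Fin.ext_iff]; omega
      rcases hv _ (by omega : ((σ : Perm (Fin n)) e2 : ℕ) < 3) with h | h | h <;> rw [h]
      · exact ⟨1, by rw [map_one]; exact one_mem _, rfl, fun k hk => hk⟩
      · exact ⟨cA (by omega), hc, c2, cs⟩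
      · exact ⟨cA (by omega) * cA (by omega), by rw [map_mul]; exact mul_mem hc hc,
          by rw [Subgroup.coe_mul, Perm.mul_apply, c2, c0],
          fun k hk => by rw [Subgroup.coe_mul, Perm.mul_apply]; exact cs _ (cs k hk)⟩
    have e : D.mv σ D.U0 = D.mv c D.U0 := by
      have hs : ∀ k, InR 0 2 k → InR 0 2 (((c⁻¹ * σ : Alt n) : Perm (Fin n)) k) := by
        intro k hk
        simp only [Subgroup.coe_mul, InvMemClass.coe_inv, Perm.mul_apply, Perm.inv_def]
        set j := (c : Perm (Fin n)).symm ((σ : Perm (Fin n)) k) with hj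
        have hcj : (c : Perm (Fin n)) j = (σ : Perm (Fin n)) k := Equiv.apply_symm_apply _ _
        have h3 : InR 0 3 j := by
          by_contra hne
          have hf : Function.Bijective (fun x : Fin 3 => (⟨(((c : Perm (Fin n)) (Fin.castLE (by omega) x)) : ℕ),
              by have := hcstab (Fin.castLE (by omega : 3 ≤ n) x) (by simp [InR]); simp only [InR] at this; omega⟩ : Fin 3)) := by
            rw [Fintype.bijective_iff_injective_and_card]
            refine ⟨fun a b e => ?_, rfl⟩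
            have := (c : Perm (Fin n)).injective (Fin.ext (by simpa using e))
            exact Fin.castLE_injective _ this
          have hk3 := hσ k (by simp only [InR] at hk ⊢; omega)
          simp only [InR] at hk3
          obtain ⟨x, hx⟩ := hf.2 ⟨(((σ : Perm (Fin n)) k) : ℕ), by omega⟩
          have : (c : Perm (Fin n)) (Fin.castLE (by omega) x) = (c : Perm (Fin n)) j := by
            rw [hcj]; exact Fin.ext (by simpa using hx)
          rw [← (c : Perm (Fin n)).injective this] at hne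
          exact hne (by simp [InR])
        have h2 : j ≠ e2 := by
          intro h
          rw [h, hc2] at hcj
          have := (σ : Perm (Fin n)).injective hcj
          rw [← this] at hk
          simp [InR, e2] at hk
        simp only [InR, e2, ne_eq, Fin.ext_iff] at h2 h3 ⊢
        omega
      rw [← mul_inv_cancel_left c σ, D.mv_mul, D.mv_stab _ hs]
    rw [e]
    exact hin c hcm
  have hgen : D.fB.range = D.U0 ⊔ D.mv (cA (by omega)) D.U0 := by
    rw [← D.B1_range hF, Glue.U0, MonoidHom.range_comp, MonoidHom.range_comp, ← Subgroup.map_sup,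
      show (B0' F q).range ⊔ (B1' F q).range = ⊤ from PhanBlocks47.gen_first hF (k := 2) le_rfl (Or.inr hq),
      ← MonoidHom.range_eq_map]
  haveI : Finite D.fB.range := Finite.of_surjective _ D.fB.rangeRestrict_surjective
  refine Subgroup.eq_of_le_of_card_ge ?_ (le_of_eq ?_)
  · show Subgroup.map _ _ ≤ _
    conv_lhs => rw [hgen, Subgroup.map_sup]
    refine sup_le (key τ hτ) ?_
    rw [← Glue.mv, ← D.mv_mul]
    exact key _ fun k hk => by rw [Subgroup.coe_mul, Perm.mul_apply]; exact hτ _ (cs k hk)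
  · exact Nat.card_congr (Subgroup.equivMapOfInjective _ _ (MulAut.conj (D.fA τ)).injective).toEquiv

/-- The glued group on the first four coordinates. -/
theorem Glue.exists_sub (hF : Fintype.card F = q ^ 2) :
    ∃ (S : Subgroup H) (π4 : S →* SU 4 F q) (D4 : Glue le_rfl π4),
      (∀ a, (D4.fA a : H) = D.fA (altEmb hn a)) ∧ ∀ x, (D4.fB x : H) = D.fB x := by
  classical
  set ι := altEmb hn with hι
  set S : Subgroup H := (D.fA.comp ι).range ⊔ D.fB.range with hS
  have e43 : ∀ x : SU 3 F q, emb 0 (by omega : 0 + 3 ≤ n) x =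
      emb 0 (by omega : 0 + 4 ≤ n) (emb 0 (by omega : 0 + 3 ≤ 4) x) := fun x =>
    (PhanCoset47.emb_emb' (a := 0) (b := 0) _ _ _ rfl x).symm
  have hle : S ≤ (emb 0 (by omega : 0 + 4 ≤ n) : SU 4 F q →* SU n F q).range.comap π := by
    refine sup_le ?_ ?_ <;> rintro _ ⟨a, rfl⟩
    · exact ⟨_, ((D.hA (ι a)).trans (rho_altEmb hn a)).symm⟩
    · exact ⟨_, ((D.hB a).trans (e43 a)).symm⟩
  let eq4 := MonoidHom.ofInjective (emb_injective (F := F) (q := q) (m := 4) 0 (by omega : 0 + 4 ≤ n))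
  let π4 : S →* SU 4 F q :=
    eq4.symm.toMonoidHom.comp ((π.comp S.subtype).codRestrict _ fun x => hle x.2)
  have hπ4 : ∀ x : S, emb 0 (by omega : 0 + 4 ≤ n) (π4 x) = π x := fun x =>
    congrArg Subtype.val (eq4.apply_symm_apply ⟨π x, hle x.2⟩)
  let fA4 : Alt 4 →* S := (D.fA.comp ι).codRestrict S fun a => Subgroup.mem_sup_left ⟨a, rfl⟩
  let fB4 : SU 3 F q →* S := D.fB.codRestrict S fun a => Subgroup.mem_sup_right ⟨a, rfl⟩
  have he := emb_injective (F := F) (q := q) (m := 4) 0 (by omega : 0 + 4 ≤ n)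
  have hinR : ∀ (σ : Alt 4) (k : Fin n) (hk : (k : ℕ) < 2),
      ((ι σ : Perm (Fin n)) k : ℕ) = ((σ : Perm (Fin 4)) ⟨k, by omega⟩ : ℕ) := fun σ k hk => by
    conv_lhs => rw [show k = Fin.castLE hn ⟨k, by omega⟩ from Fin.ext rfl, hι, altEmb_lt]
    rfl
  refine ⟨S, π4,
    { fA := fA4
      fB := fB4
      hA := fun a => he (by rw [hπ4]; exact (D.hA (ι a)).trans (rho_altEmb hn a))
      hB := fun a => he (by rw [hπ4]; exact (D.hB a).trans (e43 a))
      gen := ?_
      hc := fun z hz => Subtype.ext ?_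
      hstab := fun σ hσ x => ?_
      hcomm := fun x y => ?_ }, fun _ => rfl, fun _ => rfl⟩
  · refine Subgroup.map_injective S.subtype_injective ?_
    rw [Subgroup.map_sup, MonoidHom.map_range, MonoidHom.map_range, ← MonoidHom.range_eq_map,
      Subgroup.range_subtype]
    rfl
  · show D.fA (ι (cA _)) = D.fB z
    rw [hι, altEmb_cA]
    refine D.hc z ?_
    rw [e43, hz, ← rho_altEmb hn, altEmb_cA]
  · obtain ⟨x', hx'⟩ := D.hstab (ι σ) (fun k hk => by
      simp only [InR] at hk ⊢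
      have := hσ ⟨k, by omega⟩ (by simp [InR]; omega)
      simp only [InR] at this
      rw [hinR σ k (by omega)]
      exact this) x
    exact ⟨x', Subtype.ext hx'⟩
  · have h := D.hcomm x y
    refine Subtype.ext ?_
    show D.fB _ * (D.fA (ι (pA le_rfl)) * D.fB _ * (D.fA (ι (pA le_rfl)))⁻¹) = _
    rw [hι, altEmb_pA, h.eq, ← altEmb_pA]
    rfl

end Model

end Cfsg.Agent.UnitaryPres49
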