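import Mathlib
import Cfsg.Agent.Lib.OrthUnitaryHerm
import Cfsg.Agent.Lib.OrthUnitaryTransvection
import Cfsg.Agent.Lib.OrthUnitaryIsotropic

/-!
`SU(2m+1, q)`, `m ≥ 2`, is generated by three conjugate regular unipotent elements.
-/

set_option autoImplicit false
set_option maxHeartbeats 1000000
set_option linter.unusedSectionVars false

open Matrix Cfsg

namespace Cfsg.Agent.UnitaryThreeRegular87

open Cfsg.Agent.OrthUnitaryHerm Cfsg.Agent.OrthUnitaryTransvection

variable {F : Type*} [Field F] [Fintype F] {q n m : ℕ}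

local notation "⟪" u ", " v "⟫" => hermForm n F q u v

/-! ### Group elements given by their action -/

/-- A transvection lies in `H`. -/
def Tv (H : Subgroup (SU n F q)) (v : Fin n → F) (c : F) : Prop :=
  ∃ g ∈ H, ∀ x, act g x = x + (c * ⟪x, v⟫) • v

/-- An Eichler transformation lies in `H`. -/
def Ei (H : Subgroup (SU n F q)) (a v : Fin n → F) (μ : F) : Prop :=
  ∃ g ∈ H, ∀ x, act g x = x + ⟪x, a⟫ • v + (μ * ⟪x, a⟫ - ⟪x, v⟫) • a

/-- All transvections with vector `v` lie in `H`. -/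
def Full (H : Subgroup (SU n F q)) (v : Fin n → F) : Prop :=
  ∀ c : F, c + c ^ q = 0 → Tv H v c

variable {H : Subgroup (SU n F q)}

theorem herm_act_left (g : SU n F q) (x v : Fin n → F) : ⟪act g⁻¹ x, v⟫ = ⟪x, act g v⟫ := by
  conv_lhs => rw [← herm_act g, act_act_inv]

theorem Tv.conj {v : Fin n → F} {c : F} (h : Tv H v c) {g : SU n F q} (hg : g ∈ H) :
    Tv H (act g v) c := by
  obtain ⟨t, ht, hact⟩ := h
  refine ⟨g * t * g⁻¹, H.mul_mem (H.mul_mem hg ht) (H.inv_mem hg), fun x => ?_⟩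
  rw [act_mul, act_mul, hact, act_add, act_act_inv, act_smul, herm_act_left]

theorem Full.conj {v : Fin n → F} (h : Full H v) {g : SU n F q} (hg : g ∈ H) : Full H (act g v) :=
  fun c hc => (h c hc).conj hg

theorem Ei.conj {a v : Fin n → F} {μ : F} (h : Ei H a v μ) {g : SU n F q} (hg : g ∈ H) :
    Ei H (act g a) (act g v) μ := by
  obtain ⟨t, ht, hact⟩ := h
  refine ⟨g * t * g⁻¹, H.mul_mem (H.mul_mem hg ht) (H.inv_mem hg), fun x => ?_⟩
  rw [act_mul, act_mul, hact, act_add, act_add, act_act_inv, act_smul, act_smul, herm_act_left,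
    herm_act_left]

theorem Ei.one (a : Fin n → F) (hF : Fintype.card F = q ^ 2) : Ei H a 0 0 :=
  ⟨1, H.one_mem, fun x => by simp [act_one, herm_zero_right hF]⟩

theorem Ei.mul (hF : Fintype.card F = q ^ 2) {a v v' : Fin n → F} {μ μ' : F}
    (ha : ⟪a, a⟫ = 0) (hv : ⟪v, a⟫ = 0) (hv' : ⟪v', a⟫ = 0) (h : Ei H a v μ) (h' : Ei H a v' μ') :
    Ei H a (v + v') (μ + μ' - ⟪v', v⟫) := by
  obtain ⟨g, hg, hga⟩ := h
  obtain ⟨g', hg', hga'⟩ := h'
  refine ⟨g * g', H.mul_mem hg hg', fun x => ?_⟩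
  rw [act_mul, hga, hga']
  simp only [herm_add_left, herm_smul_left, ha, hv', herm_skew_zero hF hv, mul_zero, add_zero,
    herm_add_right hF]
  module

theorem Ei.neg (hF : Fintype.card F = q ^ 2) {a v : Fin n → F} {μ : F} (ha : ⟪a, a⟫ = 0)
    (hv : ⟪v, a⟫ = 0) (h : Ei H a v μ) : Ei H a (-v) (-μ - ⟪v, v⟫) := by
  obtain ⟨g, hg, hga⟩ := h
  refine ⟨g⁻¹, H.inv_mem hg, fun x => ?_⟩
  have key : act g (x + ⟪x, a⟫ • -v + ((-μ - ⟪v, v⟫) * ⟪x, a⟫ - ⟪x, -v⟫) • a) = x := by
    rw [hga]
    have e : ∀ y, ⟪y, -v⟫ = -⟪y, v⟫ := fun y => by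
      rw [← neg_one_smul F v, herm_smul_right, neg_pow_q hF, one_pow, neg_one_mul]
    have e' : ∀ y, ⟪-v, y⟫ = -⟪v, y⟫ := fun y => by
      rw [← neg_one_smul F v, herm_smul_left, neg_one_mul]
    simp only [herm_add_left, herm_smul_left, ha, herm_skew_zero hF hv, hv, e, e', neg_zero,
      mul_zero, add_zero]
    module
  conv_lhs => rw [← key]
  rw [act_inv_act]

theorem Ei.tv (hF : Fintype.card F = q ^ 2) {a : Fin n → F} {μ : F} (h : Ei H a 0 μ) : Tv H a μ := by
  obtain ⟨g, hg, hga⟩ := h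
  exact ⟨g, hg, fun x => by rw [hga, smul_zero, add_zero, herm_zero_right hF, sub_zero]⟩

theorem Tv.ei (hF : Fintype.card F = q ^ 2) {a : Fin n → F} {μ : F} (h : Tv H a μ) : Ei H a 0 μ := by
  obtain ⟨g, hg, hga⟩ := h
  exact ⟨g, hg, fun x => by rw [hga, smul_zero, add_zero, herm_zero_right hF, sub_zero]⟩

/-- Shifting the second vector by a multiple of the first. -/
theorem Ei.shift (hF : Fintype.card F = q ^ 2) {a v : Fin n → F} {μ k : F} (h : Ei H a (v + k • a) μ) :
    Ei H a v (μ + (k - k ^ q)) := by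
  obtain ⟨g, hg, hga⟩ := h
  refine ⟨g, hg, fun x => ?_⟩
  rw [hga]
  have e : ⟪x, v + k • a⟫ = ⟪x, v⟫ + k ^ q * ⟪x, a⟫ := by
    rw [herm_add_right hF, herm_smul_right]
  rw [e]
  module

/-- Two transvections give an Eichler transformation. -/
theorem Ei.pair (hF : Fintype.card F = q ^ 2) {a b : Fin n → F} {c k : F} (hc : c + c ^ q = 0)
    (hb : ⟪b, b⟫ = 0) (hab : ⟪a, b⟫ = 0) (h1 : Tv H (b + k • a) c) (h2 : Tv H b c) :
    Ei H a ((c * k ^ q) • b) (c * k * k ^ q) := by
  obtain ⟨g, hg, hga⟩ := h1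
  obtain ⟨t, ht, hta⟩ := h2
  have hinv : ∀ x, act t⁻¹ x = x + (-c * ⟪x, b⟫) • b := by
    intro x
    have key : act t (x + (-c * ⟪x, b⟫) • b) = x := by
      rw [hta, herm_add_left, herm_smul_left, hb]
      module
    conv_lhs => rw [← key]
    rw [act_inv_act]
  refine ⟨g * t⁻¹, H.mul_mem hg (H.inv_mem ht), fun x => ?_⟩
  have hc' : c ^ q = -c := by linear_combination hc
  rw [act_mul, hinv, hga]
  simp only [herm_add_left, herm_add_right hF, herm_smul_left, herm_smul_right, hb,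
    herm_skew_zero hF hab, mul_pow, pow_q_q hF, hc', mul_zero, add_zero]
  module

/-! ### Frames -/

/-- A hyperbolic frame with one extra vector. -/
structure Fr (q n m : ℕ) (F : Type*) [Field F] where
  e : ℕ → Fin n → F
  f : ℕ → Fin n → F
  z : Fin n → F
  ee : ∀ i j, hermForm n F q (e i) (e j) = 0
  ff : ∀ i j, hermForm n F q (f i) (f j) = 0
  fe : ∀ i j, hermForm n F q (f i) (e j) = if i = j ∧ i < m then 1 else 0
  ef : ∀ i j, hermForm n F q (e i) (f j) = if i = j ∧ i < m then 1 else 0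
  ze : ∀ j, hermForm n F q z (e j) = 0
  zf : ∀ j, hermForm n F q z (f j) = 0
  ez : ∀ j, hermForm n F q (e j) z = 0
  fz : ∀ j, hermForm n F q (f j) z = 0
  zz : hermForm n F q z z = 1
  expand : ∀ x : Fin n → F, x = ∑ j ∈ Finset.range m, hermForm n F q x (f j) • e j +
    ∑ j ∈ Finset.range m, hermForm n F q x (e j) • f j + hermForm n F q x z • z

theorem exists_frame (hF : Fintype.card F = q ^ 2) (hn : n = 2 * m + 1) :
    Nonempty (Fr q n m F) := by
  classical
  obtain ⟨ε, hε⟩ := exists_norm_eq hF (a := (-1 : F)) (by rw [neg_pow_q hF, one_pow])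
  let e0 : Fin m → Fin n → F := fun i =>
    Pi.single ⟨2 * i, by omega⟩ 1 + ε • Pi.single ⟨2 * i + 1, by omega⟩ 1
  have hiso : ∀ i j, ⟪e0 i, e0 j⟫ = 0 := by
    intro i j
    simp only [e0, herm_add_left, herm_add_right hF, herm_smul_left, herm_smul_right,
      herm_single_right hF]
    by_cases h : i = j
    · subst h
      simp [Pi.single_apply, Fin.ext_iff]
      linear_combination hε
    · have h' : (i : ℕ) ≠ j := fun e => h (Fin.ext e)
      simp [Pi.single_apply, Fin.ext_iff]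
      split_ifs <;> first | omega | simp
  have hli : LinearIndependent F e0 := by
    rw [Fintype.linearIndependent_iff]
    intro c hc i
    have h1 := congrFun hc ⟨2 * i, by omega⟩
    simp [e0, Finset.sum_apply, Pi.single_apply, Fin.ext_iff] at h1
    have h3 : ∀ x : Fin m, ¬ 2 * (i : ℕ) = 2 * x + 1 := fun x => by omega
    simpa [h3, Fin.val_inj, Finset.sum_ite_eq] using h1
  obtain ⟨f0, hh⟩ := OrthUnitaryIsotropic.exists_dual hF hli hiso
  obtain ⟨u, hu⟩ := OrthUnitaryIsotropic.exists_complement (m := 1) hF hn hh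
  let e : ℕ → Fin n → F := fun j => if h : j < m then e0 ⟨j, h⟩ else 0
  let f : ℕ → Fin n → F := fun j => if h : j < m then f0 ⟨j, h⟩ else 0
  have h0l : ∀ x : Fin n → F, ⟪0, x⟫ = 0 := herm_zero_left
  have h0r : ∀ x : Fin n → F, ⟪x, 0⟫ = 0 := herm_zero_right hF
  have g := hu
  refine ⟨⟨e, f, u 0, ?_, ?_, ?_, ?_, ?_, ?_, ?_, ?_, ?_, ?_⟩⟩
  · intro i j
    simp only [e]
    split_ifs
    · exact hh.1 _ _
    all_goals first | exact h0l _ | exact h0r _
  · intro i j
    simp only [f]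
    split_ifs
    · exact hh.2.1 _ _
    all_goals first | exact h0l _ | exact h0r _
  · intro i j
    simp only [e, f]
    by_cases hi : i < m <;> by_cases hj : j < m
    · rw [dif_pos hi, dif_pos hj, hh.2.2]; simp [hi]
    · rw [dif_neg hj, h0r, if_neg]; omega
    · rw [dif_neg hi, h0l, if_neg]; omega
    · rw [dif_neg hi, h0l, if_neg]; omega
  · intro i j
    simp only [e, f]
    by_cases hi : i < m <;> by_cases hj : j < m
    · have := g (.inl (.inl ⟨i, hi⟩)) (.inl (.inr ⟨j, hj⟩))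
      simp [OrthUnitaryIsotropic.frame, OrthUnitaryIsotropic.pairing] at this
      rw [dif_pos hi, dif_pos hj, this]; simp [hi]
    · rw [dif_neg hj, h0r, if_neg]; omega
    · rw [dif_neg hi, h0l, if_neg]; omega
    · rw [dif_neg hi, h0l, if_neg]; omega
  · intro j
    simp only [e]
    split_ifs with hj
    · have := g (.inr 0) (.inl (.inl ⟨j, hj⟩))
      simpa [OrthUnitaryIsotropic.frame, OrthUnitaryIsotropic.pairing] using this
    · exact h0r _
  · intro j
    simp only [f]
    split_ifs with hj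
    · have := g (.inr 0) (.inl (.inr ⟨j, hj⟩))
      simpa [OrthUnitaryIsotropic.frame, OrthUnitaryIsotropic.pairing] using this
    · exact h0r _
  · intro j
    simp only [e]
    split_ifs with hj
    · have := g (.inl (.inl ⟨j, hj⟩)) (.inr 0)
      simpa [OrthUnitaryIsotropic.frame, OrthUnitaryIsotropic.pairing] using this
    · exact h0l _
  · intro j
    simp only [f]
    split_ifs with hj
    · have := g (.inl (.inr ⟨j, hj⟩)) (.inr 0)
      simpa [OrthUnitaryIsotropic.frame, OrthUnitaryIsotropic.pairing] using this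
    · exact h0l _
  · have := g (.inr 0) (.inr 0)
    simpa [OrthUnitaryIsotropic.frame, OrthUnitaryIsotropic.pairing] using this
  · intro x
    conv_lhs => rw [OrthUnitaryIsotropic.gram_expand hF OrthUnitaryIsotropic.pairing_invol hu
      (OrthUnitaryIsotropic.card_idx hn) x]
    rw [Fintype.sum_sum_type, Fintype.sum_sum_type, Finset.sum_range, Finset.sum_range]
    simp [OrthUnitaryIsotropic.frame, OrthUnitaryIsotropic.pairing, e, f]

end Cfsg.Agent.UnitaryThreeRegular87
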