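import Mathlib
import Cfsg.Agent.Lib.UnitaryThreeRegular87

/-!
The three regular unipotent generators of `SU(2m+1, q)`, `m ≥ 2`.
-/

set_option autoImplicit false
set_option maxHeartbeats 1000000
set_option linter.unusedSectionVars false

open Matrix Cfsg

namespace Cfsg.Agent.UnitaryThreeRegular87

open Cfsg.Agent.OrthUnitaryHerm Cfsg.Agent.OrthUnitaryTransvection

variable {F : Type*} [Field F] [Fintype F] {q n m : ℕ}

local notation "⟪" u ", " v "⟫" => hermForm n F q u v

/-! ### Small facts -/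

theorem herm_neg_left (v y : Fin n → F) : ⟪-v, y⟫ = -⟪v, y⟫ := by
  rw [← neg_one_smul F v, herm_smul_left, neg_one_mul]

theorem herm_neg_right (hF : Fintype.card F = q ^ 2) (v y : Fin n → F) : ⟪y, -v⟫ = -⟪y, v⟫ := by
  rw [← neg_one_smul F v, herm_smul_right, neg_pow_q hF, one_pow, neg_one_mul]

theorem act_neg (g : SU n F q) (v : Fin n → F) : act g (-v) = -act g v := by
  rw [← neg_one_smul F v, act_smul, neg_one_smul]

theorem act_zero (g : SU n F q) : act g (0 : Fin n → F) = 0 := Matrix.mulVec_zero _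

theorem exists_diff (hF : Fintype.card F = q ^ 2) {c : F} (hc : c + c ^ q = 0) :
    ∃ k : F, k - k ^ q = c := by
  obtain ⟨t, ht⟩ := exists_trace hF (a := (1 : F)) (one_pow q)
  refine ⟨t * c, ?_⟩
  have hc' : c ^ q = -c := by linear_combination hc
  rw [mul_pow, hc']
  linear_combination c * ht

variable {H : Subgroup (SU n F q)}

/-- The parameter of an Eichler element is determined up to a skew scalar. -/
theorem Ei.valid (hF : Fintype.card F = q ^ 2) {a v : Fin n → F} {μ : F} (ha0 : a ≠ 0)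
    (ha : ⟪a, a⟫ = 0) (hv : ⟪v, a⟫ = 0) (h : Ei H a v μ) : μ + μ ^ q + ⟪v, v⟫ = 0 := by
  obtain ⟨g, -, hga⟩ := h
  obtain ⟨y, hy⟩ := exists_herm_eq hF ha0 1
  have hay : ⟪y, a⟫ = 1 := hy
  have hay' : ⟪a, y⟫ = 1 := by rw [herm_conj hF, hay, one_pow]
  have h1 := herm_act g y y
  rw [hga, hay] at h1
  simp only [herm_add_left, herm_add_right hF, herm_smul_left, herm_smul_right, ha, hv, hay, hay',
    herm_skew_zero hF hv, one_smul, mul_zero, add_zero, sub_pow_q hF, mul_pow, one_pow,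
    ← herm_conj hF] at h1
  linear_combination h1

/-- Removing the parameter. -/
theorem Ei.zero_param (hF : Fintype.card F = q ^ 2) {a v : Fin n → F} {μ : F} (ha0 : a ≠ 0)
    (ha : ⟪a, a⟫ = 0) (hv : ⟪v, a⟫ = 0) (hvv : ⟪v, v⟫ = 0) (hfull : Full H a) (h : Ei H a v μ) :
    Ei H a v 0 := by
  have hμ := h.valid hF ha0 ha hv
  rw [hvv, add_zero] at hμ
  have h2 := Tv.ei hF (hfull (-μ) (by rw [neg_pow_q hF]; linear_combination -hμ))
  have h3 := h.mul hF ha hv (herm_zero_left _) h2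
  simpa [herm_zero_left] using h3

theorem Full.smul (hF : Fintype.card F = q ^ 2) {v : Fin n → F} (h : Full H v) (t : F) :
    Full H (t • v) := by
  intro c hc
  obtain ⟨g, hg, hga⟩ := h (c * t ^ q * t) (by
    rw [mul_pow, mul_pow, pow_q_q hF]; linear_combination (t ^ q * t) * hc)
  refine ⟨g, hg, fun x => ?_⟩
  rw [hga, herm_smul_right]
  module

/-- The admissible second vectors of Eichler elements at `a`. -/
def yGroup (hF : Fintype.card F = q ^ 2) (H : Subgroup (SU n F q)) (a : Fin n → F)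
    (ha : ⟪a, a⟫ = 0) : AddSubgroup (Fin n → F) where
  carrier := {v | ⟪v, a⟫ = 0 ∧ ∃ μ, Ei H a v μ}
  add_mem' := fun {v v'} ⟨hv, μ, h⟩ ⟨hv', μ', h'⟩ =>
    ⟨by rw [herm_add_left, hv, hv', add_zero], _, h.mul hF ha hv hv' h'⟩
  zero_mem' := ⟨herm_zero_left a, 0, Ei.one a hF⟩
  neg_mem' := fun {v} ⟨hv, μ, h⟩ =>
    ⟨by rw [herm_neg_left, hv, neg_zero], _, h.neg hF ha hv⟩

theorem yGroup_conj (hF : Fintype.card F = q ^ 2) {a v : Fin n → F} (ha : ⟪a, a⟫ = 0)
    (hv : v ∈ yGroup hF H a ha) {g : SU n F q} (hg : g ∈ H) {a' : Fin n → F} (ha' : ⟪a', a'⟫ = 0)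
    (hga : act g a = a') : act g v ∈ yGroup hF H a' ha' := by
  obtain ⟨h1, μ, h2⟩ := hv
  subst hga
  exact ⟨by rw [herm_act, h1], μ, h2.conj hg⟩

/-! ### The elements -/

variable (hF : Fintype.card F = q ^ 2) (Φ : Fr q n m F)

/-- The upper root element. -/
def xel (j : ℕ) : SU n F q :=
  eich hF (Φ.e j) (-Φ.f (j + 1)) 0 (Φ.ee j j)
    (by rw [herm_neg_left, Φ.fe, if_neg (by omega), neg_zero])
    (by rw [herm_neg_left, herm_neg_right hF, Φ.ff, zero_pow_q hF]; simp)

theorem xel_act (j : ℕ) (x : Fin n → F) :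
    act (xel hF Φ j) x = x - ⟪x, Φ.e j⟫ • Φ.f (j + 1) + ⟪x, Φ.f (j + 1)⟫ • Φ.e j := by
  rw [xel, eich_act, herm_neg_right hF]
  module

/-- The Levi part. -/
def uU : ℕ → SU n F q
  | 0 => 1
  | k + 1 => xel hF Φ k * uU k

/-- The short element. -/
def gel {μ : F} (hμ : μ + μ ^ q + 1 = 0) : SU n F q :=
  eich hF (Φ.e (m - 1)) Φ.z μ (Φ.ee _ _) (Φ.ze _) (by rw [Φ.zz]; exact hμ)

theorem gel_act {μ : F} (hμ : μ + μ ^ q + 1 = 0) (x : Fin n → F) :
    act (gel hF Φ hμ) x =
      x + ⟪x, Φ.e (m - 1)⟫ • Φ.z + (μ * ⟪x, Φ.e (m - 1)⟫ - ⟪x, Φ.z⟫) • Φ.e (m - 1) :=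
  eich_act hF _ _ _ _ _ _ x

/-- The regular unipotent element. -/
def uel {μ : F} (hμ : μ + μ ^ q + 1 = 0) : SU n F q := gel hF Φ hμ * uU hF Φ (m - 1)

theorem uU_fix {x : Fin n → F} (k : ℕ) (h1 : ∀ j, j < k → ⟪x, Φ.e j⟫ = 0)
    (h2 : ∀ j, j < k → ⟪x, Φ.f (j + 1)⟫ = 0) : act (uU hF Φ k) x = x := by
  induction k with
  | zero => exact act_one x
  | succ k ih =>
    rw [uU, act_mul, ih (fun j hj => h1 j (by omega)) (fun j hj => h2 j (by omega)), xel_act,
      h1 k (by omega), h2 k (by omega)]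
    simp

theorem uU_e (k : ℕ) (hk : k < m) (j : ℕ) :
    act (uU hF Φ k) (Φ.e (j + 1)) =
      if j < k then Φ.e (j + 1) + Φ.e j else Φ.e (j + 1) := by
  induction k with
  | zero => simp [uU, act_one]
  | succ k ih =>
    rw [uU, act_mul, ih (by omega)]
    split_ifs with h1 h2 h3
    · rw [xel_act, herm_add_left, herm_add_left, Φ.ee, Φ.ee, Φ.ef, Φ.ef, if_neg (by omega),
        if_neg (by omega)]
      simp
    · omega
    · have : j = k := by omega
      subst this
      rw [xel_act, Φ.ee, Φ.ef, if_pos ⟨rfl, by omega⟩]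
      simp
    · rw [xel_act, Φ.ee, Φ.ef, if_neg (by omega)]
      simp

variable {μ : F} (hμ : μ + μ ^ q + 1 = 0)

theorem gel_e (j : ℕ) : act (gel hF Φ hμ) (Φ.e j) = Φ.e j := by
  rw [gel_act, Φ.ee, Φ.ez]; simp

theorem uel_e0 : act (uel hF Φ hμ) (Φ.e 0) = Φ.e 0 := by
  rw [uel, act_mul, uU_fix hF Φ _ (fun j _ => Φ.ee 0 j)
    (fun j _ => by rw [Φ.ef, if_neg (by omega)]), gel_e]

theorem uel_e {j : ℕ} (hj : j + 1 < m) :
    act (uel hF Φ hμ) (Φ.e (j + 1)) = Φ.e (j + 1) + Φ.e j := by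
  rw [uel, act_mul, uU_e hF Φ _ (by omega), if_pos (by omega), act_add, gel_e, gel_e]

theorem uel_z : act (uel hF Φ hμ) Φ.z = Φ.z - Φ.e (m - 1) := by
  rw [uel, act_mul, uU_fix hF Φ _ (fun j _ => Φ.ze j) (fun j _ => Φ.zf _), gel_act, Φ.ze, Φ.zz]
  module

theorem uel_fL (hm : 1 ≤ m) :
    act (uel hF Φ hμ) (Φ.f (m - 1)) = Φ.f (m - 1) + Φ.z + μ • Φ.e (m - 1) := by
  rw [uel, act_mul, uU_fix hF Φ _ (fun j hj => by rw [Φ.fe, if_neg (by omega)]) (fun j _ => Φ.ff _ _),
    gel_act, Φ.fe, if_pos ⟨rfl, by omega⟩, Φ.fz]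
  module

/-! ### Regularity -/

theorem chain_lemma {V : Type*} [AddCommGroup V] [Module F V] (N : V →ₗ[F] V) (b : ℕ → V) (M : ℕ)
    (h0 : N (b 0) = 0)
    (hs : ∀ k, k + 1 ≤ M → ∃ c : F, c ≠ 0 ∧
      N (b (k + 1)) - c • b k ∈ Submodule.span F (b '' {i | i < k})) :
    ∀ k, k ≤ M → (∀ x ∈ Submodule.span F (b '' {i | i < k}), (N ^ k) x = 0) ∧
      ∃ c : F, c ≠ 0 ∧ (N ^ k) (b k) = c • b 0 := by
  intro k
  induction k with
  | zero =>
    refine fun _ => ⟨fun x hx => ?_, 1, one_ne_zero, by simp⟩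
    simpa using hx
  | succ k ih =>
    intro hk
    obtain ⟨hz, c, hc, hck⟩ := ih (by omega)
    refine ⟨fun x hx => ?_, ?_⟩
    · induction hx using Submodule.span_induction with
      | mem x hx =>
        obtain ⟨i, hi, rfl⟩ := hx
        have hi : i < k + 1 := hi
        rcases Nat.lt_or_ge i k with h | h
        · rw [pow_succ', Module.End.mul_apply, hz _ (Submodule.subset_span ⟨i, h, rfl⟩), map_zero]
        · obtain rfl : i = k := by omega
          rw [pow_succ', Module.End.mul_apply, hck, map_smul, h0, smul_zero]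
      | zero => exact map_zero _
      | add x y _ _ hx hy => rw [map_add, hx, hy, add_zero]
      | smul a x _ hx => rw [map_smul, hx, smul_zero]
    · obtain ⟨c', hc', hmem⟩ := hs k hk
      refine ⟨c' * c, mul_ne_zero hc' hc, ?_⟩
      rw [pow_succ, Module.End.mul_apply,
        show N (b (k + 1)) = (N (b (k + 1)) - c' • b k) + c' • b k by abel, map_add, hz _ hmem,
        zero_add, map_smul, hck, smul_smul]

/-- The span of the later vectors of the second half. -/
def fTail (j : ℕ) : Submodule F (Fin n → F) :=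
  Submodule.span F (Φ.f '' {i | j < i ∧ i < m})

theorem xel_fTail {k j : ℕ} (hk : k + 1 < m) {x : Fin n → F} (hx : x ∈ fTail Φ j) :
    act (xel hF Φ k) x ∈ fTail Φ j := by
  induction hx using Submodule.span_induction with
  | mem x hx =>
    obtain ⟨i, ⟨hi1, hi2⟩, rfl⟩ := hx
    rw [xel_act, Φ.ff, Φ.fe]
    by_cases h : i = k
    · subst h
      rw [if_pos ⟨rfl, hi2⟩, zero_smul, add_zero, one_smul]
      exact sub_mem (Submodule.subset_span ⟨i, ⟨hi1, hi2⟩, rfl⟩)
        (Submodule.subset_span ⟨i + 1, ⟨Nat.lt_succ_of_lt hi1, hk⟩, rfl⟩)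
    · rw [if_neg (fun e => h e.1), zero_smul, zero_smul, add_zero, sub_zero]
      exact Submodule.subset_span ⟨i, ⟨hi1, hi2⟩, rfl⟩
  | zero => rw [act_zero]; exact zero_mem _
  | add x y _ _ hx hy => rw [act_add]; exact add_mem hx hy
  | smul a x _ hx => rw [act_smul]; exact Submodule.smul_mem _ _ hx

theorem uU_f (j : ℕ) : ∀ k, k < m →
    (k ≤ j → act (uU hF Φ k) (Φ.f j) = Φ.f j) ∧
      (j < k → act (uU hF Φ k) (Φ.f j) - (Φ.f j - Φ.f (j + 1)) ∈ fTail Φ (j + 1)) := by
  intro k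
  induction k with
  | zero => exact fun _ => ⟨fun _ => act_one _, fun h => absurd h (by omega)⟩
  | succ k ih =>
    intro hk
    obtain ⟨i1, i2⟩ := ih (by omega)
    refine ⟨fun h => ?_, fun h => ?_⟩
    · rw [uU, act_mul, i1 (by omega), xel_act, Φ.fe, Φ.ff, if_neg (by omega)]
      simp
    · rw [uU, act_mul]
      rcases Nat.lt_or_ge j k with h' | h'
      · have h1 := xel_fTail hF Φ (k := k) (by omega) (i2 h')
        rw [act_sub, act_sub] at h1
        have hfj : act (xel hF Φ k) (Φ.f j) = Φ.f j := by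
          rw [xel_act, Φ.fe, Φ.ff, if_neg (by omega)]; simp
        rw [hfj, xel_act hF Φ k (Φ.f (j + 1)), Φ.fe, Φ.ff] at h1
        by_cases he : j + 1 = k
        · subst he
          rw [if_pos ⟨rfl, by omega⟩, one_smul, zero_smul, add_zero] at h1
          have h2 : Φ.f (j + 1 + 1) ∈ fTail Φ (j + 1) :=
            Submodule.subset_span ⟨_, ⟨Nat.lt_succ_self _, hk⟩, rfl⟩
          have := add_mem h1 h2
          convert this using 1
          abel
        · rw [if_neg (fun e => he e.1), zero_smul, zero_smul, add_zero, sub_zero] at h1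
          exact h1
      · obtain rfl : j = k := by omega
        rw [i1 le_rfl, xel_act, Φ.fe, Φ.ff, if_pos ⟨rfl, by omega⟩]
        simp

theorem uel_regular (hm : 1 ≤ m) (hn : n = 2 * m + 1) :
    IsNilpotent (((uel hF Φ hμ : SU n F q) : Matrix.SpecialLinearGroup (Fin n) F).1 - 1) ∧
      (((uel hF Φ hμ : SU n F q) : Matrix.SpecialLinearGroup (Fin n) F).1 - 1) ^ (n - 1) ≠ 0 := by
  classical
  set u := uel hF Φ hμ with hu
  set A := ((u : SU n F q) : Matrix.SpecialLinearGroup (Fin n) F).1 - 1 with hA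
  let b : ℕ → Fin n → F := fun i =>
    if i < m then Φ.e i else if i = m then Φ.z else Φ.f (2 * m - i)
  have hN : ∀ x, Matrix.toLinAlgEquiv' A x = act u x - x := fun x => by
    rw [Matrix.toLinAlgEquiv'_apply, hA, Matrix.sub_mulVec, Matrix.one_mulVec]; rfl
  have key := chain_lemma (Matrix.toLinAlgEquiv' A : (Fin n → F) →ₗ[F] (Fin n → F)) b (2 * m)
    (by
      rw [hN, show b 0 = Φ.e 0 from if_pos (by omega), hu, uel_e0, sub_self])
    (by
      intro k hk
      have mem_b : ∀ i, i < k → b i ∈ Submodule.span F (b '' {i | i < k}) := fun i hi =>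
        Submodule.subset_span ⟨i, hi, rfl⟩
      rw [hN]
      rcases lt_trichotomy (k + 1) m with h | h | h
      · refine ⟨1, one_ne_zero, ?_⟩
        rw [show b (k + 1) = Φ.e (k + 1) from if_pos h, show b k = Φ.e k from if_pos (by omega), hu,
          uel_e hF Φ hμ h, one_smul, add_sub_cancel_left, sub_self]
        exact zero_mem _
      · refine ⟨-1, neg_ne_zero.2 one_ne_zero, ?_⟩
        rw [show b (k + 1) = Φ.z by simp [b, h], show b k = Φ.e k from if_pos (by omega), hu,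
          uel_z, show m - 1 = k by omega]
        convert zero_mem (Submodule.span F (b '' {i | i < k})) using 1
        module
      · obtain ⟨d, hd⟩ : ∃ d, k = m + d := ⟨k - m, by omega⟩
        subst hd
        have hb1 : b (m + d + 1) = Φ.f (m - 1 - d) := by
          simp only [b]
          rw [if_neg (by omega), if_neg (by omega)]
          congr 1; omega
        rw [hb1]
        rcases Nat.eq_zero_or_pos d with rfl | hd0
        · refine ⟨1, one_ne_zero, ?_⟩
          rw [hu, Nat.sub_zero, uel_fL hF Φ hμ (by omega), Nat.add_zero,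
            show b m = Φ.z by simp [b], one_smul,
            show Φ.f (m - 1) + Φ.z + μ • Φ.e (m - 1) - Φ.f (m - 1) - Φ.z = μ • b (m - 1) by
              rw [show b (m - 1) = Φ.e (m - 1) from if_pos (by omega)]; module]
          exact Submodule.smul_mem _ _ (Submodule.subset_span ⟨m - 1, by show m - 1 < m; omega, rfl⟩)
        · refine ⟨-1, neg_ne_zero.2 one_ne_zero, ?_⟩
          set j := m - 1 - d with hj
          have hbk : b (m + d) = Φ.f (j + 1) := by
            simp only [b]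
            rw [if_neg (by omega), if_neg (by omega)]
            congr 1; omega
          rw [hbk, hu, uel, act_mul]
          have h2 := (uU_f hF Φ j (m - 1) (by omega)).2 (by omega)
          set w := act (uU hF Φ (m - 1)) (Φ.f j)
          have hmemf : ∀ x ∈ fTail Φ (j + 1), x ∈ Submodule.span F (b '' {i | i < m + d}) := by
            intro x hx
            refine Submodule.span_le.2 ?_ hx
            rintro _ ⟨i, ⟨hi1, hi2⟩, rfl⟩
            refine Submodule.subset_span ⟨2 * m - i, by show 2 * m - i < m + d; omega, ?_⟩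
            simp only [b]
            rw [if_neg (by omega), if_neg (by omega)]
            congr 1; omega
          rw [gel_act]
          have he' : Φ.e (m - 1) ∈ Submodule.span F (b '' {i | i < m + d}) :=
            Submodule.subset_span ⟨m - 1, by show m - 1 < m + d; omega, if_pos (by omega)⟩
          have hz' : Φ.z ∈ Submodule.span F (b '' {i | i < m + d}) :=
            Submodule.subset_span ⟨m, by show m < m + d; omega, by simp [b]⟩
          have hsum := add_mem (add_mem (hmemf _ h2)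
            (Submodule.smul_mem _ ⟪w, Φ.e (m - 1)⟫ hz'))
            (Submodule.smul_mem _ (μ * ⟪w, Φ.e (m - 1)⟫ - ⟪w, Φ.z⟫) he')
          convert hsum using 1
          module)
  obtain ⟨hz, c, hc, hck⟩ := key (2 * m) le_rfl
  have hb2m : ∀ i, i < m → b (2 * m - i) = Φ.f i := fun i hi => by
    simp only [b]
    rw [if_neg (by omega), if_neg (by omega)]
    congr 1; omega
  have hN0 : Matrix.toLinAlgEquiv' A (b 0) = 0 := by
    rw [hN, show b 0 = Φ.e 0 from if_pos (by omega), hu, uel_e0, sub_self]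
  have hzero : ∀ i, i ≤ 2 * m → (Matrix.toLinAlgEquiv' A ^ (2 * m + 1)) (b i) = 0 := by
    intro i hi
    rcases Nat.lt_or_ge i (2 * m) with h | h
    · rw [pow_succ', Module.End.mul_apply, hz _ (Submodule.subset_span ⟨i, h, rfl⟩), map_zero]
    · obtain rfl : i = 2 * m := by omega
      rw [pow_succ', Module.End.mul_apply, hck, map_smul, hN0, smul_zero]
  refine ⟨⟨2 * m + 1, ?_⟩, fun h0 => ?_⟩
  · apply (Matrix.toLinAlgEquiv' (R := F) (n := Fin n)).injective
    rw [map_pow, map_zero]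
    refine LinearMap.ext fun x => ?_
    rw [Φ.expand x, map_add, map_add, map_sum, map_sum, map_smul, LinearMap.zero_apply]
    rw [Finset.sum_eq_zero, Finset.sum_eq_zero, show Φ.z = b m by simp [b], hzero m (by omega),
      smul_zero, add_zero, add_zero]
    · intro i hi
      rw [Finset.mem_range] at hi
      rw [map_smul, ← hb2m i hi, hzero _ (by omega), smul_zero]
    · intro i hi
      rw [Finset.mem_range] at hi
      rw [map_smul, ← show b i = Φ.e i from if_pos hi, hzero _ (by omega), smul_zero]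
  · rw [show n - 1 = 2 * m by omega] at h0
    have h1 := congrArg (Matrix.toLinAlgEquiv' (R := F) (n := Fin n)) h0
    rw [map_pow, map_zero] at h1
    rw [h1, LinearMap.zero_apply, eq_comm, smul_eq_zero] at hck
    rcases hck with hck | hck
    · exact hc hck
    · rw [show b 0 = Φ.e 0 from if_pos (by omega)] at hck
      have := Φ.fe 0 0
      rw [hck, if_pos ⟨rfl, by omega⟩, herm_zero_right hF] at this
      exact one_ne_zero this.symm

/-! ### The conjugating element -/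

include hF in
theorem exists_hel {δ : F} (hδ : δ ≠ 0) :
    ∃ (h : SU n F q) (ζ : F), ζ ≠ 0 ∧ (∀ j, j < m → act h (Φ.e j) = δ • Φ.f j) ∧
      (∀ j, j < m → act h (Φ.f j) = (δ ^ q)⁻¹ • Φ.e j) ∧ act h Φ.z = ζ • Φ.z := by
  classical
  let L : (Fin n → F) →ₗ[F] (Fin n → F) :=
    ∑ j ∈ Finset.range m, (hermL q (Φ.f j)).smulRight (δ • Φ.f j) +
      ∑ j ∈ Finset.range m, (hermL q (Φ.e j)).smulRight ((δ ^ q)⁻¹ • Φ.e j) +
      (hermL q Φ.z).smulRight Φ.z
  have hL : ∀ x, L x = ∑ j ∈ Finset.range m, ⟪x, Φ.f j⟫ • (δ • Φ.f j) +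
      ∑ j ∈ Finset.range m, ⟪x, Φ.e j⟫ • ((δ ^ q)⁻¹ • Φ.e j) + ⟪x, Φ.z⟫ • Φ.z := fun x => by
    simp [L, LinearMap.sum_apply, hermL_apply]
  have hLe : ∀ j, j < m → L (Φ.e j) = δ • Φ.f j := by
    intro j hj
    rw [hL, Φ.ez, zero_smul, add_zero, Finset.sum_eq_single j, Finset.sum_eq_zero, add_zero, Φ.ef,
      if_pos ⟨rfl, hj⟩, one_smul]
    · intro i _; rw [Φ.ee, zero_smul]
    · intro i _ hi; rw [Φ.ef, if_neg (fun e => hi e.1.symm), zero_smul]
    · intro h; exact absurd (Finset.mem_range.2 hj) h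
  have hLf : ∀ j, j < m → L (Φ.f j) = (δ ^ q)⁻¹ • Φ.e j := by
    intro j hj
    rw [hL, Φ.fz, zero_smul, add_zero, Finset.sum_eq_zero, zero_add, Finset.sum_eq_single j, Φ.fe,
      if_pos ⟨rfl, hj⟩, one_smul]
    · intro i _ hi; rw [Φ.fe, if_neg (fun e => hi e.1.symm), zero_smul]
    · intro h; exact absurd (Finset.mem_range.2 hj) h
    · intro i _; rw [Φ.ff, zero_smul]
  have hLz : L Φ.z = Φ.z := by
    rw [hL, Φ.zz, one_smul, Finset.sum_eq_zero, Finset.sum_eq_zero, zero_add, zero_add]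
    · intro i _; rw [Φ.ze, zero_smul]
    · intro i _; rw [Φ.zf, zero_smul]
  have hδq : δ ^ q ≠ 0 := pow_ne_zero _ hδ
  have hsum : ∀ (x : ℕ → Fin n → F) (y : Fin n → F) (s : Finset ℕ),
      ⟪∑ i ∈ s, x i, y⟫ = ∑ i ∈ s, ⟪x i, y⟫ := fun x y s => map_sum (hermL q y) x s
  have hLU : IsU q (LinearMap.toMatrix' L) := by
    intro x y
    rw [LinearMap.toMatrix'_mulVec, LinearMap.toMatrix'_mulVec]
    have hsumr : ∀ (x : Fin n → F) (y : ℕ → Fin n → F) (s : Finset ℕ),
        ⟪x, ∑ i ∈ s, y i⟫ = ∑ i ∈ s, ⟪x, y i⟫ := fun x y s => by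
      rw [herm_conj hF, hsum, sum_pow_q hF]
      exact Finset.sum_congr rfl fun i _ => (herm_conj hF _ _).symm
    have hLyf : ∀ j, j < m → ⟪Φ.f j, L y⟫ = δ⁻¹ * ⟪Φ.e j, y⟫ := by
      intro j hj
      rw [herm_conj hF, hL, herm_add_left, herm_add_left, hsum, hsum, Finset.sum_eq_zero, zero_add,
        Finset.sum_eq_single j, herm_smul_left, herm_smul_left, herm_smul_left, Φ.zf, mul_zero,
        add_zero, Φ.ef, if_pos ⟨rfl, hj⟩, mul_one, mul_pow, inv_pow, pow_q_q hF, ← herm_conj hF,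
        mul_comm]
      · intro i _ hi
        rw [herm_smul_left, herm_smul_left, Φ.ef, if_neg (fun e => hi e.1), mul_zero, mul_zero]
      · intro h; exact absurd (Finset.mem_range.2 hj) h
      · intro i _; rw [herm_smul_left, herm_smul_left, Φ.ff, mul_zero, mul_zero]
    have hLye : ∀ j, j < m → ⟪Φ.e j, L y⟫ = δ ^ q * ⟪Φ.f j, y⟫ := by
      intro j hj
      rw [herm_conj hF, hL, herm_add_left, herm_add_left, hsum, hsum, Finset.sum_eq_single j,
        Finset.sum_eq_zero, add_zero, herm_smul_left, herm_smul_left, herm_smul_left, Φ.ze, mul_zero,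
        add_zero, Φ.fe, if_pos ⟨rfl, hj⟩, mul_one, mul_pow, ← herm_conj hF, mul_comm]
      · intro i _; rw [herm_smul_left, herm_smul_left, Φ.ee, mul_zero, mul_zero]
      · intro i _ hi
        rw [herm_smul_left, herm_smul_left, Φ.fe, if_neg (fun e => hi e.1), mul_zero, mul_zero]
      · intro h; exact absurd (Finset.mem_range.2 hj) h
    have hLyz : ⟪Φ.z, L y⟫ = ⟪Φ.z, y⟫ := by
      rw [herm_conj hF, hL, herm_add_left, herm_add_left, hsum, hsum, Finset.sum_eq_zero,
        Finset.sum_eq_zero, herm_smul_left, Φ.zz, mul_one, zero_add, zero_add, ← herm_conj hF]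
      · intro i _; rw [herm_smul_left, herm_smul_left, Φ.ez, mul_zero, mul_zero]
      · intro i _; rw [herm_smul_left, herm_smul_left, Φ.fz, mul_zero, mul_zero]
    conv_rhs => rw [Φ.expand x]
    rw [hL x, herm_add_left, herm_add_left, herm_add_left, herm_add_left, hsum, hsum, hsum, hsum,
      herm_smul_left, herm_smul_left, hLyz]
    congr 1
    congr 1
    · refine Finset.sum_congr rfl fun j hj => ?_
      rw [herm_smul_left, herm_smul_left, herm_smul_left, hLyf j (Finset.mem_range.1 hj)]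
      field_simp
    · refine Finset.sum_congr rfl fun j hj => ?_
      rw [herm_smul_left, herm_smul_left, herm_smul_left, hLye j (Finset.mem_range.1 hj)]
      field_simp
  set M := LinearMap.toMatrix' L with hM
  set d := M.det with hd
  have hd0 : d ≠ 0 := ((Matrix.isUnit_iff_isUnit_det M).1 (hLU.isUnit hF)).ne_zero
  have hdn : d * d ^ q = 1 := by
    have := IsU.det_pow hF hLU
    rw [← pow_succ']
    exact this
  have hS : IsU q (unitaryTransvection n q Φ.z (d⁻¹ - 1)) := by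
    refine isU_transvection hF ?_
    rw [Φ.zz, sub_pow_q hF, one_pow, inv_pow]
    have := pow_ne_zero q hd0
    field_simp
    linear_combination -hdn
  let h : SU n F q := mkSU (M * unitaryTransvection n q Φ.z (d⁻¹ - 1))
    (by rw [Matrix.det_mul, det_transvection hF, Φ.zz, ← hd, mul_one, add_sub_cancel,
      mul_inv_cancel₀ hd0]) (hLU.mul hS)
  have hact : ∀ x, act h x = L (x + ((d⁻¹ - 1) * ⟪x, Φ.z⟫) • Φ.z) := fun x => by
    show (M * unitaryTransvection n q Φ.z (d⁻¹ - 1)) *ᵥ x = _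
    rw [← Matrix.mulVec_mulVec, transvection_mulVec, hM, LinearMap.toMatrix'_mulVec]
  refine ⟨h, d⁻¹, inv_ne_zero hd0, fun j hj => ?_, fun j hj => ?_, ?_⟩
  · rw [hact, Φ.ez, mul_zero, zero_smul, add_zero, hLe j hj]
  · rw [hact, Φ.fz, mul_zero, zero_smul, add_zero, hLf j hj]
  · rw [hact, Φ.zz, mul_one, map_add, map_smul, hLz]
    module

theorem conj_act (h t : SU n F q) (x : Fin n → F) :
    act (h * t * h⁻¹) x = act h (act t (act h⁻¹ x)) := by rw [act_mul, act_mul]

variable {δ ζ : F} {h : SU n F q}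

theorem yel_act (hδ : δ ≠ 0) (he : ∀ j, j < m → act h (Φ.e j) = δ • Φ.f j)
    (hf : ∀ j, j < m → act h (Φ.f j) = (δ ^ q)⁻¹ • Φ.e j) {k : ℕ} (hk : k + 1 < m)
    (x : Fin n → F) :
    act (h * xel hF Φ k * h⁻¹) x = x - ⟪x, Φ.f k⟫ • Φ.e (k + 1) + ⟪x, Φ.e (k + 1)⟫ • Φ.f k := by
  rw [conj_act, xel_act, herm_act_left, herm_act_left, act_add, act_sub, act_act_inv, act_smul,
    act_smul, he k (by omega), hf (k + 1) hk, herm_smul_right, herm_smul_right, inv_pow,
    pow_q_q hF]
  have := pow_ne_zero q hδ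
  match_scalars <;> field_simp

theorem gf_act (he : ∀ j, j < m → act h (Φ.e j) = δ • Φ.f j)
    (hz : act h Φ.z = ζ • Φ.z) (hm : 1 ≤ m) (x : Fin n → F) :
    act (h * gel hF Φ hμ * h⁻¹) x = x + (δ ^ q * ⟪x, Φ.f (m - 1)⟫ * ζ) • Φ.z +
      ((μ * (δ ^ q * ⟪x, Φ.f (m - 1)⟫) - ζ ^ q * ⟪x, Φ.z⟫) * δ) • Φ.f (m - 1) := by
  rw [conj_act, gel_act, herm_act_left, herm_act_left, act_add, act_add, act_act_inv, act_smul,
    act_smul, he (m - 1) (by omega), hz, herm_smul_right, herm_smul_right, smul_smul, smul_smul]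

theorem vel_eq : h * uel hF Φ hμ * h⁻¹ =
    (h * gel hF Φ hμ * h⁻¹) * (h * uU hF Φ (m - 1) * h⁻¹) := by
  rw [uel]; group

theorem vU_succ (k : ℕ) : h * uU hF Φ (k + 1) * h⁻¹ =
    (h * xel hF Φ k * h⁻¹) * (h * uU hF Φ k * h⁻¹) := by
  rw [uU]; group

section lower

variable (hδ : δ ≠ 0) (he : ∀ j, j < m → act h (Φ.e j) = δ • Φ.f j)
  (hf : ∀ j, j < m → act h (Φ.f j) = (δ ^ q)⁻¹ • Φ.e j) (hz : act h Φ.z = ζ • Φ.z)

include hδ he hf

theorem vU_fix {x : Fin n → F} (k : ℕ) (hk : k < m) (h1 : ∀ j, j < k → ⟪x, Φ.f j⟫ = 0)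
    (h2 : ∀ j, j < k → ⟪x, Φ.e (j + 1)⟫ = 0) : act (h * uU hF Φ k * h⁻¹) x = x := by
  induction k with
  | zero => simp [uU, act_one]
  | succ k ih =>
    rw [vU_succ, act_mul, ih (by omega) (fun j hj => h1 j (by omega)) (fun j hj => h2 j (by omega)),
      yel_act hF Φ hδ he hf hk, h1 k (by omega), h2 k (by omega)]
    simp

theorem vU_e (j : ℕ) (k : ℕ) (hk : k < m) :
    act (h * uU hF Φ k * h⁻¹) (Φ.e j + Φ.e (j + 1)) =
      if j < k then (if k = j + 1 then Φ.e j else act (h * uU hF Φ k * h⁻¹) (Φ.e j + Φ.e (j + 1)))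
        else Φ.e j + Φ.e (j + 1) := by
  split_ifs with h1 h2
  · subst h2
    rw [vU_succ, act_mul, vU_fix hF Φ hδ he hf j (by omega) (fun i hi => by
        rw [herm_add_left, Φ.ef, Φ.ef, if_neg (by omega), if_neg (by omega), add_zero])
      (fun i _ => by rw [herm_add_left, Φ.ee, Φ.ee, add_zero]),
      yel_act hF Φ hδ he hf hk, herm_add_left, herm_add_left, Φ.ef, Φ.ef, Φ.ee, Φ.ee,
      if_pos ⟨rfl, by omega⟩, if_neg (by omega)]
    simp
  · rfl
  · exact vU_fix hF Φ hδ he hf k hk (fun i hi => by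
        rw [herm_add_left, Φ.ef, Φ.ef, if_neg (by omega), if_neg (by omega), add_zero])
      (fun i _ => by rw [herm_add_left, Φ.ee, Φ.ee, add_zero])

include hz

theorem vel_e {j : ℕ} (hj : j + 1 < m) :
    act (h * uel hF Φ hμ * h⁻¹) (Φ.e j + Φ.e (j + 1)) = Φ.e j := by
  have key : ∀ k, j + 1 ≤ k → k < m →
      act (h * uU hF Φ k * h⁻¹) (Φ.e j + Φ.e (j + 1)) = Φ.e j := by
    intro k hk
    induction k, hk using Nat.le_induction with
    | base =>
      intro hk
      rw [vU_e hF Φ hδ he hf j _ hk, if_pos (by omega), if_pos rfl]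
    | succ k hk ih =>
      intro hk'
      rw [vU_succ, act_mul, ih (by omega), yel_act hF Φ hδ he hf hk', Φ.ef, Φ.ee,
        if_neg (by omega)]
      simp
  rw [vel_eq, act_mul, key (m - 1) (by omega) (by omega), gf_act hF Φ hμ he hz (by omega), Φ.ef,
    Φ.ez, if_neg (by omega)]
  simp

theorem vel_eL (hm : 1 ≤ m) :
    act (h * uel hF Φ hμ * h⁻¹) (Φ.e (m - 1)) =
      Φ.e (m - 1) + (δ ^ q * ζ) • Φ.z + (μ * δ ^ q * δ) • Φ.f (m - 1) := by
  rw [vel_eq, act_mul, vU_fix hF Φ hδ he hf (m - 1) (by omega)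
    (fun i hi => by rw [Φ.ef, if_neg (by omega)]) (fun i _ => Φ.ee _ _),
    gf_act hF Φ hμ he hz hm, Φ.ef, Φ.ez, if_pos ⟨rfl, by omega⟩]
  simp [mul_assoc]

theorem vel_z (hm : 1 ≤ m) :
    act (h * uel hF Φ hμ * h⁻¹) Φ.z = Φ.z - (ζ ^ q * δ) • Φ.f (m - 1) := by
  rw [vel_eq, act_mul, vU_fix hF Φ hδ he hf (m - 1) (by omega) (fun i _ => Φ.zf _)
    (fun i _ => Φ.ze _), gf_act hF Φ hμ he hz hm, Φ.zf, Φ.zz]
  module

theorem vel_f {j : ℕ} (hj : j + 1 < m) :
    act (h * uel hF Φ hμ * h⁻¹) (Φ.f (j + 1)) = Φ.f (j + 1) + Φ.f j := by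
  have key : ∀ k, j + 1 ≤ k → k < m →
      act (h * uU hF Φ k * h⁻¹) (Φ.f (j + 1)) = Φ.f (j + 1) + Φ.f j := by
    intro k hk
    induction k, hk using Nat.le_induction with
    | base =>
      intro hk
      rw [vU_succ, act_mul, vU_fix hF Φ hδ he hf j (by omega) (fun i _ => Φ.ff _ _)
        (fun i hi => by rw [Φ.fe, if_neg (by omega)]), yel_act hF Φ hδ he hf hk, Φ.ff, Φ.fe,
        if_pos ⟨rfl, hk⟩]
      simp
    | succ k hk ih =>
      intro hk'
      rw [vU_succ, act_mul, ih (by omega), yel_act hF Φ hδ he hf hk', herm_add_left, herm_add_left,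
        Φ.ff, Φ.ff, Φ.fe, Φ.fe, if_neg (by omega), if_neg (by omega)]
      simp
  rw [vel_eq, act_mul, key (m - 1) (by omega) (by omega), gf_act hF Φ hμ he hz (by omega),
    herm_add_left, herm_add_left, Φ.ff, Φ.ff, Φ.fz, Φ.fz]
  simp

end lower

end Cfsg.Agent.UnitaryThreeRegular87
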