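import Mathlib
import Cfsg.Agent.Lib.UnitaryThreeGen87

/-!
`SU(2m+1, q)`, `m ≥ 2`, is generated by three conjugate regular unipotent elements: the proof.
-/

set_option autoImplicit false
set_option maxHeartbeats 1000000
set_option linter.unusedSectionVars false

open Matrix Cfsg

namespace Cfsg.Agent.UnitaryThreeRegular87

open Cfsg.Agent.OrthUnitaryHerm Cfsg.Agent.OrthUnitaryTransvection

variable {F : Type*} [Field F] [Fintype F] {q n m : ℕ}

local notation "⟪" u ", " v "⟫" => hermForm n F q u v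

variable {H : Subgroup (SU n F q)}

/-! ### The totally isotropic span -/

/-- The span of the first `k` vectors. -/
def Lk (Φ : Fr q n m F) (k : ℕ) : Submodule F (Fin n → F) :=
  Submodule.span F (Φ.e '' {i | i < k})

theorem e_mem (Φ : Fr q n m F) {i k : ℕ} (h : i < k) : Φ.e i ∈ Lk Φ k :=
  Submodule.subset_span ⟨i, h, rfl⟩

theorem Lk_mono (Φ : Fr q n m F) {k k' : ℕ} (h : k ≤ k') : Lk Φ k ≤ Lk Φ k' :=
  Submodule.span_mono (Set.image_mono fun _ (hi : _ < k) => lt_of_lt_of_le hi h)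

theorem Lk_perp (Φ : Fr q n m F) {k : ℕ} {x : Fin n → F}
    (hx : ∀ i, i < k → ⟪Φ.e i, x⟫ = 0) {a : Fin n → F} (ha : a ∈ Lk Φ k) : ⟪a, x⟫ = 0 := by
  induction ha using Submodule.span_induction with
  | mem y hy => obtain ⟨i, hi, rfl⟩ := hy; exact hx i hi
  | zero => exact herm_zero_left x
  | add y z _ _ h1 h2 => rw [herm_add_left, h1, h2, add_zero]
  | smul t y _ h1 => rw [herm_smul_left, h1, mul_zero]

theorem Lk_iso (hF : Fintype.card F = q ^ 2) (Φ : Fr q n m F) {k k' : ℕ} {a b : Fin n → F}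
    (ha : a ∈ Lk Φ k) (hb : b ∈ Lk Φ k') : ⟪a, b⟫ = 0 :=
  Lk_perp Φ (fun i _ => herm_skew_zero hF (Lk_perp Φ (fun j _ => Φ.ee j i) hb)) ha

/-! ### The bilinear Eichler elements -/

section bil

variable (hF : Fintype.card F = q ^ 2) (Φ : Fr q n m F)

include hF

theorem pair_add_right {a b b' : Fin n → F} (ha : a ∈ Lk Φ m) (hb : b ∈ Lk Φ m) (hb' : b' ∈ Lk Φ m)
    (h : Ei H a b 0) (h' : Ei H a b' 0) : Ei H a (b + b') 0 := by
  have := h.mul hF (Lk_iso hF Φ ha ha) (Lk_iso hF Φ hb ha) (Lk_iso hF Φ hb' ha) h'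
  rwa [Lk_iso hF Φ hb' hb, sub_zero, add_zero] at this

theorem pair_neg {a b : Fin n → F} (ha : a ∈ Lk Φ m) (hb : b ∈ Lk Φ m) (h : Ei H a b 0) :
    Ei H a (-b) 0 := by
  have := h.neg hF (Lk_iso hF Φ ha ha) (Lk_iso hF Φ hb ha)
  rwa [Lk_iso hF Φ hb hb, neg_zero, sub_zero] at this

theorem pair_add_left {a a' b : Fin n → F} (ha : a ∈ Lk Φ m) (ha' : a' ∈ Lk Φ m) (hb : b ∈ Lk Φ m)
    (h : Ei H a b 0) (h' : Ei H a' b 0) : Ei H (a + a') b 0 := by
  obtain ⟨g, hg, hga⟩ := h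
  obtain ⟨g', hg', hga'⟩ := h'
  refine ⟨g * g', H.mul_mem hg hg', fun x => ?_⟩
  rw [act_mul, hga, hga']
  simp only [herm_add_left, herm_smul_left, herm_add_right hF, Lk_iso hF Φ hb ha,
    Lk_iso hF Φ ha' ha, Lk_iso hF Φ ha' hb, Lk_iso hF Φ hb hb, mul_zero, add_zero]
  module

theorem pair_smul_left {a b : Fin n → F} (t : F) (h : Ei H a (t ^ q • b) 0) :
    Ei H (t • a) b 0 := by
  obtain ⟨g, hg, hga⟩ := h
  refine ⟨g, hg, fun x => ?_⟩
  rw [hga, herm_smul_right, herm_smul_right, pow_q_q hF]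
  module

theorem pair_symm {a b : Fin n → F} (h : Ei H a b 0) : Ei H b (-a) 0 := by
  obtain ⟨g, hg, hga⟩ := h
  refine ⟨g, hg, fun x => ?_⟩
  rw [hga, herm_neg_right hF]
  module

omit hF in
theorem pair_zero_left (b : Fin n → F) (hF : Fintype.card F = q ^ 2) :
    Ei H (0 : Fin n → F) b 0 :=
  ⟨1, H.one_mem, fun x => by simp [act_one, herm_zero_right hF]⟩

theorem pair_sub_left {a a' b : Fin n → F} (ha : a ∈ Lk Φ m) (ha' : a' ∈ Lk Φ m) (hb : b ∈ Lk Φ m)
    (h : Ei H a b 0) (h' : Ei H a' b 0) : Ei H (a - a') b 0 := by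
  have h1 : Ei H ((-1 : F) • a') b 0 := by
    refine pair_smul_left hF (-1) ?_
    rw [neg_pow_q hF, one_pow, neg_one_smul]
    exact pair_neg hF Φ ha' hb h'
  have h2 := pair_add_left hF Φ ha ((Lk Φ m).smul_mem _ ha') hb h h1
  rwa [neg_one_smul, ← sub_eq_add_neg] at h2

theorem pair_sub_right {a b b' : Fin n → F} (ha : a ∈ Lk Φ m) (hb : b ∈ Lk Φ m) (hb' : b' ∈ Lk Φ m)
    (h : Ei H a b 0) (h' : Ei H a b' 0) : Ei H a (b - b') 0 := by
  rw [sub_eq_add_neg]
  exact pair_add_right hF Φ ha hb ((Lk Φ m).neg_mem hb') h (pair_neg hF Φ ha hb' h')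

theorem pair_tv {v : Fin n → F} {k : F} (h : Ei H v (k • v) 0) : Tv H v (k - k ^ q) := by
  obtain ⟨g, hg, hga⟩ := h
  refine ⟨g, hg, fun x => ?_⟩
  rw [hga, herm_smul_right]
  module

theorem pair_of_full {v : Fin n → F} (h : Full H v) (k : F) : Ei H v (k • v) 0 := by
  obtain ⟨g, hg, hga⟩ := h (k - k ^ q) (by rw [sub_pow_q hF, pow_q_q hF]; ring)
  refine ⟨g, hg, fun x => ?_⟩
  rw [hga, herm_smul_right]
  module

theorem pair_span {k : ℕ} (hk : k ≤ m)
    (h : ∀ i j, i < k → j < k → ∀ x : F, Ei H (Φ.e i) (x • Φ.e j) 0) {a b : Fin n → F}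
    (ha : a ∈ Lk Φ k) (hb : b ∈ Lk Φ k) : Ei H a b 0 := by
  have hmono := Lk_mono Φ hk
  have h1 : ∀ i, i < k → ∀ b ∈ Lk Φ k, ∀ x : F, Ei H (Φ.e i) (x • b) 0 := by
    intro i hi b hb
    induction hb using Submodule.span_induction with
    | mem y hy => obtain ⟨j, hj, rfl⟩ := hy; exact h i j hi hj
    | zero => intro x; rw [smul_zero]; exact Ei.one _ hF
    | add y z hy hz h1 h2 =>
      intro x
      rw [smul_add]
      exact pair_add_right hF Φ (e_mem Φ (by omega)) ((Lk Φ m).smul_mem _ (hmono hy))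
        ((Lk Φ m).smul_mem _ (hmono hz)) (h1 x) (h2 x)
    | smul t y _ h1 => intro x; rw [smul_smul]; exact h1 _
  revert b
  induction ha using Submodule.span_induction with
  | mem y hy =>
    obtain ⟨i, hi, rfl⟩ := hy
    intro b hb
    simpa using h1 i hi b hb 1
  | zero => exact fun _ => pair_zero_left _ hF
  | add y z hy hz h1 h2 =>
    exact fun hb => pair_add_left hF Φ (hmono hy) (hmono hz) (hmono hb) (h1 hb) (h2 hb)
  | smul t y _ h1 => exact fun hb => pair_smul_left hF t (h1 ((Lk Φ k).smul_mem _ hb))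

end bil

/-! ### The setting -/

/-- The standing assumptions. -/
structure Ctx (hF : Fintype.card F = q ^ 2) (Φ : Fr q n m F) (H : Subgroup (SU n F q)) (μ δ ζ : F)
    (h : SU n F q) : Prop where
  two_le : 2 ≤ m
  hμ : μ + μ ^ q + 1 = 0
  μ_ne : μ ^ q ≠ μ
  δ_ne : δ ≠ 0
  ζ_ne : ζ ≠ 0
  he : ∀ j, j < m → act h (Φ.e j) = δ • Φ.f j
  hf : ∀ j, j < m → act h (Φ.f j) = (δ ^ q)⁻¹ • Φ.e j
  hz : act h Φ.z = ζ • Φ.z
  u_mem : uel hF Φ hμ ∈ H
  v_mem : h * uel hF Φ hμ * h⁻¹ ∈ H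
  start : Ei H (Φ.e 0) (μ • Φ.e (m - 1)) 0
  gen : ∀ y : F, y ^ q = y → y ≠ 0 →
    ∃ k : ℕ, ((μ - μ ^ q) ^ 2 * (μ * μ ^ q) * (δ ^ q * δ) ^ 2) ^ k = y ^ 2

variable {hF : Fintype.card F = q ^ 2} {Φ : Fr q n m F} {μ δ ζ : F} {h : SU n F q}

theorem Ctx.v_inv_e (C : Ctx hF Φ H μ δ ζ h) {j : ℕ} (hj : j + 1 < m) :
    act (h * uel hF Φ C.hμ * h⁻¹)⁻¹ (Φ.e j) = Φ.e j + Φ.e (j + 1) := by
  conv_lhs => rw [← vel_e hF Φ C.hμ C.δ_ne C.he C.hf C.hz hj]
  rw [act_inv_act]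

theorem Ctx.v_inv_Lk (C : Ctx hF Φ H μ δ ζ h) {k : ℕ} (hk : k + 1 ≤ m) {a : Fin n → F}
    (ha : a ∈ Lk Φ k) : act (h * uel hF Φ C.hμ * h⁻¹)⁻¹ a ∈ Lk Φ (k + 1) := by
  induction ha using Submodule.span_induction with
  | mem y hy =>
    obtain ⟨i, hi, rfl⟩ := hy
    have hi : i < k := hi
    rw [C.v_inv_e (by omega)]
    exact add_mem (e_mem Φ (by omega)) (e_mem Φ (by omega))
  | zero => rw [act_zero]; exact zero_mem _
  | add y z _ _ h1 h2 => rw [act_add]; exact add_mem h1 h2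
  | smul t y _ h1 => rw [act_smul]; exact Submodule.smul_mem _ _ h1

theorem Ctx.y_desc (C : Ctx hF Φ H μ δ ζ h) :
    ∀ d, d ≤ m - 1 → μ • Φ.e (m - 1 - d) ∈ yGroup hF H (Φ.e 0) (Φ.ee 0 0) := by
  intro d
  induction d with
  | zero =>
    intro _
    exact ⟨by rw [herm_smul_left, Φ.ee, mul_zero], 0, by simpa using C.start⟩
  | succ d ih =>
    intro hd
    have h0 := ih (by omega)
    rw [show m - 1 - d = (m - 1 - (d + 1)) + 1 by omega] at h0
    have h1 := yGroup_conj hF (Φ.ee 0 0) h0 C.u_mem (Φ.ee 0 0) (uel_e0 hF Φ C.hμ)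
    rw [act_smul, uel_e hF Φ C.hμ (by omega), smul_add] at h1
    have h2 := sub_mem h1 h0
    rwa [add_sub_cancel_left] at h2

theorem Ctx.c_skew (C : Ctx hF Φ H μ δ ζ h) : (μ - μ ^ q) + (μ - μ ^ q) ^ q = 0 := by
  have := C.two_le
  rw [sub_pow_q hF, pow_q_q hF]; ring

theorem Ctx.tv_first (C : Ctx hF Φ H μ δ ζ h) : Tv H (Φ.e 0) (μ - μ ^ q) := by
  have hm := C.two_le
  obtain ⟨hp, ν, hν⟩ := C.y_desc (m - 2) (by omega)
  rw [show m - 1 - (m - 2) = 0 + 1 by omega] at hν hp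
  have h1 := hν.conj C.u_mem
  rw [act_smul, uel_e0, uel_e hF Φ C.hμ (by omega), smul_add] at h1
  have h2 := h1.shift hF
  have h3 := hν.neg hF (Φ.ee 0 0) hp
  have h4 := h2.mul hF (Φ.ee 0 0) hp (by rw [herm_neg_left, hp, neg_zero]) h3
  rw [add_neg_cancel] at h4
  have h5 := h4.tv hF
  convert h5 using 1
  simp [herm_neg_left, herm_smul_left, herm_smul_right, Φ.ee]

theorem Ctx.p_mem (C : Ctx hF Φ H μ δ ζ h) : ∀ i, i ≤ m - 1 →
    act ((h * uel hF Φ C.hμ * h⁻¹)⁻¹ ^ i) (Φ.e 0) - Φ.e i ∈ Lk Φ i := by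
  intro i
  induction i with
  | zero => intro _; rw [pow_zero, act_one, sub_self]; exact zero_mem _
  | succ i ih =>
    intro hi
    have h1 := C.v_inv_Lk (by omega) (ih (by omega))
    rw [act_sub, ← act_mul, ← pow_succ', C.v_inv_e (by omega)] at h1
    have h2 := add_mem h1 (e_mem Φ (show i < i + 1 by omega))
    convert h2 using 1
    abel

theorem Ctx.v_e_coeff (C : Ctx hF Φ H μ δ ζ h) : ∀ d, d ≤ m - 1 →
    ⟪Φ.e (m - 1), act (h * uel hF Φ C.hμ * h⁻¹) (Φ.e (m - 1 - d))⟫ =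
      (-1) ^ d * (μ * δ ^ q * δ) ^ q := by
  intro d
  induction d with
  | zero =>
    intro _
    rw [Nat.sub_zero, vel_eL hF Φ C.hμ C.δ_ne C.he C.hf C.hz (by have := C.two_le; omega),
      herm_add_right hF, herm_add_right hF, herm_smul_right, herm_smul_right, Φ.ee, Φ.ez, Φ.ef,
      if_pos ⟨rfl, by have := C.two_le; omega⟩]
    ring
  | succ d ih =>
    intro hd
    have h1 := vel_e hF Φ C.hμ C.δ_ne C.he C.hf C.hz (j := m - 1 - (d + 1)) (by omega)
    rw [act_add] at h1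
    have h2 := congrArg (fun y => ⟪Φ.e (m - 1), y⟫) h1
    simp only [herm_add_right hF, Φ.ee] at h2
    rw [show m - 1 - (d + 1) + 1 = m - 1 - d by omega, ih (by omega)] at h2
    linear_combination h2

/-- The value of the form at the two transvection vectors of the auxiliary plane. -/
theorem Ctx.plane (C : Ctx hF Φ H μ δ ζ h) :
    ∃ (y : Fin n → F) (K : F), Tv H y (μ - μ ^ q) ∧ ⟪Φ.e 0, y⟫ = 0 ∧ ⟪y, y⟫ = 0 ∧
      ⟪Φ.e 0 + Φ.e 1, y⟫ = K ∧ K ≠ 0 ∧ K * K ^ q = (μ * μ ^ q) * (δ ^ q * δ) ^ 2 := by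
  have hm := C.two_le
  set V := h * uel hF Φ C.hμ * h⁻¹ with hV
  refine ⟨act (V ^ (m - 1)) (Φ.e 0), (-1) ^ (m - 1) * (μ * δ ^ q * δ) ^ q,
    C.tv_first.conj (pow_mem C.v_mem _), ?_, by rw [herm_act, Φ.ee], ?_, ?_, ?_⟩
  · have hp := C.p_mem (m - 1) le_rfl
    rw [← herm_act_left, ← inv_pow]
    have : act (V⁻¹ ^ (m - 1)) (Φ.e 0) ∈ Lk Φ m := by
      have h2 := add_mem (Lk_mono Φ (by omega : m - 1 ≤ m) hp) (e_mem Φ (show m - 1 < m by omega))
      rwa [sub_add_cancel] at h2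
    exact Lk_iso hF Φ this (e_mem Φ (show 0 < m by omega))
  · have hp := C.p_mem (m - 1) le_rfl
    rw [← hV] at hp
    rw [← C.v_inv_e (show 0 + 1 < m by omega), ← hV, ← herm_act_left, ← inv_pow, ← act_mul,
      ← pow_succ, pow_succ', act_mul, herm_act_left,
      show act (V⁻¹ ^ (m - 1)) (Φ.e 0) =
        (act (V⁻¹ ^ (m - 1)) (Φ.e 0) - Φ.e (m - 1)) + Φ.e (m - 1) by abel, herm_add_left,
      Lk_perp Φ (fun i hi => ?_) hp, zero_add]
    · have := C.v_e_coeff (m - 1) le_rfl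
      rwa [Nat.sub_self] at this
    · rw [hV, ← herm_act_left, C.v_inv_e (by omega), herm_add_left, Φ.ee, Φ.ee, add_zero]
  · refine mul_ne_zero (pow_ne_zero _ (neg_ne_zero.2 one_ne_zero)) (pow_ne_zero _ ?_)
    exact mul_ne_zero (mul_ne_zero (fun h0 => C.μ_ne (by rw [h0, zero_pow_q hF]))
      (pow_ne_zero _ C.δ_ne)) C.δ_ne
  · rw [mul_pow ((-1 : F) ^ (m - 1)), pow_q_q hF, ← pow_mul (-1 : F) (m - 1) q, mul_comm (m - 1) q,
      pow_mul, neg_pow_q hF, one_pow]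
    have : ((-1 : F) ^ (m - 1)) * (-1) ^ (m - 1) = 1 := by rw [← mul_pow]; simp
    rw [mul_pow, mul_pow, pow_q_q hF]
    linear_combination (μ * μ ^ q * (δ ^ q * δ) ^ 2) * this

theorem fixed_mem (hF : Fintype.card F = q ^ 2) (C : AddSubgroup F) {T : F} (h1 : (1 : F) ∈ C)
    (hT : ∀ r ∈ C, r * T ∈ C) (hgen : ∀ y : F, y ^ q = y → y ≠ 0 → ∃ k : ℕ, T ^ k = y ^ 2)
    {r : F} (hr : r ^ q = r) : r ∈ C := by
  have hsq : ∀ y : F, y ^ q = y → y ^ 2 ∈ C := by
    intro y hy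
    rcases eq_or_ne y 0 with rfl | hy0
    · rw [zero_pow two_ne_zero]; exact C.zero_mem
    obtain ⟨k, hk⟩ := hgen y hy hy0
    rw [← hk]
    clear hk
    induction k with
    | zero => simpa using h1
    | succ k ih => rw [pow_succ]; exact hT _ ih
  by_cases h2 : (2 : F) = 0
  · haveI : CharP F 2 := CharTwo.of_one_ne_zero_of_two_eq_zero one_ne_zero h2
    obtain ⟨z, hz⟩ := FiniteField.isSquare_of_char_two (ringChar.eq F 2) r
    have hzq : z ^ q = z := by
      rw [hz, mul_pow] at hr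
      have : (z ^ q - z) * (z ^ q - z) = 0 := by linear_combination hr + (z * z - z ^ q * z) * h2
      exact sub_eq_zero.1 (mul_self_eq_zero.1 this)
    have := hsq z hzq
    rwa [sq, ← hz] at this
  · have h2q : (2 : F) ^ q = 2 := by
      rw [← one_add_one_eq_two, add_pow_q hF, one_pow]
    have ha : ((r + 1) / 2) ^ q = (r + 1) / 2 := by
      rw [div_pow, add_pow_q hF, hr, one_pow, h2q]
    have hb : ((r - 1) / 2) ^ q = (r - 1) / 2 := by
      rw [div_pow, sub_pow_q hF, hr, one_pow, h2q]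
    have := C.sub_mem (hsq _ ha) (hsq _ hb)
    have e : ((r + 1) / 2) ^ 2 - ((r - 1) / 2) ^ 2 = r := by field_simp; ring
    rwa [e] at this

theorem Ctx.first (C : Ctx hF Φ H μ δ ζ h) :
    Full H (Φ.e 0) ∧ ∀ x : F, Ei H (Φ.e 0) (x • Φ.e 1) 0 := by
  have hm := C.two_le
  set c := μ - μ ^ q with hcd
  have hc0 : c ≠ 0 := sub_ne_zero.2 (Ne.symm C.μ_ne)
  have hc : c + c ^ q = 0 := C.c_skew
  set b := Φ.e 0 + Φ.e 1 with hb
  obtain ⟨y, K, hy, hay, hyy, hby, hK0, hKN⟩ := C.plane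
  have hab : ⟪Φ.e 0, b⟫ = 0 := by rw [hb, herm_add_right hF, Φ.ee, Φ.ee, add_zero]
  have hbb : ⟪b, b⟫ = 0 := Lk_iso hF Φ (add_mem (e_mem Φ (show 0 < 2 by omega)) (e_mem Φ (show 1 < 2 by omega)))
    (add_mem (e_mem Φ (show 0 < 2 by omega)) (e_mem Φ (show 1 < 2 by omega)))
  have htb : Tv H b c := by
    have := C.tv_first.conj (H.inv_mem C.v_mem)
    rwa [C.v_inv_e (by omega)] at this
  set Y := yGroup hF H (Φ.e 0) (Φ.ee 0 0) with hY
  have hya : ⟪y, Φ.e 0⟫ = 0 := herm_skew_zero hF hay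
  have hba : ⟪b, Φ.e 0⟫ = 0 := herm_skew_zero hF hab
  have hyb : ⟪y, b⟫ = K ^ q := by rw [herm_conj hF, hby]
  obtain ⟨gb, hgb, hgba⟩ := htb
  obtain ⟨gy, hgy, hgya⟩ := hy
  have hgb0 : act gb (Φ.e 0) = Φ.e 0 := by rw [hgba, hab]; simp
  have hgy0 : act gy (Φ.e 0) = Φ.e 0 := by rw [hgya, hay]; simp
  -- two independent starting vectors
  have hμb : μ • b ∈ Y := by
    obtain ⟨hp, ν, hν⟩ := C.y_desc (m - 2) (by omega)
    rw [show m - 1 - (m - 2) = 1 by omega] at hν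
    have e : μ • b + (-μ) • Φ.e 0 = μ • Φ.e 1 := by rw [hb]; module
    rw [← e] at hν
    exact ⟨by rw [herm_smul_left, hba, mul_zero], _, hν.shift hF⟩
  have hcb : c • b ∈ Y := by
    have h1 : Tv H (b + (1 : F) • Φ.e 0) c := by
      have := Tv.conj (v := b) (c := c) ⟨gb, hgb, hgba⟩ C.u_mem
      rw [hb, act_add, uel_e0, uel_e hF Φ C.hμ (j := 0) (by omega)] at this
      rwa [hb, one_smul, add_assoc]
    have h2 := Ei.pair hF hc hbb hab h1 ⟨gb, hgb, hgba⟩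
    rw [one_pow, mul_one] at h2
    exact ⟨by rw [herm_smul_left, hba, mul_zero], _, h2⟩
  have hline : ∀ x : F, x • b ∈ Y → ∀ r : F, r ^ q = r → (r * x) • b ∈ Y := by
    intro x hx r hr
    let S : AddSubgroup F :=
      { carrier := {r | (r * x) • b ∈ Y}
        add_mem' := fun {r r'} h1 h2 => by
          show ((r + r') * x) • b ∈ Y
          rw [add_mul, add_smul]; exact Y.add_mem h1 h2
        zero_mem' := by
          show ((0 : F) * x) • b ∈ Y
          rw [zero_mul, zero_smul]; exact Y.zero_mem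
        neg_mem' := fun {r} h1 => by
          show (-r * x) • b ∈ Y
          rw [neg_mul, neg_smul]; exact Y.neg_mem h1 }
    refine fixed_mem hF S (show ((1 : F) * x) • b ∈ Y by rwa [one_mul]) (fun r hr => ?_) C.gen hr
    have hrb : (r * x) • b ∈ Y := hr
    have h1 := yGroup_conj hF (Φ.ee 0 0) (yGroup_conj hF (Φ.ee 0 0) hrb hgy (Φ.ee 0 0) hgy0) hgb
      (Φ.ee 0 0) hgb0
    have h2 := yGroup_conj hF (Φ.ee 0 0) (yGroup_conj hF (Φ.ee 0 0) hrb hgb (Φ.ee 0 0) hgb0) hgy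
      (Φ.ee 0 0) hgy0
    have e1 : act gy b = b + (c * K) • y := by rw [hgya, hby]
    have e2 : act gb b = b := by rw [hgba, hbb]; simp
    have e3 : act gb y = y + (c * K ^ q) • b := by rw [hgba, hyb]
    rw [act_smul, act_smul, e1, act_add, act_smul, e2, e3] at h1
    rw [act_smul, act_smul, e2, e1] at h2
    have h3 := Y.sub_mem h1 h2
    show (r * _ * x) • b ∈ Y
    convert h3 using 1
    rw [show (μ - μ ^ q) ^ 2 * (μ * μ ^ q) * (δ ^ q * δ) ^ 2 = c ^ 2 * (K * K ^ q) by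
      rw [hKN, hcd]; ring]
    module
  have hall : ∀ x : F, x • b ∈ Y := by
    intro x
    set r := -(x + x ^ q) with hr
    have hrq : r ^ q = r := by rw [hr, neg_pow_q hF, add_pow_q hF, pow_q_q hF]; ring
    set r' := (x - r * μ) / c with hr'
    have hr'q : r' ^ q = r' := by
      have hcq : c ^ q = -c := by linear_combination hc
      rw [hr', div_pow, sub_pow_q hF, mul_pow, hrq, hcq, div_neg, ← neg_div]
      congr 1
      have := C.hμ
      rw [hr]
      linear_combination -(x + x ^ q) * this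
    have h1 := Y.add_mem (hline μ hμb r hrq) (hline c hcb r' hr'q)
    rw [← add_smul, hr', div_mul_cancel₀ _ hc0] at h1
    rwa [add_sub_cancel] at h1
  have hally : ∀ x : F, x • y ∈ Y := by
    intro x
    set x' := x / (c * K) with hx'
    have h1 := yGroup_conj hF (Φ.ee 0 0) (hall x') hgy (Φ.ee 0 0) hgy0
    rw [act_smul, hgya, hby, smul_add, smul_smul, hx', div_mul_cancel₀ _ (mul_ne_zero hc0 hK0)] at h1
    have h2 := Y.sub_mem h1 (hall x')
    rwa [← hx', add_sub_cancel_left] at h2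
  have hfull : Full H (Φ.e 0) := by
    intro t ht
    obtain ⟨k, hk⟩ := exists_diff hF ht
    obtain ⟨p1, ν, hν⟩ := hall (k / K)
    obtain ⟨p2, ν', hν'⟩ := hally 1
    rw [one_smul] at p2 hν'
    have h1 := hν.mul hF (Φ.ee 0 0) p1 p2 hν'
    have h2 := hν'.mul hF (Φ.ee 0 0) p2 p1 hν
    rw [add_comm y] at h2
    have p3 : ⟪(k / K) • b + y, Φ.e 0⟫ = 0 := by rw [herm_add_left, p1, p2, add_zero]
    have h3 := h1.mul hF (Φ.ee 0 0) p3 (by rw [herm_neg_left, p3, neg_zero]) (h2.neg hF (Φ.ee 0 0) p3)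
    rw [add_neg_cancel] at h3
    have h4 := h3.tv hF
    convert h4 using 1
    rw [herm_neg_left, ← hk]
    simp only [herm_smul_left, herm_smul_right, show ⟪b, y⟫ = K from hby, hyb]
    rw [← mul_pow, div_mul_cancel₀ _ hK0]
    ring
  refine ⟨hfull, fun x => ?_⟩
  obtain ⟨p1, ν, hν⟩ := hall x
  have e : x • b = x • Φ.e 1 + x • Φ.e 0 := by rw [hb]; module
  rw [e] at hν
  refine (hν.shift hF).zero_param hF ?_ (Φ.ee 0 0) (by rw [herm_smul_left, Φ.ee, mul_zero])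
    (by rw [herm_smul_left, herm_smul_right, Φ.ee, mul_zero, mul_zero]) hfull
  intro h0
  have := Φ.fe 0 0
  rw [h0, if_pos ⟨rfl, by omega⟩, herm_zero_right hF] at this
  exact one_ne_zero this.symm

theorem Ctx.pair_all (C : Ctx hF Φ H μ δ ζ h) {a b : Fin n → F} (ha : a ∈ Lk Φ m)
    (hb : b ∈ Lk Φ m) : Ei H a b 0 := by
  have hm := C.two_le
  obtain ⟨hfull, h01⟩ := C.first
  set V := h * uel hF Φ C.hμ * h⁻¹ with hV
  have hsymm : ∀ i j, (∀ x : F, Ei H (Φ.e i) (x • Φ.e j) 0) → ∀ x : F, Ei H (Φ.e j) (x • Φ.e i) 0 := by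
    intro i j hij x
    -- from `(e i, -x^q • e j)` to `(e j, x • e i)`
    obtain ⟨g, hg, hga⟩ := hij (-(x ^ q))
    refine ⟨g, hg, fun y => ?_⟩
    rw [hga, herm_smul_right, herm_smul_right, neg_pow_q hF, pow_q_q hF]
    module
  suffices H' : ∀ k, 2 ≤ k → k ≤ m → ∀ i j, i < k → j < k → ∀ x : F, Ei H (Φ.e i) (x • Φ.e j) 0 from
    pair_span hF Φ le_rfl (H' m hm le_rfl) ha hb
  intro k hk
  induction k, hk using Nat.le_induction with
  | base =>
    intro _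
    have me : ∀ i, i < 2 → ∀ x : F, x • Φ.e i ∈ Lk Φ m := fun i hi x =>
      (Lk Φ m).smul_mem _ (e_mem Φ (by omega))
    have h00 : ∀ x : F, Ei H (Φ.e 0) (x • Φ.e 0) 0 := pair_of_full hF hfull
    have h10 := hsymm 0 1 h01
    have h11 : ∀ x : F, Ei H (Φ.e 1) (x • Φ.e 1) 0 := by
      intro x
      have he0 : Φ.e 0 ∈ Lk Φ m := e_mem Φ (by omega)
      have he1 : Φ.e 1 ∈ Lk Φ m := e_mem Φ (by omega)
      have h1 := (h00 x).conj (H.inv_mem C.v_mem)
      rw [act_smul, C.v_inv_e (show 0 + 1 < m by omega), smul_add] at h1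
      have h2 : Ei H (Φ.e 0) (x • Φ.e 0 + x • Φ.e 1) 0 :=
        pair_add_right hF Φ he0 (me 0 (by omega) x) (me 1 (by omega) x) (h00 x) (h01 x)
      have h3 := pair_sub_left hF Φ (add_mem he0 he1) he0
        (add_mem (me 0 (by omega) x) (me 1 (by omega) x)) h1 h2
      rw [add_sub_cancel_left] at h3
      have h4 := pair_sub_right hF Φ he1 (add_mem (me 0 (by omega) x) (me 1 (by omega) x))
        (me 0 (by omega) x) h3 (h10 x)
      rwa [add_sub_cancel_left] at h4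
    intro i j hi hj
    interval_cases i <;> interval_cases j
    · exact h00
    · exact h01
    · exact h10
    · exact h11
  | succ k hk ih =>
    intro hkm
    have IH := ih (by omega)
    obtain ⟨p, rfl⟩ : ∃ p, k = p + 1 := ⟨k - 1, by omega⟩
    have low : ∀ a b : Fin n → F, a ∈ Lk Φ (p + 1) → b ∈ Lk Φ (p + 1) → Ei H a b 0 := fun a b ha hb =>
      pair_span hF Φ (by omega) IH ha hb
    have up : ∀ a : Fin n → F, a ∈ Lk Φ (p + 1) → a ∈ Lk Φ m := fun a ha => Lk_mono Φ (by omega) ha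
    have me : ∀ i, i < m → ∀ x : F, x • Φ.e i ∈ Lk Φ m := fun i hi x =>
      (Lk Φ m).smul_mem _ (e_mem Φ hi)
    have hzz : ∀ i, i + 1 ≤ p + 1 → ∀ x : F,
        Ei H (Φ.e i + Φ.e (i + 1)) (x • (Φ.e p + Φ.e (p + 1))) 0 := by
      intro i hi x
      have h1 := (IH i p (by omega) (by omega) x).conj (H.inv_mem C.v_mem)
      rwa [act_smul, C.v_inv_e (by omega), C.v_inv_e (by omega)] at h1
    have hz : ∀ i, i + 1 ≤ p → ∀ x : F, Ei H (Φ.e i + Φ.e (i + 1)) (x • Φ.e (p + 1)) 0 := by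
      intro i hi x
      have h1 := hzz i (by omega) x
      rw [smul_add] at h1
      have h2 := low (Φ.e i + Φ.e (i + 1)) (x • Φ.e p)
        (add_mem (e_mem Φ (by omega)) (e_mem Φ (by omega))) (Submodule.smul_mem _ _ (e_mem Φ (by omega)))
      have h3 := pair_sub_right hF Φ (add_mem (e_mem Φ (by omega)) (e_mem Φ (by omega)))
        (add_mem (me p (by omega) x) (me (p + 1) (by omega) x)) (me p (by omega) x) h1 h2
      rwa [add_sub_cancel_left] at h3
    have h0 : ∀ x : F, Ei H (Φ.e 0) (x • Φ.e (p + 1)) 0 := by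
      intro x
      obtain ⟨r, rfl⟩ : ∃ r, p = r + 1 := ⟨p - 1, by omega⟩
      have h1 := (hzz 0 (by omega) x).conj C.u_mem
      rw [act_smul, act_add, act_add, uel_e0, uel_e hF Φ C.hμ (show 0 + 1 < m by omega),
        uel_e hF Φ C.hμ (show r + 1 < m by omega), uel_e hF Φ C.hμ (show r + 1 + 1 < m by omega)] at h1
      set a := Φ.e 0 + (Φ.e (0 + 1) + Φ.e 0) with ha
      have hal : a ∈ Lk Φ (r + 1 + 1) :=
        add_mem (e_mem Φ (by omega)) (add_mem (e_mem Φ (by omega)) (e_mem Φ (by omega)))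
      have e1 : x • (Φ.e (r + 1) + Φ.e r + (Φ.e (r + 1 + 1) + Φ.e (r + 1))) =
          x • (Φ.e (r + 1) + Φ.e (r + 1 + 1)) + x • (Φ.e r + Φ.e (r + 1)) := by module
      rw [e1] at h1
      have m1 : x • (Φ.e (r + 1) + Φ.e (r + 1 + 1)) ∈ Lk Φ m :=
        (Lk Φ m).smul_mem _ (add_mem (e_mem Φ (by omega)) (e_mem Φ (by omega)))
      have m2 : x • (Φ.e r + Φ.e (r + 1)) ∈ Lk Φ (r + 1 + 1) :=
        Submodule.smul_mem _ _ (add_mem (e_mem Φ (by omega)) (e_mem Φ (by omega)))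
      have h2 := pair_sub_right hF Φ (up _ hal) (add_mem m1 (up _ m2)) (up _ m2) h1 (low _ _ hal m2)
      rw [add_sub_cancel_right] at h2
      have h3 := pair_sub_left hF Φ (up _ hal)
        (add_mem (e_mem Φ (by omega)) (e_mem Φ (by omega))) m1 h2 (hzz 0 (by omega) x)
      rw [show a - (Φ.e 0 + Φ.e (0 + 1)) = Φ.e 0 by rw [ha]; abel, smul_add] at h3
      have h4 := pair_sub_right hF Φ (e_mem Φ (by omega))
        (add_mem (me (r + 1) (by omega) x) (me (r + 1 + 1) (by omega) x)) (me (r + 1) (by omega) x) h3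
        (low _ _ (e_mem Φ (by omega)) (Submodule.smul_mem _ _ (e_mem Φ (by omega))))
      rwa [add_sub_cancel_left] at h4
    have hlow : ∀ i, i ≤ p → ∀ x : F, Ei H (Φ.e i) (x • Φ.e (p + 1)) 0 := by
      intro i
      induction i with
      | zero => exact fun _ => h0
      | succ i ihi =>
        intro hi x
        have h1 := pair_sub_left hF Φ (add_mem (e_mem Φ (by omega)) (e_mem Φ (by omega)))
          (e_mem Φ (by omega)) (me (p + 1) (by omega) x) (hz i hi x) (ihi (by omega) x)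
        rwa [add_sub_cancel_left] at h1
    have htop : ∀ x : F, Ei H (Φ.e (p + 1)) (x • Φ.e (p + 1)) 0 := by
      intro x
      have h1 := hzz p le_rfl x
      rw [smul_add] at h1
      have ep : Φ.e p ∈ Lk Φ m := e_mem Φ (by omega)
      have eq1 : Φ.e (p + 1) ∈ Lk Φ m := e_mem Φ (by omega)
      have h2 := pair_sub_left hF Φ (add_mem ep eq1) ep
        (add_mem (me p (by omega) x) (me (p + 1) (by omega) x)) h1
        (pair_add_right hF Φ ep (me p (by omega) x) (me (p + 1) (by omega) x)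
          (IH p p (by omega) (by omega) x) (hlow p le_rfl x))
      rw [add_sub_cancel_left] at h2
      have h3 := pair_sub_right hF Φ eq1
        (add_mem (me p (by omega) x) (me (p + 1) (by omega) x)) (me p (by omega) x) h2
        (hsymm _ _ (hlow p le_rfl) x)
      rwa [add_sub_cancel_left] at h3
    intro i j hi hj
    rcases Nat.lt_or_ge i (p + 1) with hi' | hi' <;> rcases Nat.lt_or_ge j (p + 1) with hj' | hj'
    · exact IH i j hi' hj'
    · rw [show j = p + 1 by omega]; exact hlow i (by omega)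
    · rw [show i = p + 1 by omega]; exact hsymm _ _ (hlow j (by omega))
    · rw [show i = p + 1 by omega, show j = p + 1 by omega]; exact htop

theorem Ctx.full_L (C : Ctx hF Φ H μ δ ζ h) {v : Fin n → F} (hv : v ∈ Lk Φ m) : Full H v := by
  intro c hc
  obtain ⟨k, rfl⟩ := exists_diff hF hc
  exact pair_tv hF (C.pair_all hv ((Lk Φ m).smul_mem k hv))

theorem Ctx.preimage (C : Ctx hF Φ H μ δ ζ h) {l : Fin n → F} (hl : l ∈ Lk Φ (m - 1)) :
    ∃ l' ∈ Lk Φ (m - 1), act (uel hF Φ C.hμ) l' = l := by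
  have hgen : ∀ j, j < m - 1 → ∃ l' ∈ Lk Φ (m - 1), act (uel hF Φ C.hμ) l' = Φ.e j := by
    intro j
    induction j with
    | zero => exact fun h0 => ⟨Φ.e 0, e_mem Φ h0, uel_e0 hF Φ C.hμ⟩
    | succ j ih =>
      intro hj
      obtain ⟨l', hl', hl''⟩ := ih (by omega)
      refine ⟨Φ.e (j + 1) - l', sub_mem (e_mem Φ hj) hl', ?_⟩
      rw [act_sub, hl'', uel_e hF Φ C.hμ (by omega), add_sub_cancel_right]
  induction hl using Submodule.span_induction with
  | mem y hy => obtain ⟨j, hj, rfl⟩ := hy; exact hgen j hj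
  | zero => exact ⟨0, zero_mem _, act_zero _⟩
  | add y z _ _ h1 h2 =>
    obtain ⟨a, ha, ha'⟩ := h1
    obtain ⟨b, hb, hb'⟩ := h2
    exact ⟨a + b, add_mem ha hb, by rw [act_add, ha', hb']⟩
  | smul t y _ h1 =>
    obtain ⟨a, ha, ha'⟩ := h1
    exact ⟨t • a, Submodule.smul_mem _ t ha, by rw [act_smul, ha']⟩

theorem Ctx.shifts (C : Ctx hF Φ H μ δ ζ h) {l : Fin n → F} (hl : l ∈ Lk Φ (m - 1)) :
    (∀ x : F, ∃ ν, Ei H l (x • Φ.z) ν) ∧
      ∀ x : F, ∃ ν, Ei H (act (h * uel hF Φ C.hμ * h⁻¹)⁻¹ l) (x • Φ.z) ν := by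
  have hm := C.two_le
  have hup : ∀ {a}, a ∈ Lk Φ (m - 1) → a ∈ Lk Φ m := fun ha => Lk_mono Φ (by omega) ha
  set V := h * uel hF Φ C.hμ * h⁻¹ with hV
  set L := m - 1 with hL
  set κ := μ * δ ^ q * δ with hκ
  set ρ := δ ^ q * ζ with hρ
  have hκ0 : κ ≠ 0 := mul_ne_zero (mul_ne_zero (fun h0 => C.μ_ne (by rw [h0, zero_pow_q hF]))
    (pow_ne_zero _ C.δ_ne)) C.δ_ne
  set W := Φ.e L + ρ • Φ.z + κ • Φ.f L with hW
  have hVW : act V (Φ.e L) = W := vel_eL hF Φ C.hμ C.δ_ne C.he C.hf C.hz (by omega)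
  have hfullW : Full H W := hVW ▸ (C.full_L (e_mem Φ (show L < m by omega))).conj C.v_mem
  obtain ⟨c, hc0, hc⟩ := exists_skew hF
  obtain ⟨t, ht, hta⟩ := hfullW c hc
  have main : ∀ a, a ∈ Lk Φ L → ∀ ha : ⟪a, a⟫ = 0, ∀ x : F,
      x • (ρ • Φ.z + κ • Φ.f L) ∈ yGroup hF H a ha ∧ x • Φ.e L ∈ yGroup hF H a ha := by
    intro a ha haa x
    have he : ∀ x : F, x • Φ.e L ∈ yGroup hF H a haa := fun x =>
      ⟨Lk_iso hF Φ (Submodule.smul_mem _ _ (e_mem Φ (show L < m by omega))) ha, 0,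
        C.pair_all (hup ha) (Submodule.smul_mem _ _ (e_mem Φ (show L < m by omega)))⟩
    refine ⟨?_, he x⟩
    have hperp : ⟪a, W⟫ = 0 := Lk_perp Φ (fun i hi => by
      rw [hW, herm_add_right hF, herm_add_right hF, herm_smul_right, herm_smul_right, Φ.ee, Φ.ez,
        Φ.ef, if_neg (by omega)]; ring) ha
    have hta0 : act t a = a := by rw [hta, hperp]; simp
    have heW : ⟪Φ.e L, W⟫ = κ ^ q := by
      rw [hW, herm_add_right hF, herm_add_right hF, herm_smul_right, herm_smul_right, Φ.ee, Φ.ez,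
        Φ.ef, if_pos ⟨rfl, by omega⟩]
      ring
    set x' := x / (c * κ ^ q) with hx'
    have h1 := yGroup_conj hF haa (he x') ht haa hta0
    rw [act_smul, hta, heW, smul_add, smul_smul, hx',
      div_mul_cancel₀ _ (mul_ne_zero hc0 (pow_ne_zero _ hκ0))] at h1
    have h2 := sub_mem (sub_mem h1 (he x')) (he x)
    convert h2 using 1
    rw [hW]
    module
  have hzmem : ∀ ha : ⟪l, l⟫ = 0, ∀ x : F,
      x • Φ.z ∈ yGroup hF H l ha ∧ x • act V Φ.z ∈ yGroup hF H l ha := by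
    intro hll
    obtain ⟨l', hl', hul⟩ := C.preimage hl
    have hl'' : ⟪l', l'⟫ = 0 := Lk_iso hF Φ hl' hl'
    have hA : ∀ x : F, x • Φ.z ∈ yGroup hF H l hll := by
      intro x
      have h1 := yGroup_conj hF hl'' (main l' hl' hl'' (x / κ)).1 C.u_mem hll hul
      rw [act_smul, act_add, act_smul, act_smul, uel_z, uel_fL hF Φ C.hμ (by omega)] at h1
      have h2 := sub_mem h1 (main l hl hll (x / κ)).1
      have h3 := add_mem h2 (main l hl hll ((x / κ) * (ρ - κ * μ))).2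
      convert h3 using 1
      match_scalars <;> field_simp <;> ring
    intro x
    refine ⟨hA x, ?_⟩
    rw [hV, vel_z hF Φ C.hμ C.δ_ne C.he C.hf C.hz (by omega)]
    set x' := x * (ζ ^ q * δ) / κ with hx'
    have h1 := sub_mem (hA x) (sub_mem (main l hl hll x').1 (hA (x' * ρ)))
    convert h1 using 1
    rw [hx']
    match_scalars <;> field_simp <;> ring
  have hll : ⟪l, l⟫ = 0 := Lk_iso hF Φ hl hl
  refine ⟨fun x => ?_, fun x => ?_⟩
  · obtain ⟨-, ν, hν⟩ := (hzmem hll x).1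
    exact ⟨ν, hν⟩
  · obtain ⟨-, ν, hν⟩ := (hzmem hll x).2
    refine ⟨ν, ?_⟩
    have := hν.conj (H.inv_mem C.v_mem)
    rwa [act_smul, act_inv_act] at this

theorem Ctx.coset (C : Ctx hF Φ H μ δ ζ h) {x x' : Fin n → F} (hx : Full H x)
    (hxx : ⟪x, x⟫ = 0) (hx'x : ⟪x', x'⟫ = 0) (heq : ∀ j, j < m → ⟪x', Φ.e j⟫ = ⟪x, Φ.e j⟫)
    {j0 : ℕ} (hj0 : j0 < m) (hne : ⟪x, Φ.e j0⟫ ≠ 0) : Full H x' := by
  have hm := C.two_le
  obtain ⟨l0, hl0, hl0ne, hl0z⟩ : ∃ l0 ∈ Lk Φ m, ⟪x, l0⟫ ≠ 0 ∧ ∀ t : F, ∃ ν, Ei H l0 (t • Φ.z) ν := by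
    by_cases hlow : ∃ j, j < m - 1 ∧ ⟪x, Φ.e j⟫ ≠ 0
    · obtain ⟨j, hj, hjne⟩ := hlow
      exact ⟨Φ.e j, e_mem Φ (by omega), hjne, (C.shifts (e_mem Φ hj)).1⟩
    · push Not at hlow
      refine ⟨Φ.e (m - 2) + Φ.e (m - 1), add_mem (e_mem Φ (by omega)) (e_mem Φ (by omega)), ?_, ?_⟩
      · rw [herm_add_right hF, hlow _ (by omega), zero_add]
        intro h0
        rcases Nat.lt_or_ge j0 (m - 1) with h' | h'
        · exact hne (hlow _ h')
        · exact hne (by rwa [show j0 = m - 1 by omega])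
      · have h1 := (C.shifts (e_mem Φ (show m - 2 < m - 1 by omega))).2
        rwa [C.v_inv_e (show m - 2 + 1 < m by omega), show m - 2 + 1 = m - 1 by omega] at h1
  obtain ⟨ν, g, hg, hga⟩ := hl0z ((⟪x', Φ.z⟫ - ⟪x, Φ.z⟫) / ⟪x, l0⟫)
  set x1 := act g x with hx1
  have hx1full : Full H x1 := hx.conj hg
  have hx1x : ⟪x1, x1⟫ = 0 := by rw [hx1, herm_act, hxx]
  have hzl : ∀ j, ⟪Φ.z, Φ.e j⟫ = 0 := Φ.ze
  have hz1 : ⟪x1, Φ.z⟫ = ⟪x', Φ.z⟫ := by
    rw [hx1, hga]
    simp only [herm_add_left, herm_smul_left, Φ.zz, Lk_perp Φ (fun i _ => Φ.ez i) hl0, mul_zero,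
      mul_one, add_zero]
    rw [mul_comm ⟪x, l0⟫, div_mul_cancel₀ _ hl0ne, add_sub_cancel]
  have he1 : ∀ j, j < m → ⟪x1, Φ.e j⟫ = ⟪x', Φ.e j⟫ := by
    intro j hj
    rw [hx1, hga, heq j hj]
    simp only [herm_add_left, herm_smul_left, hzl, Lk_iso hF Φ hl0 (e_mem Φ hj), mul_zero, add_zero]
  set d := x' - x1 with hd
  have hdL : d ∈ Lk Φ m := by
    rw [Φ.expand d]
    refine add_mem (add_mem ?_ ?_) ?_
    · exact sum_mem fun j hj => Submodule.smul_mem _ _ (e_mem Φ (Finset.mem_range.1 hj))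
    · refine sum_mem fun j hj => ?_
      rw [hd, herm_sub_left, he1 j (Finset.mem_range.1 hj), sub_self, zero_smul]
      exact zero_mem _
    · rw [hd, herm_sub_left, hz1, sub_self, zero_smul]
      exact zero_mem _
  obtain ⟨a, haL, ha1⟩ : ∃ a ∈ Lk Φ m, ⟪x1, a⟫ = 1 := by
    have hne1 : ⟪x1, Φ.e j0⟫ ≠ 0 := by rw [he1 j0 hj0, heq j0 hj0]; exact hne
    refine ⟨(⟪x1, Φ.e j0⟫⁻¹) ^ q • Φ.e j0, Submodule.smul_mem _ _ (e_mem Φ hj0), ?_⟩
    rw [herm_smul_right, pow_q_q hF, inv_mul_cancel₀ hne1]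
  have hs : ⟪x1, d⟫ + ⟪x1, d⟫ ^ q = 0 := by
    have : x' = x1 + d := by rw [hd]; abel
    rw [this] at hx'x
    rw [herm_add_left, herm_add_right hF, herm_add_right hF, hx1x, Lk_iso hF Φ hdL hdL,
      ← herm_conj hF] at *
    linear_combination hx'x
  obtain ⟨k, hk⟩ := exists_diff hF hs
  obtain ⟨g2, hg2, hg2a⟩ := C.pair_all haL (add_mem hdL ((Lk Φ m).smul_mem k haL))
  have : act g2 x1 = x' := by
    rw [hg2a, ha1, herm_add_right hF, herm_smul_right, ha1, hd]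
    have hk' : k ^ q = k - ⟪x1, x' - x1⟫ := by rw [← hd]; linear_combination -hk
    rw [hk']
    module
  exact this ▸ hx1full.conj hg2

theorem Ctx.top (C : Ctx hF Φ H μ δ ζ h) (hn : n = 2 * m + 1) : H = ⊤ := by
  have hm := C.two_le
  let Lf : Submodule F (Fin n → F) := Submodule.span F (Φ.f '' {i | i < m})
  have hff : ∀ a ∈ Lf, ∀ b ∈ Lf, ⟪a, b⟫ = 0 := by
    intro a ha b hb
    have hb' : ∀ i, ⟪Φ.f i, b⟫ = 0 := by
      intro i
      refine herm_skew_zero hF ?_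
      induction hb using Submodule.span_induction with
      | mem y hy => obtain ⟨j, -, rfl⟩ := hy; exact Φ.ff _ _
      | zero => exact herm_zero_left _
      | add y z _ _ h1 h2 => rw [herm_add_left, h1, h2, add_zero]
      | smul t y _ h1 => rw [herm_smul_left, h1, mul_zero]
    induction ha using Submodule.span_induction with
    | mem y hy => obtain ⟨j, -, rfl⟩ := hy; exact hb' _
    | zero => exact herm_zero_left _
    | add y z _ _ h1 h2 => rw [herm_add_left, h1, h2, add_zero]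
    | smul t y _ h1 => rw [herm_smul_left, h1, mul_zero]
  have hfz : ∀ a ∈ Lf, ⟪a, Φ.z⟫ = 0 := by
    intro a ha
    induction ha using Submodule.span_induction with
    | mem y hy => obtain ⟨j, -, rfl⟩ := hy; exact Φ.fz _
    | zero => exact herm_zero_left _
    | add y z _ _ h1 h2 => rw [herm_add_left, h1, h2, add_zero]
    | smul t y _ h1 => rw [herm_smul_left, h1, mul_zero]
  have hcoord : ∀ a ∈ Lf, (∀ j, j < m → ⟪a, Φ.e j⟫ = 0) → a = 0 := by
    intro a ha h0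
    rw [Φ.expand a, hfz a ha, zero_smul, add_zero, Finset.sum_eq_zero, Finset.sum_eq_zero, add_zero]
    · intro j hj; rw [h0 j (Finset.mem_range.1 hj), zero_smul]
    · intro j hj
      rw [hff a ha _ (Submodule.subset_span ⟨j, Finset.mem_range.1 hj, rfl⟩), zero_smul]
  let M : Submodule F (Fin n → F) :=
    { carrier := {y | y ∈ Lf ∧ Full H y}
      zero_mem' := ⟨zero_mem _, C.full_L (zero_mem _)⟩
      smul_mem' := fun t y ⟨h1, h2⟩ => ⟨Submodule.smul_mem _ t h1, h2.smul hF t⟩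
      add_mem' := by
        rintro y y' ⟨hy, hyF⟩ ⟨hy', hy'F⟩
        refine ⟨add_mem hy hy', ?_⟩
        by_cases hy'0 : y' = 0
        · rwa [hy'0, add_zero]
        obtain ⟨i, hi, hine⟩ : ∃ i, i < m ∧ ⟪y', Φ.e i⟫ ≠ 0 := by
          by_contra hcon
          push Not at hcon
          exact hy'0 (hcoord y' hy' hcon)
        set α := ⟪y, Φ.e i⟫ / ⟪y', Φ.e i⟫ with hα
        by_cases hdep : y - α • y' = 0
        · rw [show y + y' = (α + 1) • y' by rw [sub_eq_zero.1 hdep]; module]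
          exact hy'F.smul hF _
        obtain ⟨j, hj, hjne⟩ : ∃ j, j < m ∧ ⟪y - α • y', Φ.e j⟫ ≠ 0 := by
          by_contra hcon
          push Not at hcon
          exact hdep (hcoord _ (sub_mem hy (Submodule.smul_mem _ _ hy')) hcon)
        by_cases hsum : y + y' = 0
        · rw [hsum]; exact C.full_L (zero_mem _)
        obtain ⟨j1, hj1, hj1ne⟩ : ∃ j, j < m ∧ ⟪y + y', Φ.e j⟫ ≠ 0 := by
          by_contra hcon
          push Not at hcon
          exact hsum (hcoord _ (add_mem hy hy') hcon)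
        obtain ⟨c, hc0, hc⟩ := exists_skew hF
        -- adjust the second vector
        set a := (c⁻¹ / ⟪y - α • y', Φ.e j⟫) ^ q with ha
        set b := (-((a ^ q) * ⟪y', Φ.e j⟫) / ⟪y', Φ.e i⟫) ^ q with hb
        set d := a • Φ.e j + b • Φ.e i with hd
        have hdL : d ∈ Lk Φ m := add_mem (Submodule.smul_mem _ _ (e_mem Φ hj))
          (Submodule.smul_mem _ _ (e_mem Φ hi))
        have hy'd : ⟪y', d⟫ = 0 := by
          rw [hd, herm_add_right hF, herm_smul_right, herm_smul_right, hb, ha, pow_q_q hF, pow_q_q hF,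
            div_mul_cancel₀ _ hine, add_neg_cancel]
        have hyd : ⟪y, d⟫ = c⁻¹ := by
          have h1 : ⟪y - α • y', d⟫ = c⁻¹ := by
            have hi0 : ⟪y - α • y', Φ.e i⟫ = 0 := by
              rw [herm_sub_left, herm_smul_left, hα, div_mul_cancel₀ _ hine, sub_self]
            rw [hd, herm_add_right hF, herm_smul_right, herm_smul_right, hi0, mul_zero, add_zero,
              ha, pow_q_q hF, div_mul_cancel₀ _ hjne]
          rwa [herm_sub_left, herm_smul_left, hy'd, mul_zero, sub_zero] at h1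
        have hx'iso : ⟪y' + d, y' + d⟫ = 0 := by
          rw [herm_add_left y' d, herm_add_right hF y' d y', herm_add_right hF y' d d, hff _ hy' _ hy',
            Lk_iso hF Φ hdL hdL, hy'd, herm_skew_zero hF hy'd, add_zero, add_zero]
        have hx'F : Full H (y' + d) := C.coset hy'F (hff _ hy' _ hy') hx'iso
          (fun j hj => by rw [herm_add_left, Lk_iso hF Φ hdL (e_mem Φ hj), add_zero]) hi hine
        obtain ⟨t, ht, hta⟩ := hx'F c hc
        have hsumF : Full H (y + y' + d) := by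
          have := hyF.conj ht
          rwa [hta, herm_add_right hF, hff _ hy _ hy', zero_add, hyd, mul_inv_cancel₀ hc0, one_smul,
            ← add_assoc] at this
        refine C.coset hsumF ?_ (hff _ (add_mem hy hy') _ (add_mem hy hy'))
          (fun j hj => by
            rw [herm_add_left (y + y') d, Lk_iso hF Φ hdL (e_mem Φ hj), add_zero]) hj1 ?_
        · have h1 : ⟪y + y' + d, y + y' + d⟫ = ⟪y + y', d⟫ + ⟪d, y + y'⟫ := by
            rw [herm_add_left (y + y') d, herm_add_right hF (y + y') d, herm_add_right hF (y + y') d,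
              hff _ (add_mem hy hy') _ (add_mem hy hy'), Lk_iso hF Φ hdL hdL]
            ring
          rw [h1, herm_conj hF (y + y') d, herm_add_left, hyd, hy'd, add_zero, inv_pow,
            show c ^ q = -c by linear_combination hc]
          field_simp
          ring
        · rw [herm_add_left (y + y') d, Lk_iso hF Φ hdL (e_mem Φ hj1), add_zero]
          exact hj1ne }
  have hlast : Φ.f (m - 1) ∈ M := by
    set V := h * uel hF Φ C.hμ * h⁻¹ with hV
    have hκ0 : μ * δ ^ q * δ ≠ 0 := mul_ne_zero (mul_ne_zero (fun h0 => C.μ_ne (by rw [h0, zero_pow_q hF]))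
      (pow_ne_zero _ C.δ_ne)) C.δ_ne
    have hVW := vel_eL hF Φ C.hμ C.δ_ne C.he C.hf C.hz (show 1 ≤ m by omega)
    have hmem : Φ.f (m - 1) ∈ Lf := Submodule.subset_span ⟨m - 1, by show m - 1 < m; omega, rfl⟩
    have h1 : Full H ((μ * δ ^ q * δ) • Φ.f (m - 1)) := by
      refine C.coset ((C.full_L (e_mem Φ (show m - 1 < m by omega))).conj C.v_mem)
        (by rw [herm_act, Φ.ee]) (by rw [herm_smul_left, herm_smul_right, Φ.ff, mul_zero, mul_zero])
        (fun j _ => ?_) (show m - 1 < m by omega) ?_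
      · rw [hVW, herm_add_left, herm_add_left, herm_smul_left, herm_smul_left, Φ.ee, Φ.ze]
        ring
      · rw [hVW, herm_add_left, herm_add_left, herm_smul_left, herm_smul_left, Φ.ee, Φ.ze, Φ.fe,
          if_pos ⟨rfl, by omega⟩]
        simpa using hκ0
    have h2 := h1.smul hF (μ * δ ^ q * δ)⁻¹
    rw [smul_smul, inv_mul_cancel₀ hκ0, one_smul] at h2
    exact ⟨hmem, h2⟩
  have hfM : ∀ d, d ≤ m - 1 → Φ.f (m - 1 - d) ∈ M := by
    intro d
    induction d with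
    | zero => exact fun _ => hlast
    | succ d ih =>
      intro hd
      set j := m - 1 - (d + 1) with hj
      have h0 := ih (by omega)
      rw [show m - 1 - d = j + 1 by omega] at h0
      have h1 : Φ.f (j + 1) + Φ.f j ∈ M := by
        refine ⟨add_mem h0.1 (Submodule.subset_span ⟨j, by show j < m; omega, rfl⟩), ?_⟩
        rw [← vel_f hF Φ C.hμ C.δ_ne C.he C.hf C.hz (show j + 1 < m by omega)]
        exact h0.2.conj C.v_mem
      have h2 := M.sub_mem h1 h0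
      rwa [add_sub_cancel_left] at h2
  have hMall : Lf ≤ M := by
    refine Submodule.span_le.2 ?_
    rintro _ ⟨i, hi, rfl⟩
    have hi : i < m := hi
    have := hfM (m - 1 - i) (by omega)
    rwa [show m - 1 - (m - 1 - i) = i by omega] at this
  have hiso : ∀ x, ⟪x, x⟫ = 0 → Full H x := by
    intro x hx
    set y := ∑ j ∈ Finset.range m, ⟪x, Φ.e j⟫ • Φ.f j with hy
    have hyL : y ∈ Lf := sum_mem fun j hj =>
      Submodule.smul_mem _ _ (Submodule.subset_span ⟨j, Finset.mem_range.1 hj, rfl⟩)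
    have hye : ∀ j, j < m → ⟪y, Φ.e j⟫ = ⟪x, Φ.e j⟫ := by
      intro j hj
      have : ⟪y, Φ.e j⟫ = ∑ i ∈ Finset.range m, ⟪⟪x, Φ.e i⟫ • Φ.f i, Φ.e j⟫ :=
        map_sum (hermL q (Φ.e j)) _ _
      rw [this, Finset.sum_eq_single j]
      · rw [herm_smul_left, Φ.fe, if_pos ⟨rfl, hj⟩, mul_one]
      · intro i _ hi; rw [herm_smul_left, Φ.fe, if_neg (fun e => hi e.1), mul_zero]
      · intro h0; exact absurd (Finset.mem_range.2 hj) h0
    by_cases h0 : ∃ j, j < m ∧ ⟪x, Φ.e j⟫ ≠ 0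
    · obtain ⟨j, hj, hjne⟩ := h0
      exact C.coset (hMall hyL).2 (hff _ hyL _ hyL) hx (fun i hi => (hye i hi).symm) hj
        (by rw [hye j hj]; exact hjne)
    · push Not at h0
      have hxL : x = (∑ j ∈ Finset.range m, ⟪x, Φ.f j⟫ • Φ.e j) + ⟪x, Φ.z⟫ • Φ.z := by
        conv_lhs => rw [Φ.expand x]
        rw [Finset.sum_eq_zero (s := Finset.range m)
          (f := fun j => ⟪x, Φ.e j⟫ • Φ.f j) (fun j hj => by rw [h0 j (Finset.mem_range.1 hj), zero_smul]),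
          add_zero]
      have hl : (∑ j ∈ Finset.range m, ⟪x, Φ.f j⟫ • Φ.e j) ∈ Lk Φ m :=
        sum_mem fun j hj => Submodule.smul_mem _ _ (e_mem Φ (Finset.mem_range.1 hj))
      have hN : ⟪x, Φ.z⟫ = 0 := by
        rw [hxL] at hx
        simp only [herm_add_left, herm_add_right hF, herm_smul_left, herm_smul_right,
          Lk_iso hF Φ hl hl, Lk_perp Φ (fun i _ => Φ.ez i) hl,
          herm_skew_zero hF (Lk_perp Φ (fun i _ => Φ.ez i) hl), Φ.zz, mul_zero, mul_one, zero_add,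
          add_zero] at hx
        rcases mul_eq_zero.1 hx with h' | h'
        · first
          | exact h'
          | exact (pow_eq_zero_iff (q_ne_zero hF)).1 h'
        · first
          | exact h'
          | exact (pow_eq_zero_iff (q_ne_zero hF)).1 h'
      rw [hN, zero_smul, add_zero] at hxL
      rw [hxL]
      exact C.full_L hl
  rw [← top_le_iff, ← tGroup_eq_top (n := n) hF (by omega) (by omega), tGroup,
    Subgroup.closure_le]
  rintro A ⟨v, c, hv, hA⟩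
  rcases eq_tv_or_one hF hv hA with rfl | ⟨hc, rfl, -⟩
  · exact H.one_mem
  · obtain ⟨g, hg, hga⟩ := hiso v hv c hc
    have : g = tv hF v c hv hc := su_ext fun x => by rw [hga, tv_act]
    exact this ▸ hg

/-! ### The parameters -/

theorem exists_scale (hF : Fintype.card F = q ^ 2) {κ : F} (hκ0 : κ ≠ 0) (hκ : κ ^ q = κ) :
    ∃ δ : F, δ ≠ 0 ∧ ∀ y : F, y ^ q = y → y ≠ 0 → ∃ k : ℕ, (κ * (δ ^ q * δ) ^ 2) ^ k = y ^ 2 := by
  classical
  obtain ⟨g, hg⟩ := IsCyclic.exists_generator (α := Fˣ)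
  set ξ : F := (g : F) ^ (q + 1) with hξ
  have hξ0 : ξ ≠ 0 := pow_ne_zero _ g.ne_zero
  have hrep : ∀ y : F, y ^ q = y → y ≠ 0 → ∃ k : ℕ, ξ ^ k = y := by
    intro y hy hy0
    obtain ⟨x, hx⟩ := exists_norm_eq hF hy
    have hx0 : x ≠ 0 := by rintro rfl; rw [zero_pow (Nat.succ_ne_zero q)] at hx; exact hy0 hx.symm
    obtain ⟨k, hk⟩ := mem_powers_iff_mem_zpowers.mpr (hg (Units.mk0 x hx0))
    refine ⟨k, ?_⟩
    have hk' : (g : F) ^ k = x := by simpa using congrArg Units.val hk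
    rw [hξ, ← pow_mul, mul_comm, pow_mul, hk', hx]
  obtain ⟨i, hi⟩ := hrep κ hκ hκ0
  have hξq : ξ ^ q = ξ := by
    have h1 : (g : F) ^ (q * q) = g := by rw [pow_mul, pow_q_q hF]
    rw [hξ, ← pow_mul, add_one_mul, pow_add, h1, pow_succ' (g : F) q, mul_comm]
  have mk : ∀ r : F, r ^ q = r → r ≠ 0 →
      (∀ y : F, y ^ q = y → y ≠ 0 → ∃ k : ℕ, (κ * r ^ 2) ^ k = y ^ 2) →
      ∃ δ : F, δ ≠ 0 ∧ ∀ y : F, y ^ q = y → y ≠ 0 → ∃ k : ℕ, (κ * (δ ^ q * δ) ^ 2) ^ k = y ^ 2 := by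
    intro r hr hr0 hr'
    obtain ⟨δ, hδ⟩ := exists_norm_eq hF hr
    have hδ0 : δ ≠ 0 := by rintro rfl; rw [zero_pow (Nat.succ_ne_zero q)] at hδ; exact hr0 hδ.symm
    exact ⟨δ, hδ0, by rw [← pow_succ, hδ]; exact hr'⟩
  have hfix : ∀ a : ℕ, (ξ ^ a)⁻¹ ^ q = (ξ ^ a)⁻¹ := fun a => by
    rw [inv_pow, ← pow_mul, mul_comm, pow_mul, hξq]
  rcases Nat.even_or_odd i with ⟨j, hj⟩ | ⟨j, hj⟩
  · refine mk (ξ * (ξ ^ j)⁻¹) (by rw [mul_pow, hξq, hfix]) (mul_ne_zero hξ0 (inv_ne_zero (pow_ne_zero _ hξ0)))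
      fun y hy hy0 => ?_
    obtain ⟨k, hk⟩ := hrep y hy hy0
    refine ⟨k, ?_⟩
    have : κ * (ξ * (ξ ^ j)⁻¹) ^ 2 = ξ ^ 2 := by
      rw [← hi, hj]
      field_simp
      ring
    rw [this, ← pow_mul, mul_comm, pow_mul, hk]
  · refine mk (ξ ^ j)⁻¹ (hfix j) (inv_ne_zero (pow_ne_zero _ hξ0)) fun y hy hy0 => ?_
    obtain ⟨k, hk⟩ := hrep y hy hy0
    refine ⟨k * 2, ?_⟩
    have : κ * ((ξ ^ j)⁻¹) ^ 2 = ξ := by
      rw [← hi, hj]
      field_simp
      ring
    rw [this, pow_mul, hk]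

theorem exists_mu_not_fixed (hF : Fintype.card F = q ^ 2) :
    ∃ μ : F, μ + μ ^ q + 1 = 0 ∧ μ ^ q ≠ μ := by
  obtain ⟨c, hc0, hc⟩ := exists_skew hF
  obtain ⟨μ, hμ⟩ := exists_trace hF (a := (-1 : F)) (by rw [neg_pow_q hF, one_pow])
  have hμ' : μ + μ ^ q + 1 = 0 := by linear_combination hμ
  by_cases h1 : μ ^ q = μ
  · refine ⟨μ + c, by rw [add_pow_q hF]; linear_combination hμ' + hc, fun h2 => ?_⟩
    rw [add_pow_q hF, h1, add_right_inj] at h2
    rw [h2] at hc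
    have h20 : (2 : F) = 0 := by
      have : c * 2 = 0 := by linear_combination hc
      exact (mul_eq_zero.1 this).resolve_left hc0
    rw [h1] at hμ'
    exact one_ne_zero (show (1 : F) = 0 by linear_combination hμ' - μ * h20)
  · exact ⟨μ, hμ', h1⟩

/-- `SU(2m+1, q)` for `m ≥ 2` is generated by three conjugate regular unipotent elements. -/
theorem main_odd (hF : Fintype.card F = q ^ 2) (hn : n = 2 * m + 1) (hm : 2 ≤ m) :
    ∃ u g h : SU n F q,
      (IsNilpotent (((u : Matrix.SpecialLinearGroup (Fin n) F) : Matrix (Fin n) (Fin n) F) - 1) ∧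
        (((u : Matrix.SpecialLinearGroup (Fin n) F) : Matrix (Fin n) (Fin n) F) - 1) ^ (n - 1) ≠ 0) ∧
      Subgroup.closure ({u, g * u * g⁻¹, h * u * h⁻¹} : Set (SU n F q)) = ⊤ := by
  obtain ⟨Φ⟩ := exists_frame hF hn
  obtain ⟨μ, hμ, hμne⟩ := exists_mu_not_fixed hF
  have hμ0 : μ ≠ 0 := fun h0 => hμne (by rw [h0, zero_pow_q hF])
  obtain ⟨δ, hδ, hgen⟩ := exists_scale hF (κ := (μ - μ ^ q) ^ 2 * (μ * μ ^ q))
    (mul_ne_zero (pow_ne_zero _ (sub_ne_zero.2 (Ne.symm hμne))) (mul_ne_zero hμ0 (pow_ne_zero _ hμ0)))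
    (by rw [mul_pow, mul_pow, ← pow_mul (μ - μ ^ q) 2 q, mul_comm 2 q, pow_mul, sub_pow_q hF,
      pow_q_q hF]; ring)
  obtain ⟨h, ζ, hζ, he, hf, hz⟩ := exists_hel hF Φ hδ
  set u := uel hF Φ hμ with hu
  have hν : (μ ^ q * μ * μ) + (μ ^ q * μ * μ) ^ q + ⟪μ • Φ.z, μ • Φ.z⟫ = 0 := by
    rw [herm_smul_left, herm_smul_right, Φ.zz, mul_pow, mul_pow, pow_q_q hF]
    linear_combination (μ * μ ^ q) * hμ
  let g := eich hF (Φ.e 0) (μ • Φ.z) (μ ^ q * μ * μ) (Φ.ee 0 0)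
    (by rw [herm_smul_left, Φ.ze, mul_zero]) hν
  refine ⟨u, g, h, uel_regular hF Φ hμ (by omega) hn, ?_⟩
  set H := Subgroup.closure ({u, g * u * g⁻¹, h * u * h⁻¹} : Set (SU n F q))
  have hu' : u ∈ H := Subgroup.subset_closure (by simp)
  have hg' : g * u * g⁻¹ ∈ H := Subgroup.subset_closure (by simp)
  refine Ctx.top (hF := hF) (Φ := Φ) (μ := μ) (δ := δ) (ζ := ζ) (h := h)
    ⟨hm, hμ, hμne, hδ, hζ, he, hf, hz, hu', Subgroup.subset_closure (by simp [hu]),
      ⟨g * u * g⁻¹ * u⁻¹, H.mul_mem hg' (H.inv_mem hu'), fun x => ?_⟩, hgen⟩ hn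
  obtain ⟨y, rfl⟩ : ∃ y, x = act (u * g * u⁻¹) y :=
    ⟨act (u * g * u⁻¹)⁻¹ x, (act_act_inv _ x).symm⟩
  rw [← act_mul, show g * u * g⁻¹ * u⁻¹ * (u * g * u⁻¹) = g by group, eich_act]
  have hy : act (u * g * u⁻¹) y = y + ⟪y, Φ.e 0⟫ • (μ • (Φ.z - Φ.e (m - 1))) +
      (μ ^ q * μ * μ * ⟪y, Φ.e 0⟫ - ⟪y, μ • (Φ.z - Φ.e (m - 1))⟫) • Φ.e 0 := by
    rw [conj_act, eich_act, herm_act_left, herm_act_left, act_add, act_add, act_act_inv, act_smul,
      act_smul, act_smul, hu, uel_e0, uel_z]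
  rw [hy]
  have hee : ∀ i j, ⟪Φ.e i, Φ.e j⟫ = 0 := Φ.ee
  simp only [herm_add_left, herm_sub_left, herm_smul_left, herm_smul_right, herm_sub_right hF, hee,
    Φ.ze, Φ.zz, Φ.ez, mul_zero, sub_zero, add_zero, zero_sub]
  module

end Cfsg.Agent.UnitaryThreeRegular87
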