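import Mathlib
import Cfsg.Agent.Lib.UnitaryThreeMain87

/-!
`SU(3, q)`, `q ≥ 3`, is generated by two conjugate regular unipotent elements: the reduction to one
element of the stabiliser of an isotropic line, and the generic case `q ≠ 5, 8`.
-/

set_option autoImplicit false
set_option maxHeartbeats 1000000
set_option linter.unusedSectionVars false

open Matrix Cfsg

namespace Cfsg.Agent.UnitarySU3TwoGen87

open Cfsg.Agent.OrthUnitaryHerm Cfsg.Agent.OrthUnitaryTransvection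
open Cfsg.Agent.UnitaryThreeRegular87

variable {F : Type*} [Field F] [Fintype F] {q : ℕ}

local notation "⟪" u ", " v "⟫" => hermForm 3 F q u v

/-- An additive subgroup with `1` closed under multiplication by `χ` is everything. -/
def GenProp (χ : F) : Prop :=
  ∀ C : AddSubgroup F, (1 : F) ∈ C → (∀ a ∈ C, χ * a ∈ C) → ∀ z : F, z ∈ C

theorem genProp_of_fixed (hF : Fintype.card F = q ^ 2) {χ : F}
    (h : ∀ r d : ℕ, r ^ d = q ^ 2 → 2 ≤ d → 2 ≤ r → χ ^ r ≠ χ) : GenProp χ := by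
  intro C h1 hχ z
  classical
  let R : Subring F :=
    { carrier := {a | ∀ c ∈ C, a * c ∈ C}
      mul_mem' := fun {a b} ha hb c hc => by rw [mul_assoc]; exact ha _ (hb c hc)
      one_mem' := fun c hc => by rwa [one_mul]
      add_mem' := fun {a b} ha hb c hc => by rw [add_mul]; exact C.add_mem (ha c hc) (hb c hc)
      zero_mem' := fun c _ => by rw [zero_mul]; exact C.zero_mem
      neg_mem' := fun {a} ha c hc => by rw [neg_mul]; exact C.neg_mem (ha c hc) }
  have hinv : ∀ a ∈ R, a⁻¹ ∈ R := by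
    intro a ha
    rcases eq_or_ne a 0 with rfl | ha0
    · rw [_root_.inv_zero]; exact R.zero_mem
    have h2 : a ^ (Fintype.card F - 2) = a⁻¹ := by
      have h3 := FiniteField.pow_card_sub_one_eq_one a ha0
      refine eq_inv_of_mul_eq_one_left ?_
      rw [← pow_succ, show Fintype.card F - 2 + 1 = Fintype.card F - 1 by
        have := Fintype.one_lt_card (α := F); omega, h3]
    rw [← h2]
    exact R.pow_mem ha _
  let K : Subfield F := { R with inv_mem' := hinv }
  have hχK : χ ∈ K := hχ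
  by_cases hK : K = ⊤
  · have hz : z ∈ K := hK ▸ Subfield.mem_top z
    simpa using hz 1 h1
  exfalso
  haveI : Fintype K := Fintype.ofFinite K
  have hcard := Module.card_eq_pow_finrank (K := K) (V := F)
  rw [hF] at hcard
  have hd : 2 ≤ Module.finrank K F := by
    by_contra hlt
    have hpos := Module.finrank_pos (R := K) (M := F)
    have h1 : Module.finrank K F = 1 := by omega
    apply hK
    rw [eq_top_iff]
    intro x _
    obtain ⟨v, hv0, hv⟩ := finrank_eq_one_iff'.1 h1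
    obtain ⟨c, hc⟩ := hv x
    obtain ⟨c1, hc1⟩ := hv 1
    have hc10 : (c1 : F) * v = 1 := hc1
    have hv' : v = (c1 : F)⁻¹ := eq_inv_of_mul_eq_one_right hc10
    rw [← show (c : F) * v = x from hc, hv']
    exact K.mul_mem c.2 (K.inv_mem c1.2)
  refine h _ _ hcard.symm hd Fintype.one_lt_card ?_
  have := FiniteField.pow_card (⟨χ, hχK⟩ : K)
  exact congrArg Subtype.val this

/-! ### The reduction -/

variable (hF : Fintype.card F = q ^ 2) (Φ : Fr q 3 1 F)

theorem expand3 (x : Fin 3 → F) :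
    x = ⟪x, Φ.f 0⟫ • Φ.e 0 + ⟪x, Φ.e 0⟫ • Φ.f 0 + ⟪x, Φ.z⟫ • Φ.z := by
  conv_lhs => rw [Φ.expand x]
  simp

/-- The vector with given coordinates. -/
def vec (a b c : F) : Fin 3 → F := a • Φ.e 0 + b • Φ.z + c • Φ.f 0

/-- The first element. -/
structure IsU1 (μ : F) (u : SU 3 F q) : Prop where
  eq : ∀ x, act u x = x + ⟪x, Φ.e 0⟫ • Φ.z + (μ * ⟪x, Φ.e 0⟫ - ⟪x, Φ.z⟫) • Φ.e 0

/-- The second element. -/
structure IsV1 (b ν : F) (v : SU 3 F q) : Prop where
  eq : ∀ x, act v x = x + (b * ⟪x, Φ.f 0⟫) • Φ.z + (ν * ⟪x, Φ.f 0⟫ - b ^ q * ⟪x, Φ.z⟫) • Φ.f 0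

theorem coord_e (a b c : F) : ⟪vec Φ a b c, Φ.e 0⟫ = c := by
  simp [vec, herm_add_left, herm_smul_left, Φ.ee, Φ.ze, Φ.fe]

theorem coord_f (a b c : F) : ⟪vec Φ a b c, Φ.f 0⟫ = a := by
  simp [vec, herm_add_left, herm_smul_left, Φ.ef, Φ.zf, Φ.ff]

theorem coord_z (a b c : F) : ⟪vec Φ a b c, Φ.z⟫ = b := by
  simp [vec, herm_add_left, herm_smul_left, Φ.ez, Φ.zz, Φ.fz]

variable {Φ}

theorem IsU1.step {μ : F} {u : SU 3 F q} (hu : IsU1 Φ μ u) {a b c a' b' c' : F}
    (h1 : a - b + μ * c = a') (h2 : b + c = b') (h3 : c = c') :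
    act u (vec Φ a b c) = vec Φ a' b' c' := by
  rw [hu.eq, coord_e, coord_z, ← h1, ← h2, ← h3, vec, vec]
  module

theorem IsV1.step {b0 ν : F} {v : SU 3 F q} (hv : IsV1 Φ b0 ν v) {a b c a' b' c' : F}
    (h1 : a = a') (h2 : b + b0 * a = b') (h3 : c - b0 ^ q * b + ν * a = c') :
    act v (vec Φ a b c) = vec Φ a' b' c' := by
  rw [hv.eq, coord_f, coord_z, ← h1, ← h2, ← h3, vec, vec]
  module

variable {hF}

/-- Everything follows from one element of the line stabiliser with a generating character. -/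
theorem top_of_word (hF : Fintype.card F = q ^ 2) (hq : 3 ≤ q) {H : Subgroup (SU 3 F q)}
    {μ b ν : F} {u v : SU 3 F q} (hu : IsU1 Φ μ u) (hv : IsV1 Φ b ν v) (huH : u ∈ H) (hvH : v ∈ H)
    (hν : ν ≠ 0) {t : SU 3 F q} (htH : t ∈ H) {l k ζ : F} (hl : l ≠ 0)
    (hte : act t (vec Φ 1 0 0) = vec Φ l 0 0) (htz : act t (vec Φ 0 1 0) = vec Φ k ζ 0)
    (hgen : GenProp (l ^ q * ζ)) : H = ⊤ := by
  classical
  have he : vec Φ 1 0 0 = Φ.e 0 := by simp [vec]
  have hz : vec Φ 0 1 0 = Φ.z := by simp [vec]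
  rw [he] at hte
  rw [hz] at htz
  have hte' : act t (Φ.e 0) = l • Φ.e 0 := by rw [hte]; simp [vec]
  have htz' : act t Φ.z = ζ • Φ.z + k • Φ.e 0 := by rw [htz]; simp [vec]; abel
  set Y := yGroup hF H (Φ.e 0) (Φ.ee 0 0)
  let C : AddSubgroup F :=
    { carrier := {a | a • Φ.z ∈ Y}
      add_mem' := fun {a a'} h1 h2 => by
        show (a + a') • Φ.z ∈ Y
        rw [add_smul]; exact Y.add_mem h1 h2
      zero_mem' := by
        show (0 : F) • Φ.z ∈ Y
        rw [zero_smul]; exact Y.zero_mem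
      neg_mem' := fun {a} h1 => by
        show (-a) • Φ.z ∈ Y
        rw [neg_smul]; exact Y.neg_mem h1 }
  have h1C : (1 : F) ∈ C := by
    refine ⟨by rw [one_smul, Φ.ze], μ, u, huH, fun x => ?_⟩
    rw [hu.eq, one_smul]
  have hχC : ∀ a ∈ C, l ^ q * ζ * a ∈ C := by
    rintro a ⟨-, ν0, hν0⟩
    have h1 := hν0.conj htH
    rw [hte', act_smul, htz', smul_add, smul_smul, smul_smul] at h1
    have e1 : (a * k) • Φ.e 0 = (a * k / l) • (l • Φ.e 0) := by
      rw [smul_smul, div_mul_cancel₀ _ hl]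
    rw [e1] at h1
    obtain ⟨g, hg, hga⟩ := h1.shift hF
    refine ⟨by rw [herm_smul_left, Φ.ze, mul_zero],
      (ν0 + (a * k / l - (a * k / l) ^ q)) * (l * l ^ q), g, hg, fun x => ?_⟩
    rw [hga]
    simp only [herm_smul_right, mul_pow, pow_q_q hF]
    module
  have hY : ∀ a : F, a • Φ.z ∈ Y := hgen C h1C hχC
  have hfull : Full H (Φ.e 0) := by
    intro c hc
    obtain ⟨k', hk'⟩ := exists_diff hF hc
    obtain ⟨p1, ν1, hν1⟩ := hY k'
    obtain ⟨p2, ν2, hν2⟩ := hY 1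
    have h1 := hν1.mul hF (Φ.ee 0 0) p1 p2 hν2
    have h2 := hν2.mul hF (Φ.ee 0 0) p2 p1 hν1
    rw [add_comm ((1 : F) • Φ.z)] at h2
    have p3 : ⟪k' • Φ.z + (1 : F) • Φ.z, Φ.e 0⟫ = 0 := by rw [herm_add_left, p1, p2, add_zero]
    have h3 := h1.mul hF (Φ.ee 0 0) p3 (by rw [herm_neg_left, p3, neg_zero])
      (h2.neg hF (Φ.ee 0 0) p3)
    rw [add_neg_cancel] at h3
    have h4 := h3.tv hF
    convert h4 using 1
    rw [herm_neg_left, ← hk']
    simp only [herm_smul_left, herm_smul_right, Φ.zz, one_pow]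
    ring
  have he0 : Φ.e 0 ≠ 0 := by
    intro h0
    have := Φ.fe 0 0
    rw [h0, if_pos ⟨rfl, by omega⟩, herm_zero_right hF] at this
    exact one_ne_zero this.symm
  set P := act v (Φ.e 0) with hP
  have hPe : ⟪P, Φ.e 0⟫ = ν := by
    rw [hP, hv.eq]
    simp [herm_add_left, herm_smul_left, Φ.ee, Φ.ez, Φ.ef, Φ.ze, Φ.fe]
  have hPP : ⟪P, P⟫ = 0 := by rw [hP, herm_act, Φ.ee]
  have hPfull : Full H P := hfull.conj hvH
  have hiso : ∀ x, ⟪x, x⟫ = 0 → Full H x := by
    intro x hx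
    by_cases hs : ⟪x, Φ.e 0⟫ = 0
    · have hx' : x = ⟪x, Φ.f 0⟫ • Φ.e 0 + ⟪x, Φ.z⟫ • Φ.z := by
        conv_lhs => rw [expand3 Φ x, hs, zero_smul, add_zero]
      have hz0 : ⟪x, Φ.z⟫ = 0 := by
        rw [hx'] at hx
        simp only [herm_add_left, herm_add_right hF, herm_smul_left, herm_smul_right, Φ.ee, Φ.ez,
          Φ.ze, Φ.zz, mul_zero, mul_one, zero_add, add_zero] at hx
        rcases mul_eq_zero.1 hx with h' | h'
        · first
          | exact h'
          | exact (pow_eq_zero_iff (q_ne_zero hF)).1 h'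
        · first
          | exact h'
          | exact (pow_eq_zero_iff (q_ne_zero hF)).1 h'
      rw [hz0, zero_smul, add_zero] at hx'
      rw [hx']
      exact hfull.smul hF _
    · set s := ⟪x, Φ.e 0⟫ with hsd
      set x' := (ν / s) • x with hx'
      have hx'e : ⟪x', Φ.e 0⟫ = ν := by rw [hx', herm_smul_left, ← hsd, div_mul_cancel₀ _ hs]
      have hx'x : ⟪x', x'⟫ = 0 := by rw [hx', herm_smul_left, herm_smul_right, hx]; ring
      obtain ⟨-, ν1, g, hg, hga⟩ := hY ((⟪x', Φ.z⟫ - ⟪P, Φ.z⟫) / ν)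
      set P1 := act g P with hP1
      have hP1e : ⟪P1, Φ.e 0⟫ = ν := by
        rw [hP1, hga]
        simp [herm_add_left, herm_smul_left, Φ.ee, Φ.ze, hPe]
      have hP1z : ⟪P1, Φ.z⟫ = ⟪x', Φ.z⟫ := by
        rw [hP1, hga]
        simp only [herm_add_left, herm_smul_left, Φ.zz, Φ.ez, hPe, mul_zero, mul_one, add_zero]
        rw [mul_div_cancel₀ _ hν, add_sub_cancel]
      have hP1P : ⟪P1, P1⟫ = 0 := by rw [hP1, herm_act, hPP]
      set d := ⟪x' - P1, Φ.f 0⟫ with hd
      have hxP : x' = P1 + d • Φ.e 0 := by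
        have := expand3 Φ (x' - P1)
        rw [herm_sub_left x' P1 (Φ.e 0), herm_sub_left x' P1 Φ.z, hx'e, hP1e, hP1z, sub_self,
          sub_self, zero_smul, zero_smul, add_zero, add_zero, ← hd] at this
        rw [← this]; abel
      have hd0 : d ^ q * ν + d * ν ^ q = 0 := by
        rw [hxP, herm_add_left, herm_add_right hF, herm_add_right hF, herm_smul_left,
          herm_smul_right, herm_smul_left, herm_smul_right, hP1P, Φ.ee, hP1e] at hx'x
        rw [herm_conj hF P1 (Φ.e 0), hP1e] at hx'x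
        linear_combination hx'x
      have hskew : d / ν + (d / ν) ^ q = 0 := by
        rw [div_pow]
        have := pow_ne_zero q hν
        field_simp
        linear_combination hd0
      obtain ⟨g2, hg2, hg2a⟩ := hfull (d / ν) hskew
      have hx'full : Full H x' := by
        have : act g2 P1 = x' := by rw [hg2a, hP1e, div_mul_cancel₀ _ hν, hxP]
        exact this ▸ (hPfull.conj hg).conj hg2
      have := hx'full.smul hF (s / ν)
      rwa [hx', smul_smul, show s / ν * (ν / s) = 1 by field_simp, one_smul] at this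
  rw [← top_le_iff, ← tGroup_eq_top (n := 3) hF (by omega) (by omega), tGroup, Subgroup.closure_le]
  rintro A ⟨w, c, hw, hA⟩
  rcases eq_tv_or_one hF hw hA with rfl | ⟨hc, rfl, -⟩
  · exact H.one_mem
  · obtain ⟨g, hg, hga⟩ := hiso w hw c hc
    have : g = tv hF w c hw hc := su_ext fun x => by rw [hga, tv_act]
    exact this ▸ hg

/-! ### The two elements are conjugate -/

theorem exists_swap (hF : Fintype.card F = q ^ 2) (Φ : Fr q 3 1 F) {b : F} (hb0 : b ≠ 0)
    (hb : b ^ q = b ∨ b ^ q = -b) :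
    ∃ (h : SU 3 F q) (ζ : F), act h (Φ.e 0) = (-b) • Φ.f 0 ∧ act h Φ.z = ζ • Φ.z ∧
      (-b) ^ q * ζ = b := by
  rcases hb with hb | hb
  · set w := Φ.e 0 + (-b) • Φ.f 0 with hw
    set c := 1 / b with hc
    have hww : ⟪w, w⟫ = -2 * b := by
      rw [hw, herm_add_left, herm_add_right hF, herm_add_right hF, herm_smul_left, herm_smul_right,
        herm_smul_left, herm_smul_right, Φ.ee, Φ.ff, Φ.fe, Φ.ef, if_pos ⟨rfl, Nat.one_pos⟩,
        neg_pow_q hF, hb]
      ring
    have hcq : c ^ q = c := by rw [hc, div_pow, one_pow, hb]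
    have hU : IsU q (unitaryTransvection 3 q w c) := by
      refine isU_transvection hF ?_
      rw [hww, hcq, hc]
      field_simp
      ring
    have hnU : IsU q (-(unitaryTransvection 3 q w c)) := by
      intro x y
      rw [Matrix.neg_mulVec, Matrix.neg_mulVec, herm_neg_left, herm_neg_right hF, neg_neg]
      exact hU x y
    let h : SU 3 F q := mkSU (-(unitaryTransvection 3 q w c)) (by
      rw [Matrix.det_neg, det_transvection hF, hww, hc]
      simp only [Fintype.card_fin]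
      field_simp
      ring) hnU
    have hact : ∀ x, act h x = -(x + (c * ⟪x, w⟫) • w) := fun x => by
      show (-(unitaryTransvection 3 q w c)) *ᵥ x = _
      rw [Matrix.neg_mulVec, transvection_mulVec]
    refine ⟨h, -1, ?_, ?_, ?_⟩
    · rw [hact]
      have : ⟪Φ.e 0, w⟫ = -b := by
        rw [hw, herm_add_right hF, herm_smul_right, Φ.ee, Φ.ef, if_pos ⟨rfl, Nat.one_pos⟩,
          neg_pow_q hF, hb]
        ring
      rw [this, hc, hw]
      match_scalars <;> field_simp <;> ring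
    · rw [hact]
      have : ⟪Φ.z, w⟫ = 0 := by
        rw [hw, herm_add_right hF, herm_smul_right, Φ.ze, Φ.zf]; ring
      rw [this]
      module
    · rw [neg_pow_q hF, hb]; ring
  · have hbs : -b + (-b) ^ q = 0 := by rw [neg_pow_q hF, hb]; ring
    have hks : 1 / b + (1 / b) ^ q = 0 := by rw [div_pow, one_pow, hb]; field_simp; ring
    let T1 : SU 3 F q := tv hF (Φ.e 0) (1 / b) (Φ.ee 0 0) hks
    let T2 : SU 3 F q := tv hF (Φ.f 0) (-b) (Φ.ff 0 0) hbs
    refine ⟨T1 * T2 * T1, 1, ?_, ?_, ?_⟩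
    · rw [act_mul, act_mul]
      simp only [T1, T2, tv_act, herm_add_left, herm_smul_left, Φ.ee, Φ.ef, Φ.fe,
        Nat.one_pos, and_self, if_true, mul_zero, zero_smul, add_zero,
        mul_one, zero_add]
      match_scalars <;> field_simp <;> ring
    · rw [act_mul, act_mul]
      simp [T1, T2, tv_act, Φ.ze, Φ.zf]
    · rw [neg_pow_q hF, hb]; ring

/-- The two generators exist and are conjugate. -/
theorem exists_pair (hF : Fintype.card F = q ^ 2) (Φ : Fr q 3 1 F) {μ b ν : F}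
    (hμ : μ + μ ^ q + 1 = 0) (hb0 : b ≠ 0) (hb : b ^ q = b ∨ b ^ q = -b)
    (hν : ν + ν ^ q + b * b ^ q = 0) :
    ∃ u g : SU 3 F q,
      (IsNilpotent ((u : Matrix.SpecialLinearGroup (Fin 3) F).1 - 1) ∧
        ((u : Matrix.SpecialLinearGroup (Fin 3) F).1 - 1) ^ (3 - 1) ≠ 0) ∧
      IsU1 Φ μ u ∧ IsV1 Φ b ν (g * u * g⁻¹) := by
  set u := uel hF Φ hμ with hu
  have hue : ∀ x, act u x = x + ⟪x, Φ.e 0⟫ • Φ.z + (μ * ⟪x, Φ.e 0⟫ - ⟪x, Φ.z⟫) • Φ.e 0 := fun x => by
    rw [hu, uel, show uU hF Φ (1 - 1) = 1 from rfl, mul_one, gel_act]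
  have hN : b * b ^ q ≠ 0 := mul_ne_zero hb0 (pow_ne_zero _ hb0)
  set μ1 := ν / (b * b ^ q) with hμ1
  have hμ1' : μ1 + μ1 ^ q + 1 = 0 := by
    rw [hμ1, div_pow, mul_pow, pow_q_q hF, mul_comm (b ^ q)]
    field_simp
    linear_combination hν
  obtain ⟨κ, hκ⟩ := exists_diff hF (c := μ1 - μ) (by rw [sub_pow_q hF]; linear_combination hμ1' - hμ)
  obtain ⟨νk, hνk⟩ := exists_mu hF (κ • Φ.z)
  let k : SU 3 F q := eich hF (Φ.e 0) (κ • Φ.z) νk (Φ.ee 0 0) (by rw [herm_smul_left, Φ.ze, mul_zero]) hνk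
  let u1 := gel hF Φ hμ1'
  have hku : k * u * k⁻¹ = u1 := by
    rw [mul_inv_eq_iff_eq_mul]
    apply su_ext
    intro x
    rw [act_mul, act_mul, hue, eich_act, eich_act, gel_act]
    simp only [herm_add_left, herm_smul_left, herm_smul_right, Φ.ee, Φ.ze, Φ.ez, Φ.zz, mul_zero,
      add_zero, mul_one, zero_add]
    rw [show μ1 = μ + (κ - κ ^ q) by rw [hκ]; ring]
    module
  obtain ⟨h, ζ, he, hz, hδ⟩ := exists_swap hF Φ hb0 hb
  refine ⟨u, h * k, uel_regular hF Φ hμ le_rfl rfl, ⟨hue⟩, ⟨fun x => ?_⟩⟩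
  rw [show h * k * u * (h * k)⁻¹ = h * (k * u * k⁻¹) * h⁻¹ by group, hku, conj_act, gel_act,
    herm_act_left, herm_act_left, act_add, act_add, act_act_inv, act_smul, act_smul, he, hz,
    herm_smul_right, herm_smul_right, smul_smul, smul_smul]
  have hζb : ζ ^ q * -b = b ^ q := by
    have := congrArg (· ^ q) hδ
    simp only [mul_pow, pow_q_q hF] at this
    linear_combination this
  have e1 : (μ1 * ((-b) ^ q * ⟪x, Φ.f 0⟫) - ζ ^ q * ⟪x, Φ.z⟫) * -b =
      ν * ⟪x, Φ.f 0⟫ - b ^ q * ⟪x, Φ.z⟫ := by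
    have h3 : (-b) ^ q * -b = b * b ^ q := by rw [neg_pow_q hF]; ring
    have h4 : μ1 * (b * b ^ q) = ν := div_mul_cancel₀ _ hN
    linear_combination (μ1 * ⟪x, Φ.f 0⟫) * h3 + ⟪x, Φ.f 0⟫ * h4 - ⟪x, Φ.z⟫ * hζb
  have e2 : (-b) ^ q * ⟪x, Φ.f 0⟫ * ζ = b * ⟪x, Φ.f 0⟫ := by
    linear_combination ⟪x, Φ.f 0⟫ * hδ
  rw [e1, e2]

/-! ### The generic case -/

theorem generic (hF : Fintype.card F = q ^ 2) (hq : 3 ≤ q) (h5 : q ≠ 5) (h8 : q ≠ 8) :
    ∃ u g : SU 3 F q,
      (IsNilpotent ((u : Matrix.SpecialLinearGroup (Fin 3) F).1 - 1) ∧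
        ((u : Matrix.SpecialLinearGroup (Fin 3) F).1 - 1) ^ (3 - 1) ≠ 0) ∧
      Subgroup.closure ({u, g * u * g⁻¹} : Set (SU 3 F q)) = ⊤ := by
  classical
  obtain ⟨Φ⟩ := exists_frame (m := 1) (n := 3) hF rfl
  obtain ⟨γ, hγ⟩ := IsCyclic.exists_generator (α := Fˣ)
  have hoγ : orderOf γ = (q + 1) * (q - 1) := by
    rw [orderOf_eq_card_of_forall_mem_zpowers hγ, card_units_eq hF]
  set lu := γ ^ (q - 1) with hlu
  have hol : orderOf lu = q + 1 := by
    rw [hlu, orderOf_pow' γ (by omega), hoγ, Nat.gcd_mul_left_left,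
      Nat.mul_div_cancel _ (by omega)]
  set l : F := (lu : F) with hld
  have hl0 : l ≠ 0 := lu.ne_zero
  have hlq : l ^ q * l = 1 := by
    rw [hld, ← pow_succ, ← Units.val_pow_eq_pow_val, ← hol, pow_orderOf_eq_one, Units.val_one]
  have hl2 : l + 1 ≠ 0 := by
    intro h0
    have h1 : lu ^ 2 = 1 := by
      ext
      rw [Units.val_pow_eq_pow_val, Units.val_one, ← hld, eq_neg_of_add_eq_zero_left h0, neg_one_sq]
    have := Nat.le_of_dvd (by omega) (hol ▸ orderOf_dvd_of_pow_eq_one h1)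
    omega
  have hlq' : l ^ q = l⁻¹ := eq_inv_of_mul_eq_one_left hlq
  set b := (1 + l) * (1 + l⁻¹) with hbd
  have hl2' : 1 + l ≠ 0 := by rwa [add_comm]
  have hb0 : b ≠ 0 := mul_ne_zero hl2' (by
    rw [show 1 + l⁻¹ = (1 + l) / l by field_simp; ring]; exact div_ne_zero hl2' hl0)
  have hbq : b ^ q = b := by
    rw [hbd, mul_pow, add_pow_q hF, add_pow_q hF, one_pow, inv_pow, hlq', inv_inv]; ring
  set μ := -(1 + 2 * l + l⁻¹) / (b * (1 + l)) with hμd
  set ν := -b * (1 + l) with hνd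
  have h2q : (2 : F) ^ q = 2 := by rw [← one_add_one_eq_two, add_pow_q hF, one_pow]
  have hμ : μ + μ ^ q + 1 = 0 := by
    have h1 : 1 + l⁻¹ ≠ 0 := (mul_ne_zero_iff.1 hb0).2
    have e : μ ^ q = -(1 + 2 * l⁻¹ + l) / (b * (1 + l⁻¹)) := by
      rw [hμd, div_pow, neg_pow_q hF, mul_pow, hbq, add_pow_q hF, add_pow_q hF, add_pow_q hF,
        mul_pow, one_pow, h2q, inv_pow, hlq', inv_inv]
    rw [e, hμd, hbd]
    field_simp
    ring
  have hν : ν + ν ^ q + b * b ^ q = 0 := by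
    rw [hνd, mul_pow, neg_pow_q hF, hbq, add_pow_q hF, one_pow, hlq', hbd]
    field_simp
    ring
  obtain ⟨u, g, hreg, hu, hv⟩ := exists_pair hF Φ hμ hb0 (Or.inl hbq) hν
  refine ⟨u, g, hreg, ?_⟩
  set H := Subgroup.closure ({u, g * u * g⁻¹} : Set (SU 3 F q))
  set v := g * u * g⁻¹
  have huH : u ∈ H := Subgroup.subset_closure (by simp)
  have hvH : v ∈ H := Subgroup.subset_closure (by simp [v])
  have hν0 : ν ≠ 0 := mul_ne_zero (neg_ne_zero.2 hb0) hl2'
  have hμν : μ * ν = 1 + 2 * l + l⁻¹ := by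
    rw [hμd, hνd]; field_simp
  refine top_of_word hF hq hu hv huH hvH hν0 (t := v * u * v)
    (H.mul_mem (H.mul_mem hvH huH) hvH) (l := l) (k := -1 - b * μ) (ζ := (l⁻¹) ^ 2) hl0 ?_ ?_ ?_
  · rw [act_mul, act_mul, hv.step (a' := 1) (b' := b) (c' := ν) rfl (by ring) (by ring),
      hu.step (a' := l) (b' := b + ν) (c' := ν) ?_ rfl rfl,
      hv.step (a' := l) (b' := 0) (c' := 0) rfl ?_ ?_]
    · rw [hνd]; ring
    · rw [hbq, hνd, hbd]; field_simp; ring
    · rw [show μ * ν = 1 + 2 * l + l⁻¹ from hμν, hbd]; field_simp; ring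
  · have k1 : (1 : F) - b + b * (-1 - b * μ) = (l⁻¹) ^ 2 := by
      rw [hbd, hμd, hbd]
      field_simp
      ring
    rw [act_mul, act_mul, hv.step (a' := 0) (b' := 1) (c' := -b) rfl (by ring) (by rw [hbq]; ring),
      hu.step (a' := -1 - b * μ) (b' := 1 - b) (c' := -b) (by ring) (by ring) rfl,
      hv.step (a' := -1 - b * μ) (b' := (l⁻¹) ^ 2) (c' := 0) rfl k1 ?_]
    rw [hbq, hνd, hbd, hμd, hbd]
    field_simp
    ring
  · refine genProp_of_fixed hF fun r d hrd hd hr2 hfix => ?_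
    rw [hlq', ← pow_succ', inv_pow] at hfix
    have h1 : (lu⁻¹ ^ 3) ^ r = lu⁻¹ ^ 3 := by
      ext
      simpa [hld] using hfix
    have hdvd : orderOf (lu⁻¹ ^ 3) ∣ r - 1 := by
      refine orderOf_dvd_of_pow_eq_one ?_
      apply mul_right_cancel (b := lu⁻¹ ^ 3)
      rw [← pow_succ, show r - 1 + 1 = r by omega, h1, one_mul]
    set D := orderOf (lu⁻¹ ^ 3) with hD
    have hD3 : q + 1 ∣ 3 * D := by
      rw [← hol, ← orderOf_inv lu]
      refine orderOf_dvd_of_pow_eq_one ?_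
      rw [pow_mul, hD, pow_orderOf_eq_one]
    have hDpos : 0 < D := orderOf_pos _
    obtain ⟨p, f, hp, -, hf, rfl⟩ := exists_prime_pow hF
    have hrq : r ∣ p ^ (f * 2) := by
      rw [pow_mul, ← hrd]; exact dvd_pow_self _ (by omega)
    obtain ⟨k, hk, rfl⟩ := (Nat.dvd_prime_pow hp).1 hrq
    have hkd : k * d = f * 2 := by
      rw [← pow_mul, ← pow_mul] at hrd
      exact Nat.pow_right_injective hp.two_le hrd
    have hkf : k ≤ f := by nlinarith
    have hk1 : 1 ≤ k := by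
      rcases Nat.eq_zero_or_pos k with rfl | hk'
      · simp at hr2
      · exact hk'
    have hle : p ^ f + 1 ≤ 3 * D := Nat.le_of_dvd (by omega) hD3
    rcases hkf.eq_or_lt with rfl | hlt
    · have hDq : D ∣ p ^ k + 1 := by
        rw [← hol, ← orderOf_inv lu]
        exact orderOf_pow_dvd _
      have hD2 : D ∣ 2 := by
        have := Nat.dvd_sub hDq hdvd
        rwa [show p ^ k + 1 - (p ^ k - 1) = 2 by omega] at this
      have := Nat.le_of_dvd (by omega) hD2
      have hq6 : p ^ k ≤ 5 := by omega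
      have h24 : p ^ k = 3 ∨ p ^ k = 4 := by omega
      rcases h24 with h' | h' <;> rw [h'] at hD3 <;>
        (have hD' : D = 1 ∨ D = 2 := by omega) <;>
        rcases hD' with hD' | hD' <;> rw [hD'] at hD3 <;> revert hD3 <;> decide
    · have hD' : D ≤ p ^ k - 1 := Nat.le_of_dvd (by omega) hdvd
      have hpk : p * p ^ k ≤ p ^ f := by
        rw [← pow_succ']; exact Nat.pow_le_pow_right hp.pos hlt
      have hp2 : p = 2 := by
        by_contra hne
        have : 3 ≤ p := by have := hp.two_le; omega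
        have : 3 * p ^ k ≤ p * p ^ k := Nat.mul_le_mul_right _ this
        omega
      subst hp2
      have hfk : f = k + 1 := by
        by_contra hne
        have : 4 * 2 ^ k ≤ 2 ^ f := by
          rw [show 4 * 2 ^ k = 2 ^ (k + 2) by ring]
          exact Nat.pow_le_pow_right (by norm_num) (by omega)
        omega
      subst hfk
      have hk2 : k ∣ 2 := by
        have : k ∣ (k + 1) * 2 := ⟨d, hkd.symm⟩
        rw [add_mul, one_mul] at this
        exact (Nat.dvd_add_right (dvd_mul_right k 2)).1 this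
      have hk2' := Nat.le_of_dvd (by omega) hk2
      interval_cases k
      · have hD1 : D = 1 := by norm_num at hD'; omega
        rw [hD1] at hD3
        norm_num at hD3
      · norm_num at h8

end Cfsg.Agent.UnitarySU3TwoGen87
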