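import Mathlib
import Cfsg.Agent.Lib.UnitarySU3TwoGen87

/-!
`SU(3, 5)` and `SU(3, 8)` are generated by two conjugate regular unipotent elements: explicit words.
-/

set_option autoImplicit false
set_option maxHeartbeats 2000000
set_option linter.unusedSimpArgs false
set_option linter.unusedVariables false

open Matrix Cfsg

namespace Cfsg.Agent.UnitarySU3TwoGen87

open Cfsg.Agent.OrthUnitaryHerm Cfsg.Agent.OrthUnitaryTransvection
open Cfsg.Agent.UnitaryThreeRegular87

theorem case5 {F : Type*} [Field F] [Fintype F] (hF : Fintype.card F = 5 ^ 2) :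
    ∃ u g : SU 3 F 5,
      (IsNilpotent ((u : Matrix.SpecialLinearGroup (Fin 3) F).1 - 1) ∧
        ((u : Matrix.SpecialLinearGroup (Fin 3) F).1 - 1) ^ (3 - 1) ≠ 0) ∧
      Subgroup.closure ({u, g * u * g⁻¹} : Set (SU 3 F 5)) = ⊤ := by
  obtain ⟨Φ⟩ := exists_frame (m := 1) (n := 3) hF rfl
  classical
  obtain ⟨γ, hγ⟩ := IsCyclic.exists_generator (α := Fˣ)
  have hp : (5 : F) = 0 := by
    have h1 := FiniteField.cast_card_eq_zero F
    rw [hF, Nat.cast_pow] at h1
    exact pow_eq_zero_iff two_ne_zero |>.1 (by exact_mod_cast h1)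
  have hγo : orderOf γ = 24 := by
    rw [orderOf_eq_card_of_forall_mem_zpowers hγ, card_units_eq hF]
  set ω : F := ((γ ^ 4 : Fˣ) : F) with hωd
  have hω : (1 : F) - ω + ω ^ 2 = 0 := by
    have hne : ∀ j : ℕ, 0 < j → j < 24 → (γ : F) ^ j ≠ 1 := fun j hj hj' hj1 => by
      have h2 : γ ^ j = 1 := Units.ext (by simpa using hj1)
      have := Nat.le_of_dvd hj (hγo ▸ orderOf_dvd_of_pow_eq_one h2)
      omega
    have h24 : (γ : F) ^ 24 = 1 := by
      rw [← Units.val_pow_eq_pow_val, ← hγo, pow_orderOf_eq_one, Units.val_one]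
    have h3 : ω ^ 3 = -1 := by
      have : (ω ^ 3 - 1) * (ω ^ 3 + 1) = 0 := by
        rw [hωd, Units.val_pow_eq_pow_val]; linear_combination h24
      rcases mul_eq_zero.1 this with h | h
      · exact absurd (by rw [hωd, Units.val_pow_eq_pow_val, ← pow_mul] at h; linear_combination h) (hne 12 (by norm_num) (by norm_num))
      · linear_combination h
    have h1 : ω + 1 ≠ 0 := fun h => hne 8 (by norm_num) (by norm_num) (by
      have : ω ^ 2 = 1 := by linear_combination (ω - 1) * h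
      rwa [hωd, Units.val_pow_eq_pow_val, ← pow_mul] at this)
    exact (mul_eq_zero.1 (show (ω + 1) * (1 - ω + ω ^ 2) = 0 by linear_combination h3)).resolve_left h1
  set μ : F := (4) * ω with hμd
  set b : F := (1) + (3) * ω with hbd
  set ν : F := (2) * ω with hνd
  have hμ : μ + μ ^ 5 + 1 = 0 := by
    rw [hμd]; linear_combination ((-1024) + (1024) * ω ^ 2 + (1024) * ω ^ 3) * hω + ((205) + (-204) * ω) * hp
  have hbq : b ^ 5 = -b := by
    rw [hbd]; linear_combination ((117) + (675) * ω + (648) * ω ^ 2 + (243) * ω ^ 3) * hω + ((-23) + (-108) * ω) * hp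
  have hν : ν + ν ^ 5 + b * b ^ 5 = 0 := by
    rw [hνd, hbq, hbd]; linear_combination ((-41) + (32) * ω ^ 2 + (32) * ω ^ 3) * hω + ((8) + (-9) * ω) * hp
  have hb0 : b ≠ 0 := fun h0 => one_ne_zero (α := F) (by
    have h1 : (b) * ((3) + (4) * ω) = 1 := by
      rw [hbd]; linear_combination ((12)) * hω + ((-2) + (5) * ω) * hp
    rw [h0, zero_mul] at h1; exact h1.symm)
  have hν0 : ν ≠ 0 := fun h0 => one_ne_zero (α := F) (by
    have h1 : (ν) * ((3) + (2) * ω) = 1 := by
      rw [hνd]; linear_combination ((4)) * hω + ((-1) + (2) * ω) * hp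
    rw [h0, zero_mul] at h1; exact h1.symm)
  obtain ⟨u, g, hreg, hu, hv⟩ := exists_pair hF Φ hμ hb0 (Or.inr hbq) hν
  refine ⟨u, g, hreg, ?_⟩
  set H := Subgroup.closure ({u, g * u * g⁻¹} : Set (SU 3 F 5))
  set v := g * u * g⁻¹ with hvd
  have huH : u ∈ H := Subgroup.subset_closure (by simp)
  have hvH : v ∈ H := Subgroup.subset_closure (by simp [hvd])
  have hl0 : ((4) + (4) * ω : F) ≠ 0 := fun h0 => one_ne_zero (α := F) (by
    have h1 : (((4) + (4) * ω : F)) * ((1) + (2) * ω) = 1 := by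
      linear_combination ((8)) * hω + ((-1) + (4) * ω) * hp
    rw [h0, zero_mul] at h1; exact h1.symm)
  have hX : ((4) + (4) * ω : F) ^ 5 * ((1) + (4) * ω) = (4) + (2) * ω := by
    linear_combination ((56320) + (93184) * ω + (67584) * ω ^ 2 + (25600) * ω ^ 3 + (4096) * ω ^ 4) * hω + ((-11060) + (-5530) * ω) * hp
  refine top_of_word hF (by norm_num) hu hv huH hvH hν0 (t := v * v * u * u * u * v)
    (H.mul_mem (H.mul_mem (H.mul_mem (H.mul_mem (H.mul_mem hvH hvH) huH) huH) huH) hvH) (l := (4) + (4) * ω) (k := (3) + (4) * ω) (ζ := (1) + (4) * ω) hl0 ?_ ?_ ?_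
  · simp only [act_mul]
    rw [hv.step (a' := (1)) (b' := (1) + (3) * ω) (c' := (2) * ω)
      (by (try rw [hbq]); all_goals (try simp only [hμd, hbd, hνd]); all_goals linear_combination (0) * hω + (0) * hp)
      (by (try rw [hbq]); all_goals (try simp only [hμd, hbd, hνd]); all_goals linear_combination (0) * hω + (0) * hp)
      (by (try rw [hbq]); all_goals (try simp only [hμd, hbd, hνd]); all_goals linear_combination (0) * hω + (0) * hp)]
    rw [hu.step (a' := (2)) (b' := (1)) (c' := (2) * ω)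
      (by (try rw [hbq]); all_goals (try simp only [hμd, hbd, hνd]); all_goals linear_combination ((8)) * hω + ((-2) + ω) * hp)
      (by (try rw [hbq]); all_goals (try simp only [hμd, hbd, hνd]); all_goals linear_combination (0) * hω + (ω) * hp)
      (by (try rw [hbq]); all_goals (try simp only [hμd, hbd, hνd]); all_goals linear_combination (0) * hω + (0) * hp)]
    rw [hu.step (a' := (3) + (3) * ω) (b' := (1) + (2) * ω) (c' := (2) * ω)
      (by (try rw [hbq]); all_goals (try simp only [hμd, hbd, hνd]); all_goals linear_combination ((8)) * hω + ((-2) + ω) * hp)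
      (by (try rw [hbq]); all_goals (try simp only [hμd, hbd, hνd]); all_goals linear_combination (0) * hω + (0) * hp)
      (by (try rw [hbq]); all_goals (try simp only [hμd, hbd, hνd]); all_goals linear_combination (0) * hω + (0) * hp)]
    rw [hu.step (a' := (4) + (4) * ω) (b' := (1) + (4) * ω) (c' := (2) * ω)
      (by (try rw [hbq]); all_goals (try simp only [hμd, hbd, hνd]); all_goals linear_combination ((8)) * hω + ((-2) + ω) * hp)
      (by (try rw [hbq]); all_goals (try simp only [hμd, hbd, hνd]); all_goals linear_combination (0) * hω + (0) * hp)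
      (by (try rw [hbq]); all_goals (try simp only [hμd, hbd, hνd]); all_goals linear_combination (0) * hω + (0) * hp)]
    rw [hv.step (a' := (4) + (4) * ω) (b' := (3) + (2) * ω) (c' := (1) + (2) * ω)
      (by (try rw [hbq]); all_goals (try simp only [hμd, hbd, hνd]); all_goals linear_combination (0) * hω + (0) * hp)
      (by (try rw [hbq]); all_goals (try simp only [hμd, hbd, hνd]); all_goals linear_combination ((12)) * hω + ((-2) + (6) * ω) * hp)
      (by (try rw [hbq]); all_goals (try simp only [hμd, hbd, hνd]); all_goals linear_combination ((20)) * hω + ((-4) + (7) * ω) * hp)]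
    rw [hv.step (a' := (4) + (4) * ω) (b' := 0) (c' := 0)
      (by (try rw [hbq]); all_goals (try simp only [hμd, hbd, hνd]); all_goals linear_combination (0) * hω + (0) * hp)
      (by (try rw [hbq]); all_goals (try simp only [hμd, hbd, hνd]); all_goals linear_combination ((12)) * hω + ((-1) + (6) * ω) * hp)
      (by (try rw [hbq]); all_goals (try simp only [hμd, hbd, hνd]); all_goals linear_combination ((14)) * hω + ((-2) + (7) * ω) * hp)]
  · simp only [act_mul]
    rw [hv.step (a' := 0) (b' := (1)) (c' := (1) + (3) * ω)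
      (by (try rw [hbq]); all_goals (try simp only [hμd, hbd, hνd]); all_goals linear_combination (0) * hω + (0) * hp)
      (by (try rw [hbq]); all_goals (try simp only [hμd, hbd, hνd]); all_goals linear_combination (0) * hω + (0) * hp)
      (by (try rw [hbq]); all_goals (try simp only [hμd, hbd, hνd]); all_goals linear_combination (0) * hω + (0) * hp)]
    rw [hu.step (a' := (2) + ω) (b' := (2) + (3) * ω) (c' := (1) + (3) * ω)
      (by (try rw [hbq]); all_goals (try simp only [hμd, hbd, hνd]); all_goals linear_combination ((12)) * hω + ((-3) + (3) * ω) * hp)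
      (by (try rw [hbq]); all_goals (try simp only [hμd, hbd, hνd]); all_goals linear_combination (0) * hω + (0) * hp)
      (by (try rw [hbq]); all_goals (try simp only [hμd, hbd, hνd]); all_goals linear_combination (0) * hω + (0) * hp)]
    rw [hu.step (a' := (3) + (4) * ω) (b' := (3) + ω) (c' := (1) + (3) * ω)
      (by (try rw [hbq]); all_goals (try simp only [hμd, hbd, hνd]); all_goals linear_combination ((12)) * hω + ((-3) + (2) * ω) * hp)
      (by (try rw [hbq]); all_goals (try simp only [hμd, hbd, hνd]); all_goals linear_combination (0) * hω + (ω) * hp)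
      (by (try rw [hbq]); all_goals (try simp only [hμd, hbd, hνd]); all_goals linear_combination (0) * hω + (0) * hp)]
    rw [hu.step (a' := (3) + (4) * ω) (b' := (4) + (4) * ω) (c' := (1) + (3) * ω)
      (by (try rw [hbq]); all_goals (try simp only [hμd, hbd, hνd]); all_goals linear_combination ((12)) * hω + ((-3) + (3) * ω) * hp)
      (by (try rw [hbq]); all_goals (try simp only [hμd, hbd, hνd]); all_goals linear_combination (0) * hω + (0) * hp)
      (by (try rw [hbq]); all_goals (try simp only [hμd, hbd, hνd]); all_goals linear_combination (0) * hω + (0) * hp)]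
    rw [hv.step (a' := (3) + (4) * ω) (b' := (4) * ω) (c' := 0)
      (by (try rw [hbq]); all_goals (try simp only [hμd, hbd, hνd]); all_goals linear_combination (0) * hω + (0) * hp)
      (by (try rw [hbq]); all_goals (try simp only [hμd, hbd, hνd]); all_goals linear_combination ((12)) * hω + ((-1) + (5) * ω) * hp)
      (by (try rw [hbq]); all_goals (try simp only [hμd, hbd, hνd]); all_goals linear_combination ((20)) * hω + ((-3) + (9) * ω) * hp)]
    rw [hv.step (a' := (3) + (4) * ω) (b' := (1) + (4) * ω) (c' := 0)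
      (by (try rw [hbq]); all_goals (try simp only [hμd, hbd, hνd]); all_goals linear_combination (0) * hω + (0) * hp)
      (by (try rw [hbq]); all_goals (try simp only [hμd, hbd, hνd]); all_goals linear_combination ((12)) * hω + ((-2) + (5) * ω) * hp)
      (by (try rw [hbq]); all_goals (try simp only [hμd, hbd, hνd]); all_goals linear_combination ((20)) * hω + ((-4) + (6) * ω) * hp)]
  · rw [hX]
    refine genProp_of_fixed hF fun r d hrd hd hr2 hfix => ?_
    have hr : r ∣ 25 := by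
      rw [show (25 : ℕ) = 5 ^ 2 by norm_num, ← hrd]; exact dvd_pow_self _ (by omega)
    have hrq : r ≤ 5 := by
      by_contra hlt
      have : r ^ 2 ≤ r ^ d := Nat.pow_le_pow_right (by omega) hd
      nlinarith
    interval_cases r <;> try (norm_num at hr)
    · exact one_ne_zero (α := F) (by linear_combination ((4) + (2) * ω) * hfix - ((24764) + (14016) * ω + (4608) * ω ^ 2 + (832) * ω ^ 3 + (64) * ω ^ 4) * hω - ((-4137) + (4604) * ω) * hp)

theorem case8 {F : Type*} [Field F] [Fintype F] (hF : Fintype.card F = 8 ^ 2) :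
    ∃ u g : SU 3 F 8,
      (IsNilpotent ((u : Matrix.SpecialLinearGroup (Fin 3) F).1 - 1) ∧
        ((u : Matrix.SpecialLinearGroup (Fin 3) F).1 - 1) ^ (3 - 1) ≠ 0) ∧
      Subgroup.closure ({u, g * u * g⁻¹} : Set (SU 3 F 8)) = ⊤ := by
  obtain ⟨Φ⟩ := exists_frame (m := 1) (n := 3) hF rfl
  classical
  obtain ⟨γ, hγ⟩ := IsCyclic.exists_generator (α := Fˣ)
  have hp : (2 : F) = 0 := by
    have h1 := FiniteField.cast_card_eq_zero F
    rw [hF] at h1
    exact (pow_eq_zero_iff (n := 6) (by norm_num)).1 (by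
      have h2 : ((64 : ℕ) : F) = 0 := by simpa using h1
      push_cast at h2
      linear_combination h2)
  have hγo : orderOf γ = 63 := by
    rw [orderOf_eq_card_of_forall_mem_zpowers hγ, card_units_eq hF]
  set ω : F := ((γ ^ 7 : Fˣ) : F) with hωd
  have hω : (1 : F) + ω ^ 3 + ω ^ 6 = 0 := by
    have hne : (γ : F) ^ 21 ≠ 1 := fun hj1 => by
      have h2 : γ ^ 21 = 1 := Units.ext (by simpa using hj1)
      have := Nat.le_of_dvd (by norm_num) (hγo ▸ orderOf_dvd_of_pow_eq_one h2)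
      omega
    have h63 : (γ : F) ^ 63 = 1 := by
      rw [← Units.val_pow_eq_pow_val, ← hγo, pow_orderOf_eq_one, Units.val_one]
    have : (ω ^ 3 - 1) * (1 + ω ^ 3 + ω ^ 6) = 0 := by
      rw [hωd, Units.val_pow_eq_pow_val]; linear_combination h63
    rcases mul_eq_zero.1 this with h | h
    · exact absurd (by rw [hωd, Units.val_pow_eq_pow_val, ← pow_mul] at h; linear_combination h) hne
    · exact h
  set μ : F := ω ^ 3 + ω ^ 4 + ω ^ 5 with hμd
  set b : F := ω + ω ^ 2 + ω ^ 4 with hbd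
  set ν : F := (1) + ω + ω ^ 2 with hνd
  have hμ : μ + μ ^ 8 + 1 = 0 := by
    rw [hμd]; linear_combination ((639) + (414) * ω + (-414) * ω ^ 3 + (-639) * ω ^ 4 + (-567) * ω ^ 5 + (-225) * ω ^ 6 + (225) * ω ^ 7 + (567) * ω ^ 8 + (639) * ω ^ 9 + (414) * ω ^ 10 + (-414) * ω ^ 12 + (-639) * ω ^ 13 + (-567) * ω ^ 14 + (-225) * ω ^ 15 + (225) * ω ^ 16 + (567) * ω ^ 17 + (639) * ω ^ 18 + (414) * ω ^ 19 + (-414) * ω ^ 21 + (-639) * ω ^ 22 + (-567) * ω ^ 23 + (-224) * ω ^ 24 + (233) * ω ^ 25 + (603) * ω ^ 26 + (750) * ω ^ 27 + (672) * ω ^ 28 + (468) * ω ^ 29 + (258) * ω ^ 30 + (111) * ω ^ 31 + (36) * ω ^ 32 + (8) * ω ^ 33 + ω ^ 34) * hω + ((-319) + (-207) * ω + (-112) * ω ^ 3 + (113) * ω ^ 4 + (284) * ω ^ 5) * hp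
  have hbq : b ^ 8 = b := by
    rw [hbd]; linear_combination ((-78) + (-27) * ω + (27) * ω ^ 2 + (78) * ω ^ 3 + (84) * ω ^ 4 + (57) * ω ^ 5 + (-57) * ω ^ 7 + (-83) * ω ^ 8 + (-70) * ω ^ 9 + ω ^ 10 + (90) * ω ^ 11 + (196) * ω ^ 12 + (280) * ω ^ 13 + (329) * ω ^ 14 + (330) * ω ^ 15 + (308) * ω ^ 16 + (253) * ω ^ 17 + (182) * ω ^ 18 + (140) * ω ^ 19 + (76) * ω ^ 20 + (48) * ω ^ 21 + (28) * ω ^ 22 + (7) * ω ^ 23 + (8) * ω ^ 24 + ω ^ 26) * hω + ((39) + (13) * ω + (-14) * ω ^ 2 + (-29) * ω ^ 4 + (-42) * ω ^ 5) * hp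
  have hν : ν + ν ^ 8 + b * b ^ 8 = 0 := by
    rw [hνd, hbq, hbd]; linear_combination ((-222) + (233) * ω + (604) * ω ^ 2 + (750) * ω ^ 3 + (672) * ω ^ 4 + (468) * ω ^ 5 + (258) * ω ^ 6 + (111) * ω ^ 7 + (36) * ω ^ 8 + (8) * ω ^ 9 + ω ^ 10) * hω + ((112) + (-112) * ω + (-283) * ω ^ 2 + (-207) * ω ^ 3 + (-319) * ω ^ 4 + (-283) * ω ^ 5) * hp
  have hb0 : b ≠ 0 := fun h0 => one_ne_zero (α := F) (by
    have h1 : (b) * ((1) + ω ^ 4 + ω ^ 5) = 1 := by
      rw [hbd]; linear_combination ((1) + ω + ω ^ 2 + ω ^ 3) * hω + ((-1) + (-1) * ω ^ 3) * hp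
    rw [h0, zero_mul] at h1; exact h1.symm)
  have hν0 : ν ≠ 0 := fun h0 => one_ne_zero (α := F) (by
    have h1 : (ν) * (ω ^ 3 + ω ^ 4) = 1 := by
      rw [hνd]; linear_combination ((1)) * hω + ((-1) + ω ^ 4 + ω ^ 5) * hp
    rw [h0, zero_mul] at h1; exact h1.symm)
  obtain ⟨u, g, hreg, hu, hv⟩ := exists_pair hF Φ hμ hb0 (Or.inl hbq) hν
  refine ⟨u, g, hreg, ?_⟩
  set H := Subgroup.closure ({u, g * u * g⁻¹} : Set (SU 3 F 8))
  set v := g * u * g⁻¹ with hvd
  have huH : u ∈ H := Subgroup.subset_closure (by simp)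
  have hvH : v ∈ H := Subgroup.subset_closure (by simp [hvd])
  have hl0 : ((1) + ω ^ 3 + ω ^ 5 : F) ≠ 0 := fun h0 => one_ne_zero (α := F) (by
    have h1 : (((1) + ω ^ 3 + ω ^ 5 : F)) * ((1) + ω + ω ^ 2 + ω ^ 4 + ω ^ 5) = 1 := by
      linear_combination (ω + ω ^ 2 + ω ^ 3 + ω ^ 4) * hω + (ω ^ 5) * hp
    rw [h0, zero_mul] at h1; exact h1.symm)
  have hX : ((1) + ω ^ 3 + ω ^ 5 : F) ^ 8 * (ω + ω ^ 4) = ω + ω ^ 2 := by
    linear_combination ((-78) + (58) * ω + (-27) * ω ^ 2 + (35) * ω ^ 4 + (-57) * ω ^ 5 + (86) * ω ^ 6 + (-57) * ω ^ 7 + (84) * ω ^ 8 + (-22) * ω ^ 9 + (106) * ω ^ 10 + ω ^ 11 + (160) * ω ^ 12 + (77) * ω ^ 13 + (111) * ω ^ 14 + (310) * ω ^ 15 + (-1) * ω ^ 16 + (476) * ω ^ 17 + (90) * ω ^ 18 + (344) * ω ^ 19 + (393) * ω ^ 20 + (118) * ω ^ 21 + (533) * ω ^ 22 + (111) * ω ^ 23 + (366) * ω ^ 24 + (252) * ω ^ 25 + (140) * ω ^ 26 + (280) * ω ^ 27 + (56) * ω ^ 28 + (169) * ω ^ 29 + (62) * ω ^ 30 + (56) * ω ^ 31 + (55) * ω ^ 32 + (8) * ω ^ 33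 + (28) * ω ^ 34 + (8) * ω ^ 36 + ω ^ 38) * hω + ((39) + (-29) * ω + (13) * ω ^ 2 + (39) * ω ^ 3 + (-42) * ω ^ 4 + (42) * ω ^ 5) * hp
  refine top_of_word hF (by norm_num) hu hv huH hvH hν0 (t := v * v * v * u * u * v * u * v)
    (H.mul_mem (H.mul_mem (H.mul_mem (H.mul_mem (H.mul_mem (H.mul_mem (H.mul_mem hvH hvH) hvH) huH) huH) hvH) huH) hvH) (l := (1) + ω ^ 3 + ω ^ 5) (k := ω + ω ^ 3 + ω ^ 4) (ζ := ω + ω ^ 4) hl0 ?_ ?_ ?_
  · simp only [act_mul]
    rw [hv.step (a' := (1)) (b' := ω + ω ^ 2 + ω ^ 4) (c' := (1) + ω + ω ^ 2)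
      (by (try rw [hbq]); all_goals (try simp only [hμd, hbd, hνd]); all_goals linear_combination (0) * hω + (0) * hp)
      (by (try rw [hbq]); all_goals (try simp only [hμd, hbd, hνd]); all_goals linear_combination (0) * hω + (0) * hp)
      (by (try rw [hbq]); all_goals (try simp only [hμd, hbd, hνd]); all_goals linear_combination (0) * hω + (0) * hp)]
    rw [hu.step (a' := (1) + ω ^ 2 + ω ^ 3 + ω ^ 5) (b' := (1) + ω ^ 4) (c' := (1) + ω + ω ^ 2)
      (by (try rw [hbq]); all_goals (try simp only [hμd, hbd, hνd]); all_goals linear_combination ((2) + ω) * hω + ((-1) + (-1) * ω + (-1) * ω ^ 2 + (-1) * ω ^ 3 + ω ^ 5) * hp)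
      (by (try rw [hbq]); all_goals (try simp only [hμd, hbd, hνd]); all_goals linear_combination (0) * hω + (ω + ω ^ 2) * hp)
      (by (try rw [hbq]); all_goals (try simp only [hμd, hbd, hνd]); all_goals linear_combination (0) * hω + (0) * hp)]
    rw [hv.step (a' := (1) + ω ^ 2 + ω ^ 3 + ω ^ 5) (b' := ω + ω ^ 2 + ω ^ 3 + ω ^ 5) (c' := ω ^ 2)
      (by (try rw [hbq]); all_goals (try simp only [hμd, hbd, hνd]); all_goals linear_combination (0) * hω + (0) * hp)
      (by (try rw [hbq]); all_goals (try simp only [hμd, hbd, hνd]); all_goals linear_combination ((1) + (2) * ω + ω ^ 3) * hω + ((-1) * ω + (-1) * ω ^ 3 + ω ^ 4) * hp)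
      (by (try rw [hbq]); all_goals (try simp only [hμd, hbd, hνd]); all_goals linear_combination (ω + (-1) * ω ^ 2) * hω + ((1) + ω ^ 2 + ω ^ 3 + ω ^ 5) * hp)]
    rw [hu.step (a' := ω ^ 3 + ω ^ 4 + ω ^ 5) (b' := ω + ω ^ 3 + ω ^ 5) (c' := ω ^ 2)
      (by (try rw [hbq]); all_goals (try simp only [hμd, hbd, hνd]); all_goals linear_combination ((1) + ω) * hω + ((-1) * ω + (-1) * ω ^ 3 + (-1) * ω ^ 4) * hp)
      (by (try rw [hbq]); all_goals (try simp only [hμd, hbd, hνd]); all_goals linear_combination (0) * hω + (ω ^ 2) * hp)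
      (by (try rw [hbq]); all_goals (try simp only [hμd, hbd, hνd]); all_goals linear_combination (0) * hω + (0) * hp)]
    rw [hu.step (a' := (1) + ω ^ 3 + ω ^ 5) (b' := ω + ω ^ 2 + ω ^ 3 + ω ^ 5) (c' := ω ^ 2)
      (by (try rw [hbq]); all_goals (try simp only [hμd, hbd, hνd]); all_goals linear_combination ((1) + ω) * hω + ((-1) + (-1) * ω + (-1) * ω ^ 3) * hp)
      (by (try rw [hbq]); all_goals (try simp only [hμd, hbd, hνd]); all_goals linear_combination (0) * hω + (0) * hp)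
      (by (try rw [hbq]); all_goals (try simp only [hμd, hbd, hνd]); all_goals linear_combination (0) * hω + (0) * hp)]
    rw [hv.step (a' := (1) + ω ^ 3 + ω ^ 5) (b' := 0) (c' := (1) + ω ^ 2)
      (by (try rw [hbq]); all_goals (try simp only [hμd, hbd, hνd]); all_goals linear_combination (0) * hω + (0) * hp)
      (by (try rw [hbq]); all_goals (try simp only [hμd, hbd, hνd]); all_goals linear_combination ((2) * ω + ω ^ 3) * hω + (ω ^ 2 + ω ^ 5) * hp)
      (by (try rw [hbq]); all_goals (try simp only [hμd, hbd, hνd]); all_goals linear_combination ((-1) * ω + (-1) * ω ^ 3) * hω + (ω) * hp)]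
    rw [hv.step (a' := (1) + ω ^ 3 + ω ^ 5) (b' := ω + ω ^ 2 + ω ^ 3 + ω ^ 5) (c' := (1))
      (by (try rw [hbq]); all_goals (try simp only [hμd, hbd, hνd]); all_goals linear_combination (0) * hω + (0) * hp)
      (by (try rw [hbq]); all_goals (try simp only [hμd, hbd, hνd]); all_goals linear_combination ((2) * ω + ω ^ 3) * hω + ((-1) * ω + (-1) * ω ^ 3) * hp)
      (by (try rw [hbq]); all_goals (try simp only [hμd, hbd, hνd]); all_goals linear_combination ((1) + ω) * hω + (ω ^ 2 + ω ^ 5) * hp)]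
    rw [hv.step (a' := (1) + ω ^ 3 + ω ^ 5) (b' := 0) (c' := 0)
      (by (try rw [hbq]); all_goals (try simp only [hμd, hbd, hνd]); all_goals linear_combination (0) * hω + (0) * hp)
      (by (try rw [hbq]); all_goals (try simp only [hμd, hbd, hνd]); all_goals linear_combination ((2) * ω + ω ^ 3) * hω + (ω ^ 2 + ω ^ 5) * hp)
      (by (try rw [hbq]); all_goals (try simp only [hμd, hbd, hνd]); all_goals linear_combination ((-1) * ω + (-1) * ω ^ 3) * hω + ((1) + ω) * hp)]
  · simp only [act_mul]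
    rw [hv.step (a' := 0) (b' := (1)) (c' := ω + ω ^ 2 + ω ^ 4)
      (by (try rw [hbq]); all_goals (try simp only [hμd, hbd, hνd]); all_goals linear_combination (0) * hω + (0) * hp)
      (by (try rw [hbq]); all_goals (try simp only [hμd, hbd, hνd]); all_goals linear_combination (0) * hω + (0) * hp)
      (by (try rw [hbq]); all_goals (try simp only [hμd, hbd, hνd]); all_goals linear_combination (0) * hω + ((-1) * ω + (-1) * ω ^ 2 + (-1) * ω ^ 4) * hp)]
    rw [hu.step (a' := ω ^ 2 + ω ^ 4 + ω ^ 5) (b' := (1) + ω + ω ^ 2 + ω ^ 4) (c' := ω + ω ^ 2 + ω ^ 4)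
      (by (try rw [hbq]); all_goals (try simp only [hμd, hbd, hνd]); all_goals linear_combination ((1) + (2) * ω + ω ^ 2 + ω ^ 3) * hω + ((-1) + (-1) * ω + (-1) * ω ^ 2 + (-1) * ω ^ 3 + (-1) * ω ^ 4) * hp)
      (by (try rw [hbq]); all_goals (try simp only [hμd, hbd, hνd]); all_goals linear_combination (0) * hω + (0) * hp)
      (by (try rw [hbq]); all_goals (try simp only [hμd, hbd, hνd]); all_goals linear_combination (0) * hω + (0) * hp)]
    rw [hv.step (a' := ω ^ 2 + ω ^ 4 + ω ^ 5) (b' := (1) + ω ^ 4) (c' := ω + ω ^ 2 + ω ^ 3 + ω ^ 5)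
      (by (try rw [hbq]); all_goals (try simp only [hμd, hbd, hνd]); all_goals linear_combination (0) * hω + (0) * hp)
      (by (try rw [hbq]); all_goals (try simp only [hμd, hbd, hνd]); all_goals linear_combination ((2) + ω + ω ^ 2 + ω ^ 3) * hω + ((-1) + (-1) * ω ^ 3) * hp)
      (by (try rw [hbq]); all_goals (try simp only [hμd, hbd, hνd]); all_goals linear_combination (ω + (-1) * ω ^ 2) * hω + ((-1) * ω + (-1) * ω ^ 3) * hp)]
    rw [hu.step (a' := (1) + ω + ω ^ 2 + ω ^ 3 + ω ^ 4 + ω ^ 5) (b' := (1) + ω + ω ^ 2 + ω ^ 3 + ω ^ 4 + ω ^ 5) (c' := ω + ω ^ 2 + ω ^ 3 + ω ^ 5)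
      (by (try rw [hbq]); all_goals (try simp only [hμd, hbd, hνd]); all_goals linear_combination ((2) + ω + (2) * ω ^ 2 + ω ^ 3 + ω ^ 4) * hω + ((-2) + (-1) * ω + (-1) * ω ^ 2 + (-2) * ω ^ 3 + (-1) * ω ^ 4) * hp)
      (by (try rw [hbq]); all_goals (try simp only [hμd, hbd, hνd]); all_goals linear_combination (0) * hω + (0) * hp)
      (by (try rw [hbq]); all_goals (try simp only [hμd, hbd, hνd]); all_goals linear_combination (0) * hω + (0) * hp)]
    rw [hu.step (a' := ω + ω ^ 3 + ω ^ 4) (b' := (1) + ω ^ 4) (c' := ω + ω ^ 2 + ω ^ 3 + ω ^ 5)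
      (by (try rw [hbq]); all_goals (try simp only [hμd, hbd, hνd]); all_goals linear_combination ((2) + ω + (2) * ω ^ 2 + ω ^ 3 + ω ^ 4) * hω + ((-1) + (-1) * ω + (-1) * ω ^ 2 + (-2) * ω ^ 3 + (-1) * ω ^ 4) * hp)
      (by (try rw [hbq]); all_goals (try simp only [hμd, hbd, hνd]); all_goals linear_combination (0) * hω + (ω + ω ^ 2 + ω ^ 3 + ω ^ 5) * hp)
      (by (try rw [hbq]); all_goals (try simp only [hμd, hbd, hνd]); all_goals linear_combination (0) * hω + (0) * hp)]
    rw [hv.step (a' := ω + ω ^ 3 + ω ^ 4) (b' := ω + ω ^ 4) (c' := ω + ω ^ 3 + ω ^ 4 + ω ^ 5)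
      (by (try rw [hbq]); all_goals (try simp only [hμd, hbd, hνd]); all_goals linear_combination (0) * hω + (0) * hp)
      (by (try rw [hbq]); all_goals (try simp only [hμd, hbd, hνd]); all_goals linear_combination ((1) + ω + ω ^ 2) * hω + ((-1) * ω + ω ^ 5) * hp)
      (by (try rw [hbq]); all_goals (try simp only [hμd, hbd, hνd]); all_goals linear_combination ((-1) * ω ^ 2) * hω + (ω ^ 2 + ω ^ 3 + ω ^ 5) * hp)]
    rw [hv.step (a' := ω + ω ^ 3 + ω ^ 4) (b' := (1) + ω ^ 4) (c' := ω ^ 2 + ω ^ 4)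
      (by (try rw [hbq]); all_goals (try simp only [hμd, hbd, hνd]); all_goals linear_combination (0) * hω + (0) * hp)
      (by (try rw [hbq]); all_goals (try simp only [hμd, hbd, hνd]); all_goals linear_combination ((1) + ω + ω ^ 2) * hω + ((-1) + ω ^ 5) * hp)
      (by (try rw [hbq]); all_goals (try simp only [hμd, hbd, hνd]); all_goals linear_combination ((-1) * ω ^ 2) * hω + (ω + ω ^ 3 + ω ^ 4 + ω ^ 5) * hp)]
    rw [hv.step (a' := ω + ω ^ 3 + ω ^ 4) (b' := ω + ω ^ 4) (c' := 0)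
      (by (try rw [hbq]); all_goals (try simp only [hμd, hbd, hνd]); all_goals linear_combination (0) * hω + (0) * hp)
      (by (try rw [hbq]); all_goals (try simp only [hμd, hbd, hνd]); all_goals linear_combination ((1) + ω + ω ^ 2) * hω + ((-1) * ω + ω ^ 5) * hp)
      (by (try rw [hbq]); all_goals (try simp only [hμd, hbd, hνd]); all_goals linear_combination ((-1) * ω ^ 2) * hω + (ω ^ 2 + ω ^ 3 + ω ^ 4 + ω ^ 5) * hp)]
  · rw [hX]
    refine genProp_of_fixed hF fun r d hrd hd hr2 hfix => ?_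
    have hr : r ∣ 64 := by
      rw [show (64 : ℕ) = 8 ^ 2 by norm_num, ← hrd]; exact dvd_pow_self _ (by omega)
    have hrq : r ≤ 8 := by
      by_contra hlt
      have : r ^ 2 ≤ r ^ d := Nat.pow_le_pow_right (by omega) hd
      nlinarith
    interval_cases r <;> try (norm_num at hr)
    · exact one_ne_zero (α := F) (by linear_combination (ω ^ 2) * hfix - ((1)) * hω - ((-1) + (-1) * ω ^ 3 + ω ^ 5) * hp)
    · exact one_ne_zero (α := F) (by linear_combination (ω + ω ^ 3 + ω ^ 5) * hfix - ((-5) + (-2) * ω + ω ^ 2 + (4) * ω ^ 3 + (7) * ω ^ 4 + (7) * ω ^ 5 + (4) * ω ^ 6 + ω ^ 7) * hω - ((2) + ω + (-1) * ω ^ 2 + (-3) * ω ^ 4 + (-4) * ω ^ 5) * hp)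
    · exact one_ne_zero (α := F) (by linear_combination ((1) + ω + ω ^ 2 + ω ^ 5) * hfix - ((53) + (27) * ω + (-20) * ω ^ 2 + (-89) * ω ^ 3 + (-118) * ω ^ 4 + (-62) * ω ^ 5 + (35) * ω ^ 6 + (90) * ω ^ 7 + (83) * ω ^ 8 + (63) * ω ^ 9 + (65) * ω ^ 10 + (71) * ω ^ 11 + (56) * ω ^ 12 + (28) * ω ^ 13 + (8) * ω ^ 14 + ω ^ 15) * hω - ((-27) + (-14) * ω + (9) * ω ^ 2 + (17) * ω ^ 3 + (45) * ω ^ 4 + (41) * ω ^ 5) * hp)

end Cfsg.Agent.UnitarySU3TwoGen87

namespace Cfsg.Agent.UnitarySU3TwoGen87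

open Cfsg Cfsg.Agent.UnitaryThreeRegular87

/-- `SU(3, q)`, `q ≥ 3`, is generated by two conjugate regular unipotent elements. -/
theorem main3 {F : Type*} [Field F] [Fintype F] {q : ℕ} (hF : Fintype.card F = q ^ 2) (hq : 3 ≤ q) :
    ∃ u g : SU 3 F q,
      (IsNilpotent ((u : Matrix.SpecialLinearGroup (Fin 3) F).1 - 1) ∧
        ((u : Matrix.SpecialLinearGroup (Fin 3) F).1 - 1) ^ (3 - 1) ≠ 0) ∧
      Subgroup.closure ({u, g * u * g⁻¹} : Set (SU 3 F q)) = ⊤ := by
  by_cases h5 : q = 5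
  · subst h5; exact case5 hF
  by_cases h8 : q = 8
  · subst h8; exact case8 hF
  exact generic hF hq h5 h8

end Cfsg.Agent.UnitarySU3TwoGen87
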