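import Mathlib
import Cfsg.Agent.Lib.UnitaryPrimeOrderClasses

/-!
Semisimple classes of special unitary groups: every norm one scalar is the determinant of a
unitary matrix commuting with a given semisimple unitary matrix.
-/

set_option autoImplicit false

namespace Cfsg.Agent.UnitarySemisimpleClasses

open Polynomial Cfsg.Agent.HermitianFactor Cfsg.Agent.UnitaryPrimeOrderClasses

universe u v

section Endo

variable {F : Type u} [Field F] {V : Type v} [AddCommGroup V] [Module F V] [FiniteDimensional F V]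

/-- A simple irreducible factor makes the determinant surjective on polynomials in `a`. -/
theorem exists_poly_det_end [Finite F] (a : Module.End F V) (ha : a.IsSemisimple) {g : F[X]}
    (hg : Irreducible g) (hm : g.Monic) (hd : g ∣ a.charpoly) (h2 : ¬ g * g ∣ a.charpoly) (r : F) :
    ∃ P : F[X], LinearMap.det (aeval a P) = r := by
  have : Fact (Irreducible g) := ⟨hg⟩
  have : Module.Finite F (AdjoinRoot g) := (AdjoinRoot.powerBasis' hm).finite
  have : Finite (AdjoinRoot g) := Module.finite_of_finite F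
  obtain ⟨Q, c, e, -, hce, hcp, -⟩ := SemisimpleConjGL.exists_split a ha hg hm hd
  obtain ⟨y, hy⟩ := FiniteField.norm_surjective F (AdjoinRoot g) r
  obtain ⟨Y, hY⟩ := AdjoinRoot.mk_surjective y
  have hcop : IsCoprime g c.charpoly := hg.coprime_iff_not_dvd.2 fun h =>
    h2 (hcp ▸ mul_dvd_mul_left g h)
  obtain ⟨u, w, huw⟩ := hcop
  refine ⟨1 + (Y - 1) * (w * c.charpoly), ?_⟩
  set P := 1 + (Y - 1) * (w * c.charpoly) with hP
  have h1 : aeval (SemisimpleConjGL.rootMul g) P = LinearMap.mulLeft F y := by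
    rw [show SemisimpleConjGL.rootMul g = Algebra.lmul F (AdjoinRoot g) (AdjoinRoot.root g) from rfl,
      aeval_algHom_apply, AdjoinRoot.aeval_eq]
    have : AdjoinRoot.mk g P = y := by
      rw [← hY, AdjoinRoot.mk_eq_mk]
      exact ⟨-((Y - 1) * u), by rw [hP]; linear_combination (Y - 1) * huw⟩
    rw [this]
    rfl
  have h3 : aeval c P = 1 := by
    rw [hP, map_add, map_one, map_mul, map_mul, LinearMap.aeval_self_charpoly, mul_zero, mul_zero,
      add_zero]
  have h4 : aeval a P = e.conj ((LinearMap.mulLeft F y).prodMap LinearMap.id) := by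
    rw [← hce]
    calc aeval (LinearEquiv.conjAlgEquiv F e
          (LinearMap.prodMapAlgHom F (AdjoinRoot g) Q (SemisimpleConjGL.rootMul g, c))) P
        = LinearEquiv.conjAlgEquiv F e
            (LinearMap.prodMapAlgHom F (AdjoinRoot g) Q (aeval (SemisimpleConjGL.rootMul g, c) P)) := by
          rw [← AlgEquiv.coe_toAlgHom, aeval_algHom_apply, aeval_algHom_apply]
      _ = _ := by
          rw [Polynomial.aeval_prod_apply, h1, h3]
          rfl
  rw [h4, LinearEquiv.conj_apply]
  change LinearMap.det ((e.toLinearMap ∘ₗ _) ∘ₗ e.symm.toLinearMap) = r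
  rw [LinearMap.comp_assoc, LinearMap.det_conj, LinearMap.det_prodMap, LinearMap.det_id, mul_one, ← hy]
  rfl

end Endo

section Matrices

variable {K : Type*} [Field K] [Fintype K] {σ : K →+* K} {ι κ : Type*} [Fintype ι] [DecidableEq ι]
  [Fintype κ] [DecidableEq κ]

theorem exists_poly_det {M : Matrix ι ι K} (hs : Module.End.IsSemisimple (Matrix.toLin' M)) {g : K[X]}
    (hg : Irreducible g) (hm : g.Monic) (hd : g ∣ M.charpoly) (h2 : ¬ g * g ∣ M.charpoly) (r : K) :
    ∃ P : K[X], (aeval M P).det = r := by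
  obtain ⟨P, hP⟩ := exists_poly_det_end (Matrix.toLin' M) hs hg hm
    (by rwa [Matrix.charpoly_toLin']) (by rwa [Matrix.charpoly_toLin']) r
  refine ⟨P, ?_⟩
  rw [show Matrix.toLin' M = Matrix.toLinAlgEquiv' M from rfl, ← AlgEquiv.coe_toAlgHom,
    aeval_algHom_apply] at hP
  rw [← LinearMap.det_toLin']
  exact hP

theorem det_ct (M : Matrix ι ι K) : (ct σ M).det = σ M.det := by
  rw [ct, Matrix.det_transpose, ← RingHom.mapMatrix_apply, ← RingHom.map_det]

theorem ct_pow (M : Matrix ι ι K) (N : ℕ) : ct σ M ^ N = ct σ (M ^ N) := by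
  induction N with
  | zero => simp [ct_one]
  | succ N ih => rw [pow_succ, ih, pow_succ', ct_mul]

/-- With a simple irreducible factor, every norm one scalar is the determinant of a unitary
element of the centraliser. -/
theorem exists_unitary_det_simple (hσ : ∀ x, σ (σ x) = x) (c : K) (hc : σ c ≠ c) {M : Matrix ι ι K}
    (hM : ct σ M * M = 1) (hs : Module.End.IsSemisimple (Matrix.toLin' M)) {g : K[X]}
    (hg : Irreducible g) (hm : g.Monic) (hd : g ∣ M.charpoly) (h2 : ¬ g * g ∣ M.charpoly) {d : K}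
    (hd1 : d * σ d = 1) :
    ∃ u : Matrix ι ι K, ct σ u * u = 1 ∧ u * M = M * u ∧ u.det = d := by
  obtain ⟨s, hsu, hs'⟩ := NormHilbert90.exists_isUnit_eq_mul σ hσ c
    (isUnit_iff_ne_zero.2 (sub_ne_zero.2 (Ne.symm hc))) d hd1
  obtain ⟨P, hP⟩ := exists_poly_det hs hg hm hd h2 s
  set t := aeval M P with ht
  have htu : IsUnit t := (Matrix.isUnit_iff_isUnit_det _).2 (hP.symm ▸ hsu)
  have hMM : M * ct σ M = 1 := mul_eq_one_comm.1 hM
  have htM : t * M = M * t := by
    have h := (map_mul (aeval M) P X).symm.trans ((congrArg _ (mul_comm P X)).trans (map_mul (aeval M) X P))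
    rwa [aeval_X] at h
  have hc1 : ct σ M * ct σ t = ct σ t * ct σ M := by rw [← ct_mul, htM, ct_mul]
  have hMt : M * ct σ t = ct σ t * M := by
    calc M * ct σ t = M * (ct σ t * ct σ M) * M := by rw [mul_assoc M, mul_assoc (ct σ t), hM, mul_one]
      _ = _ := by rw [← hc1, ← mul_assoc, hMM, one_mul]
  have htt : t * ct σ t = ct σ t * t :=
    (Algebra.commute_of_mem_adjoin_singleton_of_commute (aeval_mem_adjoin_singleton K M)
      (show Commute (ct σ t) M from hMt.symm)).symm
  obtain ⟨T, hT⟩ := isUnit_ct (σ := σ) htu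
  set W : Matrix ι ι K := ((T⁻¹ : (Matrix ι ι K)ˣ) : Matrix ι ι K) with hW
  have hW1 : ct σ t * W = 1 := by rw [← hT]; exact T.mul_inv
  have hW2 : W * ct σ t = 1 := mul_eq_one_comm.1 hW1
  have hctW : ct σ W * t = 1 := by
    have := congrArg (ct σ) hW1
    rwa [ct_mul, ct_ct hσ, ct_one] at this
  refine ⟨t * W, ?_, ?_, ?_⟩
  · calc ct σ (t * W) * (t * W) = ct σ W * (ct σ t * t) * W := by rw [ct_mul]; simp only [mul_assoc]
      _ = (ct σ W * t) * (ct σ t * W) := by rw [← htt]; simp only [mul_assoc]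
      _ = 1 := by rw [hctW, hW1, one_mul]
  · have hWM : W * M = M * W := by
      calc W * M = W * (M * (ct σ t * W)) := by rw [hW1, mul_one]
        _ = W * (ct σ t * M) * W := by rw [← mul_assoc M, hMt]; simp only [mul_assoc]
        _ = M * W := by rw [← mul_assoc, hW2, one_mul]
    rw [mul_assoc, hWM, ← mul_assoc, htM, mul_assoc]
  · have hdW : σ s * W.det = 1 := by
      rw [← hP, ← det_ct, ← Matrix.det_mul, hW1, Matrix.det_one]
    rw [Matrix.det_mul, hP]
    conv_lhs => arg 1; rw [← hs']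
    rw [mul_assoc, hdW, mul_one]

theorem ct_fromBlocks_diag (A : Matrix ι ι K) (D : Matrix κ κ K) :
    ct σ (Matrix.fromBlocks A 0 0 D) = Matrix.fromBlocks (ct σ A) 0 0 (ct σ D) := by
  simp [ct, Matrix.fromBlocks_map, Matrix.fromBlocks_transpose]

end Matrices

section Unitary

variable {K : Type*} [Field K] [Fintype K] {σ : K →+* K} [DecidableEq K]

/-- A semisimple unitary matrix with prescribed self-dual characteristic polynomial. -/
theorem exists_unitary {n p q : ℕ} [Fact p.Prime] [CharP K p] (hK : Fintype.card K = q ^ 2)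
    (hq : ∀ x, σ x = x ^ q) {P : K[X]} (hPm : P.Monic) (hPd : P.natDegree = n)
    (hdual : dual σ P = P) (h0 : P.coeff 0 ≠ 0) :
    ∃ g : ↥(Cfsg.GU n K q), ((g : GL (Fin n) K) : Matrix (Fin n) (Fin n) K).charpoly = P ∧
      (orderOf g).Coprime p := by
  obtain ⟨A, hA⟩ := SemisimpleConjGL.exists_matrix_charpoly P hPm hPd
  have hA0 : A.det ≠ 0 := by
    rw [Matrix.det_eq_sign_charpoly_coeff, hA]
    exact mul_ne_zero (pow_ne_zero _ (neg_ne_zero.2 one_ne_zero)) h0
  obtain ⟨a, k, hcop, hpow⟩ :=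
    SemisimpleConjGL.exists_regular_part p (Matrix.GeneralLinearGroup.mkOfDetNeZero A hA0)
  set x := Matrix.GeneralLinearGroup.mkOfDetNeZero A hA0 ^ a with hx
  have hc : (x : Matrix (Fin n) (Fin n) K).charpoly = P := by
    rw [← hA]
    refine SemisimpleConjGL.charpoly_eq_of_pow_eq (p := p) (k := k) ?_
    rw [← Units.val_pow_eq_pow_val, hpow, Units.val_pow_eq_pow_val]
    rfl
  have hss := SemisimpleConjGL.isSemisimple_of_coprime (MonoidHom.id (GL (Fin n) K)) hcop
  have hxn : (x : Matrix (Fin n) (Fin n) K) ^ orderOf x = 1 := by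
    rw [← Units.val_pow_eq_pow_val, pow_orderOf_eq_one, Units.val_one]
  have hNF : ((orderOf x : ℕ) : K) ≠ 0 := by
    rw [Ne, CharP.cast_eq_zero_iff K p]
    exact (Fact.out : p.Prime).coprime_iff_not_dvd.1 hcop.symm
  set Y := (ct σ (x : Matrix (Fin n) (Fin n) K))⁻¹ with hY
  have hYn : Y ^ orderOf x = 1 := by
    rw [hY, Matrix.inv_pow', ct_pow, hxn, ct_one, inv_one]
  obtain ⟨U, hU⟩ := SemisimpleConjGL.exists_gl_conj (A := (x : Matrix (Fin n) (Fin n) K)) (B := Y) hss
    (SemisimpleConjGL.isSemisimple_of_pow_eq_one hNF hYn)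
    (by rw [hY, charpoly_ct_inv _ x.isUnit, hc, hdual])
  have hconj : IsConj (x : Matrix (Fin n) (Fin n) K)
      (((x : Matrix (Fin n) (Fin n) K).map (fun y : K => y ^ q)).transpose)⁻¹ := by
    refine ⟨U, ?_⟩
    have : ((x : Matrix (Fin n) (Fin n) K).map (fun y : K => y ^ q)).transpose =
        ct σ (x : Matrix (Fin n) (Fin n) K) := by
      ext i j; simp [ct, hq]
    rw [this]
    exact hU
  obtain ⟨g, hg⟩ := (Cfsg.Agent.S2588.result hK x).2 hconj
  refine ⟨g, (SemisimpleConjGL.charpoly_eq_of_isConj_val (MonoidHom.id (GL (Fin n) K)) hg).symm.trans hc, ?_⟩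
  obtain ⟨w, hw⟩ := isConj_iff.1 hg
  rw [← Subgroup.orderOf_coe, ← hw, ← MulAut.conj_apply, MulEquiv.orderOf_eq]
  exact hcop

/-- Every norm one scalar is the determinant of a unitary matrix commuting with a given unitary
matrix of order prime to the characteristic. -/
theorem exists_commute_det {n p q : ℕ} [Fact p.Prime] [CharP K p] (hK : Fintype.card K = q ^ 2)
    (hq : ∀ x, σ x = x ^ q) (hσ : ∀ x, σ (σ x) = x) (c : K) (hc : σ c ≠ c) (hn : 0 < n)
    (h : ↥(Cfsg.GU n K q)) (hh : (orderOf h).Coprime p) {d : K} (hd : d * σ d = 1) :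
    ∃ z : ↥(Cfsg.GU n K q), z * h = h * z ∧
      ((z : GL (Fin n) K) : Matrix (Fin n) (Fin n) K).det = d := by
  classical
  set f := ((h : GL (Fin n) K) : Matrix (Fin n) (Fin n) K).charpoly with hf
  have hfd : f.natDegree = n := by rw [hf, Matrix.charpoly_natDegree_eq_dim, Fintype.card_fin]
  have hfm : f.Monic := Matrix.charpoly_monic _
  obtain ⟨g, hgm, hg, hgf⟩ := exists_monic_irreducible_factor f
    (fun hu => by have := natDegree_eq_zero_of_isUnit hu; omega)
  have hN : ((h : GL (Fin n) K) : Matrix (Fin n) (Fin n) K) ^ orderOf h = 1 := by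
    rw [← Units.val_pow_eq_pow_val, ← SubgroupClass.coe_pow, pow_orderOf_eq_one, OneMemClass.coe_one,
      Units.val_one]
  have hgN : g ∣ X ^ orderOf h - 1 := PrimeOrderClassCount.dvd_of_pow_eq_one hN hg hgf
  obtain ⟨hg'm, hg', -, -, hgg⟩ := dual_facts hσ hgm hg (orderOf h) hgN
  have hfdual : dual σ f = f := mem_dual_fixed hq hσ h
  have hg'f : dual σ g ∣ f := by
    obtain ⟨c', hc'⟩ := hgf
    rw [← hfdual, hc', dual_mul]
    exact dvd_mul_right _ _
  set B := if dual σ g = g then g else g * dual σ g with hB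
  have hBdual : dual σ B = B := by
    rw [hB]; split_ifs with he
    · exact he
    · rw [dual_mul, hgg, mul_comm]
  have hBf : B ∣ f := by
    rw [hB]; split_ifs with he
    · exact hgf
    · refine IsCoprime.mul_dvd (hg.coprime_iff_not_dvd.2 fun h' => he ?_) hgf hg'f
      exact (eq_of_monic_of_associated hgm hg'm (hg.associated_of_dvd hg' h')).symm
  have hgB : g ∣ B := by
    rw [hB]; split_ifs
    · exact dvd_rfl
    · exact dvd_mul_right _ _
  have hB2 : ¬ g * g ∣ B := by
    rw [hB]; split_ifs with he <;> intro h'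
    · have := natDegree_le_of_dvd h' hgm.ne_zero
      rw [hgm.natDegree_mul hgm] at this
      have := hg.natDegree_pos
      omega
    · exact he (eq_of_monic_of_associated hgm hg'm
        (hg.associated_of_dvd hg' ((mul_dvd_mul_iff_left hgm.ne_zero).1 h'))).symm
  have hBm : B.Monic := by
    rw [hB]; split_ifs
    · exact hgm
    · exact hgm.mul hg'm
  obtain ⟨C', hC⟩ := hBf
  have hCm : C'.Monic := hBm.of_mul_monic_left (hC ▸ hfm)
  have hCdual : dual σ C' = C' := mul_left_cancel₀ hBm.ne_zero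
    (calc B * dual σ C' = dual σ (B * C') := by rw [dual_mul, hBdual]
      _ = B * C' := by rw [← hC, hfdual])
  have h0 : B.coeff 0 * C'.coeff 0 ≠ 0 := by
    rw [← mul_coeff_zero, ← hC]
    intro h'
    have hu : IsUnit ((h : GL (Fin n) K) : Matrix (Fin n) (Fin n) K).det :=
      (Matrix.isUnit_iff_isUnit_det _).1 (h : GL (Fin n) K).isUnit
    rw [Matrix.det_eq_sign_charpoly_coeff, ← hf, h', mul_zero] at hu
    exact not_isUnit_zero hu
  obtain ⟨h1, h1c, h1o⟩ := exists_unitary (p := p) hK hq hBm rfl hBdual (left_ne_zero_of_mul h0)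
  obtain ⟨h2, h2c, h2o⟩ := exists_unitary (p := p) hK hq hCm rfl hCdual (right_ne_zero_of_mul h0)
  set M1 := ((h1 : GL (Fin B.natDegree) K) : Matrix (Fin B.natDegree) (Fin B.natDegree) K) with hM1d
  set M2 := ((h2 : GL (Fin C'.natDegree) K) : Matrix (Fin C'.natDegree) (Fin C'.natDegree) K) with hM2d
  have hM1 : ct σ M1 * M1 = 1 := (mem_GU_iff hq hσ _).1 h1.2
  have hM2 : ct σ M2 * M2 = 1 := (mem_GU_iff hq hσ _).1 h2.2
  obtain ⟨u, hu, huM, hud⟩ := exists_unitary_det_simple hσ c hc hM1
    (SemisimpleConjGL.isSemisimple_of_coprime (Cfsg.GU _ K q).subtype h1o) hg hgm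
    (h1c.symm ▸ hgB) (h1c.symm ▸ hB2) hd
  have hab : B.natDegree + C'.natDegree = n := by rw [← hfd, hC, hBm.natDegree_mul hCm]
  let e : Fin B.natDegree ⊕ Fin C'.natDegree ≃ Fin n := finSumFinEquiv.trans (finCongr hab)
  let R := Matrix.reindexAlgEquiv K K e
  set M := R (Matrix.fromBlocks M1 0 0 M2) with hMd
  set Z := R (Matrix.fromBlocks u 0 0 1) with hZd
  have hR : ∀ X : Matrix (Fin B.natDegree ⊕ Fin C'.natDegree) (Fin B.natDegree ⊕ Fin C'.natDegree) K,
      ct σ (R X) = R (ct σ X) := fun X => rfl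
  have hMu : ct σ M * M = 1 := by
    rw [hMd, hR, ← map_mul, ct_fromBlocks_diag, Matrix.fromBlocks_multiply]
    simp [hM1, hM2]
  have hZu : ct σ Z * Z = 1 := by
    rw [hZd, hR, ← map_mul, ct_fromBlocks_diag, Matrix.fromBlocks_multiply]
    simp [hu, ct_one]
  have hZM : Z * M = M * Z := by
    rw [hZd, hMd, ← map_mul, ← map_mul, Matrix.fromBlocks_multiply, Matrix.fromBlocks_multiply]
    simp [huM]
  have hpow1 : M1 ^ orderOf h1 = 1 := by
    rw [hM1d, ← Units.val_pow_eq_pow_val, ← SubgroupClass.coe_pow, pow_orderOf_eq_one, OneMemClass.coe_one,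
      Units.val_one]
  have hpow2 : M2 ^ orderOf h2 = 1 := by
    rw [hM2d, ← Units.val_pow_eq_pow_val, ← SubgroupClass.coe_pow, pow_orderOf_eq_one, OneMemClass.coe_one,
      Units.val_one]
  have hMN : M ^ (orderOf h1 * orderOf h2) = 1 := by
    rw [hMd, ← map_pow, Matrix.fromBlocks_diagonal_pow]
    rw [pow_mul, hpow1, one_pow, mul_comm, pow_mul, hpow2, one_pow, Matrix.fromBlocks_one, map_one]
  have hMs : Module.End.IsSemisimple (Matrix.toLin' M) := by
    refine SemisimpleConjGL.isSemisimple_of_pow_eq_one ?_ hMN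
    rw [Ne, CharP.cast_eq_zero_iff K p]
    exact (Fact.out : p.Prime).coprime_iff_not_dvd.1 (h1o.mul_left h2o).symm
  have hMc : M.charpoly = f := by
    rw [hMd]
    show (Matrix.reindex e e _).charpoly = f
    rw [Matrix.charpoly_reindex, Matrix.charpoly_fromBlocks_zero₂₁,
      h1c, h2c, ← hC]
  let h' : ↥(Cfsg.GU n K q) := ⟨⟨M, ct σ M, mul_eq_one_comm.1 hMu, hMu⟩, (mem_GU_iff hq hσ _).2 hMu⟩
  let z' : ↥(Cfsg.GU n K q) := ⟨⟨Z, ct σ Z, mul_eq_one_comm.1 hZu, hZu⟩, (mem_GU_iff hq hσ _).2 hZu⟩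
  obtain ⟨P, hP⟩ := SemisimpleConjGL.exists_gl_conj
    (SemisimpleConjGL.isSemisimple_of_coprime (Cfsg.GU n K q).subtype hh) hMs hMc.symm
  obtain ⟨w, hw⟩ := isConj_iff.1 (isConj_of_linear hq hσ c hc h h' P (Units.ext hP))
  have hzh : z' * h' = h' * z' := Subtype.ext (Units.ext hZM)
  refine ⟨w⁻¹ * z' * w, ?_, ?_⟩
  · rw [← hw] at hzh
    have := congrArg (fun x => w⁻¹ * x * w) hzh
    simpa [mul_assoc] using this
  · have hdZ : Z.det = d := by
      rw [hZd]
      show (Matrix.reindex e e _).det = d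
      rw [Matrix.det_reindex_self, Matrix.det_fromBlocks_zero₂₁, hud,
        Matrix.det_one, mul_one]
    rw [Subgroup.coe_mul, Subgroup.coe_mul, InvMemClass.coe_inv, Units.val_mul, Units.val_mul,
      Matrix.coe_units_inv, Matrix.det_conj' (w : GL (Fin n) K).isUnit]
    exact hdZ

omit [DecidableEq K] in
/-- Conjugacy in `SU_n(q)` of elements of order prime to `p` is decided by the characteristic
polynomial. -/
theorem isConj_SU {p q : ℕ} [Fact p.Prime] [CharP K p] (hK : Fintype.card K = q ^ 2) (n : ℕ)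
    (g h : ↥(Cfsg.SU n K q)) (hg : (orderOf g).Coprime p) (hh : (orderOf h).Coprime p)
    (hc : ((g : Matrix.SpecialLinearGroup (Fin n) K) : Matrix (Fin n) (Fin n) K).charpoly =
      ((h : Matrix.SpecialLinearGroup (Fin n) K) : Matrix (Fin n) (Fin n) K).charpoly) : IsConj g h := by
  classical
  rcases Nat.eq_zero_or_pos n with rfl | hn
  · have : g = h := Subtype.ext (Subtype.ext (Matrix.ext fun i => i.elim0))
    rw [this]
  obtain ⟨σ, hq, hσ, c, hcσ⟩ := exists_conjugation hK
  let toGU : ↥(Cfsg.SU n K q) →* ↥(Cfsg.GU n K q) :=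
    (Matrix.SpecialLinearGroup.toGL.comp (Cfsg.SU n K q).subtype).codRestrict _ fun x => x.2
  let φ := Matrix.SpecialLinearGroup.toGL.comp (Cfsg.SU n K q).subtype
  obtain ⟨P, hP⟩ := SemisimpleConjGL.exists_gl_conj (SemisimpleConjGL.isSemisimple_of_coprime φ hg)
    (SemisimpleConjGL.isSemisimple_of_coprime φ hh) hc
  obtain ⟨k, hk⟩ := isConj_iff.1 (isConj_of_linear hq hσ c hcσ (toGU g) (toGU h) P (Units.ext hP))
  set d := ((k : GL (Fin n) K) : Matrix (Fin n) (Fin n) K).det with hdd
  have hd : d * σ d = 1 := by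
    rw [hdd, ← det_ct, ← Matrix.det_mul, mul_eq_one_comm.1 ((mem_GU_iff hq hσ _).1 k.2), Matrix.det_one]
  obtain ⟨z, hz, hzd⟩ := exists_commute_det (p := p) hK hq hσ c hcσ hn (toGU h)
    (Nat.Coprime.coprime_dvd_left (orderOf_map_dvd toGU h) hh) (d := σ d)
    (by rw [hσ, mul_comm]; exact hd)
  have hdet : (((z * k : ↥(Cfsg.GU n K q)) : GL (Fin n) K) : Matrix (Fin n) (Fin n) K).det = 1 := by
    rw [Subgroup.coe_mul, Units.val_mul, Matrix.det_mul, hzd, ← hdd, mul_comm, hd]
  let s : ↥(Cfsg.SU n K q) := ⟨⟨_, hdet⟩, (z * k).2⟩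
  have hs : toGU s = z * k := Subtype.ext (Units.ext rfl)
  refine isConj_iff.2 ⟨s, ?_⟩
  have hinj : Function.Injective toGU := fun a b hab =>
    Subtype.ext (Subtype.ext (congrArg (fun x : ↥(Cfsg.GU n K q) =>
      ((x : GL (Fin n) K) : Matrix (Fin n) (Fin n) K)) hab))
  apply hinj
  rw [map_mul, map_mul, map_inv, hs]
  calc z * k * toGU g * (z * k)⁻¹ = z * (k * toGU g * k⁻¹) * z⁻¹ := by group
    _ = toGU h := by rw [hk, hz, mul_inv_cancel_right]

end Unitary

section Count

variable {K : Type*} [Field K] [Fintype K] {σ : K →+* K}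

/-- Vectors fixed by a semilinear involution of `K ^ ι`. -/
theorem card_fixed_vectors {q : ℕ} (hK : Fintype.card K = q ^ 2) (hσ : ∀ x, σ (σ x) = x) (lam : K)
    (hlam : σ lam ≠ lam) {ι : Type*} [Fintype ι] (r : ι → ι) (hr : ∀ i, r (r i) = i) (e : K)
    (he : e * σ e = 1) :
    Nat.card {w : ι → K // ∀ i, w i = e * σ (w (r i))} = q ^ Fintype.card ι := by
  classical
  have hne : lam - σ lam ≠ 0 := sub_ne_zero.2 (Ne.symm hlam)
  let V := {w : ι → K // ∀ i, w i = e * σ (w (r i))}
  have hbar : ∀ (x : ι → K) i, e * σ (e * σ (x (r (r i)))) = x i := fun x i => by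
    rw [hr, map_mul, hσ, ← mul_assoc, he, one_mul]
  let B : (ι → K) → V := fun w => ⟨fun i => (w i - e * σ (w (r i))) / (lam - σ lam), fun i => by
    rw [map_div₀, map_sub, map_sub, hσ, hr, map_mul, hσ, mul_div_assoc', mul_sub, ← mul_assoc, he,
      one_mul, ← neg_sub (w i), ← neg_sub lam (σ lam), neg_div_neg_eq]⟩
  have key : (V × V) ≃ (ι → K) :=
    { toFun := fun ab i => ab.1.1 i + lam * ab.2.1 i
      invFun := fun w => (⟨fun i => w i - lam * (B w).1 i, fun i => by
          have h := (B w).2 i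
          have h' : (B w).1 (r i) = (w (r i) - e * σ (w i)) / (lam - σ lam) := by simp [B, hr]
          have h'' : (B w).1 i * (lam - σ lam) = w i - e * σ (w (r i)) := div_mul_cancel₀ _ hne
          rw [map_sub, map_mul, mul_sub, mul_left_comm, ← h]
          linear_combination -h''⟩, B w)
      left_inv := fun ab => by
        obtain ⟨a, b⟩ := ab
        have hb : B (fun i => a.1 i + lam * b.1 i) = b := Subtype.ext (funext fun i => by
          show (a.1 i + lam * b.1 i - e * σ (a.1 (r i) + lam * b.1 (r i))) / (lam - σ lam) = b.1 i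
          rw [map_add, map_mul, mul_add, mul_left_comm e, ← a.2, ← b.2, div_eq_iff hne]
          ring)
        refine Prod.ext (Subtype.ext (funext fun i => ?_)) hb
        show a.1 i + lam * b.1 i - lam * (B (fun i => a.1 i + lam * b.1 i)).1 i = a.1 i
        rw [hb]; ring
      right_inv := fun w => funext fun i => by simp }
  have hcard := Nat.card_congr key
  rw [Nat.card_prod, Nat.card_eq_fintype_card (α := ι → K), Fintype.card_fun, hK, ← pow_mul,
    mul_comm 2, pow_mul, ← pow_two] at hcard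
  exact Nat.pow_left_injective two_ne_zero hcard

variable [DecidableEq K]

/-- Coefficients of the conjugate reciprocal. -/
theorem dual_coeff {f : K[X]} (hf : f.Monic) {e : K} (h0 : f.coeff 0 = e) (he : e * e = 1)
    (hσe : σ e = e) {i : ℕ} (hi : i ≤ f.natDegree) :
    (dual σ f).coeff i = e * σ (f.coeff (f.natDegree - i)) := by
  have he0 : e ≠ 0 := left_ne_zero_of_mul_eq_one he
  have ht : (f.map σ).natTrailingDegree = 0 :=
    natTrailingDegree_eq_zero.2 (Or.inr (by rw [coeff_map, h0, hσe]; exact he0))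
  have hlead : (f.map σ).mirror.leadingCoeff = e := by
    rw [mirror_leadingCoeff, trailingCoeff, ht, coeff_map, h0, hσe]
  have hd : dual σ f = C e * (f.map σ).mirror := by
    refine eq_of_monic_of_associated (monic_normalize (mirror_eq_zero.not.2 (hf.map σ).ne_zero)) ?_ ?_
    · exact monic_C_mul_of_mul_leadingCoeff_eq_one (by rw [hlead, he])
    · exact (normalize_associated _).trans (associated_unit_mul_right _ _ (isUnit_C.2 (IsUnit.of_mul_eq_one _ he)))
  rw [hd, coeff_C_mul, Polynomial.mirror, ht, pow_zero, mul_one, coeff_reverse, natDegree_map, coeff_map,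
    revAt_le hi]

omit [DecidableEq K] in
/-- The number of semisimple classes of `SU_n(q)`. -/
theorem card_classes_SU {p q : ℕ} [Fact p.Prime] [CharP K p] (hK : Fintype.card K = q ^ 2) (m : ℕ) :
    Nat.card {c : ConjClasses ↥(Cfsg.SU (m + 1) K q) //
      ∃ g : ↥(Cfsg.SU (m + 1) K q), ConjClasses.mk g = c ∧ (orderOf g).Coprime p} = q ^ m := by
  classical
  obtain ⟨σ, hq, hσ, lam, hlam⟩ := exists_conjugation hK
  set e : K := (-1) ^ (m + 1) with he'
  have he : e * e = 1 := by rw [he', ← mul_pow]; simp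
  have hσe : σ e = e := by simp [he']
  let φ : ↥(Cfsg.SU (m + 1) K q) →* GL (Fin (m + 1)) K :=
    Matrix.SpecialLinearGroup.toGL.comp (Cfsg.SU (m + 1) K q).subtype
  let T : (Fin (m + 1) → K) → Prop := fun v => v 0 = e ∧ ∀ j : Fin m, v j.succ = e * σ (v j.rev.succ)
  have hdet : ∀ A : Matrix (Fin (m + 1)) (Fin (m + 1)) K, A.det = e * A.charpoly.coeff 0 := fun A => by
    rw [Matrix.det_eq_sign_charpoly_coeff, Fintype.card_fin]
  have hrev : ∀ j : Fin m, m + 1 - (j.succ : Fin (m + 1)).val = (j.rev.succ : Fin (m + 1)).val := fun j => by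
    simp only [Fin.val_succ, Fin.val_rev]; omega
  rw [SemisimpleConjGL.card_classes φ T]
  · have eT : {v : Fin (m + 1) → K // T v} ≃ {w : Fin m → K // ∀ j, w j = e * σ (w j.rev)} :=
      { toFun := fun v => ⟨Fin.tail v.1, v.2.2⟩
        invFun := fun w => ⟨Fin.cons e w.1, by simp, fun j => by simpa using w.2 j⟩
        left_inv := fun v => Subtype.ext (by
          show Fin.cons e (Fin.tail v.1) = v.1
          conv_rhs => rw [← Fin.cons_self_tail v.1, v.2.1])
        right_inv := fun w => by simp }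
    rw [Nat.card_congr eT, card_fixed_vectors hK hσ lam hlam Fin.rev Fin.rev_rev e (by rw [hσe, he]),
      Fintype.card_fin]
  · intro g
    let A : Matrix (Fin (m + 1)) (Fin (m + 1)) K := (φ g : Matrix (Fin (m + 1)) (Fin (m + 1)) K)
    have h0 : A.charpoly.coeff 0 = e := by
      have h1 : A.det = 1 := g.1.2
      rw [hdet] at h1
      linear_combination e * h1 - A.charpoly.coeff 0 * he
    have hd : dual σ A.charpoly = A.charpoly := mem_dual_fixed hq hσ ⟨φ g, g.2⟩
    refine ⟨h0, fun j => ?_⟩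
    have hn : A.charpoly.natDegree = m + 1 := by rw [Matrix.charpoly_natDegree_eq_dim, Fintype.card_fin]
    have := dual_coeff (σ := σ) (Matrix.charpoly_monic A) h0 he hσe (i := (j.succ : Fin (m + 1)).val)
      (by rw [hn]; exact (j.succ).isLt.le)
    rw [hd, hn, hrev] at this
    exact this
  · intro v hv
    obtain ⟨A, hA⟩ := SemisimpleConjGL.exists_charCoeffs v
    have hcoef : ∀ i : Fin (m + 1), A.charpoly.coeff i.val = v i := fun i => congrFun hA i
    have h0 : A.charpoly.coeff 0 = e := (hcoef 0).trans hv.1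
    have hn : A.charpoly.natDegree = m + 1 := by rw [Matrix.charpoly_natDegree_eq_dim, Fintype.card_fin]
    have hd : dual σ A.charpoly = A.charpoly := by
      have hm0 : (A.charpoly.map σ).mirror ≠ 0 := mirror_eq_zero.not.2 ((Matrix.charpoly_monic A).map σ).ne_zero
      have hdeg : (dual σ A.charpoly).natDegree = m + 1 := by
        rw [dual, ← natDegree_eq_of_degree_eq (degree_eq_degree_of_associated (normalize_associated _).symm),
          mirror_natDegree, natDegree_map, hn]
      ext i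
      rcases Nat.lt_or_ge (m + 1) i with hi | hi
      · rw [coeff_eq_zero_of_natDegree_lt (by omega), coeff_eq_zero_of_natDegree_lt (by omega)]
      rw [dual_coeff (Matrix.charpoly_monic A) h0 he hσe (le_of_le_of_eq hi hn.symm), hn]
      rcases Nat.eq_zero_or_pos i with rfl | hi0
      · have hl : A.charpoly.coeff (m + 1) = 1 := by
          have := (Matrix.charpoly_monic A).coeff_natDegree
          rwa [hn] at this
        rw [Nat.sub_zero, hl, map_one, mul_one, h0]
      rcases hi.eq_or_lt with rfl | hlt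
      · have hl : A.charpoly.coeff (m + 1) = 1 := by
          have := (Matrix.charpoly_monic A).coeff_natDegree
          rwa [hn] at this
        rw [Nat.sub_self, h0, hl, hσe, he]
      obtain ⟨j, rfl⟩ : ∃ j : Fin m, i = (j.succ : Fin (m + 1)).val :=
        ⟨⟨i - 1, by omega⟩, by simp only [Fin.val_succ]; omega⟩
      rw [hrev, hcoef, hcoef]
      exact (hv.2 j).symm
    obtain ⟨g, hgc, -⟩ := exists_unitary (p := p) hK hq (Matrix.charpoly_monic A) hn hd
      (h0 ▸ left_ne_zero_of_mul_eq_one he)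
    have hg1 : ((g : GL (Fin (m + 1)) K) : Matrix (Fin (m + 1)) (Fin (m + 1)) K).det = 1 := by
      rw [hdet, hgc, h0, he]
    refine ⟨⟨⟨_, hg1⟩, g.2⟩, ?_⟩
    rw [← hA]
    funext i
    exact congrArg (fun P : K[X] => P.coeff i.val) hgc
  · exact fun g h hg hh hgh => isConj_SU hK (m + 1) g h hg hh hgh

end Count

end Cfsg.Agent.UnitarySemisimpleClasses
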