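import Mathlib
import Cfsg.Agent.Lib.SylowTwoWreathSL

set_option autoImplicit false

/-!
Monomial 2-groups in dimension two satisfying the hypotheses of the wreath product induction.
-/

namespace Cfsg.Agent.UnitarySylowTwoBase

open Matrix
open scoped MatrixGroups
open SylowTwoWreathSL

variable {F : Type*} [Field F] [Finite F]

/-- A diagonal element. -/
def dia (x : Fˣ × Fˣ) : GL (Fin 2) F :=
  ⟨!![(x.1 : F), 0; 0, x.2], !![((x.1⁻¹ : Fˣ) : F), 0; 0, (x.2⁻¹ : Fˣ)],
    by ext i j; fin_cases i <;> fin_cases j <;> simp [Matrix.mul_apply, Fin.sum_univ_two],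
    by ext i j; fin_cases i <;> fin_cases j <;> simp [Matrix.mul_apply, Fin.sum_univ_two]⟩

/-- An antidiagonal element. -/
def anti (x : Fˣ × Fˣ) : GL (Fin 2) F :=
  ⟨!![0, (x.1 : F); x.2, 0], !![0, ((x.2⁻¹ : Fˣ) : F); (x.1⁻¹ : Fˣ), 0],
    by ext i j; fin_cases i <;> fin_cases j <;> simp [Matrix.mul_apply, Fin.sum_univ_two],
    by ext i j; fin_cases i <;> fin_cases j <;> simp [Matrix.mul_apply, Fin.sum_univ_two]⟩

omit [Finite F] in
lemma dia_val (x : Fˣ × Fˣ) : (dia x).val = !![(x.1 : F), 0; 0, x.2] := rfl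

omit [Finite F] in
lemma anti_val (x : Fˣ × Fˣ) : (anti x).val = !![0, (x.1 : F); x.2, 0] := rfl

omit [Finite F] in
lemma dia_dia (x y : Fˣ × Fˣ) : dia x * dia y = dia (x * y) := Units.ext (by
  ext i j; fin_cases i <;> fin_cases j <;> simp [dia, Matrix.mul_apply, Fin.sum_univ_two])

omit [Finite F] in
lemma dia_anti (x y : Fˣ × Fˣ) : dia x * anti y = anti (x * y) := Units.ext (by
  ext i j; fin_cases i <;> fin_cases j <;> simp [dia, anti, Matrix.mul_apply, Fin.sum_univ_two])

omit [Finite F] in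
lemma anti_dia (x y : Fˣ × Fˣ) : anti x * dia y = anti (x * y.swap) := Units.ext (by
  ext i j; fin_cases i <;> fin_cases j <;> simp [dia, anti, Matrix.mul_apply, Fin.sum_univ_two])

omit [Finite F] in
lemma anti_anti (x y : Fˣ × Fˣ) : anti x * anti y = dia (x * y.swap) := Units.ext (by
  ext i j; fin_cases i <;> fin_cases j <;> simp [dia, anti, Matrix.mul_apply, Fin.sum_univ_two])

omit [Finite F] in
lemma dia_one : dia (1 : Fˣ × Fˣ) = 1 := Units.ext (by
  ext i j; fin_cases i <;> fin_cases j <;> simp [dia])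

/-- The monomial group of `D`. -/
def mono (D : Subgroup (Fˣ × Fˣ)) (hsw : ∀ x ∈ D, x.swap ∈ D) : Subgroup (GL (Fin 2) F) where
  carrier := {g | ∃ x ∈ D, g = dia x ∨ g = anti x}
  one_mem' := ⟨1, one_mem _, Or.inl dia_one.symm⟩
  mul_mem' := by
    rintro _ _ ⟨x, hx, rfl | rfl⟩ ⟨y, hy, rfl | rfl⟩
    · exact ⟨_, mul_mem hx hy, Or.inl (dia_dia x y)⟩
    · exact ⟨_, mul_mem hx hy, Or.inr (dia_anti x y)⟩
    · exact ⟨_, mul_mem hx (hsw y hy), Or.inr (anti_dia x y)⟩
    · exact ⟨_, mul_mem hx (hsw y hy), Or.inl (anti_anti x y)⟩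
  inv_mem' := by
    rintro _ ⟨x, hx, rfl | rfl⟩
    · exact ⟨x⁻¹, inv_mem hx, Or.inl (inv_eq_of_mul_eq_one_right (by rw [dia_dia, mul_inv_cancel, dia_one]))⟩
    · exact ⟨x⁻¹.swap, hsw _ (inv_mem hx), Or.inr (inv_eq_of_mul_eq_one_right (by
        rw [anti_anti, Prod.swap_swap, mul_inv_cancel, dia_one]))⟩

lemma card_mono (D : Subgroup (Fˣ × Fˣ)) (hsw : ∀ x ∈ D, x.swap ∈ D) :
    Nat.card (mono D hsw) = 2 * Nat.card D := by
  have e : D × Bool ≃ mono D hsw := Equiv.ofBijective
    (fun x => if x.2 then ⟨anti x.1.1, x.1.1, x.1.2, Or.inr rfl⟩ else ⟨dia x.1.1, x.1.1, x.1.2, Or.inl rfl⟩)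
    ⟨?_, ?_⟩
  · rw [← Nat.card_congr e, Nat.card_prod, Nat.card_eq_fintype_card (α := Bool), Fintype.card_bool, mul_comm]
  · rintro ⟨x, s⟩ ⟨y, t⟩ h
    cases s <;> cases t <;> simp only [Bool.false_eq_true, if_false, if_true] at h
    · have h' := congrArg (fun z : mono D hsw => (z : GL (Fin 2) F).val) h
      have h00 := congrFun (congrFun h' 0) 0
      have h11 := congrFun (congrFun h' 1) 1
      simp [dia] at h00 h11
      exact Prod.ext (Subtype.ext (Prod.ext (Units.ext h00) (Units.ext h11))) rfl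
    · have h00 := congrFun (congrFun (congrArg (fun z : mono D hsw => (z : GL (Fin 2) F).val) h) 0) 0
      simp [dia, anti] at h00
    · have h00 := congrFun (congrFun (congrArg (fun z : mono D hsw => (z : GL (Fin 2) F).val) h) 0) 0
      simp [dia, anti] at h00
      exact absurd h00.symm (Units.ne_zero _)
    · have h' := congrArg (fun z : mono D hsw => (z : GL (Fin 2) F).val) h
      have h01 := congrFun (congrFun h' 0) 1
      have h10 := congrFun (congrFun h' 1) 0
      simp [anti] at h01 h10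
      exact Prod.ext (Subtype.ext (Prod.ext (Units.ext h01) (Units.ext h10))) rfl
  · rintro ⟨g, x, hx, h | h⟩
    · exact ⟨(⟨x, hx⟩, false), Subtype.ext h.symm⟩
    · exact ⟨(⟨x, hx⟩, true), Subtype.ext h.symm⟩

/-- The core properties of a monomial group. -/
theorem core_mono (h2 : (2 : F) ≠ 0) (D : Subgroup (Fˣ × Fˣ)) (hsw : ∀ x ∈ D, x.swap ∈ D) (hD : IsPGroup 2 D)
    (hi : ∃ i : Fˣ, (i : F) * i = -1 ∧ (i, i⁻¹) ∈ D) (hst : ∃ x ∈ D, (x.1 : F) * x.2 = -1)
    (hne : ∃ x ∈ D, (x.1 : F) ≠ x.2 ∧ (x.1 : F) + x.2 ≠ 0) : Core (mono D hsw) := by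
  obtain ⟨i, hii, hiD⟩ := hi
  have hinv : ((i⁻¹ : Fˣ) : F) = -(i : F) := by
    refine Units.inv_eq_of_mul_eq_one_right ?_
    rw [mul_neg, hii, neg_neg]
  refine ⟨?_, ⟨dia ((i, i⁻¹) * (i, i⁻¹)), ⟨_, mul_mem hiD hiD, Or.inl rfl⟩, ?_⟩, fun M hM => ?_, fun g hg hgS => ?_⟩
  · haveI : Fact (Nat.Prime 2) := ⟨Nat.prime_two⟩
    obtain ⟨e, he⟩ := hD.exists_card_eq
    exact IsPGroup.of_card (n := e + 1) (by rw [card_mono, he, pow_succ, mul_comm])
  · ext a b
    fin_cases a <;> fin_cases b <;>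
      simp only [dia_val, Prod.mk_mul_mk, Units.val_mul, hinv] <;> simp [hii]
  · obtain ⟨x, hx, hst⟩ := hst
    refine scalar_of_commute_quaternion h2 (I := (dia (i, i⁻¹)).val) (J := (anti x).val) ?_ ?_ ?_
      (hM _ ⟨_, hiD, Or.inl rfl⟩ ?_) (hM _ ⟨_, hx, Or.inr rfl⟩ ?_)
    · ext a b
      fin_cases a <;> fin_cases b <;>
        simp only [dia_val, hinv] <;> simp [Matrix.mul_apply, Fin.sum_univ_two, hii]
    · ext a b
      fin_cases a <;> fin_cases b <;>
        simp [anti_val, Matrix.mul_apply, Fin.sum_univ_two, hst, mul_comm (x.2 : F)]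
    · ext a b
      fin_cases a <;> fin_cases b <;>
        simp only [anti_val, dia_val, hinv] <;> simp [Matrix.mul_apply, Fin.sum_univ_two] <;> ring
    · rw [dia_val]; simp [Matrix.det_fin_two]
    · rw [anti_val]; simp [Matrix.det_fin_two, hst]
  · obtain ⟨x, hx, hne1, hne2⟩ := hne
    obtain ⟨r, hr⟩ := id hg
    have hgr : g ^ (2 * r + 1) = 1 := by rw [← hr, pow_orderOf_eq_one]
    have hdiag : g.val 0 1 = 0 ∧ g.val 1 0 = 0 := by
      obtain ⟨y, -, e | e⟩ := hgS _ ⟨x, hx, Or.inl rfl⟩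
      swap
      · exfalso
        have ht := congrArg (fun z : GL (Fin 2) F => z.val.trace) e
        simp only [Units.val_mul] at ht
        rw [Matrix.trace_units_conj, dia_val, anti_val] at ht
        simp [Matrix.trace_fin_two] at ht
        exact hne2 ht
      have e' : g.val * (dia x).val = (dia y).val * g.val := by
        rw [← Units.val_mul, ← Units.val_mul, ← e]; group
      have h00 := congrFun (congrFun e' 0) 0
      have h01 := congrFun (congrFun e' 0) 1
      have h10 := congrFun (congrFun e' 1) 0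
      have h11 := congrFun (congrFun e' 1) 1
      simp [dia_val, Matrix.mul_apply, Fin.sum_univ_two] at h00 h01 h10 h11
      have hdet : g.val 0 0 * g.val 1 1 - g.val 0 1 * g.val 1 0 ≠ 0 := by
        rw [← Matrix.det_fin_two]; exact (Matrix.GeneralLinearGroup.det g).ne_zero
      by_cases h : g.val 0 0 = 0
      · exfalso
        have hb : g.val 0 1 ≠ 0 := fun h' => hdet (by rw [h, h']; ring)
        have hc : g.val 1 0 ≠ 0 := fun h' => hdet (by rw [h, h']; ring)
        have h1 : (x.2 : F) = y.1 := mul_left_cancel₀ hb (by linear_combination h01)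
        have h2' : (x.1 : F) = y.2 := mul_left_cancel₀ hc (by linear_combination h10)
        have hd : g.val 1 1 = 0 := (mul_eq_zero.1 (show g.val 1 1 * ((x.2 : F) - x.1) = 0 by
          rw [h2'] ; linear_combination h11)).resolve_right (sub_ne_zero.2 hne1.symm)
        have hsq : g * g = Units.map (algebraMap F (Matrix (Fin 2) (Fin 2) F)).toMonoidHom
            (Units.mk0 _ (mul_ne_zero hb hc)) := Units.ext (by
          ext a b
          fin_cases a <;> fin_cases b <;>
            simp [Matrix.mul_apply, Fin.sum_univ_two, h, hd, mul_comm, Matrix.algebraMap_matrix_apply])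
        have hgr' : (g * g) ^ r * g = 1 := by rw [← sq, ← pow_mul, ← pow_succ, hgr]
        rw [hsq, ← map_pow] at hgr'
        have h0 := congrArg (fun z : GL (Fin 2) F => z.val 0 0) hgr'
        simp [Algebra.algebraMap_eq_smul_one, smul_pow, h] at h0
      · have h1 : (x.1 : F) = y.1 := mul_left_cancel₀ h (by linear_combination h00)
        have hb : g.val 0 1 = 0 := (mul_eq_zero.1 (show g.val 0 1 * ((x.2 : F) - x.1) = 0 by
          rw [h1]; linear_combination h01)).resolve_right (sub_ne_zero.2 hne1.symm)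
        have hd : g.val 1 1 ≠ 0 := fun h' => hdet (by rw [hb, h']; ring)
        have h2' : (x.2 : F) = y.2 := mul_left_cancel₀ hd (by linear_combination h11)
        have hc : g.val 1 0 = 0 := (mul_eq_zero.1 (show g.val 1 0 * ((x.1 : F) - x.2) = 0 by
          rw [h2']; linear_combination h10)).resolve_right (sub_ne_zero.2 hne1)
        exact ⟨hb, hc⟩
    have hne0 : g.val 0 0 ≠ 0 ∧ g.val 1 1 ≠ 0 := by
      have := (Matrix.GeneralLinearGroup.det g).ne_zero
      rw [Matrix.GeneralLinearGroup.val_det_apply, Matrix.det_fin_two, hdiag.1, zero_mul, sub_zero] at this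
      exact mul_ne_zero_iff.1 this
    obtain ⟨u, hu⟩ : ∃ u, u = ((Units.mk0 _ hne0.1, Units.mk0 _ hne0.2) : Fˣ × Fˣ) := ⟨_, rfl⟩
    have hg' : g = dia u := Units.ext (by
      ext a b
      fin_cases a <;> fin_cases b <;> simp [dia_val, hu, hdiag.1, hdiag.2])
    let dH : Fˣ × Fˣ →* GL (Fin 2) F := MonoidHom.mk' dia fun x y => (dia_dia x y).symm
    have hginv : g⁻¹ = dia u⁻¹ := by rw [hg']; exact (map_inv dH u).symm
    have hconj : g * anti 1 * g⁻¹ = anti (u * u⁻¹.swap) := by
      rw [hginv, hg', dia_anti, anti_dia, mul_one]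
    obtain ⟨y, hyD, e | e⟩ := hgS _ ⟨1, one_mem _, Or.inr rfl⟩ <;> rw [hconj] at e
    · have h00 := congrArg (fun z : GL (Fin 2) F => z.val 0 0) e
      simp [dia_val, anti_val] at h00
      exact absurd h00.symm (Units.ne_zero _)
    · have h01 := congrArg (fun z : GL (Fin 2) F => z.val 0 1) e
      simp [anti_val, ← Units.val_mul] at h01
      obtain ⟨k, hk⟩ := hD ⟨y, hyD⟩
      have hk' : y.1 ^ 2 ^ k = 1 := congrArg Prod.fst (congrArg Subtype.val hk : y ^ 2 ^ k = 1)
      have hy : y.1 = u.1 * u.2⁻¹ := Units.ext (by simpa using h01.symm)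
      have hu' : u ^ (2 * r + 1) = 1 := by
        have h' : dia (u ^ (2 * r + 1)) = dia 1 := by
          rw [dia_one, ← hgr, hg']; exact map_pow dH u _
        have h0 := congrArg (fun z : GL (Fin 2) F => z.val 0 0) h'
        have h1 := congrArg (fun z : GL (Fin 2) F => z.val 1 1) h'
        simp [dia_val] at h0 h1
        exact Prod.ext (Units.ext (by simpa using h0)) (Units.ext (by simpa using h1))
      have hr' : y.1 ^ (2 * r + 1) = 1 := by
        rw [hy, mul_pow, inv_pow, show u.1 ^ (2 * r + 1) = 1 from congrArg Prod.fst hu',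
          show u.2 ^ (2 * r + 1) = 1 from congrArg Prod.snd hu', inv_one, mul_one]
      have hcop : Nat.Coprime (2 ^ k) (2 * r + 1) := Nat.Coprime.pow_left k (Nat.coprime_two_left.2 ⟨r, rfl⟩)
      have hy1 : y.1 = 1 := by simpa [hcop.gcd_eq_one] using pow_gcd_eq_one.2 ⟨hk', hr'⟩
      have huu : u.1 = u.2 := mul_inv_eq_one.1 (hy.symm.trans hy1)
      refine ⟨(u.1 : F), ?_⟩
      rw [hg', dia_val, ← huu]
      ext a b
      fin_cases a <;> fin_cases b <;> simp

/-- Conjugation preserves the core properties. -/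
theorem core_conj {ι : Type} [Fintype ι] [DecidableEq ι] {S : Subgroup (GL ι F)} (hS : Core S) (P : GL ι F) :
    Core (S.map (MulAut.conj P).toMonoidHom) := by
  have hval : ∀ x : GL ι F, (MulAut.conj P x).val = P.val * x.val * (P⁻¹).val := fun x => by simp
  have back : ∀ (M : Matrix ι ι F) (a : F), (P⁻¹).val * M * P.val = a • 1 → M = a • 1 := fun M a h => by
    have := congrArg (fun X => P.val * X * (P⁻¹).val) h
    simp only [mul_assoc, Units.mul_inv_cancel_left, Units.mul_inv, mul_one, mul_smul_comm, smul_mul_assoc,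
      one_mul] at this
    exact this
  refine ⟨hS.pgroup.map _, ?_, fun M hM => ?_, fun g hg hgS => ?_⟩
  · obtain ⟨z, hz, hzv⟩ := hS.negOne
    exact ⟨_, ⟨z, hz, rfl⟩, by
      show (MulAut.conj P z).val = -1
      rw [hval, hzv, mul_neg, mul_one, neg_mul, Units.mul_inv]⟩
  · obtain ⟨a, ha⟩ := hS.irred ((P⁻¹).val * M * P.val) fun x hx hd => by
      have h := hM (MulAut.conj P x) ⟨x, hx, rfl⟩ (by
        rw [hval, Matrix.det_mul, Matrix.det_mul, hd, mul_one, ← Matrix.det_mul, Units.mul_inv, Matrix.det_one])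
      rw [hval] at h
      have := congrArg (fun X => (P⁻¹).val * X * P.val) h
      simp only [mul_assoc, Units.inv_mul_cancel_left, Units.inv_mul, mul_one] at this
      simpa only [mul_assoc] using this
    exact ⟨a, back M a ha⟩
  · obtain ⟨a, ha⟩ := hS.odd (P⁻¹ * g * P) (by
      have e : P⁻¹ * g * P = MulAut.conj P⁻¹ g := by simp
      rwa [e, MulEquiv.orderOf_eq]) fun x hx => by
      obtain ⟨y, hy, e⟩ := hgS (MulAut.conj P x) ⟨x, hx, rfl⟩
      have e' : P * y * P⁻¹ = g * (P * x * P⁻¹) * g⁻¹ := by simpa using e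
      rwa [show P⁻¹ * g * P * x * (P⁻¹ * g * P)⁻¹ = P⁻¹ * (g * (P * x * P⁻¹) * g⁻¹) * P by group, ← e',
        show P⁻¹ * (P * y * P⁻¹) * P = y by group]
    exact ⟨a, back _ a (by simpa [mul_assoc] using ha)⟩

end Cfsg.Agent.UnitarySylowTwoBase
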