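import Mathlib
import Cfsg.Agent.Lib.UnitarySylowTwoBase
import Cfsg.Agent.Lib.UnitaryFormChange

set_option autoImplicit false
set_option linter.unusedSectionVars false

/-!
Sylow 2-subgroups of `SU(2^w, q)`, `q` odd and `w ≥ 2`, are self-normalising.
-/

namespace Cfsg.Agent.UnitarySylowTwoWreath

open Matrix
open scoped MatrixGroups
open Cfsg.Agent.SpectrumPSU61 Cfsg.Agent.OrthUnitaryHerm
open SylowTwoWreathSL UnitarySylowTwoBase

variable {F : Type*} [Field F] [Fintype F] {q : ℕ}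

/-- The unitary group of the standard form on `ι`. -/
def GUi (hF : Fintype.card F = q ^ 2) (ι : Type) [Fintype ι] [DecidableEq ι] : Subgroup (GL ι F) where
  carrier := {g | adj q g.val * g.val = 1}
  one_mem' := by simp [adj_one hF]
  mul_mem' := fun {a b} (ha : _ = _) (hb : _ = _) => by
    show adj q (a * b).val * (a * b).val = 1
    rw [Units.val_mul, adj_mul hF, mul_assoc, ← mul_assoc (adj q a.val), ha, one_mul, hb]
  inv_mem' := fun {a} (ha : _ = _) => by
    show adj q (a⁻¹).val * (a⁻¹).val = 1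
    have h : (a⁻¹).val = adj q a.val := Units.inv_eq_of_mul_eq_one_left ha
    rw [h, adj_adj hF]
    exact mul_eq_one_comm.1 ha

lemma mem_GUi (hF : Fintype.card F = q ^ 2) {ι : Type} [Fintype ι] [DecidableEq ι] {g : GL ι F} :
    g ∈ GUi hF ι ↔ adj q g.val * g.val = 1 := Iff.rfl

/-- Reindexing of units. -/
def reidx {ι κ : Type} [Fintype ι] [DecidableEq ι] [Fintype κ] [DecidableEq κ] (e : ι ≃ κ) : GL ι F ≃* GL κ F :=
  Units.mapEquiv (Matrix.reindexAlgEquiv F F e).toMulEquiv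

lemma reidx_val {ι κ : Type} [Fintype ι] [DecidableEq ι] [Fintype κ] [DecidableEq κ] (e : ι ≃ κ) (g : GL ι F) :
    (reidx e g).val = Matrix.reindex e e g.val := rfl

lemma mem_GUi_reidx (hF : Fintype.card F = q ^ 2) {ι κ : Type} [Fintype ι] [DecidableEq ι] [Fintype κ]
    [DecidableEq κ] (e : ι ≃ κ) (g : GL ι F) : reidx e g ∈ GUi hF κ ↔ g ∈ GUi hF ι := by
  rw [mem_GUi, mem_GUi, reidx_val, ← (Matrix.reindexAlgEquiv F F e).injective.eq_iff (a := adj q g.val * g.val),
    map_mul, map_one]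
  rfl

lemma GUi_fin (hF : Fintype.card F = q ^ 2) (n : ℕ) : GUi hF (Fin n) = Cfsg.GU n F q := by
  ext g
  exact (isU_iff hF g.val).symm

lemma card_GUi (hF : Fintype.card F = q ^ 2) {ι : Type} [Fintype ι] [DecidableEq ι] {n : ℕ}
    (h : Fintype.card ι = n) : Nat.card (GUi hF ι) = Nat.card (Cfsg.GU n F q) := by
  rw [← GUi_fin hF n]
  let e := Fintype.equivFinOfCardEq h
  exact Nat.card_congr ((reidx (F := F) e).toEquiv.subtypeEquiv fun g => (mem_GUi_reidx hF e g).symm)

variable (F q) in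
/-- The exponent of two in `|GU(n, q)|`. -/
noncomputable def vU (n : ℕ) : ℕ := (Nat.card (Cfsg.GU n F q)).factorization 2

lemma padic_geom_odd (hq : Odd q) (hq1 : 1 < q) (m : ℕ) :
    padicValNat 2 (q ^ (2 * m + 1) - 1) = padicValNat 2 (q - 1) := by
  haveI : Fact (Nat.Prime 2) := ⟨Nat.prime_two⟩
  have hgs : q ^ (2 * m + 1) - 1 = (∑ i ∈ Finset.range (2 * m + 1), q ^ i) * (q - 1) :=
    (geom_sum_mul_of_one_le (by omega : 1 ≤ q) (2 * m + 1)).symm
  have hodd : ¬ 2 ∣ ∑ i ∈ Finset.range (2 * m + 1), q ^ i := by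
    rw [Nat.dvd_iff_mod_eq_zero, Finset.sum_nat_mod]
    simp [Nat.pow_mod, Nat.odd_iff.1 hq]
  rw [hgs, padicValNat.mul (fun h => hodd (by rw [h]; exact dvd_zero 2)) (by omega),
    padicValNat.eq_zero_of_not_dvd hodd, zero_add]

lemma padic_even (hq : Odd q) (hq1 : 1 < q) (m : ℕ) (hm : m ≠ 0) :
    padicValNat 2 (q ^ (2 * m) - 1) = padicValNat 2 (q - 1) + padicValNat 2 (q + 1) + padicValNat 2 m := by
  haveI : Fact (Nat.Prime 2) := ⟨Nat.prime_two⟩
  have := padicValNat.pow_two_sub_one hq1 (by rw [Nat.two_dvd_ne_zero]; exact Nat.odd_iff.1 hq)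
    (show 2 * m ≠ 0 by omega) (even_two_mul m)
  rw [padicValNat.mul two_ne_zero hm, padicValNat.self (by norm_num : 1 < 2)] at this
  omega

lemma padic_plus (hq : Odd q) (hq1 : 1 < q) (m : ℕ) :
    padicValNat 2 (q ^ (2 * m + 1) + 1) = padicValNat 2 (q + 1) := by
  haveI : Fact (Nat.Prime 2) := ⟨Nat.prime_two⟩
  have h1 : q ^ (2 * (2 * m + 1)) - 1 = (q ^ (2 * m + 1) + 1) * (q ^ (2 * m + 1) - 1) := by
    rw [← Nat.sq_sub_sq, one_pow, ← pow_mul, mul_comm]
  have h2 := padic_even hq hq1 (2 * m + 1) (by omega)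
  have hne : q ^ (2 * m + 1) - 1 ≠ 0 := by
    have := Nat.one_lt_pow (show 2 * m + 1 ≠ 0 by omega) hq1
    omega
  rw [h1, padicValNat.mul (by omega) hne, padic_geom_odd hq hq1,
    padicValNat.eq_zero_of_not_dvd (show ¬ 2 ∣ 2 * m + 1 by omega)] at h2
  omega

lemma vU_formula (hF : Fintype.card F = q ^ 2) (hq : Odd q) (m : ℕ) :
    vU F q (2 * m) = m * (2 * padicValNat 2 (q + 1) + padicValNat 2 (q - 1)) + padicValNat 2 m.factorial := by
  haveI : Fact (Nat.Prime 2) := ⟨Nat.prime_two⟩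
  have hq1 : 1 < q := two_le_q hF
  let f : ℕ → ℕ := fun i => if Even i then q ^ (i + 1) + 1 else q ^ (i + 1) - 1
  have hf0 : ∀ i, f i ≠ 0 := fun i => by
    have := Nat.one_lt_pow (show i + 1 ≠ 0 by omega) hq1
    simp only [f]; split_ifs <;> omega
  have hv : vU F q (2 * m) = ∑ i ∈ Finset.range (2 * m), padicValNat 2 (f i) := by
    rw [vU, card_GU hF, Nat.factorization_mul (pow_ne_zero _ (by omega)) (Finset.prod_ne_zero_iff.2 fun i _ => hf0 i),
      Finsupp.add_apply, Nat.factorization_pow, Finsupp.smul_apply,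
      Nat.factorization_eq_zero_of_not_dvd (show ¬ 2 ∣ q by rw [Nat.two_dvd_ne_zero]; exact Nat.odd_iff.1 hq),
      smul_zero, zero_add, Nat.factorization_prod_apply fun i _ => hf0 i]
    exact Finset.sum_congr rfl fun i _ => Nat.factorization_def _ Nat.prime_two
  rw [hv]
  clear hv
  induction m with
  | zero => simp
  | succ m ih =>
    have e1 : padicValNat 2 (f (2 * m)) = padicValNat 2 (q + 1) := by
      simp only [f, if_pos (even_two_mul m)]
      exact padic_plus hq hq1 m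
    have e2 : padicValNat 2 (f (2 * m + 1)) =
        padicValNat 2 (q - 1) + padicValNat 2 (q + 1) + padicValNat 2 (m + 1) := by
      simp only [f, if_neg (Nat.not_even_iff_odd.2 ⟨m, rfl⟩), show 2 * m + 1 + 1 = 2 * (m + 1) by ring]
      exact padic_even hq hq1 (m + 1) (by omega)
    rw [show 2 * (m + 1) = 2 * m + 1 + 1 by ring, Finset.sum_range_succ, Finset.sum_range_succ, ih, e1, e2,
      Nat.factorial_succ, padicValNat.mul (by omega) (Nat.factorial_ne_zero m)]
    ring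

lemma exists_orderOf (hF : Fintype.card F = q ^ 2) {d : ℕ} (hd : d ∣ (q + 1) * (q - 1)) :
    ∃ x : Fˣ, orderOf x = d := by
  obtain ⟨g, hg⟩ := IsCyclic.exists_ofOrder_eq_natCard (α := Fˣ)
  refine ⟨g ^ (orderOf g / d), ?_⟩
  apply orderOf_pow_orderOf_div (orderOf_pos g).ne'
  rw [hg, card_units_eq hF]; exact hd

lemma half_pow {x : Fˣ} {b m : ℕ} (hb : b ≠ 0) (hx : orderOf x = 2 * b) (hm : Odd m) :
    ((x ^ (b * m) : Fˣ) : F) = -1 := by
  have h : (x : F) ^ b = -1 := by
    have h1 : ((x : F) ^ b) * ((x : F) ^ b) = 1 := by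
      rw [← pow_add, ← two_mul, ← hx, ← Units.val_pow_eq_pow_val, pow_orderOf_eq_one, Units.val_one]
    refine (mul_self_eq_one_iff.1 h1).resolve_left fun h1 => ?_
    have := Nat.le_of_dvd (by omega) (orderOf_dvd_of_pow_eq_one (Units.ext (by simpa using h1) : x ^ b = 1))
    omega
  rw [Units.val_pow_eq_pow_val, pow_mul, h, hm.neg_one_pow]

/-- The base of the induction. -/
theorem exists_base (hF : Fintype.card F = q ^ 2) (hq : Odd q) :
    ∃ S : Subgroup (GL (Fin 2) F), S ≤ GUi hF (Fin 2) ∧ Core S ∧ Nat.card S = 2 ^ vU F q 2 := by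
  haveI : Fact (Nat.Prime 2) := ⟨Nat.prime_two⟩
  have hq1 : 1 < q := two_le_q hF
  have hqF : Odd (Nat.card F) := by rw [Nat.card_eq_fintype_card, hF]; exact hq.pow
  have h2 := PSL2SylowTwo.two_ne_zero_of_odd hqF
  have hv : vU F q 2 = 2 * padicValNat 2 (q + 1) + padicValNat 2 (q - 1) := by
    simpa using vU_formula (F := F) hF hq 1
  obtain ⟨A, hA, hA'⟩ : ∃ A, q + 1 = 2 ^ padicValNat 2 (q + 1) * A ∧ Odd A := by
    obtain ⟨A, hA⟩ := pow_padicValNat_dvd (p := 2) (n := q + 1)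
    refine ⟨A, hA, Nat.not_even_iff_odd.1 fun h => ?_⟩
    obtain ⟨A', rfl⟩ := even_iff_two_dvd.1 h
    exact pow_succ_padicValNat_not_dvd (p := 2) (show q + 1 ≠ 0 by omega) ⟨A', hA.trans (by ring)⟩
  obtain ⟨B, hB, hB'⟩ : ∃ B, q - 1 = 2 ^ padicValNat 2 (q - 1) * B ∧ Odd B := by
    obtain ⟨A, hA⟩ := pow_padicValNat_dvd (p := 2) (n := q - 1)
    refine ⟨A, hA, Nat.not_even_iff_odd.1 fun h => ?_⟩
    obtain ⟨A', rfl⟩ := even_iff_two_dvd.1 h
    exact pow_succ_padicValNat_not_dvd (p := 2) (show q - 1 ≠ 0 by omega) ⟨A', hA.trans (by ring)⟩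
  rw [hv]
  generalize padicValNat 2 (q + 1) = a at *
  generalize padicValNat 2 (q - 1) = b at *
  have ha1 : 1 ≤ a := Nat.one_le_iff_ne_zero.2 fun h => by
    subst h; obtain ⟨x, hx⟩ := hq; obtain ⟨y, hy⟩ := hA'; simp at hA; omega
  have hb1 : 1 ≤ b := Nat.one_le_iff_ne_zero.2 fun h => by
    subst h; obtain ⟨x, hx⟩ := hq; obtain ⟨y, hy⟩ := hB'; simp at hB; omega
  by_cases ha : a = 1
  · -- `q ≡ 1 mod 4`
    subst ha
    have hb2 : 2 ≤ b := by
      by_contra h
      obtain rfl : b = 1 := by omega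
      obtain ⟨x, hx⟩ := hA'; obtain ⟨y, hy⟩ := hB'
      omega
    have hdvd : 2 ^ (b + 1) ∣ (q + 1) * (q - 1) := ⟨A * B, by rw [hA, hB, pow_succ]; ring⟩
    let μ : Subgroup Fˣ := (powMonoidHom (2 ^ (b + 1)) : Fˣ →* Fˣ).ker
    have hμ : Nat.card μ = 2 ^ (b + 1) := card_pow_eq_one_of_dvd (card_units_eq hF ▸ hdvd)
    let φ : Fˣ →* Fˣ × Fˣ := (MonoidHom.id Fˣ).prod ((powMonoidHom q : Fˣ →* Fˣ)⁻¹)
    have hφ : ∀ x : Fˣ, φ x = (x, (x ^ q)⁻¹) := fun x => rfl
    let D : Subgroup (Fˣ × Fˣ) := μ.map φ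
    have hxq : ∀ x : Fˣ, (x ^ q) ^ q = x := fun x => Units.ext (by simpa using pow_q_q hF (x : F))
    have hsw : ∀ x ∈ D, x.swap ∈ D := by
      rintro _ ⟨x, hx, rfl⟩
      refine ⟨(x ^ q)⁻¹, inv_mem (pow_mem hx q), ?_⟩
      rw [hφ, hφ, inv_pow, hxq, inv_inv, Prod.swap_prod_mk]
    have hinj : Function.Injective φ := fun x y h => congrArg Prod.fst h
    have hDcard : Nat.card D = 2 ^ (b + 1) := by
      rw [← hμ, ← Nat.card_congr (μ.equivMapOfInjective φ hinj).toEquiv]
    obtain ⟨x, hx⟩ := exists_orderOf hF hdvd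
    have hxμ : x ∈ μ := by
      rw [MonoidHom.mem_ker, powMonoidHom_apply, ← hx, pow_orderOf_eq_one]
    -- an element of order four
    set i := x ^ (2 ^ (b - 1)) with hi
    have hib : 2 ^ (b + 1) = 2 * (2 ^ (b - 1) * 2) := by
      rw [show b + 1 = b - 1 + 1 + 1 by omega, pow_succ, pow_succ]; ring
    have hii : (i : F) * i = -1 := by
      rw [← Units.val_mul, hi, ← pow_add]
      have := half_pow (F := F) (b := 2 ^ (b - 1) * 2) (by positivity) (hx.trans hib) odd_one
      rwa [mul_one, mul_two] at this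
    have hiq : i ^ q = i := by
      have h4 : i ^ 4 = 1 := by
        apply Units.ext
        rw [Units.val_pow_eq_pow_val, show (i : F) ^ 4 = ((i : F) * i) * ((i : F) * i) by ring, hii, Units.val_one]
        ring
      have hq4 : q % 4 = 1 := by obtain ⟨y, hy⟩ := hA'; omega
      rw [← Nat.div_add_mod q 4, hq4, pow_add, pow_mul, h4, one_pow, one_mul, pow_one]
    let P := UnitaryFormChange.exists_congr (n := 2) hF even_two
    obtain ⟨P, hP⟩ := P
    refine ⟨(mono D hsw).map (MulAut.conj P).toMonoidHom, ?_, core_conj (core_mono h2 D hsw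
      (IsPGroup.of_card hDcard) ⟨i, hii, i, pow_mem hxμ _, by rw [hφ, hiq]⟩
      ⟨_, ⟨x, hxμ, rfl⟩, ?_⟩ ⟨_, ⟨x, hxμ, rfl⟩, ?_⟩) P, ?_⟩
    · have hU : ∀ g ∈ mono D hsw, adj q g.val * UnitaryFormChange.antiId F 2 * g.val =
          UnitaryFormChange.antiId F 2 := by
        rintro g ⟨_, ⟨y, -, rfl⟩, rfl | rfl⟩ <;>
          ext r s <;> fin_cases r <;> fin_cases s <;>
          simp [hφ, dia_val, anti_val, UnitaryFormChange.antiId, Matrix.mul_apply, Fin.sum_univ_two, adj_apply,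
            zero_pow_q hF, pow_q_q hF, ← Units.val_pow_eq_pow_val, ← Units.val_mul, inv_pow, hxq, Fin.rev]
      rintro _ ⟨g, hg, rfl⟩
      rw [mem_GUi]
      show adj q (MulAut.conj P g).val * (MulAut.conj P g).val = 1
      rw [MulAut.conj_apply, Units.val_mul, Units.val_mul, adj_mul hF, adj_mul hF]
      have h := hU g hg
      rw [← hP] at h
      have h1 : adj q (P⁻¹).val * adj q P.val = 1 := by
        rw [← adj_mul hF, ← Units.val_mul, mul_inv_cancel, Units.val_one, adj_one hF]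
      calc _ = adj q (P⁻¹).val * (adj q g.val * (adj q P.val * P.val) * g.val) * (P⁻¹).val := by
            simp only [mul_assoc]
        _ = 1 := by rw [h, ← mul_assoc, h1, one_mul, Units.mul_inv]
    · rw [hφ]
      show (x : F) * ((x ^ q)⁻¹ : Fˣ) = -1
      rw [← Units.val_mul]
      have e : x * (x ^ q)⁻¹ = (x ^ (2 ^ b * B))⁻¹ := by
        rw [← hB, show x ^ q = x ^ (q - 1) * x by rw [← pow_succ, Nat.sub_add_cancel hq1.le], _root_.mul_inv_rev,
          mul_inv_cancel_left]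
      rw [e, Units.val_inv_eq_inv_val, half_pow (by positivity) (hx.trans (pow_succ' 2 b)) hB', inv_neg, inv_one]
    · rw [hφ]
      show (x : F) ≠ ((x ^ q)⁻¹ : Fˣ) ∧ (x : F) + ((x ^ q)⁻¹ : Fˣ) ≠ 0
      have hord : ¬ x ^ (2 * (q + 1)) = 1 := by
        intro h
        have hd := orderOf_dvd_of_pow_eq_one h
        rw [hx, hA, show 2 * (2 ^ 1 * A) = 2 ^ 2 * A by ring] at hd
        have h8 : 2 ^ 3 ∣ 2 ^ 2 * A := (pow_dvd_pow 2 (by omega)).trans hd
        obtain ⟨y, hy⟩ := hA'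
        omega
      constructor
      · intro h
        have h' : x ^ (q + 1) = 1 := by rw [pow_succ', ← eq_inv_iff_mul_eq_one]; exact Units.ext h
        exact hord (by rw [mul_comm, pow_mul, h', one_pow])
      · intro h
        apply hord
        apply Units.ext
        have h' : (x : F) = -(((x ^ q)⁻¹ : Fˣ) : F) := eq_neg_of_add_eq_zero_left h
        have h'' : (x : F) ^ (q + 1) = -1 := by
          rw [pow_succ, ← Units.val_pow_eq_pow_val]
          conv_lhs => rw [h']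
          rw [mul_neg, Units.mul_inv]
        rw [Units.val_pow_eq_pow_val, mul_comm, pow_mul, h'', Units.val_one]
        ring
    · rw [Subgroup.card_map_of_injective (MulAut.conj P).injective, card_mono, hDcard]
      ring
  · -- `q ≡ 3 mod 4`
    have ha2 : 2 ≤ a := by omega
    obtain rfl : b = 1 := by
      by_contra h
      have h4 : 2 ^ 2 ∣ q + 1 := (pow_dvd_pow 2 ha2).trans ⟨A, hA⟩
      have h4' : 2 ^ 2 ∣ q - 1 := (pow_dvd_pow 2 (show 2 ≤ b by omega)).trans ⟨B, hB⟩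
      omega
    have hdvd : 2 ^ a ∣ (q + 1) * (q - 1) := Dvd.dvd.mul_right ⟨A, hA⟩ _
    let μ : Subgroup Fˣ := (powMonoidHom (2 ^ a) : Fˣ →* Fˣ).ker
    have hμ : Nat.card μ = 2 ^ a := card_pow_eq_one_of_dvd (card_units_eq hF ▸ hdvd)
    let D : Subgroup (Fˣ × Fˣ) := μ.prod μ
    have hsw : ∀ x ∈ D, x.swap ∈ D := fun x hx => ⟨hx.2, hx.1⟩
    have hDcard : Nat.card D = 2 ^ (2 * a) := by
      rw [Nat.card_congr (μ.prodEquiv μ).toEquiv, Nat.card_prod, hμ, ← pow_add, two_mul]
    obtain ⟨x, hx⟩ := exists_orderOf hF hdvd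
    have hxμ : x ∈ μ := by rw [MonoidHom.mem_ker, powMonoidHom_apply, ← hx, pow_orderOf_eq_one]
    set i := x ^ (2 ^ (a - 2)) with hi
    have hii : (i : F) * i = -1 := by
      rw [← Units.val_mul, hi, ← pow_add]
      have := half_pow (F := F) (b := 2 ^ (a - 2) * 2) (by positivity)
        (hx.trans (show 2 ^ a = 2 * (2 ^ (a - 2) * 2) by
          rw [show a = a - 2 + 1 + 1 by omega, pow_succ, pow_succ]; simp; ring)) odd_one
      rwa [mul_one, mul_two] at this
    have hiμ : i ∈ μ := pow_mem hxμ _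
    have hneg : (-1 : Fˣ) ∈ μ := by
      rw [show (-1 : Fˣ) = i * i from Units.ext (by simp [hii])]
      exact mul_mem hiμ hiμ
    refine ⟨mono D hsw, ?_, core_mono h2 D hsw (IsPGroup.of_card hDcard) ⟨i, hii, hiμ, μ.inv_mem hiμ⟩
      ⟨(1, -1), ⟨one_mem _, hneg⟩, by simp⟩ ⟨(1, i), ⟨one_mem _, hiμ⟩, ?_, ?_⟩, ?_⟩
    · have hn : ∀ y ∈ μ, (y : F) ^ q * y = 1 := by
        intro y hy
        rw [MonoidHom.mem_ker, powMonoidHom_apply] at hy
        rw [← pow_succ, hA, pow_mul, ← Units.val_pow_eq_pow_val, hy, Units.val_one, one_pow]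
      rintro g ⟨y, hy, rfl | rfl⟩ <;> rw [mem_GUi] <;>
        ext r s <;> fin_cases r <;> fin_cases s <;>
        simp [dia_val, anti_val, Matrix.mul_apply, Fin.sum_univ_two, adj_apply, zero_pow_q hF,
          hn _ hy.1, hn _ hy.2]
    · intro h
      have h' : (i : F) = 1 := by simpa using h.symm
      rw [h', mul_one] at hii
      exact h2 (by linear_combination hii)
    · intro h
      have h' : (i : F) = -1 := by simp at h; linear_combination h
      rw [h'] at hii
      exact h2 (by linear_combination hii)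
    · rw [card_mono, hDcard]
      ring

/-- The iterated wreath products. -/
theorem exists_core (hF : Fintype.card F = q ^ 2) (hq : Odd q) (k : ℕ) :
    ∃ (ι : Type) (_ : Fintype ι) (_ : DecidableEq ι), Fintype.card ι = 2 ^ (k + 1) ∧
      ∃ S : Subgroup (GL ι F), S ≤ GUi hF ι ∧ Core S ∧ Nat.card S = 2 ^ vU F q (2 * 2 ^ k) := by
  haveI : Fact (Nat.Prime 2) := ⟨Nat.prime_two⟩
  induction k with
  | zero => exact ⟨Fin 2, inferInstance, inferInstance, rfl, exists_base hF hq⟩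
  | succ k ih =>
    obtain ⟨ι, _, _, hι, S, hSU, hS, hcard⟩ := ih
    have h2 := PSL2SylowTwo.two_ne_zero_of_odd (show Odd (Nat.card F) by
      rw [Nat.card_eq_fintype_card, hF]; exact hq.pow)
    have hn : 2 ≤ Fintype.card ι := by rw [hι]; exact Nat.le_self_pow (by omega) 2
    haveI : Nonempty ι := Fintype.card_pos_iff.1 (by omega)
    refine ⟨ι ⊕ ι, inferInstance, inferInstance, by rw [Fintype.card_sum, hι]; ring, T S, ?_,
      core_step h2 hS hn ⟨2 ^ k, by rw [hι]; ring⟩, ?_⟩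
    · have hadj : ∀ A B C D : Matrix ι ι F, adj q (fromBlocks A B C D) =
          fromBlocks (adj q A) (adj q C) (adj q B) (adj q D) := fun A B C D => by
        ext r s
        rcases r with r | r <;> rcases s with s | s <;> rfl
      have h0 : adj q (0 : Matrix ι ι F) = 0 := by ext r s; simp [adj_apply, zero_pow_q hF]
      rintro M ⟨a, ha, b, hb, hM | hM⟩ <;>
        rw [mem_GUi, hM, hadj, fromBlocks_multiply, h0] <;>
        simp [(mem_GUi hF).1 (hSU ha), (mem_GUi hF).1 (hSU hb), fromBlocks_one]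
    · have key : vU F q (2 * 2 ^ (k + 1)) = 2 * vU F q (2 * 2 ^ k) + 1 := by
        rw [vU_formula hF hq, vU_formula hF hq, pow_succ', padicValNat_factorial_mul]
        have hfac : ∀ j : ℕ, padicValNat 2 (2 ^ j).factorial + 1 = 2 ^ j := by
          intro j
          induction j with
          | zero => simp
          | succ j ih => rw [pow_succ', padicValNat_factorial_mul]; omega
        have := hfac k
        generalize padicValNat 2 (2 ^ k).factorial = w at *
        rw [← this]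
        ring
      rw [card_T, hcard, key, ← pow_mul, pow_succ]
      ring

/-- Sylow 2-subgroups of `SU(2^w, q)` are self-normalising for odd `q` and `w ≥ 2`. -/
theorem normalizer_le (hF : Fintype.card F = q ^ 2) (hq : Odd q) (w : ℕ) (hw : 2 ≤ w)
    (P : Sylow 2 (Cfsg.SU (2 ^ w) F q)) :
    Subgroup.normalizer ((P : Subgroup (Cfsg.SU (2 ^ w) F q)) : Set (Cfsg.SU (2 ^ w) F q)) ≤ P := by
  classical
  haveI : Fact (Nat.Prime 2) := ⟨Nat.prime_two⟩
  have h2 := PSL2SylowTwo.two_ne_zero_of_odd (show Odd (Nat.card F) by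
    rw [Nat.card_eq_fintype_card, hF]; exact hq.pow)
  obtain ⟨k, rfl⟩ : ∃ k, w = k + 2 := ⟨w - 2, by omega⟩
  obtain ⟨κ, _, _, hκ, T1, hTU, hT, hTcard⟩ := exists_core (F := F) hF hq (k + 1)
  obtain ⟨ι, _, _, hι, S, hSU, hS, hScard⟩ := exists_core (F := F) hF hq k
  have hn : 2 ≤ Fintype.card ι := by rw [hι]; exact Nat.le_self_pow (by omega) 2
  have he : Even (Fintype.card ι) := ⟨2 ^ k, by rw [hι]; ring⟩
  haveI : Nonempty ι := Fintype.card_pos_iff.1 (by omega)
  have hcard : Fintype.card (Fin (2 ^ (k + 2))) = Fintype.card (ι ⊕ ι) := by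
    rw [Fintype.card_fin, Fintype.card_sum, hι]; ring
  let e : Fin (2 ^ (k + 2)) ≃ ι ⊕ ι := Fintype.equivOfCardEq hcard
  let G0 := GUi (F := F) hF (ι ⊕ ι)
  let ψ : Cfsg.SU (2 ^ (k + 2)) F q →* G0 :=
    ((reidx e).toMonoidHom.comp ((Matrix.SpecialLinearGroup.toGL).comp (Cfsg.SU (2 ^ (k + 2)) F q).subtype)).codRestrict G0
      fun g => (mem_GUi_reidx hF e _).2 ((isU_iff hF _).1 g.2)
  have hψ : Function.Injective ψ := fun A B h => Subtype.ext (Matrix.SpecialLinearGroup.toGL_injective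
    ((reidx e).injective (congrArg Subtype.val h)))
  have hψd : ∀ A, (ψ A).1.val.det = 1 := fun A => by
    show (Matrix.reindex e e A.1.1).det = 1
    rw [Matrix.det_reindex_self, A.1.2]
  have hsurj : ∀ M : G0, M.1.val.det = 1 → ∃ A, ψ A = M := by
    intro M hM
    let B : SL(2 ^ (k + 2), F) := ⟨Matrix.reindex e.symm e.symm M.1.val, by rw [Matrix.det_reindex_self]; exact hM⟩
    have hB : reidx e (Matrix.SpecialLinearGroup.toGL B) = M.1 := Units.ext (by
      show Matrix.reindex e e B.1 = M.1.val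
      simp [B])
    refine ⟨⟨B, (isU_iff hF B.1).2 ?_⟩, Subtype.ext hB⟩
    exact (mem_GUi_reidx hF e (Matrix.SpecialLinearGroup.toGL B)).1 (hB ▸ M.2)
  have hTle : T S ≤ G0 := by
    have hadj : ∀ A B C D : Matrix ι ι F, adj q (fromBlocks A B C D) =
        fromBlocks (adj q A) (adj q C) (adj q B) (adj q D) := fun A B C D => by
      ext r s
      rcases r with r | r <;> rcases s with s | s <;> rfl
    have h0 : adj q (0 : Matrix ι ι F) = 0 := by ext r s; simp [adj_apply, zero_pow_q hF]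
    rintro M ⟨a, ha, b, hb, hM | hM⟩ <;>
      rw [mem_GUi, hM, hadj, fromBlocks_multiply, h0] <;>
      simp [(mem_GUi hF).1 (hSU ha), (mem_GUi hF).1 (hSU hb), fromBlocks_one]
  have hTG : Nat.card ((T S).subgroupOf G0) = 2 ^ (Nat.card G0).factorization 2 := by
    rw [Nat.card_congr (Subgroup.subgroupOfEquivOfLe hTle).toEquiv, card_T, hScard, card_GUi hF (n := 2 * 2 ^ (k + 1))
      (by rw [Fintype.card_sum, hι]; ring)]
    show _ = 2 ^ vU F q (2 * 2 ^ (k + 1))
    rw [vU_formula hF hq, vU_formula hF hq, pow_succ' 2 k, padicValNat_factorial_mul]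
    have hfac : ∀ j : ℕ, padicValNat 2 (2 ^ j).factorial + 1 = 2 ^ j := by
      intro j
      induction j with
      | zero => simp
      | succ j ih => rw [pow_succ', padicValNat_factorial_mul]; omega
    have := hfac k
    generalize padicValNat 2 (2 ^ k).factorial = z at *
    rw [← this]
    ring
  let Tsyl : Sylow 2 G0 := Sylow.ofCard ((T S).subgroupOf G0) hTG
  obtain ⟨R, hR⟩ := (P.isPGroup'.map ψ).exists_le_sylow
  obtain ⟨a, rfl⟩ := MulAction.exists_smul_eq G0 Tsyl R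
  let D : Subgroup (GL (ι ⊕ ι) F) := T S ⊓ Matrix.GeneralLinearGroup.det.ker
  let ρ : Cfsg.SU (2 ^ (k + 2)) F q →* GL (ι ⊕ ι) F := G0.subtype.comp ((MulAut.conj a⁻¹).toMonoidHom.comp ψ)
  have hρ : ∀ x, ρ x = (a⁻¹ * ψ x * a : G0) := fun x => by simp [ρ]
  have hPT : ∀ x ∈ (P : Subgroup _), ρ x ∈ T S := by
    intro x hx
    have := hR (Subgroup.mem_map_of_mem ψ hx)
    rw [Sylow.coe_subgroup_smul, Subgroup.mem_pointwise_smul_iff_inv_smul_mem] at this
    have h' : a⁻¹ * ψ x * a ∈ (Tsyl : Subgroup G0) := by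
      simpa [MulAut.smul_def, mul_assoc] using this
    rw [hρ]; exact h'
  have hρd : ∀ x, ρ x ∈ Matrix.GeneralLinearGroup.det.ker := fun x => by
    rw [MonoidHom.mem_ker, hρ, Subgroup.coe_mul, Subgroup.coe_mul, Subgroup.coe_inv, map_mul, map_mul, map_inv,
      show Matrix.GeneralLinearGroup.det (ψ x).1 = 1 from Units.ext (hψd x)]
    simp
  have hρi : Function.Injective ρ := Subtype.val_injective.comp ((MulAut.conj a⁻¹).injective.comp hψ)
  have hPD : (P : Subgroup _).map ρ = D := by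
    refine le_antisymm ?_ fun M hM => ?_
    · rintro _ ⟨x, hx, rfl⟩
      exact ⟨hPT x hx, hρd x⟩
    · obtain ⟨hMT, hMd⟩ := hM
      obtain ⟨A, hA⟩ := hsurj (a * ⟨M, hTle hMT⟩ * a⁻¹) (by
        rw [← Matrix.GeneralLinearGroup.val_det_apply, Subgroup.coe_mul, Subgroup.coe_mul, Subgroup.coe_inv,
          map_mul, map_mul, map_inv, (MonoidHom.mem_ker).1 hMd]
        simp)
      have hAM : ρ A = M := by
        rw [hρ, hA, show a⁻¹ * (a * ⟨M, hTle hMT⟩ * a⁻¹) * a = ⟨M, hTle hMT⟩ by group]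
      have hle : (P : Subgroup _) ≤ D.comap ρ := fun x hx => ⟨hPT x hx, hρd x⟩
      have hpg : IsPGroup 2 (D.comap ρ) :=
        ((core_step h2 hS hn he).pgroup.to_le inf_le_left).comap_of_injective ρ hρi
      exact ⟨A, P.is_maximal' hpg hle ▸ (show A ∈ D.comap ρ by
        rw [Subgroup.mem_comap, hAM]; exact ⟨hMT, hMd⟩), hAM⟩
  intro g hg
  have key : ∀ h : Cfsg.SU (2 ^ (k + 2)) F q, h ∈ Subgroup.zpowers g → Odd (orderOf h) → h = 1 := by
    intro h hh hodd
    have hhN : h ∈ Subgroup.normalizer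
        ((P : Subgroup (Cfsg.SU (2 ^ (k + 2)) F q)) : Set (Cfsg.SU (2 ^ (k + 2)) F q)) :=
      Subgroup.zpowers_le.2 hg hh
    obtain ⟨α, hα⟩ := odd_scalar hS h2 hn he D inf_le_left
      (fun M hM hd => ⟨hM, MonoidHom.mem_ker.2 (Units.ext hd)⟩) (ρ h)
      (by rwa [orderOf_injective ρ hρi]) fun x hx => by
        rw [← hPD] at hx ⊢
        obtain ⟨y, hy, rfl⟩ := hx
        exact ⟨h * y * h⁻¹, (Subgroup.mem_normalizer_iff.1 hhN y).1 hy, by simp⟩
    have hd : α ^ (2 ^ (k + 2)) = 1 := by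
      have := congrArg Units.val (MonoidHom.mem_ker.1 (hρd h))
      rw [Matrix.GeneralLinearGroup.val_det_apply, hα, Matrix.det_smul, Matrix.det_one, mul_one,
        ← hcard, Fintype.card_fin] at this
      exact this
    apply hρi
    rw [map_one]
    have hr : α ^ orderOf h = 1 := by
      have := congrArg Units.val (show ρ h ^ orderOf h = 1 by rw [← map_pow, pow_orderOf_eq_one, map_one])
      rw [Units.val_pow_eq_pow_val, hα, smul_pow, one_pow, Units.val_one] at this
      obtain ⟨i⟩ := (inferInstance : Nonempty (ι ⊕ ι))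
      simpa using congrFun (congrFun this i) i
    have hcop : Nat.Coprime (2 ^ (k + 2)) (orderOf h) := Nat.Coprime.pow_left _ (Nat.coprime_two_left.2 hodd)
    have hα1 : α = 1 := by simpa [hcop.gcd_eq_one] using pow_gcd_eq_one.2 ⟨hd, hr⟩
    exact Units.ext (by rw [hα, hα1, one_smul, Units.val_one])
  obtain ⟨n, m, hm, hnm⟩ := Nat.exists_eq_pow_mul_and_not_dvd (orderOf_pos g).ne' 2 (by norm_num)
  have hg2 : g ^ 2 ^ n = 1 := by
    refine key _ (pow_mem (Subgroup.mem_zpowers g) _) ?_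
    rw [orderOf_pow' _ (pow_ne_zero _ two_ne_zero), hnm, Nat.gcd_eq_right (dvd_mul_right _ _),
      Nat.mul_div_cancel_left _ (by positivity)]
    exact Nat.not_even_iff_odd.1 fun h => hm (even_iff_two_dvd.1 h)
  have hp : IsPGroup 2 (Subgroup.zpowers g) := by
    obtain ⟨j, -, hj⟩ := (Nat.dvd_prime_pow Nat.prime_two).1 (orderOf_dvd_of_pow_eq_one hg2)
    exact IsPGroup.of_card (by rw [Nat.card_zpowers, hj])
  exact ((hp.inf_normalizer_sylow P).le ⟨Subgroup.mem_zpowers g, hg⟩).2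

end Cfsg.Agent.UnitarySylowTwoWreath
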