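import Cfsg.Agent.Lib.UnitaryThreeFourData
import Cfsg.Prelude.Def_Classical
import Cfsg.Agent.Lib.RangeLoopEqn

/-!
A module in characteristic five for the unitary group in dimension three over the field with sixteen
elements: functions on isotropic points with zero sum on every secant line, modulo constants.
Only the constants are fixed by the chosen element of order thirteen.
-/

set_option autoImplicit false
set_option maxRecDepth 20000

namespace Cfsg.Agent.UnitaryThreeFourModule

open Cfsg.Agent.FieldFour15 Cfsg.Agent.FieldSixteen15 Cfsg.Agent.UnitaryThreeFourData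
open scoped Matrix

/-- Vectors. -/
abbrev Vec : Type := Fin 3 → K16

/-- The Hermitian form, unfolded. -/
def h3 (u v : Vec) : K16 :=
  u 0 * K16.frob (v 0) + u 1 * K16.frob (v 1) + u 2 * K16.frob (v 2)

theorem h3_eq (u v : Vec) : h3 u v = Cfsg.hermForm 3 K16 4 u v := by
  simp [h3, Cfsg.hermForm, Fin.sum_univ_three, K16.frob_eq]

/-- Number of a vector. -/
def vn (v : Vec) : ℕ := pack (num (v 0)) (num (v 1)) (num (v 2))

/-- Vector with a given number. -/
def mkv (n : ℕ) : Vec := ![k (c0 n), k (c1 n), k (c2 n)]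

theorem c_pack {a b c : ℕ} (ha : a < 16) (hb : b < 16) :
    c0 (pack a b c) = a ∧ c1 (pack a b c) = b ∧ c2 (pack a b c) = c := by
  unfold c0 c1 c2 pack
  omega

theorem c_vn (v : Vec) : c0 (vn v) = num (v 0) ∧ c1 (vn v) = num (v 1) ∧ c2 (vn v) = num (v 2) :=
  c_pack (num_lt _) (num_lt _)

theorem vn_lt (v : Vec) : vn v < 4096 := by
  have h0 := num_lt (v 0)
  have h1 := num_lt (v 1)
  have h2 := num_lt (v 2)
  unfold vn pack
  omega

theorem mkv_vn (v : Vec) : mkv (vn v) = v := by
  obtain ⟨h0, h1, h2⟩ := c_vn v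
  funext i
  fin_cases i <;> simp [mkv, h0, h1, h2, k_num]

theorem num_k : ∀ n ∈ List.range 16, num (k n) = n := by
  decide +kernel

theorem vn_mkv {n : ℕ} (hn : n < 4096) : vn (mkv n) = n := by
  have h0 : num (k (c0 n)) = c0 n := num_k _ (List.mem_range.2 (by unfold c0; omega))
  have h1 : num (k (c1 n)) = c1 n := num_k _ (List.mem_range.2 (by unfold c1; omega))
  have h2 : num (k (c2 n)) = c2 n := num_k _ (List.mem_range.2 (by unfold c2; omega))
  simp [vn, mkv, h0, h1, h2]
  unfold pack c0 c1 c2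
  omega

theorem vn_injective : Function.Injective vn := fun u v h => by rw [← mkv_vn u, h, mkv_vn]

theorem num_frob (x : K16) : num (K16.frob x) = frobN (num x) := by
  show num (x * x * (x * x)) = _
  rw [num_mul, num_mul]
  rfl

theorem num_h3 (u v : Vec) : num (h3 u v) = formN (vn u) (vn v) := by
  obtain ⟨a0, a1, a2⟩ := c_vn u
  obtain ⟨b0, b1, b2⟩ := c_vn v
  simp [h3, formN, num_add, num_mul, num_frob, a0, a1, a2, b0, b1, b2]

theorem num_eq_zero {x : K16} : num x = 0 ↔ x = 0 := by
  revert x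
  decide +kernel

theorem h3_eq_zero {u v : Vec} : h3 u v = 0 ↔ formN (vn u) (vn v) = 0 := by
  rw [← num_h3, num_eq_zero]

theorem vn_smul (c : K16) (v : Vec) : vn (c • v) = scN (num c) (vn v) := by
  obtain ⟨a0, a1, a2⟩ := c_vn v
  unfold scN
  rw [a0, a1, a2]
  simp [vn, num_mul]

theorem vn_add_smul (u v : Vec) (c : K16) : vn (u + c • v) = axN (vn u) (num c) (vn v) := by
  obtain ⟨a0, a1, a2⟩ := c_vn u
  obtain ⟨b0, b1, b2⟩ := c_vn v
  unfold axN
  rw [a0, a1, a2, b0, b1, b2]
  simp [vn, num_add, num_mul]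

theorem num_pred_mem {c : K16} (hc : c ≠ 0) :
    num c - 1 ∈ List.range 15 ∧ num c - 1 + 1 = num c := by
  have h1 : num c ≠ 0 := fun h => hc (num_eq_zero.1 h)
  have h2 := num_lt c
  exact ⟨List.mem_range.2 (by omega), by omega⟩

theorem sum_num (G : ℕ → ZMod 5) : ∑ c : K16, G (num c) = ((List.range 16).map G).sum := by
  show (elems.map fun c => G (num c)).sum = _
  rw [← (by decide +kernel : elems.map num = List.range 16), List.map_map]
  rfl

/-- The distinguished code word. -/
def word (v : Vec) : ZMod 5 := (valN (vn v) : ZMod 5)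

/-- Orbit number of a vector. -/
def lab (v : Vec) : ℕ := labN (vn v)

theorem lab_smul (v : Vec) {c : K16} (hc : c ≠ 0) : lab (c • v) = lab v := by
  obtain ⟨h1, h2⟩ := num_pred_mem hc
  have h := (scale_check _ (List.mem_range.2 (vn_lt v)) _ h1).2
  rw [h2] at h
  rw [lab, lab, vn_smul, h]

theorem word_smul (v : Vec) {c : K16} (hc : c ≠ 0) : word (c • v) = word v := by
  obtain ⟨h1, h2⟩ := num_pred_mem hc
  have h := (scale_check _ (List.mem_range.2 (vn_lt v)) _ h1).1
  rw [h2] at h
  rw [word, word, vn_smul, h]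

theorem lab_off {v : Vec} (h : h3 v v ≠ 0) : lab v = 5 :=
  (support_check _ (List.mem_range.2 (vn_lt v)) fun e => h (h3_eq_zero.2 e)).2

/-- Every nonzero isotropic vector is a scalar multiple of a listed point. -/
theorem exists_point {v : Vec} (h : h3 v v = 0) (hv : v ≠ 0) :
    ∃ p ∈ points, ∃ c : K16, c ≠ 0 ∧ v = c • mkv p := by
  rcases cone_check _ (List.mem_range.2 (vn_lt v)) (h3_eq_zero.1 h) with h0 | h0
  · exact absurd (vn_injective (a₂ := 0) (h0.trans (by decide +kernel))) hv
  · obtain ⟨n, hn, ht⟩ := List.any_eq_true.1 h0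
    have hc : k (n + 1) ≠ 0 := by
      revert hn
      revert n
      intro n _ hn
      have := num_k (n + 1) (List.mem_range.2 (by have := List.mem_range.1 hn; omega))
      intro e
      rw [e, num_eq_zero.2 rfl] at this
      omega
    have hk : num (k (n + 1)) = n + 1 :=
      num_k _ (List.mem_range.2 (by have := List.mem_range.1 hn; omega))
    have hp : scN (n + 1) (vn v) = vn (k (n + 1) • v) := by rw [vn_smul, hk]
    rw [hp] at ht
    refine ⟨_, pointTable_check _ (List.mem_range.2 (vn_lt _)) ht, (k (n + 1))⁻¹,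
      inv_ne_zero hc, ?_⟩
    rw [mkv_vn, inv_smul_smul₀ hc]

/-- Functions on isotropic points with zero sum on each secant line. -/
def Code : AddSubgroup (Vec → ZMod 5) where
  carrier := {f | f 0 = 0 ∧ (∀ v, h3 v v ≠ 0 → f v = 0) ∧
    (∀ v (c : K16), c ≠ 0 → f (c • v) = f v) ∧
    ∀ v w, h3 v v = 0 → h3 w w = 0 → h3 v w ≠ 0 → f w + ∑ c : K16, f (v + c • w) = 0}
  zero_mem' := by simp
  add_mem' := by
    rintro f g ⟨hf0, hf1, hf2, hf3⟩ ⟨hg0, hg1, hg2, hg3⟩
    refine ⟨by simp [hf0, hg0], fun v hv => by simp [hf1 v hv, hg1 v hv],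
      fun v c hc => by simp [hf2 v c hc, hg2 v c hc], fun v w hv hw hvw => ?_⟩
    simp only [Pi.add_apply, Finset.sum_add_distrib]
    rw [add_add_add_comm, hf3 v w hv hw hvw, hg3 v w hv hw hvw, add_zero]
  neg_mem' := by
    rintro f ⟨hf0, hf1, hf2, hf3⟩
    refine ⟨by simp [hf0], fun v hv => by simp [hf1 v hv],
      fun v c hc => by simp [hf2 v c hc], fun v w hv hw hvw => ?_⟩
    simp only [Pi.neg_apply, Finset.sum_neg_distrib]
    rw [← neg_add, hf3 v w hv hw hvw, neg_zero]

theorem h3_smul (a b : K16) (v w : Vec) : h3 (a • v) (b • w) = a * K16.frob b * h3 v w := by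
  simp only [h3, Pi.smul_apply, smul_eq_mul, ← K16.frob_eq, mul_pow]
  ring

attribute [local irreducible] valN labN mulN

theorem word_mem : word ∈ Code := by
  refine ⟨?_, fun v hv => ?_, fun v c hc => word_smul v hc, fun v w hv hw hvw => ?_⟩
  · show (valN (vn 0) : ZMod 5) = 0
    decide +kernel
  · have h := (support_check _ (List.mem_range.2 (vn_lt v)) fun e => hv (h3_eq_zero.2 e)).1
    simp [word, h]
  have hv0 : v ≠ 0 := by rintro rfl; exact hvw (by simp [h3])
  have hw0 : w ≠ 0 := by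
    rintro rfl
    exact hvw (by simp [h3, ← K16.frob_eq])
  obtain ⟨p, hp, a, ha, rfl⟩ := exists_point hv hv0
  obtain ⟨r, hr, b, hb, rfl⟩ := exists_point hw hw0
  obtain ⟨-, hp', -, -⟩ := cover_check p hp
  obtain ⟨-, hr', -, -⟩ := cover_check r hr
  have hpr : formN p r ≠ 0 := fun e => hvw (by
    rw [h3_smul, (h3_eq_zero (u := mkv p) (v := mkv r)).2 (by rw [vn_mkv hp', vn_mkv hr', e]),
      mul_zero])
  have hzero : ((valN r + ((List.range 16).map fun c => valN (axN p c r)).sum : ℕ) : ZMod 5) = 0 :=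
    (CharP.cast_eq_zero_iff (ZMod 5) 5 _).2 (Nat.dvd_of_mod_eq_zero (secant_check p hp r hr hpr))
  rw [Nat.cast_add, Nat.cast_list_sum, List.map_map] at hzero
  have hline : word (mkv r) + ∑ c : K16, word (mkv p + c • mkv r) = 0 := by
    simp only [word, vn_add_smul, vn_mkv hp', vn_mkv hr']
    rw [sum_num (fun c => (valN (axN p c r) : ZMod 5))]
    exact hzero
  rw [word_smul _ hb]
  refine Eq.trans (congrArg (word (mkv r) + ·) ?_) hline
  refine Fintype.sum_equiv (Equiv.mulRight₀ (b / a) (div_ne_zero hb ha)) _ _ fun c => ?_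
  have hvec : a • mkv p + c • b • mkv r = a • (mkv p + (c * (b / a)) • mkv r) := by
    rw [smul_add, smul_smul, smul_smul]
    congr 2
    field_simp
  rw [hvec, word_smul _ ha]
  rfl

theorem word_nonconst :
    ∃ x y : Vec, x ≠ 0 ∧ y ≠ 0 ∧ h3 x x = 0 ∧ h3 y y = 0 ∧ word x ≠ word y := by
  obtain ⟨h1, h2, h3'⟩ := val_ne
  refine ⟨mkv 272, mkv 2576, by decide +kernel, by decide +kernel,
    h3_eq_zero.2 (by rw [vn_mkv (by norm_num)]; exact h2),
    h3_eq_zero.2 (by rw [vn_mkv (by norm_num)]; exact h3'), fun e => h1 ?_⟩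
  rw [word, word, vn_mkv (by norm_num), vn_mkv (by norm_num)] at e
  exact (ZMod.natCast_eq_natCast_iff' _ _ 5).1 e

/-- An element of order thirteen. -/
def gmat : Matrix (Fin 3) (Fin 3) K16 :=
  ![![k 0, k 11, k 15], ![k 8, k 0, k 0], ![k 0, k 2, k 11]]

theorem vn_gmat (v : Vec) : vn (gmat *ᵥ v) = gN (vn v) := by
  obtain ⟨a0, a1, a2⟩ := c_vn v
  have hz : k 0 = (0 : K16) := rfl
  have e : ∀ n ∈ List.range 16, num (k n) = n := num_k
  unfold gN
  rw [a0, a1, a2]
  simp [vn, gmat, Matrix.mulVec, dotProduct, Fin.sum_univ_three, hz, num_add, num_mul, e]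

theorem orb_facts {o n : ℕ} (ho : o < 5) (hn : n < 13) :
    lab (mkv (orb o n)) = o ∧ h3 (mkv (orb o n)) (mkv (orb o n)) = 0 ∧ mkv (orb o n) ≠ 0 := by
  obtain ⟨h1, h2, h3', h4⟩ := orb_check o (List.mem_range.2 ho) n (List.mem_range.2 hn)
  refine ⟨by rw [lab, vn_mkv h4, h1], h3_eq_zero.2 (by rw [vn_mkv h4, h2]), fun e => h3' ?_⟩
  rw [← vn_mkv h4, e]
  decide +kernel

/-- A code word fixed by `gmat` is constant on nonzero isotropic vectors. -/
theorem const_of_fixed {f : Vec → ZMod 5} (hf : f ∈ Code)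
    (hfix : ∀ v, v ≠ 0 → h3 v v = 0 → f (gmat *ᵥ v) = f v)
    {v : Vec} (hv : v ≠ 0) (hv' : h3 v v = 0) : f v = f (mkv (orb 0 0)) := by
  obtain ⟨hf0, hfoff, hfs, hfl⟩ := hf
  have hconst : ∀ o < 5, ∀ n, n < 13 → f (mkv (orb o n)) = f (mkv (orb o 0)) := by
    intro o ho n
    induction n with
    | zero => simp
    | succ n ih =>
      intro hn
      obtain ⟨c, hc, he⟩ := List.any_eq_true.1
        (step_check o (List.mem_range.2 ho) n (List.mem_range.2 (by omega)))
      rw [beq_iff_eq] at he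
      have hck : num (k (c + 1)) = c + 1 :=
        num_k _ (List.mem_range.2 (by have := List.mem_range.1 hc; omega))
      have hc0 : k (c + 1) ≠ 0 := fun e => by
        rw [num_eq_zero.2 e] at hck
        omega
      have h4 := (orb_check o (List.mem_range.2 ho) n (List.mem_range.2 (by omega))).2.2.2
      have h4' := (orb_check o (List.mem_range.2 ho) (n + 1) (List.mem_range.2 hn)).2.2.2
      have hg : gmat *ᵥ mkv (orb o n) = k (c + 1) • mkv (orb o (n + 1)) := by
        apply vn_injective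
        rw [vn_gmat, vn_mkv h4, vn_smul, vn_mkv h4', hck, he]
      obtain ⟨-, hi, hne⟩ := orb_facts ho (show n < 13 by omega)
      have h := hfix _ hne hi
      rw [hg, hfs _ _ hc0] at h
      rw [h, ih (by omega)]
  have hval : ∀ w, w ≠ 0 → h3 w w = 0 → f w = f (mkv (orb (lab w) 0)) ∧ lab w < 5 := by
    intro w hw hw'
    obtain ⟨p, hp, c, hc, rfl⟩ := exists_point hw' hw
    obtain ⟨hl, hp', -, hn⟩ := cover_check p hp
    obtain ⟨n, hn, he⟩ := List.any_eq_true.1 hn
    rw [beq_iff_eq] at he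
    rw [hfs _ _ hc, lab_smul _ hc, show lab (mkv p) = labN p by rw [lab, vn_mkv hp']]
    refine ⟨?_, hl⟩
    conv_lhs => rw [← he]
    exact hconst _ hl n (List.mem_range.1 hn)
  -- value of `f` on any vector, through the orbit number
  have hall : ∀ w, f w = ((List.range 5).map fun o =>
      ((if lab w = o then 1 else 0 : ℕ) : ZMod 5) * f (mkv (orb o 0))).sum := by
    intro w
    by_cases h : w ≠ 0 ∧ h3 w w = 0
    · obtain ⟨h1, h2⟩ := hval w h.1 h.2
      rw [h1]
      generalize lab w = o at h2 ⊢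
      interval_cases o <;> simp [List.range, List.range.loop]
    · have h0 : f w = 0 ∧ lab w = 5 := by
        rcases not_and_or.1 h with h | h
        · rw [not_not] at h
          subst h
          exact ⟨hf0, by decide +kernel⟩
        · exact ⟨hfoff w h, lab_off h⟩
      rw [h0.1, h0.2]
      simp [List.range, List.range.loop]
  have hsys : ∀ t ∈ testLines,
      ((List.range 5).map fun o => ((t.2.2.getD o 0 : ℕ) : ZMod 5) * f (mkv (orb o 0))).sum = 0 := by
    intro t ht
    obtain ⟨hp, hr, hpr, hcnt⟩ := lines_check t ht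
    obtain ⟨-, hp', hpi, -⟩ := cover_check _ hp
    obtain ⟨-, hr', hri, -⟩ := cover_check _ hr
    set p := mkv t.1 with hpdef
    set r := mkv t.2.1 with hrdef
    have hvp : vn p = t.1 := vn_mkv hp'
    have hvr : vn r = t.2.1 := vn_mkv hr'
    have h := hfl p r (h3_eq_zero.2 (by rw [hvp, hpi])) (h3_eq_zero.2 (by rw [hvr, hri]))
      (fun e => hpr (by rw [← hvp, ← hvr]; exact h3_eq_zero.1 e))
    rw [← h, Finset.sum_congr rfl (fun c _ => hall (p + c • r)), hall r]
    have hcount : ∀ o ∈ List.range 5, ((t.2.2.getD o 0 : ℕ) : ZMod 5) =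
        ((if lab r = o then 1 else 0 : ℕ) : ZMod 5) +
          ∑ c : K16, ((if lab (p + c • r) = o then 1 else 0 : ℕ) : ZMod 5) := by
      intro o ho
      rw [← hcnt o ho, Nat.cast_add, Nat.cast_list_sum, List.map_map]
      simp only [lab, hvr, vn_add_smul, hvp]
      rw [sum_num (fun c => ((if labN (axN t.1 c t.2.1) = o then 1 else 0 : ℕ) : ZMod 5))]
      rfl
    rw [List.map_congr_left fun o ho => by rw [hcount o ho]]
    simp only [List.range, List.range.loop, List.map, List.sum_cons, List.sum_nil, add_zero,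
      Finset.sum_add_distrib, add_mul, Finset.sum_mul]
    ring
  obtain ⟨hfv, hl⟩ := hval v hv hv'
  rw [hfv]
  set a : ℕ → ℕ := fun o => (f (mkv (orb o 0))).val with ha
  have hmem : ∀ o, a o ∈ List.range 5 := fun o => List.mem_range.2 (ZMod.val_lt _)
  have hlin := linalg _ (hmem 0) _ (hmem 1) _ (hmem 2) _ (hmem 3) _ (hmem 4) (fun t ht => by
    have h := hsys t ht
    refine Nat.mod_eq_zero_of_dvd ((CharP.cast_eq_zero_iff (ZMod 5) 5 _).1 ?_)
    simp [List.range, List.range.loop] at h
    simp only [ha, Nat.cast_add, Nat.cast_mul, ZMod.natCast_zmod_val, List.getD_eq_getElem?_getD]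
    linear_combination h)
  have hinj : ∀ o, a 0 = a o → f (mkv (orb o 0)) = f (mkv (orb 0 0)) := fun o h =>
    (ZMod.val_injective 5 h).symm
  obtain ⟨h1, h2, h3', h4⟩ := hlin
  generalize lab v = o at hl ⊢
  interval_cases o
  exacts [rfl, hinj 1 h1, hinj 2 h2, hinj 3 h3', hinj 4 h4]

end Cfsg.Agent.UnitaryThreeFourModule
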