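import Cfsg.Agent.Lib.ThreeTransM22Lifts17
import Cfsg.Agent.Lib.ThreeTransM22Triples17

/-!
# Involutions of `PSU(6,2)` in a central extension by a group of order two

The five transvections of a totally isotropic line multiply to one, so lifts of commuting transvections
commute and are involutions; hence every involution lifts to an involution.
-/

set_option autoImplicit false
set_option linter.unusedSectionVars false
set_option linter.style.haveILetI false

namespace Cfsg.Agent.UnitaryTwoLifts17

open Cfsg.Agent.UnitaryF4Geo Cfsg.Agent.UnitaryF4Line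
open Cfsg.Agent.ThreeTransM22Frame72
open Cfsg.Agent.ThreeTransM22Lifts17 (mul_prod_twist prod_sq_eq)

variable {F : Type} [Field F] [Fintype F] [hF : FourField F]

local notation "act" => OrthUnitaryTransvection.act
local notation "π₀" => QuotientGroup.mk' (Subgroup.center (Cfsg.SU 6 F 2))

/-- The five transvections of a totally isotropic line. -/
theorem five_prod {n : ℕ} {u v : Fin n → F} (hu : h u u = 0) (hv : h v v = 0) (huv : h u v = 0)
    {w : F} (hw : w ^ 2 = w + 1) (hp : ∀ c : F, h (u + c • v) (u + c • v) = 0) :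
    [T u hu, T v hv, T (u + (1 : F) • v) (hp 1), T (u + w • v) (hp w),
      T (u + (w + 1) • v) (hp (w + 1))].prod = 1 := by
  refine OrthUnitaryTransvection.su_ext fun z => ?_
  simp only [List.prod_cons, List.prod_nil, mul_one, OrthUnitaryTransvection.act_mul,
    T_act, OrthUnitaryTransvection.act_one, h_add_left, h_add_right, h_smul_left, h_smul_right,
    hu, hv, huv, h_comm_zero huv, mul_zero, add_zero, zero_add]
  funext i
  simp only [Pi.add_apply, Pi.smul_apply, smul_eq_mul, one_pow, one_mul]
  have e2 : (w + 1) ^ 2 = w := by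
    linear_combination hw + (w + 1) * (two_eq_zero (F := F))
  rw [e2, hw]
  linear_combination (h z u * u i * 2 + h z v * v i + h z u * v i * (w + 1)
    + h z v * u i * (w + 1) + h z v * v i * (w + w * w)) * (two_eq_zero (F := F))

variable {C : Type*} [Group C] {p : C →* Cfsg.PSU 6 F 2} {z : C}
variable (hp : Function.Surjective p) (hker : ∀ c : C, p c = 1 → c = 1 ∨ c = z)
  (hz : ∀ c : C, Commute z c) (hz2 : z * z = 1)
include hp hker hz hz2

theorem eq_or_eq_mul {a b : C} (h' : p a = p b) : a = b ∨ a = b * z := by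
  rcases hker (b⁻¹ * a) (by rw [map_mul, map_inv, h', inv_mul_cancel]) with e | e
  · exact Or.inl (eq_of_inv_mul_eq_one e).symm
  · exact Or.inr (inv_mul_eq_iff_eq_mul.mp e)

theorem commute_congr {a a' b b' : C} (ha : p a = p a') (hb : p b = p b') (hc : Commute a b) :
    Commute a' b' := by
  have h1 : ∀ {x x' y : C}, p x = p x' → Commute x y → Commute x' y := fun {x x' y} e hxy => by
    rcases eq_or_eq_mul hp hker hz hz2 e.symm with e' | e' <;> rw [e']
    · exact hxy
    · exact hxy.mul_left (hz y)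
  exact (h1 hb (h1 ha hc).symm).symm

/-- Commutation of lifts is the same for all pairs. -/
theorem pair_invariant {u v u' v' : Fin 6 → F} (hu : h u u = 0) (hv : h v v = 0) (huv : h u v = 0)
    (hli : LinearIndependent F ![u, v]) (hu' : h u' u' = 0) (hv' : h v' v' = 0) (huv' : h u' v' = 0)
    (hli' : LinearIndependent F ![u', v']) {a b a' b' : C} (ea : p a = π₀ (T u hu))
    (eb : p b = π₀ (T v hv)) (ea' : p a' = π₀ (T u' hu')) (eb' : p b' = π₀ (T v' hv'))
    (hc : Commute a b) : Commute a' b' := by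
  obtain ⟨A, s, t, hs, ht, hAu, hAv⟩ :=
    ThreeTransM22Triples17.exists_act_pair hu hv huv hli hu' hv' huv' hli'
  obtain ⟨k, hk⟩ := hp (π₀ A)
  have h1 : ∀ {x x' : Fin 6 → F} (hx : h x x = 0) (hx' : h x' x' = 0) {r : F}, r ≠ 0 →
      act A x = r • x' → π₀ A * π₀ (T x hx) * (π₀ A)⁻¹ = π₀ (T x' hx') := by
    intro x x' hx hx' r hr e
    rw [← map_inv, ← map_mul, ← map_mul]
    refine congrArg π₀ ?_
    exact (T_conj A hx).trans ((T_congr e _ (by rw [h_smul_left, h_smul_right, hx', mul_zero, mul_zero])).trans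
      (T_smul hr _ _))
  refine commute_congr hp hker hz hz2 (a := k * a * k⁻¹) (b := k * b * k⁻¹) ?_ ?_
    ((Commute.conj_iff k).mpr hc)
  · rw [map_mul, map_mul, map_inv, hk, ea, ea', h1 hu hu' hs hAu]
  · rw [map_mul, map_mul, map_inv, hk, eb, eb', h1 hv hv' ht hAv]

/-- Lifts of commuting transvections commute. -/
theorem lifts_commute {u v : Fin 6 → F} (hu : h u u = 0) (hu0 : u ≠ 0) (hv : h v v = 0)
    (hv0 : v ≠ 0) (huv : h u v = 0) {a b : C} (ea : p a = π₀ (T u hu)) (eb : p b = π₀ (T v hv)) :
    Commute a b := by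
  classical
  by_cases hli : LinearIndependent F ![u, v]
  swap
  · obtain ⟨c, hc, huv'⟩ : ∃ c : F, c ≠ 0 ∧ u = c • v := by
      by_contra hno
      push Not at hno
      refine hli (LinearIndependent.pair_iff.mpr fun s t hst => ?_)
      by_cases hs : s = 0
      · subst hs; rw [zero_smul, zero_add] at hst
        exact ⟨rfl, (smul_eq_zero.mp hst).resolve_right hv0⟩
      · exfalso
        have h1 : s • u = t • v := vec_eq_of_add hst
        have ht : t ≠ 0 := fun h0 => by rw [h0, zero_smul] at h1; exact smul_ne_zero hs hu0 h1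
        exact hno (s⁻¹ * t) (mul_ne_zero (inv_ne_zero hs) ht)
          (by rw [mul_smul, ← h1, smul_smul, inv_mul_cancel₀ hs, one_smul])
    refine commute_congr hp hker hz hz2 rfl ?_ (Commute.refl a)
    rw [ea, eb, T_congr huv' hu (by rw [h_smul_left, h_smul_right, hv, mul_zero, mul_zero])]
    exact congrArg π₀ (T_smul hc _ _)
  by_contra hn
  obtain ⟨e, f, hfr, -, -⟩ := ThreeTransM22Triples17.exists_frame_pair hu hv huv hli
  obtain ⟨w, hw⟩ := exists_omega (F := F)
  have hiso : ∀ c : F, h (e 1 + c • e 2) (e 1 + c • e 2) = 0 := fun c => by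
    simp [h_add_left, h_add_right, h_smul_left, h_smul_right, hfr.ee]
  have key : ∀ (r : Fin 6 → F) (hr : h r r = 0), h (e 0) r = 0 → LinearIndependent F ![e 0, r] →
      ∀ a' b' : C, p a' = π₀ (T (e 0) (hfr.ee 0 0)) → p b' = π₀ (T r hr) →
        a' * b' = b' * a' * z := by
    intro r hr h0r hlr a' b' ea' eb'
    have hcm : p (a' * b') = p (b' * a') := by
      rw [map_mul, map_mul, ea', eb']
      exact ((T_commute _ hr h0r).map π₀).eq
    refine (eq_or_eq_mul hp hker hz hz2 hcm).resolve_left fun hc => hn ?_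
    exact pair_invariant hp hker hz hz2 (hfr.ee 0 0) hr h0r hlr hu hv huv hli ea' eb' ea eb hc
  have hlin : ∀ c₁ c₂ : F, (c₁ ≠ 0 ∨ c₂ ≠ 0) → LinearIndependent F ![e 0, c₁ • e 1 + c₂ • e 2] := by
    intro c₁ c₂ hc
    refine LinearIndependent.pair_iff.mpr fun s t hst => ?_
    have hcomb : comb e ![s, t * c₁, t * c₂] = comb e 0 := by
      rw [comb_three, comb_zero, ← hst]
      simp [smul_add, smul_smul, add_assoc]
    have h3 := hfr.comb_inj hcomb
    have hs := congrFun h3 0
    have h1 := congrFun h3 1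
    have h2 := congrFun h3 2
    simp at hs h1 h2
    refine ⟨hs, ?_⟩
    rcases hc with hc | hc
    · exact h1.resolve_right hc
    · exact h2.resolve_right hc
  have horth : ∀ c₁ c₂ : F, h (e 0) (c₁ • e 1 + c₂ • e 2) = 0 := fun c₁ c₂ => by
    simp [h_add_right, h_smul_right, hfr.ee]
  have hline : ∀ c : F, LinearIndependent F ![e 0, e 1 + c • e 2] := fun c => by
    have h2 := hlin 1 c (Or.inl one_ne_zero)
    rwa [one_smul] at h2
  obtain ⟨a₀, ha₀⟩ := hp (π₀ (T (e 0) (hfr.ee 0 0)))
  set five : List (Cfsg.SU 6 F 2) := [T (e 1) (hfr.ee 1 1), T (e 2) (hfr.ee 2 2),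
    T (e 1 + (1 : F) • e 2) (hiso 1), T (e 1 + w • e 2) (hiso w),
    T (e 1 + (w + 1) • e 2) (hiso (w + 1))] with hfive
  set lC := five.map fun t => Function.surjInv hp (π₀ t) with hlC
  have htw : a₀ * lC.prod = lC.prod * a₀ * z ^ lC.length := by
    refine mul_prod_twist hz lC fun b' hb' => ?_
    obtain ⟨t, ht, rfl⟩ := List.mem_map.mp hb'
    have eb' : p (Function.surjInv hp (π₀ t)) = π₀ t := Function.surjInv_eq hp _
    simp only [hfive, List.mem_cons, List.not_mem_nil, or_false] at ht
    rcases ht with rfl | rfl | rfl | rfl | rfl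
    · exact key _ (hfr.ee 1 1) (hfr.ee 0 1) (by simpa using hlin 1 0 (Or.inl one_ne_zero)) _ _ ha₀ eb'
    · exact key _ (hfr.ee 2 2) (hfr.ee 0 2) (by simpa using hlin 0 1 (Or.inr one_ne_zero)) _ _ ha₀ eb'
    all_goals
      refine key _ (hiso _) ?_ ?_ _ _ ha₀ eb'
      · rw [h_add_right, h_smul_right, hfr.ee, hfr.ee, mul_zero, add_zero]
      · exact hline _
  have hprod : p lC.prod = 1 := by
    rw [map_list_prod, hlC, List.map_map]
    simp only [Function.comp_def, Function.surjInv_eq hp]
    rw [← map_list_prod π₀, hfive, five_prod (hfr.ee 1 1) (hfr.ee 2 2) (hfr.ee 1 2) hw hiso, map_one]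
  have hcomm : Commute a₀ lC.prod := by
    rcases hker _ hprod with h' | h' <;> rw [h']
    · exact Commute.one_right a₀
    · exact (hz a₀).symm
  have hz1 : z = 1 := by
    rw [hcomm.eq, show lC.length = 5 by simp [hlC, hfive], pow_succ,
      show z ^ 4 = (z * z) * (z * z) by simp [pow_succ, mul_assoc], hz2, one_mul, one_mul] at htw
    exact mul_eq_left.mp htw.symm
  exact hn (by
    have hcm : p (a * b) = p (b * a) := by
      rw [map_mul, map_mul, ea, eb]
      exact ((T_commute hu hv huv).map π₀).eq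
    rcases eq_or_eq_mul hp hker hz hz2 hcm with h' | h'
    · exact h'
    · rw [hz1, mul_one] at h'; exact h')

/-- Lifts of transvections are involutions. -/
theorem lifts_sq {u : Fin 6 → F} (hu : h u u = 0) (hu0 : u ≠ 0) {a : C}
    (ea : p a = π₀ (T u hu)) : a * a = 1 := by
  classical
  set e := a * a with hedef
  have he1 : e = 1 ∨ e = z := hker e (by rw [hedef, map_mul, ea, ← map_mul, T_sq, map_one])
  have hec : ∀ c : C, Commute e c := fun c => by
    rcases he1 with h' | h' <;> rw [h']
    · exact Commute.one_left c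
    · exact hz c
  obtain ⟨x, hxu, -⟩ := exists_h_eq_one hu0
  obtain ⟨v, hv0, hv, hperp⟩ := exists_iso_perp (F := F) (n := 6) (m := 2) (by omega) ![u, x]
  have hvu : h v u = 0 := by simpa using hperp 0
  have hvx : h v x = 0 := by simpa using hperp 1
  have huv : h u v = 0 := h_comm_zero hvu
  have hli : LinearIndependent F ![u, v] := by
    refine LinearIndependent.pair_iff.mpr fun s t hst => ?_
    have h1 := congrArg (fun r => h r x) hst
    simp only [h_add_left, h_smul_left, h_zero_left, hvx, h_comm_one hxu, mul_one, mul_zero,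
      add_zero] at h1
    subst h1
    rw [zero_smul, zero_add] at hst
    exact ⟨rfl, (smul_eq_zero.mp hst).resolve_right hv0⟩
  obtain ⟨fr, g, hfr, -, -⟩ := ThreeTransM22Triples17.exists_frame_pair hu hv huv hli
  obtain ⟨w, hw⟩ := exists_omega (F := F)
  have hiso : ∀ c : F, h (fr 1 + c • fr 2) (fr 1 + c • fr 2) = 0 := fun c => by
    simp [h_add_left, h_add_right, h_smul_left, h_smul_right, hfr.ee]
  set five : List {r : Fin 6 → F // h r r = 0} := [⟨fr 1, hfr.ee 1 1⟩, ⟨fr 2, hfr.ee 2 2⟩,
    ⟨fr 1 + (1 : F) • fr 2, hiso 1⟩, ⟨fr 1 + w • fr 2, hiso w⟩,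
    ⟨fr 1 + (w + 1) • fr 2, hiso (w + 1)⟩] with hfive
  have hne : ∀ c : F, fr 1 + c • fr 2 ≠ 0 := fun c h0 => by
    have h1 := congrArg (fun r => h (g 1) r) h0
    simp [h_add_right, h_smul_right, h_zero_right, hfr.fe] at h1
  have hne5 : ∀ r ∈ five, r.1 ≠ 0 := by
    intro r hr
    simp only [hfive, List.mem_cons, List.not_mem_nil, or_false] at hr
    rcases hr with rfl | rfl | rfl | rfl | rfl
    exacts [hfr.ne_zero 1, hfr.ne_zero 2, hne _, hne _, hne _]
  have horth : ∀ r ∈ five, ∀ s ∈ five, h r.1 s.1 = 0 := by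
    intro r hr s hs
    simp only [hfive, List.mem_cons, List.not_mem_nil, or_false] at hr hs
    rcases hr with rfl | rfl | rfl | rfl | rfl <;> rcases hs with rfl | rfl | rfl | rfl | rfl <;>
      simp [h_add_left, h_add_right, h_smul_left, h_smul_right, hfr.ee]
  -- all lifts of transvections have the same square
  have hall : ∀ (r : Fin 6 → F) (hr : h r r = 0), r ≠ 0 → ∀ b : C, p b = π₀ (T r hr) →
      b * b = e := by
    intro r hr hr0 b eb
    obtain ⟨y, hyr, -⟩ := exists_h_eq_one hr0
    obtain ⟨s, hs0, hs, hsp⟩ := exists_iso_perp (F := F) (n := 6) (m := 2) (by omega) ![r, y]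
    have hsr : h s r = 0 := by simpa using hsp 0
    have hsy : h s y = 0 := by simpa using hsp 1
    have hli' : LinearIndependent F ![r, s] := by
      refine LinearIndependent.pair_iff.mpr fun a' t hst => ?_
      have h1 := congrArg (fun q => h q y) hst
      simp only [h_add_left, h_smul_left, h_zero_left, hsy, h_comm_one hyr, mul_one, mul_zero,
        add_zero] at h1
      subst h1
      rw [zero_smul, zero_add] at hst
      exact ⟨rfl, (smul_eq_zero.mp hst).resolve_right hs0⟩
    obtain ⟨A, i, j, hi, -, hAu, -⟩ :=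
      ThreeTransM22Triples17.exists_act_pair hu hv huv hli hr hs (h_comm_zero hsr) hli'
    obtain ⟨k, hk⟩ := hp (π₀ A)
    have h1 : p (k * a * k⁻¹) = p b := by
      rw [map_mul, map_mul, map_inv, hk, ea, eb, ← map_inv, ← map_mul, ← map_mul]
      exact congrArg π₀ ((T_conj A hu).trans
        ((T_congr hAu _ (by rw [h_smul_left, h_smul_right, hr, mul_zero, mul_zero])).trans
          (T_smul hi _ _)))
    have h2 : (k * a * k⁻¹) * (k * a * k⁻¹) = e := by
      calc (k * a * k⁻¹) * (k * a * k⁻¹) = k * e * k⁻¹ := by rw [hedef]; group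
        _ = e := by rw [(hec k).symm.eq, mul_inv_cancel_right]
    rcases eq_or_eq_mul hp hker hz hz2 h1.symm with h' | h'
    · rw [h', h2]
    · rw [h', (hz _).mul_mul_mul_comm, hz2, mul_one, h2]
  set lC := five.map fun r => Function.surjInv hp (π₀ (T r.1 r.2)) with hlC
  have hprod : p lC.prod = 1 := by
    rw [map_list_prod, hlC, List.map_map]
    simp only [Function.comp_def, Function.surjInv_eq hp]
    have h5 := five_prod (hfr.ee 1 1) (hfr.ee 2 2) (hfr.ee 1 2) hw hiso
    have e5 := congrArg π₀ h5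
    rw [map_list_prod, map_one] at e5
    simpa [hfive] using e5
  have hsq := prod_sq_eq hec lC (fun b hb c hc => by
      obtain ⟨r, hr, rfl⟩ := List.mem_map.mp hb
      obtain ⟨s, hs, rfl⟩ := List.mem_map.mp hc
      exact lifts_commute hp hker hz hz2 r.2 (hne5 r hr) s.2 (hne5 s hs) (horth r hr s hs)
        (Function.surjInv_eq hp _) (Function.surjInv_eq hp _))
    fun b hb => by
      obtain ⟨r, hr, rfl⟩ := List.mem_map.mp hb
      exact hall r.1 r.2 (hne5 r hr) _ (Function.surjInv_eq hp _)
  have hone : lC.prod * lC.prod = 1 := by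
    rcases hker _ hprod with h' | h' <;> rw [h']
    · exact one_mul 1
    · exact hz2
  rw [hsq, show lC.length = 5 by simp [hlC, hfive]] at hone
  rcases he1 with h' | h'
  · exact h'
  · have h4 : e ^ 4 = 1 := by
      rw [h', show z ^ 4 = (z * z) * (z * z) by simp [pow_succ, mul_assoc], hz2, one_mul]
    rwa [pow_succ, h4, one_mul] at hone

/-- Every involution of `PSU(6,2)` is the image of an involution. -/
theorem exists_lift {x : Cfsg.PSU 6 F 2} (hx : orderOf x = 2) : ∃ y : C, orderOf y = 2 ∧ p y = x := by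
  classical
  have hx2 : x * x = 1 := by simpa [hx, pow_two] using pow_orderOf_eq_one x
  obtain ⟨t', rfl⟩ := QuotientGroup.mk'_surjective _ x
  have hzc : t' * t' ∈ Subgroup.center (Cfsg.SU 6 F 2) := by
    rw [← QuotientGroup.eq_one_iff]; exact (map_mul π₀ t' t').symm.trans hx2
  set zc := t' * t' with hzdef
  set t := t' * zc with htdef
  have hπt : π₀ t = π₀ t' := by
    rw [htdef, map_mul, show π₀ zc = 1 from (QuotientGroup.eq_one_iff zc).mpr hzc, mul_one]
  have htt : t * t = 1 := by
    rw [htdef, show t' * zc * (t' * zc) = zc * zc * zc by rw [hzdef]; group,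
      center_cube (by norm_num) hzc]
  obtain ⟨k, u, v, hu, horth, hdual, hprod, -⟩ := decompose htt
  have hu0 : ∀ i, u i ≠ 0 := fun i h0 => by
    have := hdual i i
    rw [h0, h_zero_right, if_pos rfl] at this
    exact zero_ne_one this
  set lC := List.ofFn fun i => Function.surjInv hp (π₀ (T (u i) (hu i))) with hlC
  have hmap : p lC.prod = π₀ t' := by
    rw [map_list_prod, hlC, List.map_ofFn]
    simp only [Function.comp_def, Function.surjInv_eq hp]
    rw [← hπt, ← hprod, map_list_prod, List.map_ofFn]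
    rfl
  have hsq := prod_sq_eq (fun c => Commute.one_left c) lC
    (fun a ha b hb => by
      obtain ⟨i, rfl⟩ := List.mem_ofFn.mp ha
      obtain ⟨j, rfl⟩ := List.mem_ofFn.mp hb
      exact lifts_commute hp hker hz hz2 (hu i) (hu0 i) (hu j) (hu0 j) (horth i j)
        (Function.surjInv_eq hp _) (Function.surjInv_eq hp _))
    fun a ha => by
      obtain ⟨i, rfl⟩ := List.mem_ofFn.mp ha
      exact lifts_sq hp hker hz hz2 (hu i) (hu0 i) (Function.surjInv_eq hp _)
  rw [one_pow] at hsq
  refine ⟨lC.prod, orderOf_eq_prime (by rw [pow_two, hsq]) fun h1 => ?_, hmap⟩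
  rw [h1, map_one] at hmap
  rw [← hmap, orderOf_one] at hx
  omega

end Cfsg.Agent.UnitaryTwoLifts17
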