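import Mathlib
import Cfsg.Agent.Lib.PGroupsBasic

/-!
# Generators of groups of unitriangular operators

A finite group `Q` acting on a flag of length `n` with factors of order `p`, inducing the identity on
every factor: modulo the kernel of the action, `Q / Φ` needs at most `n² / 4` generators (pivot
positions of generators form a triangle-free graph).
-/

namespace Cfsg.Agent.UnitriGenBound29

open scoped commutatorElement

variable {Q : Type*} [Group Q] {V : Type*} [AddCommGroup V]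

/-- The deviation of `g` from the identity. -/
def D (ρ : Q →* AddMonoid.End V) (g : Q) : V →+ V :=
  AddMonoidHom.mk' (fun v => ρ g v - v) fun a b => by
    simp only [map_add]
    abel

theorem D_apply (ρ : Q →* AddMonoid.End V) (g : Q) (v : V) : D ρ g v = ρ g v - v := rfl

theorem D_mul (ρ : Q →* AddMonoid.End V) (g h : Q) (v : V) :
    D ρ (g * h) v = D ρ g (ρ h v) + D ρ h v := by
  simp only [D_apply, map_mul, AddMonoid.End.coe_mul, Function.comp_apply]
  abel

theorem D_inv (ρ : Q →* AddMonoid.End V) (g : Q) (v : V) :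
    D ρ g⁻¹ v = - D ρ g (ρ g⁻¹ v) := by
  have h := D_mul ρ g g⁻¹ v
  rw [mul_inv_cancel, D_apply, map_one, AddMonoid.End.coe_one, id, sub_self] at h
  exact eq_neg_of_add_eq_zero_right h.symm

/-- A flag on which a group acts trivially on the factors. -/
structure Flag (ρ : Q →* AddMonoid.End V) (p n : ℕ) where
  F : ℕ → AddSubgroup V
  bot : F 0 = ⊥
  top : ∀ r, n ≤ r → F r = ⊤
  mono : Monotone F
  gen : ∀ r, 1 ≤ r → r ≤ n → ∃ a ∈ F r, a ∉ F (r - 1) ∧ ∀ v ∈ F r, ∃ k : ℕ, v - k • a ∈ F (r - 1)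
  step : ∀ g r, ∀ v ∈ F r, D ρ g v ∈ F (r - 1)
  exp : ∀ v : V, p • v = 0

variable {ρ : Q →* AddMonoid.End V} {p n : ℕ} (fl : Flag ρ p n)

theorem rho_mem (g : Q) {r : ℕ} {v : V} (hv : v ∈ fl.F r) : ρ g v ∈ fl.F r := by
  have h := add_mem (fl.mono (Nat.sub_le r 1) (fl.step g r v hv)) hv
  rwa [D_apply, sub_add_cancel] at h

/-- Elements lowering the flag by `d`, and by `d + 1` on the first `l - 1` members. -/
def R (d l : ℕ) : Subgroup Q where
  carrier := {g | ∀ r, ∀ v ∈ fl.F r,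
    D ρ g v ∈ fl.F (r - d) ∧ (r < l → D ρ g v ∈ fl.F (r - (d + 1)))}
  one_mem' := fun r v _ => by
    simp [D_apply]
  mul_mem' {g h} hg hh := fun r v hv => by
    rw [D_mul]
    exact ⟨add_mem (hg r _ (rho_mem fl h hv)).1 (hh r v hv).1, fun hr =>
      add_mem ((hg r _ (rho_mem fl h hv)).2 hr) ((hh r v hv).2 hr)⟩
  inv_mem' {g} hg := fun r v hv => by
    rw [D_inv]
    exact ⟨neg_mem (hg r _ (rho_mem fl g⁻¹ hv)).1, fun hr =>
      neg_mem ((hg r _ (rho_mem fl g⁻¹ hv)).2 hr)⟩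

theorem R_le (d l : ℕ) : R fl d (l + 1) ≤ R fl d l := fun _ hg r v hv =>
  ⟨(hg r v hv).1, fun hr => (hg r v hv).2 (Nat.lt_succ_of_lt hr)⟩

theorem R_start (d : ℕ) : R fl (d + 1) (d + 2) = R fl d (n + 1) := by
  ext g
  constructor
  · intro hg r v hv
    exact ⟨fl.mono (by omega) (hg r v hv).1, fun _ => (hg r v hv).1⟩
  · intro hg r v hv
    have key : ∀ s, ∀ w ∈ fl.F s, D ρ g w ∈ fl.F (s - (d + 1)) := by
      intro s w hw
      rcases Nat.lt_or_ge s (n + 1) with hs | hs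
      · exact (hg s w hw).2 hs
      · have hw' : w ∈ fl.F n := by
          rw [fl.top n le_rfl]
          exact AddSubgroup.mem_top _
        exact fl.mono (by omega) ((hg n w hw').2 n.lt_succ_self)
    refine ⟨key r v hv, fun hr => ?_⟩
    have h0 : r - (d + 1) = 0 := by omega
    have h1 := key r v hv
    rw [h0] at h1
    exact fl.mono (Nat.zero_le _) h1

theorem R_one : R fl 1 2 = ⊤ := by
  refine eq_top_iff.2 fun g _ r v hv => ⟨fl.step g r v hv, fun hr => ?_⟩
  have h1 := fl.step g r v hv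
  rw [show r - 1 = 0 by omega] at h1
  exact fl.mono (Nat.zero_le _) h1

theorem R_last {g : Q} (hg : g ∈ R fl (n + 1) (n + 2)) (v : V) : ρ g v = v := by
  have hv : v ∈ fl.F n := by
    rw [fl.top n le_rfl]
    exact AddSubgroup.mem_top _
  have h := (hg n v hv).1
  rw [show n - (n + 1) = 0 by omega, fl.bot, AddSubgroup.mem_bot, D_apply, sub_eq_zero] at h
  exact h

/-- A pivot at column `l` of gap `d`. -/
def Piv (Φ : Subgroup Q) (d l : ℕ) : Prop := ¬ (R fl d l ⊓ Φ ≤ R fl d (l + 1))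

theorem not_mem_succ {d l : ℕ} {g : Q} (hg : g ∈ R fl d l) (hg' : g ∉ R fl d (l + 1))
    {a : V} (ha : a ∈ fl.F l) (hgen : ∀ v ∈ fl.F l, ∃ k : ℕ, v - k • a ∈ fl.F (l - 1)) :
    D ρ g a ∉ fl.F (l - (d + 1)) := by
  intro h
  apply hg'
  intro r v hv
  refine ⟨(hg r v hv).1, fun hr => ?_⟩
  rcases Nat.lt_or_ge r l with hrl | hrl
  · exact (hg r v hv).2 hrl
  · obtain rfl : r = l := by omega
    obtain ⟨k, hk⟩ := hgen v hv
    have e : D ρ g v = D ρ g (v - k • a) + k • D ρ g a := by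
      rw [map_sub, map_nsmul, sub_add_cancel]
    rw [e]
    refine add_mem ?_ (AddSubgroup.nsmul_mem _ h k)
    rcases Nat.eq_zero_or_pos r with hr0 | hr0
    · subst hr0
      have := (hg 0 _ hk).1
      simpa using this
    · exact fl.mono (by omega) ((hg (r - 1) _ hk).2 (by omega))

theorem relIndex_le [Finite Q] [hp : Fact p.Prime] {d l : ℕ} (hd : 1 ≤ d) (hdl : d < l)
    (hl : l ≤ n) : (R fl d (l + 1)).relIndex (R fl d l) ≤ p := by
  classical
  obtain ⟨a, ha, -, hgena⟩ := fl.gen l (by omega) hl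
  obtain ⟨c, hc, -, hgenc⟩ := fl.gen (l - d) (by omega) (by omega)
  have hex : ∀ g : R fl d l, ∃ k : Fin p,
      D ρ (g : Q) a - (k : ℕ) • c ∈ fl.F (l - (d + 1)) := by
    intro g
    obtain ⟨k, hk⟩ := hgenc _ (g.2 l a ha).1
    refine ⟨⟨k % p, Nat.mod_lt _ hp.out.pos⟩, ?_⟩
    have e : k • c = (k % p) • c := by
      conv_lhs => rw [← Nat.mod_add_div k p, add_smul, mul_comm, mul_smul, fl.exp, smul_zero,
        add_zero]
    show D ρ (g : Q) a - (k % p) • c ∈ _
    rw [← e, show l - (d + 1) = l - d - 1 by omega]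
    exact hk
  choose κ hκ using hex
  unfold Subgroup.relIndex
  rw [Subgroup.index]
  refine le_of_le_of_eq (Nat.card_le_card_of_injective (fun q => κ q.out) ?_) (Nat.card_fin p)
  intro q q' h
  simp only at h
  rw [← Quotient.out_eq q, ← Quotient.out_eq q']
  refine Quotient.sound (QuotientGroup.leftRel_apply.2 ?_)
  rw [Subgroup.mem_subgroupOf]
  by_contra hne
  refine not_mem_succ fl (SetLike.coe_mem _) hne ha hgena ?_
  have h1 : D ρ (q'.out : Q) a - D ρ (q.out : Q) a ∈ fl.F (l - (d + 1)) := by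
    have := sub_mem (hκ q'.out) (hκ q.out)
    rwa [h, sub_sub_sub_cancel_right] at this
  have e : D ρ ((q.out⁻¹ * q'.out : R fl d l) : Q) a =
      ρ (q.out : Q)⁻¹ (D ρ (q'.out : Q) a - D ρ (q.out : Q) a) := by
    simp only [Subgroup.coe_mul, InvMemClass.coe_inv, D_apply, map_sub, map_mul,
      AddMonoid.End.coe_mul, Function.comp_apply]
    have e2 : ρ (q.out : Q)⁻¹ (ρ (q.out : Q) a) = a := by
      rw [← Function.comp_apply (f := ρ (q.out : Q)⁻¹), ← AddMonoid.End.coe_mul, ← map_mul,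
        inv_mul_cancel, map_one, AddMonoid.End.coe_one, id]
    rw [e2]
    abel
  rw [e]
  exact rho_mem fl _ h1

/-- Pivots of gaps `d`, `e` compose to a pivot of a commutator. -/
theorem piv_comp [hp : Fact p.Prime] {Φ : Subgroup Q} (hΦ : commutator Q ≤ Φ) {d e i : ℕ}
    (hd : 1 ≤ d) (he : 1 ≤ e) (hi : 1 ≤ i) (hn : i + d + e ≤ n)
    (hx : Piv fl ⊤ d (i + d)) (hy : Piv fl ⊤ e (i + d + e)) :
    Piv fl Φ (d + e) (i + d + e) := by
  obtain ⟨x, ⟨hx1, -⟩, hx2⟩ := SetLike.not_le_iff_exists.1 hx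
  obtain ⟨y, ⟨hy1, -⟩, hy2⟩ := SetLike.not_le_iff_exists.1 hy
  obtain ⟨a, ha, -, hgena⟩ := fl.gen (i + d + e) (by omega) hn
  obtain ⟨b, hb, -, hgenb⟩ := fl.gen (i + d) (by omega) (by omega)
  have hx3 := not_mem_succ fl hx1 hx2 hb hgenb
  have hy3 := not_mem_succ fl hy1 hy2 ha hgena
  rw [show i + d - (d + 1) = i - 1 by omega] at hx3
  rw [show i + d + e - (e + 1) = i + d - 1 by omega] at hy3
  obtain ⟨k, hk⟩ : ∃ k : ℕ, D ρ y a - k • b ∈ fl.F (i + d - 1) := by
    refine hgenb _ ?_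
    have h := (hy1 _ a ha).1
    rwa [show i + d + e - e = i + d by omega] at h
  have hpk : ¬ p ∣ k := by
    rintro ⟨t, rfl⟩
    apply hy3
    rwa [mul_comm, mul_smul, fl.exp, smul_zero, sub_zero] at hk
  have hxy : D ρ x (D ρ y a) ∉ fl.F (i - 1) := by
    intro h
    apply hx3
    have h1 : D ρ x (D ρ y a - k • b) ∈ fl.F (i - 1) := by
      have := (hx1 _ _ hk).2 (by omega)
      exact fl.mono (by omega) this
    rw [map_sub, map_nsmul, sub_mem_comm_iff] at h1
    have h2 : k • D ρ x b ∈ fl.F (i - 1) := by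
      have := sub_mem h (sub_mem_comm_iff.mp h1)
      rwa [sub_sub_cancel] at this
    obtain ⟨u, -, hu⟩ := Nat.exists_mul_mod_eq_one_of_coprime
      (Nat.Coprime.symm ((hp.out.coprime_iff_not_dvd).2 hpk)) hp.out.one_lt
    have h3 := AddSubgroup.nsmul_mem _ h2 u
    rw [← mul_smul, mul_comm, ← Nat.mod_add_div (k * u) p, hu, add_smul, one_smul, mul_comm p,
      mul_smul, fl.exp, smul_zero, add_zero] at h3
    exact h3
  set z := ⁅x, y⁆ with hz
  set w := ρ (y * x) with hw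
  have hcomm : ∀ v, D ρ z (w v) = D ρ x (D ρ y v) - D ρ y (D ρ x v) := by
    intro v
    have e1 : z * (y * x) = x * y := by
      rw [hz, commutatorElement_def]
      group
    have e2 : ρ z (w v) = ρ x (ρ y v) := by
      rw [hw, ← Function.comp_apply (f := ρ z), ← AddMonoid.End.coe_mul, ← map_mul, e1, map_mul,
        AddMonoid.End.coe_mul, Function.comp_apply]
    rw [D_apply, e2, hw, map_mul, AddMonoid.End.coe_mul, Function.comp_apply]
    simp only [D_apply, map_sub]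
    abel
  have hsurj : ∀ v, v = w (ρ (y * x)⁻¹ v) := by
    intro v
    rw [hw, ← Function.comp_apply (f := ρ (y * x)), ← AddMonoid.End.coe_mul, ← map_mul,
      mul_inv_cancel, map_one, AddMonoid.End.coe_one, id]
  have hz1 : z ∈ R fl (d + e) (i + d + e) := by
    intro r v hv
    have hv' := rho_mem fl (y * x)⁻¹ hv
    rw [hsurj v, hcomm]
    have a1 := hy1 r _ hv'
    have b1 := hx1 r _ hv'
    refine ⟨sub_mem ?_ ?_, fun hr => sub_mem ?_ ?_⟩
    · exact fl.mono (by omega) ((hx1 _ _ a1.1).1)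
    · exact fl.mono (by omega) ((hy1 _ _ b1.1).1)
    · exact fl.mono (by omega) ((hx1 _ _ (a1.2 hr)).1)
    · exact fl.mono (by omega) ((hy1 _ _ b1.1).2 (by omega))
  intro hle
  have hz2 := hle ⟨hz1, hΦ (Subgroup.commutator_mem_commutator
    (Subgroup.mem_top x) (Subgroup.mem_top y))⟩
  refine hxy ?_
  have h1 := (hz2 _ _ (rho_mem fl (y * x) ha)).2 (by omega)
  rw [hcomm, show i + d + e - (d + e + 1) = i - 1 by omega] at h1
  have h2 : D ρ y (D ρ x a) ∈ fl.F (i - 1) := by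
    exact fl.mono (by omega) ((hy1 _ _ (hx1 _ a ha).1).2 (by omega))
  have := add_mem h1 h2
  rwa [sub_add_cancel] at this

open Classical in
/-- `1` at a generator position and `0` elsewhere. -/
noncomputable def genPos (Φ : Subgroup Q) (d l : ℕ) : ℕ :=
  if Piv fl ⊤ d l ∧ ¬ Piv fl Φ d l then 1 else 0

theorem step_ineq [Finite Q] [hp : Fact p.Prime] (hQ : IsPGroup p Q) (Φ : Subgroup Q)
    {d l : ℕ} (hd : 1 ≤ d) (hdl : d < l) (hl : l ≤ n) :
    Nat.card (R fl d l) * Nat.card ↥(R fl d (l + 1) ⊓ Φ) ≤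
      Nat.card (R fl d (l + 1)) * Nat.card ↥(R fl d l ⊓ Φ) * p ^ genPos fl Φ d l := by
  set a := (R fl d (l + 1)).relIndex (R fl d l) with ha
  set b := (R fl d (l + 1)).relIndex (R fl d l ⊓ Φ) with hb
  have e1 : Nat.card (R fl d l) = Nat.card (R fl d (l + 1)) * a := by
    rw [ha, ← Subgroup.relIndex_bot_left, ← Subgroup.relIndex_bot_left,
      Subgroup.relIndex_mul_relIndex ⊥ _ _ bot_le (R_le fl d l)]
  have e2 : Nat.card ↥(R fl d l ⊓ Φ) = Nat.card ↥(R fl d (l + 1) ⊓ Φ) * b := by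
    have hle : R fl d (l + 1) ⊓ Φ ≤ R fl d l ⊓ Φ := inf_le_inf_right _ (R_le fl d l)
    rw [← Subgroup.relIndex_bot_left, ← Subgroup.relIndex_bot_left,
      ← Subgroup.relIndex_mul_relIndex ⊥ _ _ bot_le hle, hb]
    congr 1
    have h3 : R fl d (l + 1) ⊓ Φ = R fl d (l + 1) ⊓ (R fl d l ⊓ Φ) := by
      rw [← inf_assoc, inf_eq_left.2 (R_le fl d l)]
    rw [h3, Subgroup.inf_relIndex_right]
  rw [e1, e2]
  suffices h : a ≤ b * p ^ genPos fl Φ d l by
    calc Nat.card (R fl d (l + 1)) * a * Nat.card ↥(R fl d (l + 1) ⊓ Φ)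
        ≤ Nat.card (R fl d (l + 1)) * (b * p ^ genPos fl Φ d l) *
          Nat.card ↥(R fl d (l + 1) ⊓ Φ) := by gcongr
      _ = _ := by ring
  have hbpos : 0 < b := by
    rw [hb]
    exact Nat.pos_of_ne_zero Subgroup.index_ne_zero_of_finite
  unfold genPos
  by_cases hΦ : Piv fl Φ d l
  · rw [if_neg (fun h => h.2 hΦ), pow_zero, mul_one]
    refine (relIndex_le fl hd hdl hl).trans ?_
    obtain ⟨m, hm⟩ := (hQ.to_subgroup (R fl d l ⊓ Φ)).index
      ((R fl d (l + 1)).subgroupOf (R fl d l ⊓ Φ))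
    have hb1 : b = p ^ m := hm
    rcases Nat.eq_zero_or_pos m with rfl | hm0
    · exact absurd (Subgroup.relIndex_eq_one.1 hb1) hΦ
    · rw [hb1]
      exact Nat.le_self_pow hm0.ne' p
  · by_cases hT : Piv fl ⊤ d l
    · rw [if_pos ⟨hT, hΦ⟩, pow_one]
      exact (relIndex_le fl hd hdl hl).trans (Nat.le_mul_of_pos_left p hbpos)
    · rw [if_neg (fun h => hT h.1), pow_zero, mul_one, ha]
      have : R fl d l ≤ R fl d (l + 1) := by
        simpa [Piv] using hT
      rw [Subgroup.relIndex_eq_one.2 this]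
      exact hbpos

theorem chain_ineq [Finite Q] [hp : Fact p.Prime] (hQ : IsPGroup p Q) (Φ : Subgroup Q) :
    ∀ d, d ≤ n → Nat.card Q * Nat.card ↥(R fl (d + 1) (d + 2) ⊓ Φ) ≤
      Nat.card (R fl (d + 1) (d + 2)) * Nat.card Φ *
        p ^ ∑ s ∈ Finset.Icc 1 d, ∑ l ∈ Finset.Ioc s n, genPos fl Φ s l := by
  intro d
  induction d with
  | zero =>
    intro _
    simp [R_one fl]
  | succ d ih =>
    intro hd
    have inner : ∀ m, d + 1 ≤ m → m ≤ n →
        Nat.card (R fl (d + 1) (d + 2)) * Nat.card ↥(R fl (d + 1) (m + 1) ⊓ Φ) ≤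
          Nat.card (R fl (d + 1) (m + 1)) * Nat.card ↥(R fl (d + 1) (d + 2) ⊓ Φ) *
            p ^ ∑ l ∈ Finset.Ioc (d + 1) m, genPos fl Φ (d + 1) l := by
      intro m hm
      induction m, hm using Nat.le_induction with
      | base => intro _; simp
      | succ m hm ih2 =>
        intro hmn
        have h1 := ih2 (by omega)
        have h2 := step_ineq fl hQ Φ (d := d + 1) (l := m + 1) (by omega) (by omega) hmn
        rw [Finset.sum_Ioc_succ_top hm, pow_add]
        refine Nat.le_of_mul_le_mul_right ?_ (Nat.card_pos (α := ↥(R fl (d + 1) (m + 1))))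
        calc Nat.card (R fl (d + 1) (d + 2)) * Nat.card ↥(R fl (d + 1) (m + 1 + 1) ⊓ Φ) *
              Nat.card (R fl (d + 1) (m + 1))
            = Nat.card (R fl (d + 1) (d + 2)) * (Nat.card (R fl (d + 1) (m + 1)) *
                Nat.card ↥(R fl (d + 1) (m + 1 + 1) ⊓ Φ)) := by ring
          _ ≤ Nat.card (R fl (d + 1) (d + 2)) * (Nat.card (R fl (d + 1) (m + 1 + 1)) *
                Nat.card ↥(R fl (d + 1) (m + 1) ⊓ Φ) * p ^ genPos fl Φ (d + 1) (m + 1)) :=
              Nat.mul_le_mul_left _ h2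
          _ = Nat.card (R fl (d + 1) (d + 2)) * Nat.card ↥(R fl (d + 1) (m + 1) ⊓ Φ) *
                (Nat.card (R fl (d + 1) (m + 1 + 1)) * p ^ genPos fl Φ (d + 1) (m + 1)) := by ring
          _ ≤ _ := Nat.mul_le_mul_right _ h1
          _ = _ := by ring
    have h1 := ih (by omega)
    have h2 := inner n hd le_rfl
    rw [← R_start fl (d + 1)] at h2
    rw [Finset.sum_Icc_succ_top (by omega), pow_add]
    refine Nat.le_of_mul_le_mul_right ?_ (Nat.card_pos (α := ↥(R fl (d + 1) (d + 2) ⊓ Φ)))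
    calc Nat.card Q * Nat.card ↥(R fl (d + 1 + 1) (d + 1 + 2) ⊓ Φ) *
          Nat.card ↥(R fl (d + 1) (d + 2) ⊓ Φ)
        = Nat.card Q * Nat.card ↥(R fl (d + 1) (d + 2) ⊓ Φ) *
          Nat.card ↥(R fl (d + 1 + 1) (d + 1 + 2) ⊓ Φ) := by ring
      _ ≤ _ := Nat.mul_le_mul_right _ h1
      _ = Nat.card (R fl (d + 1) (d + 2)) * Nat.card ↥(R fl (d + 1 + 1) (d + 1 + 2) ⊓ Φ) *
            (Nat.card Φ * p ^ ∑ s ∈ Finset.Icc 1 d, ∑ l ∈ Finset.Ioc s n, genPos fl Φ s l) := by
          ring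
      _ ≤ _ := Nat.mul_le_mul_right _ h2
      _ = _ := by ring

/-- The generator positions form a triangle-free graph. -/
theorem sum_genPos_le [hp : Fact p.Prime] {Φ : Subgroup Q} (hΦ : commutator Q ≤ Φ) :
    ∑ s ∈ Finset.Icc 1 n, ∑ l ∈ Finset.Ioc s n, genPos fl Φ s l ≤ n ^ 2 / 4 := by
  classical
  let E : ℕ → ℕ → Prop := fun i l => i < l ∧ Piv fl ⊤ (l - i) (l + 1) ∧ ¬ Piv fl Φ (l - i) (l + 1)
  let G : SimpleGraph (Fin n) := SimpleGraph.fromRel fun a b => E (a : ℕ) (b : ℕ)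
  have hadj : ∀ a b : Fin n, (a : ℕ) < b → G.Adj a b → E a b := by
    intro a b hab h
    rcases ((SimpleGraph.fromRel_adj _ a b).1 h).2 with h | h
    · exact h
    · exact absurd h.1 (by omega)
  have hfree : G.CliqueFree 3 := by
    intro s hs
    have key : ∀ a b c : Fin n, a < b → b < c → G.Adj a b → G.Adj b c → G.Adj a c → False := by
      intro a b c hab hbc h1 h2 h3
      have hab' : (a : ℕ) < b := hab
      have hbc' : (b : ℕ) < c := hbc
      obtain ⟨-, p1, -⟩ := hadj a b hab' h1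
      obtain ⟨-, p2, -⟩ := hadj b c hbc' h2
      obtain ⟨-, -, p3⟩ := hadj a c (hab'.trans hbc') h3
      have hc := c.isLt
      refine p3 ?_
      have := piv_comp fl hΦ (d := (b : ℕ) - a) (e := (c : ℕ) - b) (i := (a : ℕ) + 1)
        (by omega) (by omega) (by omega) (by omega)
        (by rwa [show (a : ℕ) + 1 + ((b : ℕ) - a) = (b : ℕ) + 1 by omega])
        (by rwa [show (a : ℕ) + 1 + ((b : ℕ) - a) + ((c : ℕ) - b) = (c : ℕ) + 1 by omega])
      rwa [show (b : ℕ) - a + ((c : ℕ) - b) = (c : ℕ) - a by omega,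
        show (a : ℕ) + 1 + ((b : ℕ) - a) + ((c : ℕ) - b) = (c : ℕ) + 1 by omega] at this
    obtain ⟨a, b, c, hab, hac, hbc, -⟩ := SimpleGraph.is3Clique_iff.1 hs
    rcases lt_trichotomy a b with h1 | h1 | h1
    · rcases lt_trichotomy b c with h2 | h2 | h2
      · exact key a b c h1 h2 hab hbc hac
      · exact hbc.ne h2
      · rcases lt_trichotomy a c with h3 | h3 | h3
        · exact key a c b h3 h2 hac hbc.symm hab
        · exact hac.ne h3
        · exact key c a b h3 h1 hac.symm hab hbc.symm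
    · exact hab.ne h1
    · rcases lt_trichotomy a c with h2 | h2 | h2
      · exact key b a c h1 h2 hab.symm hac hbc
      · exact hac.ne h2
      · rcases lt_trichotomy b c with h3 | h3 | h3
        · exact key b c a h3 h2 hbc hac.symm hab.symm
        · exact hbc.ne h3
        · exact key c b a h3 h1 hbc.symm hab.symm hac.symm
  have hM := SimpleGraph.CliqueFree.card_edgeFinset_le (r := 2) hfree
  simp only [Fintype.card_fin] at hM
  have hM' : G.edgeFinset.card ≤ n ^ 2 / 4 := by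
    refine hM.trans ?_
    have h1 : (n % 2).choose 2 = 0 := Nat.choose_eq_zero_of_lt (Nat.mod_lt _ two_pos)
    rw [h1, add_zero]
    exact Nat.div_le_div_right (by simp)
  refine le_trans ?_ hM'
  let S : Finset (Σ _ : ℕ, ℕ) := ((Finset.Icc 1 n).sigma fun s => Finset.Ioc s n).filter
    fun x => Piv fl ⊤ x.1 x.2 ∧ ¬ Piv fl Φ x.1 x.2
  have hsum : ∑ s ∈ Finset.Icc 1 n, ∑ l ∈ Finset.Ioc s n, genPos fl Φ s l = S.card := by
    rw [Finset.card_filter, Finset.sum_sigma]
    rfl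
  rw [hsum, ← Finset.card_attach]
  have hb : ∀ x : S, x.1.1 < x.1.2 ∧ x.1.2 ≤ n ∧ 1 ≤ x.1.1 := by
    intro x
    have h := (Finset.mem_filter.1 x.2).1
    simp only [Finset.mem_sigma, Finset.mem_Icc, Finset.mem_Ioc] at h
    omega
  refine Finset.card_le_card_of_injOn (fun x : S =>
    s((⟨x.1.2 - x.1.1 - 1, by have := hb x; omega⟩ : Fin n),
      (⟨x.1.2 - 1, by have := hb x; omega⟩ : Fin n))) ?_ ?_
  · intro x _
    have h := hb x
    have hg := (Finset.mem_filter.1 x.2).2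
    rw [Finset.mem_coe, SimpleGraph.mem_edgeFinset, SimpleGraph.mem_edgeSet]
    refine (SimpleGraph.fromRel_adj _ _ _).2 ⟨?_, Or.inl ⟨?_, ?_⟩⟩
    · simp only [ne_eq, Fin.mk.injEq]
      omega
    · show x.1.2 - x.1.1 - 1 < x.1.2 - 1
      omega
    · show Piv fl ⊤ (x.1.2 - 1 - (x.1.2 - x.1.1 - 1)) (x.1.2 - 1 + 1) ∧
        ¬ Piv fl Φ (x.1.2 - 1 - (x.1.2 - x.1.1 - 1)) (x.1.2 - 1 + 1)
      rwa [show x.1.2 - 1 - (x.1.2 - x.1.1 - 1) = x.1.1 by omega,
        show x.1.2 - 1 + 1 = x.1.2 by omega]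
  · intro x _ y _ hxy
    have h := hb x
    have h' := hb y
    obtain ⟨⟨a, b⟩, hx⟩ := x
    obtain ⟨⟨a', b'⟩, hy⟩ := y
    simp only [Sym2.eq_iff, Fin.mk.injEq] at hxy
    simp only at h h'
    obtain ⟨rfl, rfl⟩ : a = a' ∧ b = b' := by omega
    rfl

/-- The main bound: modulo the kernel of the action, `Q / Φ` has order at most `p ^ (n ^ 2 / 4)`. -/
theorem card_le (fl : Flag ρ p n) [Finite Q] [hp : Fact p.Prime] (hQ : IsPGroup p Q) {Φ : Subgroup Q}
    (hΦ : commutator Q ≤ Φ) {K : Subgroup Q} (hK : ∀ g, g ∈ K ↔ ∀ v, ρ g v = v) :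
    Nat.card Q * Nat.card ↥(K ⊓ Φ) ≤ Nat.card K * Nat.card Φ * p ^ (n ^ 2 / 4) := by
  have h := chain_ineq fl hQ Φ n le_rfl
  have hKR : R fl (n + 1) (n + 2) = K := by
    refine le_antisymm (fun g hg => (hK g).2 (R_last fl hg)) fun g hg r v _ => ?_
    have : D ρ g v = 0 := by rw [D_apply, (hK g).1 hg, sub_self]
    rw [this]
    exact ⟨zero_mem _, fun _ => zero_mem _⟩
  rw [hKR] at h
  exact h.trans (Nat.mul_le_mul_left _ (Nat.pow_le_pow_right hp.out.pos (sum_genPos_le fl hΦ)))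

end Cfsg.Agent.UnitriGenBound29
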