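import Mathlib
import Cfsg.Agent.Lib.SchmidtPPart

/-!
# Sylow subgroups of Schmidt groups over a fixed field

`P` is a finite `p`-group with an automorphism of prime order `q` that fixes every proper invariant
subgroup pointwise, and `P / Φ(P)` is identified with `K = 𝔽_{p^a}`, the automorphism acting as
multiplication by a primitive `q`-th root of unity `ζ`.  Then `|P| ≤ p ^ a₀`, and any two such
groups are related by a subdirect product of the same kind.
-/

set_option autoImplicit false

namespace Cfsg.Agent.UniversalSchmidt4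

open Subgroup
open scoped commutatorElement

universe u v

/-- An automorphism fixing every proper invariant subgroup. -/
structure Act (p q : ℕ) {P : Type*} [Group P] (φ : MulAut P) : Prop where
  pgroup : IsPGroup p P
  pow : φ ^ q = 1
  ne : φ ≠ 1
  fix : ∀ M : Subgroup P, M ≠ ⊤ → (∀ x ∈ M, φ x ∈ M) → ∀ x ∈ M, φ x = x

/-- A field generated by a primitive `q`-th root of unity `ζ`. -/
structure Gen (p q a : ℕ) [Fact p.Prime] (K : Type*) [Field K] [Algebra (ZMod p) K] (ζ : K) :
    Prop where
  card : Nat.card K = p ^ a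
  ne_one : ζ ≠ 1
  pow : ζ ^ q = 1
  adjoin : Algebra.adjoin (ZMod p) {ζ} = ⊤

variable {p q a : ℕ} [hp : Fact p.Prime] [hq : Fact q.Prime] {K : Type v} [Field K]
  [Algebra (ZMod p) K] {ζ : K}

theorem Gen.finite (hK : Gen p q a K ζ) : Finite K :=
  Nat.finite_of_card_ne_zero (hK.card ▸ pow_ne_zero _ hp.out.ne_zero)

/-- Additive subgroups invariant under `ζ` are ideals. -/
theorem eq_zero_or_top (hK : Gen p q a K ζ) (S : AddSubgroup K) (hS : ∀ w ∈ S, ζ * w ∈ S) :
    (∀ w ∈ S, w = 0) ∨ ∀ w, w ∈ S := by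
  by_cases h : ∀ w ∈ S, w = 0
  · exact Or.inl h
  push Not at h
  obtain ⟨w, hw, hw0⟩ := h
  have hall : ∀ k : K, ∀ w ∈ S, k * w ∈ S := by
    intro k
    have hk : k ∈ Algebra.adjoin (ZMod p) ({ζ} : Set K) := hK.adjoin ▸ Algebra.mem_top
    induction hk using Algebra.adjoin_induction with
    | mem x hx => rw [Set.mem_singleton_iff.1 hx]; exact hS
    | algebraMap r =>
      intro w hw
      rw [← ZMod.natCast_zmod_val r, map_natCast, ← nsmul_eq_mul]
      exact AddSubgroup.nsmul_mem S hw _
    | add x y _ _ hx hy => intro w hw; rw [add_mul]; exact add_mem (hx w hw) (hy w hw)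
    | mul x y _ _ hx hy => intro w hw; rw [mul_assoc]; exact hx _ (hy w hw)
  exact Or.inr fun v => by simpa [hw0] using hall (v * w⁻¹) w hw

/-- A functional on `K` that is zero as soon as it is invariant and kills `1`. -/
theorem eq_zero_of_biadditive (hK : Gen p q a K ζ) {B : K →+ K →+ ZMod p}
    (hinv : ∀ u w, B (ζ * u) (ζ * w) = B u w) (h1 : ∀ w, B 1 w = 0) : B = 0 := by
  let S : AddSubgroup K := B.ker
  have h1S : (1 : K) ∈ S := AddMonoidHom.ext fun w => h1 w
  have hS : ∀ u ∈ S, ζ * u ∈ S := by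
    intro u hu
    refine AddMonoidHom.ext fun w => ?_
    have hζ : ζ ≠ 0 := fun h => by simpa [h, zero_pow hq.out.ne_zero] using hK.pow
    have := hinv u (ζ⁻¹ * w)
    rw [mul_inv_cancel_left₀ hζ] at this
    rw [this]
    exact congrArg (fun f : K →+ ZMod p => f (ζ⁻¹ * w)) hu
  rcases eq_zero_or_top hK S hS with h | h
  · exact absurd (h 1 h1S) one_ne_zero
  · exact AddMonoidHom.ext h

/-- An invariant alternating form forces `ζ⁻¹` to be conjugate to `ζ`. -/
theorem exists_tau (hK : Gen p q a K ζ) {B : K →+ K →+ ZMod p}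
    (hinv : ∀ u w, B (ζ * u) (ζ * w) = B u w) (hB : B ≠ 0) :
    ∃ τ : K ≃ₐ[ZMod p] K, τ ζ = ζ⁻¹ := by
  haveI := hK.finite
  haveI : IsGalois (ZMod p) K := GaloisField.instIsGaloisOfFinite
  have hζ : ζ ≠ 0 := fun h => by simpa [h, zero_pow hq.out.ne_zero] using hK.pow
  have hζ' : ζ⁻¹ * ζ = 1 := inv_mul_cancel₀ hζ
  set g := minpoly (ZMod p) ζ
  refine minpoly.exists_algEquiv_of_root' (Algebra.IsAlgebraic.isAlgebraic ζ) ?_
  have hmove : ∀ (i : ℕ) (w : K), B (ζ⁻¹ ^ i) w = B 1 (ζ ^ i * w) := by
    intro i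
    induction i with
    | zero => intro w; simp
    | succ i ih =>
      intro w
      rw [← hinv, pow_succ' ζ⁻¹, mul_inv_cancel_left₀ hζ, ih, pow_succ ζ, mul_assoc]
  have hsmul : ∀ (c : ZMod p) (u w : K), B (c • u) w = B u (c • w) := by
    intro c u w
    rw [← ZMod.natCast_zmod_val c, Nat.cast_smul_eq_nsmul, Nat.cast_smul_eq_nsmul, map_nsmul,
      map_nsmul, AddMonoidHom.nsmul_apply]
  have hz : B (Polynomial.aeval ζ⁻¹ g) = 0 := by
    refine AddMonoidHom.ext fun w => ?_
    have : B (Polynomial.aeval ζ⁻¹ g) w = B 1 (Polynomial.aeval ζ g * w) := by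
      rw [Polynomial.aeval_eq_sum_range, Polynomial.aeval_eq_sum_range, map_sum,
        AddMonoidHom.finset_sum_apply, Finset.sum_mul, map_sum]
      refine Finset.sum_congr rfl fun i _ => ?_
      rw [hsmul, hmove, mul_smul_comm, smul_mul_assoc]
    rw [this, minpoly.aeval, zero_mul, map_zero]
    rfl
  by_contra hne
  have hS : ∀ u ∈ B.ker, ζ * u ∈ B.ker := by
    intro u hu
    refine AddMonoidHom.ext fun w => ?_
    have := hinv u (ζ⁻¹ * w)
    rw [mul_inv_cancel_left₀ hζ] at this
    rw [this]
    exact congrArg (fun f : K →+ ZMod p => f (ζ⁻¹ * w)) hu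
  rcases eq_zero_or_top hK B.ker hS with h | h
  · exact hne (h _ hz)
  · exact hB (AddMonoidHom.ext h)

/-- The fundamental estimate: there are at most `p ^ (a / 2)` invariant alternating forms, and
none when `a` is odd. -/
theorem forms_bound (hK : Gen p q a K ζ) {L : Type*} [Finite L] (B : L → (K →+ K →+ ZMod p))
    (hinj : Function.Injective B) (halt : ∀ l u, B l u u = 0)
    (hinv : ∀ l u w, B l (ζ * u) (ζ * w) = B l u w) :
    Nat.card L ≤ 1 ∨ (Even a ∧ Nat.card L ≤ p ^ (a / 2)) := by
  haveI := hK.finite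
  by_cases hall : ∀ l, B l = 0
  · left
    exact Finite.card_le_one_iff_subsingleton.2 ⟨fun x y => hinj ((hall x).trans (hall y).symm)⟩
  push Not at hall
  obtain ⟨l₀, hl₀⟩ := hall
  right
  have hζ0 : ζ ≠ 0 := fun h => by simpa [h, zero_pow hq.out.ne_zero] using hK.pow
  obtain ⟨τ, hτ⟩ := exists_tau hK (hinv l₀) hl₀
  have hne2 : ζ ≠ ζ⁻¹ := by
    intro h
    refine hl₀ (eq_zero_of_biadditive hK (hinv l₀) ?_)
    have h2 : ζ * ζ = 1 := by
      nth_rewrite 2 [h]
      exact mul_inv_cancel₀ hζ0
    have hm : ζ = -1 := (mul_self_eq_one_iff.1 h2).resolve_left hK.ne_one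
    have htop : ∀ w : K, ∃ c : ZMod p, algebraMap (ZMod p) K c = w := by
      intro w
      have hw : w ∈ Algebra.adjoin (ZMod p) ({ζ} : Set K) := hK.adjoin ▸ Algebra.mem_top
      induction hw using Algebra.adjoin_induction with
      | mem x hx => exact ⟨-1, by rw [Set.mem_singleton_iff.1 hx, hm, map_neg, map_one]⟩
      | algebraMap r => exact ⟨r, rfl⟩
      | add x y _ _ hx hy =>
        obtain ⟨c, rfl⟩ := hx; obtain ⟨d, rfl⟩ := hy; exact ⟨c + d, map_add _ _ _⟩
      | mul x y _ _ hx hy =>
        obtain ⟨c, rfl⟩ := hx; obtain ⟨d, rfl⟩ := hy; exact ⟨c * d, map_mul _ _ _⟩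
    intro w
    obtain ⟨c, rfl⟩ := htop w
    rw [← ZMod.natCast_zmod_val c, map_natCast, ← nsmul_one, map_nsmul, halt l₀ 1, smul_zero]
  set A := (AddMonoidHom.id K + τ.toLinearMap.toAddMonoidHom) with hA
  set A' := (AddMonoidHom.id K - τ.toLinearMap.toAddMonoidHom) with hA'
  have hAv : ∀ w, A w = w + τ w := fun w => rfl
  have hA'v : ∀ w, A' w = w - τ w := fun w => rfl
  have hττ : ∀ w, τ (τ w) = w := by
    intro w
    have hw : w ∈ Algebra.adjoin (ZMod p) ({ζ} : Set K) := hK.adjoin ▸ Algebra.mem_top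
    induction hw using Algebra.adjoin_induction with
    | mem x hx => rw [Set.mem_singleton_iff.1 hx, hτ, map_inv₀, hτ, inv_inv]
    | algebraMap r => rw [AlgEquiv.commutes, AlgEquiv.commutes]
    | add x y _ _ hx hy => rw [map_add, map_add, hx, hy]
    | mul x y _ _ hx hy => rw [map_mul, map_mul, hx, hy]
  have hkk : ∀ (s : K), (s = 1 ∨ s = -1) →
      ∀ f₁ f₂ : K, τ f₁ = s * f₁ → τ f₂ = s * f₂ → f₁ + ζ * f₂ = 0 → f₁ = 0 ∧ f₂ = 0 := by
    intro s hs f₁ f₂ h1 h2 h
    have hs0 : s ≠ 0 := by rcases hs with rfl | rfl <;> simp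
    have h3 : s * (f₁ + ζ⁻¹ * f₂) = 0 := by
      have := congrArg τ h
      rw [map_add, map_mul, hτ, h1, h2, map_zero] at this
      rw [← this]; ring
    have h4 : (ζ - ζ⁻¹) * f₂ = 0 := by
      have h5 := (mul_eq_zero.1 h3).resolve_left hs0
      linear_combination h - h5
    have h6 : f₂ = 0 := (mul_eq_zero.1 h4).resolve_left (sub_ne_zero.2 hne2)
    exact ⟨by rw [h6, mul_zero, add_zero] at h; exact h, h6⟩
  have hker : ∀ (s : K), (s = 1 ∨ s = -1) → ∀ f : K →+ K, (∀ w ∈ f.ker, τ w = s * w) →
      Nat.card f.ker * Nat.card f.ker ≤ Nat.card K := by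
    intro s hs f hf
    rw [← Nat.card_prod]
    refine Nat.card_le_card_of_injective (fun z : f.ker × f.ker => (z.1 : K) + ζ * z.2) ?_
    intro y z hyz
    obtain ⟨h1, h2⟩ := hkk s hs _ _ (hf _ (f.ker.sub_mem y.1.2 z.1.2))
      (hf _ (f.ker.sub_mem y.2.2 z.2.2)) (by linear_combination hyz)
    exact Prod.ext (Subtype.ext (sub_eq_zero.1 h1)) (Subtype.ext (sub_eq_zero.1 h2))
  have hcA : Nat.card A.ker * Nat.card A.ker ≤ Nat.card K := hker (-1) (Or.inr rfl) A
    fun w hw => by
      have : w + τ w = 0 := hw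
      rw [neg_one_mul]; exact eq_neg_of_add_eq_zero_right this
  have hcA' : Nat.card A'.ker * Nat.card A'.ker ≤ Nat.card K := hker 1 (Or.inl rfl) A'
    fun w hw => by
      have : w - τ w = 0 := hw
      rw [one_mul]; exact (sub_eq_zero.1 this).symm
  have hrange : A.range ≤ A'.ker := by
    rintro _ ⟨w, rfl⟩
    change A' (A w) = 0
    rw [hA'v, hAv, map_add, hττ]; abel
  have hmul : Nat.card A.range * Nat.card A.ker = Nat.card K := by
    rw [← AddSubgroup.index_ker, mul_comm]
    exact AddSubgroup.card_mul_index _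
  have hr : Nat.card A.range ≤ Nat.card A'.ker :=
    Nat.card_le_card_of_injective _ (AddSubgroup.inclusion_injective hrange)
  -- hence all three have order `p ^ (a / 2)`
  have hexp : ∀ S : AddSubgroup K, ∃ k, Nat.card S = p ^ k := fun S => by
    have : Nat.card S ∣ p ^ a := hK.card ▸ AddSubgroup.card_addSubgroup_dvd_card S
    obtain ⟨k, -, hk⟩ := (Nat.dvd_prime_pow hp.out).1 this
    exact ⟨k, hk⟩
  obtain ⟨k, hk⟩ := hexp A.ker
  obtain ⟨k', hk'⟩ := hexp A'.ker
  obtain ⟨r, hrk⟩ := hexp A.range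
  rw [hk, hK.card, ← pow_add, Nat.pow_le_pow_iff_right hp.out.one_lt] at hcA
  rw [hk', hK.card, ← pow_add, Nat.pow_le_pow_iff_right hp.out.one_lt] at hcA'
  rw [hrk, hk', Nat.pow_le_pow_iff_right hp.out.one_lt] at hr
  rw [hrk, hk, hK.card, ← pow_add] at hmul
  have hadd := Nat.pow_right_injective hp.out.two_le hmul
  refine ⟨⟨k, by omega⟩, ?_⟩
  -- the functional `w ↦ B 1 w` determines `B` and kills the range of `A`
  have hadj : ∀ l x u v, B l (x * u) v = B l u (τ x * v) := by
    intro l x
    have hx : x ∈ Algebra.adjoin (ZMod p) ({ζ} : Set K) := hK.adjoin ▸ Algebra.mem_top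
    induction hx using Algebra.adjoin_induction with
    | mem x hx =>
      intro u v
      rw [Set.mem_singleton_iff.1 hx, hτ, ← hinv l u (ζ⁻¹ * v), mul_inv_cancel_left₀ hζ0]
    | algebraMap r =>
      intro u v
      rw [AlgEquiv.commutes, ← ZMod.natCast_zmod_val r, map_natCast, ← nsmul_eq_mul,
        ← nsmul_eq_mul, map_nsmul, map_nsmul, AddMonoidHom.nsmul_apply]
    | add x y _ _ hx hy =>
      intro u v
      rw [add_mul, map_add, AddMonoidHom.add_apply, hx, hy, map_add τ, add_mul, map_add]
    | mul x y _ _ hx hy =>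
      intro u v
      rw [mul_assoc, hx, hy, ← mul_assoc, mul_comm (τ y), ← map_mul τ]
  set R := LinearMap.range (LinearMap.id + τ.toLinearMap) with hR
  have hanti : ∀ l x, B l x 1 = - B l 1 x := by
    intro l x
    have := halt l (x + 1)
    simp only [map_add, AddMonoidHom.add_apply, halt, zero_add, add_zero] at this
    linear_combination this
  let F : L → ↥(R.dualAnnihilator) := fun l => ⟨(B l 1).toZModLinearMap p, by
    rw [Submodule.mem_dualAnnihilator]
    rintro _ ⟨w, rfl⟩
    change B l 1 (w + τ w) = 0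
    have := hadj l w 1 1
    rw [mul_one, mul_one, hanti] at this
    rw [map_add, ← this, add_neg_cancel]⟩
  have hF : Function.Injective F := by
    intro l l' h
    apply hinj
    refine sub_eq_zero.1 (eq_zero_of_biadditive hK (B := B l - B l') (fun u w => ?_) fun w => ?_)
    · simp only [AddMonoidHom.sub_apply, hinv]
    · have h1 := LinearMap.congr_fun (congrArg Subtype.val h) w
      simp only [AddMonoidHom.sub_apply]
      exact sub_eq_zero.2 h1
  haveI : Module.Finite (ZMod p) K := Module.Finite.of_finite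
  haveI : Finite ↥(R.dualAnnihilator) :=
    Module.finite_of_finite (ZMod p)
  refine le_trans (Nat.card_le_card_of_injective F hF) ?_
  have hfr := Subspace.finrank_add_finrank_dualAnnihilator_eq R
  have hcR : Nat.card R = p ^ r := hrk
  rw [Module.natCard_eq_pow_finrank (K := ZMod p), Nat.card_zmod] at hcR ⊢
  have hcK := hK.card
  rw [Module.natCard_eq_pow_finrank (K := ZMod p), Nat.card_zmod] at hcK
  have h1 := Nat.pow_right_injective hp.out.two_le hcR
  have h2 := Nat.pow_right_injective hp.out.two_le hcK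
  exact Nat.pow_le_pow_right hp.out.pos (by omega)

/-- An elementary abelian group spanned by an invariant alternating pairing on `K` is small. -/
theorem pairing_bound (hK : Gen p q a K ζ) {Z : Type*} [CommGroup Z] [Finite Z]
    [Module (ZMod p) (Additive Z)] (c : K → K → Z)
    (hadd : ∀ u u' w, c (u + u') w = c u w * c u' w)
    (hadd' : ∀ u w w', c u (w + w') = c u w * c u w') (halt : ∀ u, c u u = 1)
    (hinv : ∀ u w, c (ζ * u) (ζ * w) = c u w)
    (hgen : Subgroup.closure {z | ∃ u w, c u w = z} = ⊤) :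
    Nat.card Z ≤ 1 ∨ (Even a ∧ Nat.card Z ≤ p ^ (a / 2)) := by
  haveI : Finite (Additive Z) := Finite.of_equiv Z Additive.ofMul
  haveI : Module.Finite (ZMod p) (Additive Z) := Module.Finite.of_finite
  haveI : Finite (Module.Dual (ZMod p) (Additive Z)) := Finite.of_injective _ DFunLike.coe_injective
  have hL : Nat.card Z = Nat.card (Module.Dual (ZMod p) (Additive Z)) := by
    rw [Nat.card_congr Additive.ofMul, Module.natCard_eq_pow_finrank (K := ZMod p),
      Module.natCard_eq_pow_finrank (K := ZMod p) (V := Module.Dual (ZMod p) (Additive Z)),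
      Subspace.dual_finrank_eq]
  let B : Module.Dual (ZMod p) (Additive Z) → (K →+ K →+ ZMod p) := fun l =>
    AddMonoidHom.mk' (fun u => AddMonoidHom.mk' (fun w => l (Additive.ofMul (c u w)))
      fun w w' => by rw [hadd', ofMul_mul, map_add])
      fun u u' => AddMonoidHom.ext fun w => by
        simp only [AddMonoidHom.mk'_apply, AddMonoidHom.add_apply, hadd, ofMul_mul, map_add]
  rw [hL]
  refine forms_bound hK B ?_ ?_ ?_
  · intro l l' hll
    refine LinearMap.ext fun z => ?_
    obtain ⟨z, rfl⟩ := Additive.ofMul.surjective z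
    have hz : z ∈ Subgroup.closure {z | ∃ u w, c u w = z} := hgen ▸ mem_top z
    induction hz using Subgroup.closure_induction with
    | mem w hw =>
      obtain ⟨u, w, rfl⟩ := hw
      exact DFunLike.congr_fun (DFunLike.congr_fun hll u) w
    | one => simp
    | mul x y _ _ ihx ihy => rw [ofMul_mul, map_add, map_add, ihx, ihy]
    | inv x _ ih => rw [ofMul_inv, map_neg, map_neg, ih]
  · intro l u
    simp [B, halt]
  · intro l u w
    simp [B, hinv]

variable {P : Type u} [Group P] [Finite P] {φ : MulAut P} (hA : Act p q φ) (hqp : q ≠ p)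
  (hK : Gen p q a K ζ) {π : P →* Multiplicative K} (hπ : Function.Surjective π)
  (hπφ : ∀ g, (π (φ g)).toAdd = ζ * (π g).toAdd)
include hA hqp hK hπ hπφ

/-- The kernel of `π` is the Frattini subgroup. -/
theorem ker_eq_frattini : π.ker = frattini P := by
  haveI := hK.finite
  have hi : ∀ g ∈ π.ker, φ g ∈ π.ker := by
    intro g hg
    rw [MonoidHom.mem_ker] at hg ⊢
    apply Multiplicative.toAdd.injective
    rw [hπφ, hg, toAdd_one, mul_zero]
  refine le_antisymm ?_ ?_
  · have hne : π.ker ⊔ frattini P ≠ ⊤ := by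
      intro h
      have := frattini_nongenerating h
      rw [MonoidHom.ker_eq_top_iff] at this
      obtain ⟨g, hg⟩ := hπ (Multiplicative.ofAdd (1 : K))
      rw [this, MonoidHom.one_apply] at hg
      exact zero_ne_one (α := K) (congrArg Multiplicative.toAdd hg)
    exact le_sup_left.trans (SchmidtPPart.le_frattini hA.pgroup φ hA.pow hA.ne hqp hA.fix le_sup_right
      hne (SchmidtPPart.invariant_sup φ hi (SchmidtPPart.frattini_invariant φ)))
  · refine PGroupsBasic.frattini_le_of_elementary_quotient (p := p) ?_ fun x => ?_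
    · exact (Abelianization.commutator_subset_ker π)
    · rw [MonoidHom.mem_ker, map_pow]
      apply Multiplicative.toAdd.injective
      rw [toAdd_pow, toAdd_one, nsmul_eq_mul, ← map_natCast (algebraMap (ZMod p) K),
        ZMod.natCast_self, map_zero, zero_mul]

theorem fixed_of_mem_ker {g : P} (hg : g ∈ π.ker) : φ g = g :=
  SchmidtPPart.frattini_fixed φ hA.ne hA.fix g (ker_eq_frattini hA hqp hK hπ hπφ ▸ hg)

theorem ker_le_center : π.ker ≤ center P := by
  by_cases hna : ∀ a b : P, a * b = b * a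
  · exact fun g _ => mem_center_iff.2 fun b => hna b g
  · rw [ker_eq_frattini hA hqp hK hπ hπφ,
      SchmidtPPart.center_eq_frattini hA.pgroup φ hA.pow hA.ne hqp hA.fix hna]

/-- A subgroup that covers `K` is everything. -/
theorem eq_top_of_covers {M : Subgroup P} (h : ∀ w : K, ∃ g ∈ M, (π g).toAdd = w) : M = ⊤ := by
  apply frattini_nongenerating
  rw [eq_top_iff, ← ker_eq_frattini hA hqp hK hπ hπφ]
  intro g _
  obtain ⟨m, hm, hmg⟩ := h (π g).toAdd
  rw [show g = m * (m⁻¹ * g) by group]
  refine mul_mem (mem_sup_left hm) (mem_sup_right ?_)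
  rw [MonoidHom.mem_ker, map_mul, map_inv, Multiplicative.toAdd.injective hmg, inv_mul_cancel]

omit hA hqp hπ hπφ [Finite P] in
/-- The image of a subgroup, as an additive subgroup of `K`. -/
theorem image_dichotomy (M : Subgroup P)
    (h : ∀ w : K, (∃ g ∈ M, (π g).toAdd = w) → ∃ g ∈ M, (π g).toAdd = ζ * w) :
    M ≤ π.ker ∨ ∀ w : K, ∃ g ∈ M, (π g).toAdd = w := by
  let S : AddSubgroup K :=
    { carrier := {w | ∃ g ∈ M, (π g).toAdd = w}
      zero_mem' := ⟨1, one_mem M, by rw [map_one, toAdd_one]⟩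
      add_mem' := by
        rintro _ _ ⟨g, hg, rfl⟩ ⟨g', hg', rfl⟩
        exact ⟨g * g', mul_mem hg hg', by rw [map_mul, toAdd_mul]⟩
      neg_mem' := by
        rintro _ ⟨g, hg, rfl⟩
        exact ⟨g⁻¹, inv_mem hg, by rw [map_inv, toAdd_inv]⟩ }
  rcases eq_zero_or_top hK S h with h0 | hall
  · exact Or.inl fun g hg => Multiplicative.toAdd.injective (h0 _ ⟨g, hg, rfl⟩)
  · exact Or.inr hall

/-- The bound. -/
theorem card_le : Nat.card P ≤ p ^ (if a % 2 = 1 then a else 3 * a / 2) := by
  haveI := hK.finite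
  have hker := ker_eq_frattini hA hqp hK hπ hπφ
  have hcard : Nat.card P = Nat.card π.ker * p ^ a := by
    rw [← hK.card, ← π.ker.card_mul_index, Subgroup.index_ker, MonoidHom.range_eq_top.2 hπ,
      Subgroup.card_top, Nat.card_congr Multiplicative.toAdd]
  suffices h : Nat.card π.ker ≤ 1 ∨ Even a ∧ Nat.card π.ker ≤ p ^ (a / 2) by
    rw [hcard]
    rcases h with h | ⟨he, h⟩
    · refine le_trans (Nat.mul_le_mul_right _ h) ?_
      rw [one_mul]
      exact Nat.pow_le_pow_right hp.out.pos (by split <;> omega)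
    · obtain ⟨b, rfl⟩ := he
      refine le_trans (Nat.mul_le_mul_right _ h) ?_
      rw [← pow_add]
      exact Nat.pow_le_pow_right hp.out.pos (by split <;> omega)
  by_cases hna : ∀ a b : P, a * b = b * a
  · left
    refine le_of_eq (Subgroup.card_eq_one.2 ((Subgroup.eq_bot_iff_forall _).2 fun g hg => ?_))
    let d : P →* P := MonoidHom.mk' (fun g => g⁻¹ * φ g) fun x y => by
      rw [map_mul, mul_inv_rev]
      calc y⁻¹ * x⁻¹ * (φ x * φ y) = y⁻¹ * (x⁻¹ * φ x) * φ y := by group
        _ = x⁻¹ * φ x * (y⁻¹ * φ y) := by rw [hna y⁻¹]; group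
    have hsurj : Function.Surjective d := by
      rw [← MonoidHom.range_eq_top]
      by_contra hr
      refine hA.ne (MulEquiv.ext fun v => SchmidtPPart.fixed_of_displacement_fixed hA.pgroup φ hA.pow
        hqp (hA.fix _ hr ?_ _ ⟨v, rfl⟩))
      rintro _ ⟨y, rfl⟩
      exact ⟨φ y, by simp [d]⟩
    refine (Finite.injective_iff_surjective.2 hsurj) ?_
    rw [map_one]
    change g⁻¹ * φ g = 1
    rw [fixed_of_mem_ker hA hqp hK hπ hπφ hg, inv_mul_cancel]
  -- the nonabelian case
  have hZ := ker_le_center hA hqp hK hπ hπφ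
  have hcom : ∀ x y : P, ⁅x, y⁆ ∈ center P := fun x y =>
    hZ (Abelianization.commutator_subset_ker π (commutator_mem_commutator (mem_top x) (mem_top y)))
  have hkercomm : π.ker ≤ commutator P :=
    hker.le.trans (SchmidtPPart.frattini_le_commutator hA.pgroup φ hA.pow hA.ne hqp hA.fix)
  letI : CommGroup π.ker :=
    { (inferInstance : Group π.ker) with
      mul_comm := fun x y => Subtype.ext (mem_center_iff.1 (hZ y.2) x) }
  have hexp : ∀ z ∈ π.ker, z ^ p = 1 := by
    intro z hz
    have hz' := hkercomm hz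
    rw [commutator_eq_closure] at hz'
    have : Subgroup.closure (commutatorSet P) ≤ center P := (Subgroup.closure_le _).2 (by
      rintro _ ⟨x, y, rfl⟩; exact hcom x y)
    induction hz' using Subgroup.closure_induction with
    | mem w hw =>
      obtain ⟨x, y, rfl⟩ := hw
      rw [← PGroupsBasic.commutatorElement_pow_left (hcom x y),
        commutatorElement_eq_one_iff_mul_comm]
      have hxp : x ^ p ∈ center P := hZ (hker ▸ PGroupsBasic.pow_mem_frattini hA.pgroup x)
      exact (mem_center_iff.1 hxp y).symm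
    | one => exact one_pow p
    | mul x y hx hy ihx ihy =>
      rw [(show Commute x y from mem_center_iff.1 (this hy) x).mul_pow,
        ihx (Abelianization.commutator_subset_ker π (commutator_eq_closure P ▸ hx)),
        ihy (Abelianization.commutator_subset_ker π (commutator_eq_closure P ▸ hy)), one_mul]
    | inv x hx ih =>
      rw [inv_pow, ih (Abelianization.commutator_subset_ker π (commutator_eq_closure P ▸ hx)),
        inv_one]
  letI : Module (ZMod p) (Additive π.ker) := AddCommGroup.zmodModule fun z => by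
    apply Additive.toMul.injective
    rw [toMul_nsmul, toMul_zero]
    exact Subtype.ext (hexp _ (Additive.toMul z).2)
  -- commutators as a form on `K`
  set lift : K → P := fun w => Function.surjInv hπ (Multiplicative.ofAdd w) with hlift
  have hl : ∀ w, (π (lift w)).toAdd = w := fun w => by
    simp [hlift, Function.surjInv_eq hπ]
  let c : P → P → π.ker := fun x y =>
    ⟨⁅x, y⁆, Abelianization.commutator_subset_ker π (commutator_mem_commutator (mem_top x) (mem_top y))⟩
  have hc : ∀ x x' y y', π x = π x' → π y = π y' → c x y = c x' y' := by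
    intro x x' y y' hx hy
    apply Subtype.ext
    obtain ⟨z, hz, rfl⟩ : ∃ z ∈ center P, x' * z = x := ⟨x'⁻¹ * x, hZ (by
      rw [MonoidHom.mem_ker, map_mul, map_inv, hx, inv_mul_cancel]), by group⟩
    obtain ⟨z', hz', rfl⟩ : ∃ z ∈ center P, y' * z = y := ⟨y'⁻¹ * y, hZ (by
      rw [MonoidHom.mem_ker, map_mul, map_inv, hy, inv_mul_cancel]), by group⟩
    have h1 : ⁅z, y' * z'⁆ = 1 :=
      commutatorElement_eq_one_iff_mul_comm.2 (mem_center_iff.1 hz _).symm
    have h2 : ⁅x', z'⁆ = 1 := commutatorElement_eq_one_iff_mul_comm.2 (mem_center_iff.1 hz' x')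
    change ⁅x' * z, y' * z'⁆ = ⁅x', y'⁆
    rw [PGroupsBasic.commutatorElement_mul_left_of_central (hcom _ _), h1, mul_one,
      PGroupsBasic.commutatorElement_mul_right_of_central (hcom _ _), h2, mul_one]
  have hpi : ∀ w w', π (lift (w + w')) = π (lift w * lift w') := by
    intro w w'
    apply Multiplicative.toAdd.injective
    rw [map_mul, toAdd_mul, hl, hl, hl]
  have hadd : ∀ u u' w, c (lift (u + u')) (lift w) = c (lift u) (lift w) * c (lift u') (lift w) := by
    intro u u' w
    rw [hc _ _ _ _ (hpi u u') rfl]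
    exact Subtype.ext (PGroupsBasic.commutatorElement_mul_left_of_central (hcom _ _))
  have hadd' : ∀ u w w', c (lift u) (lift (w + w')) = c (lift u) (lift w) * c (lift u) (lift w') := by
    intro u w w'
    rw [hc _ _ _ _ rfl (hpi w w')]
    exact Subtype.ext (PGroupsBasic.commutatorElement_mul_right_of_central (hcom _ _))
  refine pairing_bound hK (fun u w => c (lift u) (lift w)) hadd hadd'
    (fun u => Subtype.ext (commutatorElement_self _)) (fun u w => ?_) ?_
  · have hφ : ∀ x, π (lift (ζ * x)) = π (φ (lift x)) := fun x => by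
      apply Multiplicative.toAdd.injective
      rw [hl, hπφ, hl]
    rw [hc _ _ _ _ (hφ u) (hφ w)]
    apply Subtype.ext
    change ⁅φ (lift u), φ (lift w)⁆ = ⁅lift u, lift w⁆
    rw [← map_commutatorElement φ]
    exact fixed_of_mem_ker hA hqp hK hπ hπφ (c (lift u) (lift w)).2
  · rw [eq_top_iff]
    rintro ⟨z, hz⟩ -
    have hz' := hkercomm hz
    rw [commutator_eq_closure] at hz'
    set C := Subgroup.closure {z : π.ker | ∃ u w, c (lift u) (lift w) = z}
    have hle : Subgroup.closure (commutatorSet P) ≤ C.map π.ker.subtype := by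
      rw [Subgroup.closure_le]
      rintro _ ⟨x, y, rfl⟩
      refine ⟨c x y, Subgroup.subset_closure ⟨(π x).toAdd, (π y).toAdd, ?_⟩, rfl⟩
      exact (hc _ _ _ _ (Multiplicative.toAdd.injective (hl _).symm)
        (Multiplicative.toAdd.injective (hl _).symm)).symm
    obtain ⟨z', hz'C, hz'eq⟩ := hle hz'
    rwa [show (⟨z, hz⟩ : π.ker) = z' from Subtype.ext hz'eq.symm]

omit hA hqp hK hπ hπφ [Finite P] in
/-- An irreducible action of order `q` on an elementary abelian group is a scalar on `K`. -/
theorem exists_equiv_field {Q : Type*} [CommGroup Q] [Finite Q] [Nontrivial Q]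
    [Module (ZMod p) (Additive Q)] (hK : Gen p q a K ζ) (σ : MulAut Q) (hσq : σ ^ q = 1)
    (hσ1 : σ ≠ 1) (hirr' : ∀ M : Subgroup Q, (∀ x ∈ M, σ x ∈ M) → M = ⊥ ∨ M = ⊤) :
    ∃ m : ℕ, ¬ q ∣ m ∧ ∃ ψ : Q →* Multiplicative K, Function.Surjective ψ ∧
      ∀ g, (ψ ((σ ^ m) g)).toAdd = ζ * (ψ g).toAdd := by
  haveI := hK.finite
  haveI : Finite (Additive Q) := Finite.of_equiv Q Additive.ofMul
  haveI : Nontrivial (Additive Q) := Additive.ofMul.symm.nontrivial
  let f : Module.End (ZMod p) (Additive Q) := (σ.toMonoidHom.toAdditive).toZModLinearMap p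
  have hf : ∀ g, f (Additive.ofMul g) = Additive.ofMul (σ g) := fun g => rfl
  have hfn : ∀ (n : ℕ) g, (f ^ n) (Additive.ofMul g) = Additive.ofMul ((σ ^ n) g) := by
    intro n
    induction n with
    | zero => intro g; rfl
    | succ n ih => intro g; rw [pow_succ', pow_succ', Module.End.mul_apply, ih, hf]; rfl
  have hfq : f ^ q = 1 := LinearMap.ext fun x => by
    obtain ⟨g, rfl⟩ := Additive.ofMul.surjective x
    rw [hfn, hσq]; rfl
  have hirr : ∀ S : Submodule (ZMod p) (Additive Q), (∀ x ∈ S, f x ∈ S) → S = ⊥ ∨ S = ⊤ := by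
    intro S hS
    rcases hirr' (AddSubgroup.toSubgroup' S.toAddSubgroup) (fun g hg => hS _ hg) with h | h
    · refine Or.inl ((Submodule.eq_bot_iff _).2 fun x hx => ?_)
      obtain ⟨g, rfl⟩ := Additive.ofMul.surjective x
      have : g ∈ AddSubgroup.toSubgroup' S.toAddSubgroup := hx
      rw [h, Subgroup.mem_bot] at this
      rw [this]; rfl
    · refine Or.inr (eq_top_iff.2 fun x _ => ?_)
      obtain ⟨g, rfl⟩ := Additive.ofMul.surjective x
      exact h.ge (mem_top g)
  haveI : Module.Finite (ZMod p) (Additive Q) := Module.Finite.of_finite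
  set g₀ := minpoly (ZMod p) f with hg₀
  have hint : IsIntegral (ZMod p) f := Algebra.IsIntegral.isIntegral f
  have hker : ∀ r : Polynomial (ZMod p), Polynomial.aeval f r = 0 ∨
      Function.Injective (Polynomial.aeval f r) := by
    intro r
    rcases hirr (LinearMap.ker (Polynomial.aeval f r)) (fun x hx => by
      rw [LinearMap.mem_ker] at hx ⊢
      have : Polynomial.aeval f r * f = f * Polynomial.aeval f r := by
        have := congrArg (Polynomial.aeval f) (Polynomial.X_mul (p := r))
        rw [map_mul, map_mul, Polynomial.aeval_X] at this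
        exact this.symm
      rw [← Module.End.mul_apply, this, Module.End.mul_apply, hx, map_zero]) with h | h
    · exact Or.inr (LinearMap.ker_eq_bot.1 h)
    · exact Or.inl (LinearMap.ker_eq_top.1 h)
  have hprime : Irreducible g₀ := by
    rw [irreducible_iff]
    refine ⟨minpoly.not_isUnit (ZMod p) f, fun r s hrs => ?_⟩
    have hzero : Polynomial.aeval f r * Polynomial.aeval f s = 0 := by
      rw [← map_mul, ← hrs, hg₀, minpoly.aeval]
    have hsmall : ∀ r s : Polynomial (ZMod p), g₀ = r * s → Polynomial.aeval f r = 0 → IsUnit s := by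
      intro r s hrs h0
      obtain ⟨t, ht⟩ := minpoly.dvd (ZMod p) f h0
      have hr0 : r ≠ 0 := fun h => minpoly.ne_zero hint (by rw [← hg₀, hrs, h, zero_mul])
      refine IsUnit.of_mul_eq_one t ?_
      have : r * (s * t) = r * 1 := by rw [mul_one, ← mul_assoc, ← hrs]; exact ht.symm
      exact mul_left_cancel₀ hr0 this
    rcases hker r with h | h
    · exact Or.inr (hsmall r s hrs h)
    · refine Or.inl (hsmall s r (hrs.trans (mul_comm r s)) (LinearMap.ext fun x => h ?_))
      rw [← Module.End.mul_apply, hzero]; simp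
  -- a root of `g₀` among the powers of `ζ`
  have hζ : IsPrimitiveRoot ζ q := by
    have := IsPrimitiveRoot.orderOf ζ
    rwa [orderOf_eq_prime hK.pow hK.ne_one] at this
  obtain ⟨j, hjq, hroot⟩ : ∃ j < q, Polynomial.aeval (ζ ^ j) g₀ = 0 := by
    obtain ⟨t, ht⟩ : g₀ ∣ (Polynomial.X ^ q - 1 : Polynomial (ZMod p)) :=
      minpoly.dvd _ _ (by simp [hfq])
    by_contra hno
    push Not at hno
    have hdeg := congrArg (Polynomial.map (algebraMap (ZMod p) K)) ht
    rw [Polynomial.map_sub, Polynomial.map_pow, Polynomial.map_X, Polynomial.map_one,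
      Polynomial.map_mul] at hdeg
    have hsplit := X_pow_sub_C_splits_of_isPrimitiveRoot hζ (one_pow q)
    rw [map_one] at hsplit
    have hne0 : (Polynomial.X ^ q - 1 : Polynomial K) ≠ 0 :=
      Polynomial.X_pow_sub_C_ne_zero hq.out.pos (1 : K)
    have hg0s : ((g₀.map (algebraMap (ZMod p) K))).Splits :=
      hsplit.of_dvd hne0 ⟨_, hdeg⟩
    obtain ⟨μ, hμ⟩ := hg0s.exists_eval_eq_zero (by
      rw [Polynomial.degree_map]; exact (minpoly.degree_pos hint).ne')
    have hμq : μ ^ q = 1 := by
      have := congrArg (Polynomial.eval μ) hdeg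
      simp [hμ] at this
      exact sub_eq_zero.1 this
    obtain ⟨j, hj, rfl⟩ := hζ.eq_pow_of_pow_eq_one hμq
    exact hno j hj (by rwa [Polynomial.eval_map_algebraMap] at hμ)
  have hj0 : ¬ q ∣ j := by
    intro h
    obtain rfl := Nat.eq_zero_of_dvd_of_lt h hjq
    rw [pow_zero] at hroot
    have hev : Polynomial.eval 1 g₀ = 0 := by
      apply (algebraMap (ZMod p) K).injective
      rw [map_zero, ← hroot, ← map_one (algebraMap (ZMod p) K), Polynomial.aeval_algebraMap_apply,
        Polynomial.coe_aeval_eq_eval]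
    have hdvd : Polynomial.X - Polynomial.C 1 ∣ g₀ := Polynomial.dvd_iff_isRoot.2 hev
    have heq := Polynomial.eq_of_monic_of_associated (Polynomial.monic_X_sub_C 1)
      (minpoly.monic hint) ((Polynomial.irreducible_X_sub_C 1).associated_of_dvd hprime hdvd)
    have hf1 : f = 1 := by
      have h3 : Polynomial.aeval f g₀ = 0 := minpoly.aeval _ _
      rw [hg₀, ← heq] at h3
      simpa [sub_eq_zero] using h3
    refine hσ1 (MulEquiv.ext fun g => ?_)
    have := hf g
    rw [hf1, Module.End.one_apply] at this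
    exact (Additive.ofMul.injective this).symm
  obtain ⟨m, -, hm⟩ := Nat.exists_mul_mod_eq_one_of_coprime
    ((Nat.Prime.coprime_iff_not_dvd hq.out).2 hj0).symm hq.out.one_lt
  have hjm : ζ ^ (j * m) = ζ := by
    rw [← Nat.mod_add_div (j * m) q, hm, pow_add, pow_mul, hK.pow, one_pow, mul_one, pow_one]
  -- evaluation maps
  have hmin : ∀ r : Polynomial (ZMod p), Polynomial.aeval (ζ ^ j) r = 0 → Polynomial.aeval f r = 0 := by
    intro r hr
    have hd : g₀ ∣ r := by
      have h1 := minpoly.eq_of_irreducible_of_monic hprime hroot (minpoly.monic hint)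
      rw [h1]
      exact minpoly.dvd _ _ hr
    obtain ⟨t, rfl⟩ := hd
    rw [map_mul, hg₀, minpoly.aeval, zero_mul]
  have hsurjK : Function.Surjective (Polynomial.aeval (R := ZMod p) (ζ ^ j)) := by
    intro k
    have hk : k ∈ Algebra.adjoin (ZMod p) ({ζ ^ j} : Set K) := by
      have h1 : Algebra.adjoin (ZMod p) ({ζ} : Set K) ≤ Algebra.adjoin (ZMod p) {ζ ^ j} := by
        refine Algebra.adjoin_le (Set.singleton_subset_iff.2 ?_)
        have h2 := pow_mem (Algebra.self_mem_adjoin_singleton (ZMod p) (ζ ^ j)) m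
        rwa [← pow_mul, hjm] at h2
      exact h1 (hK.adjoin ▸ Algebra.mem_top)
    rwa [Algebra.adjoin_singleton_eq_range_aeval] at hk
  obtain ⟨v, hv⟩ := exists_ne (0 : (Additive Q))
  let θ : K →+ (Additive Q) := AddMonoidHom.mk'
    (fun k => Polynomial.aeval f (Function.surjInv hsurjK k) v) fun k k' => by
      rw [← LinearMap.add_apply, ← map_add]
      refine congrArg (fun t : Module.End (ZMod p) (Additive Q) => t v) (sub_eq_zero.1 ?_)
      rw [← map_sub]
      exact hmin _ (by rw [map_sub, map_add, Function.surjInv_eq hsurjK, Function.surjInv_eq hsurjK,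
        Function.surjInv_eq hsurjK, sub_self])
  have hθ : ∀ r, θ (Polynomial.aeval (ζ ^ j) r) = Polynomial.aeval f r v := fun r =>
    congrArg (fun t : Module.End (ZMod p) (Additive Q) => t v) (sub_eq_zero.1 (by
      rw [← map_sub]
      exact hmin _ (by rw [map_sub, Function.surjInv_eq hsurjK, sub_self])))
  have hθμ : ∀ k, θ (ζ ^ j * k) = f (θ k) := by
    intro k
    obtain ⟨r, rfl⟩ := hsurjK k
    rw [hθ, show ζ ^ j * Polynomial.aeval (ζ ^ j) r =
      Polynomial.aeval (R := ZMod p) (ζ ^ j) (Polynomial.X * r) by rw [map_mul, Polynomial.aeval_X],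
      hθ, map_mul, Polynomial.aeval_X, Module.End.mul_apply]
  have hθn : ∀ (n : ℕ) k, θ (ζ ^ (j * n) * k) = (f ^ n) (θ k) := by
    intro n
    induction n with
    | zero => intro k; simp
    | succ n ih =>
      intro k
      rw [pow_succ', Module.End.mul_apply, ← ih, ← hθμ, ← mul_assoc, ← pow_add]
      congr 3
      ring
  have hθinj : Function.Injective θ := by
    rw [injective_iff_map_eq_zero]
    rcases eq_zero_or_top hK θ.ker (fun k hk => by
      rw [AddMonoidHom.mem_ker] at hk ⊢
      rw [← hjm, hθn, hk, map_zero]) with h | h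
    · exact h
    · refine absurd ?_ hv
      have := hθ 1
      rw [h, map_one, Module.End.one_apply] at this
      exact this.symm
  have hθsurj : Function.Surjective θ := by
    rcases hirr (AddMonoidHom.toZModLinearMap p θ).range (by
      rintro _ ⟨k, rfl⟩
      exact ⟨ζ ^ j * k, hθμ k⟩) with h | h
    · exact absurd (hθinj (a₁ := 1) (a₂ := 0) (by
        have h1 : θ 1 ∈ (AddMonoidHom.toZModLinearMap p θ).range := ⟨1, rfl⟩
        rw [h, Submodule.mem_bot] at h1
        rw [h1, map_zero])) one_ne_zero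
    · intro x
      exact h.ge (Submodule.mem_top (x := x))
  let e : K ≃+ Additive Q := AddEquiv.ofBijective θ ⟨hθinj, hθsurj⟩
  let ψ : Q →* Multiplicative K := MonoidHom.mk' (fun g => Multiplicative.ofAdd (e.symm (Additive.ofMul g)))
    fun g g' => by rw [← ofAdd_add, ← map_add]; rfl
  refine ⟨m, fun h => ?_, ψ, fun k => ?_, fun g => ?_⟩
  · have : q ∣ j * m := h.mul_left j
    rw [Nat.dvd_iff_mod_eq_zero, hm] at this
    exact one_ne_zero this
  · obtain ⟨g, hg⟩ := Additive.ofMul.surjective (e k.toAdd)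
    exact ⟨g, by simp [ψ, hg]⟩
  · apply e.injective
    change e (e.symm (Additive.ofMul ((σ ^ m) g))) = e (ζ * e.symm (Additive.ofMul g))
    rw [e.apply_symm_apply, ← hfn]
    nth_rewrite 1 [← hjm]
    change _ = θ _
    rw [hθn]
    exact congrArg (f ^ m) (e.apply_symm_apply (Additive.ofMul g)).symm

omit hA hqp hK hπ hπφ [Finite P] in
/-- A generator of the action brings `P / Φ(P)` onto `K`. -/
theorem exists_hom [Finite P] (hA : Act p q φ) (hqp : q ≠ p) (hK : Gen p q a K ζ) :
    ∃ j : ℕ, ¬ q ∣ j ∧ ∃ π : P →* Multiplicative K, Function.Surjective π ∧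
      ∀ g, (π ((φ ^ j) g)).toAdd = ζ * (π g).toAdd := by
  obtain ⟨hcomm, hexp⟩ := PGroupsBasic.quotient_frattini_elementary (p := p) hA.pgroup
  letI : CommGroup (P ⧸ frattini P) :=
    { (inferInstance : Group (P ⧸ frattini P)) with mul_comm := hcomm }
  letI : Module (ZMod p) (Additive (P ⧸ frattini P)) := AddCommGroup.zmodModule fun z => by
    apply Additive.toMul.injective
    rw [toMul_nsmul, toMul_zero]
    exact hexp _
  let σ : MulAut (P ⧸ frattini P) := QuotientGroup.congr (frattini P) (frattini P) φ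
    (Subgroup.characteristic_iff_map_eq.mp inferInstance φ)
  have hσ : ∀ (n : ℕ) (g : P),
      (σ ^ n) (g : P ⧸ frattini P) = (((φ ^ n) g : P) : P ⧸ frattini P) := by
    intro n
    induction n with
    | zero => intro g; rfl
    | succ n ih => intro g; rw [pow_succ', pow_succ', MulAut.mul_apply, ih]; rfl
  haveI : Nontrivial (P ⧸ frattini P) := by
    haveI := SchmidtPPart.nontrivial_P φ hA.ne
    exact QuotientGroup.nontrivial_iff.2 PGroupsBasic.frattini_ne_top
  obtain ⟨m, hm, ψ, hψ, hψσ⟩ := exists_equiv_field hK σ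
    (MulEquiv.ext fun x => by
      induction x using QuotientGroup.induction_on with | _ g => rw [hσ, hA.pow]; rfl)
    (fun h => SchmidtPPart.not_all_congr hA.pgroup φ hA.pow hA.ne hqp hA.fix fun g => by
      refine QuotientGroup.eq.1 ?_
      rw [← pow_one φ, ← hσ, h, one_pow, MulAut.one_apply])
    (fun M hM => by
      by_cases hMt : M.comap (QuotientGroup.mk' (frattini P)) = ⊤
      · refine Or.inr (eq_top_iff.2 fun x _ => ?_)
        obtain ⟨g, rfl⟩ := QuotientGroup.mk'_surjective (frattini P) x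
        exact hMt.ge (mem_top g)
      · refine Or.inl ((Subgroup.eq_bot_iff_forall _).2 fun x hx => ?_)
        obtain ⟨g, rfl⟩ := QuotientGroup.mk'_surjective (frattini P) x
        refine (QuotientGroup.eq_one_iff g).2
          (SchmidtPPart.le_frattini hA.pgroup φ hA.pow hA.ne hqp hA.fix ?_ hMt (fun g hg => ?_) hx)
        · exact fun g hg => by rw [mem_comap, QuotientGroup.mk'_apply, (QuotientGroup.eq_one_iff g).2 hg]; exact one_mem M
        · have := hM _ hg
          exact this)
  refine ⟨m, hm, ψ.comp (QuotientGroup.mk' (frattini P)),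
    hψ.comp (QuotientGroup.mk'_surjective _), fun g => ?_⟩
  rw [MonoidHom.comp_apply, MonoidHom.comp_apply, QuotientGroup.mk'_apply, QuotientGroup.mk'_apply,
    ← hσ]
  exact hψσ _

end Cfsg.Agent.UniversalSchmidt4
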