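import Mathlib
import Cfsg.Agent.Lib.UniversalSchmidt4
import Cfsg.Agent.Lib.TransferPResidual
import Cfsg.Agent.Lib.FrobeniusNilpotent

/-!
# The universal Schmidt group with given `q`-part

The model: `𝔽_{p^a}` or, for `a` even, the unitary Heisenberg group over it, extended by a cyclic
group of order `q ^ r` acting through a primitive `q`-th root of unity.
-/

set_option autoImplicit false

namespace Cfsg.Agent.UniversalSchmidtModel4

open Subgroup Cfsg.Agent.UniversalSchmidt4
open scoped commutatorElement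

universe u

variable {p q a : ℕ} [hp : Fact p.Prime] [hq : Fact q.Prime]

/-- A field of order `p ^ a` generated by a primitive `q`-th root of unity. -/
theorem exists_gen (hqp : q ≠ p) (ha : a = orderOf (p : ZMod q)) :
    ∃ ζ : GaloisField p a, Gen p q a (GaloisField p a) ζ := by
  have hp0 : (p : ZMod q) ≠ 0 := fun h => hqp
    ((Nat.prime_dvd_prime_iff_eq hq.out hp.out).1 ((ZMod.natCast_eq_zero_iff _ _).1 h))
  have hfin : IsOfFinOrder (p : ZMod q) :=
    (Units.mk0 _ hp0).isUnit.isOfFinOrder
  have ha0 : a ≠ 0 := ha ▸ hfin.orderOf_pos.ne'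
  set K := GaloisField p a
  have hcard : Nat.card K = p ^ a := GaloisField.card p a ha0
  haveI : Finite K := Nat.finite_of_card_ne_zero (hcard ▸ pow_ne_zero _ hp.out.ne_zero)
  haveI : Fintype K := Fintype.ofFinite K
  have hdvd : q ∣ Nat.card Kˣ := by
    rw [Nat.card_units, hcard, ← ZMod.natCast_eq_zero_iff, Nat.cast_sub (Nat.one_le_pow _ _ hp.out.pos),
      Nat.cast_pow, Nat.cast_one, ha, pow_orderOf_eq_one, sub_self]
  obtain ⟨z, hz⟩ := exists_prime_orderOf_dvd_card' q hdvd
  refine ⟨(z : K), hcard, fun h => hq.out.ne_one ?_, ?_, ?_⟩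
  · rw [← hz, orderOf_eq_one_iff, Units.ext_iff, h, Units.val_one]
  · rw [← Units.val_pow_eq_pow_val, ← hz, pow_orderOf_eq_one, Units.val_one]
  set L := IntermediateField.adjoin (ZMod p) ({(z : K)} : Set K)
  have hz' : (z : K) ∈ L := IntermediateField.mem_adjoin_simple_self _ _
  haveI : Fintype L := Fintype.ofFinite L
  have hb : Nat.card L = p ^ Module.finrank (ZMod p) L := by
    rw [Module.natCard_eq_pow_finrank (K := ZMod p), Nat.card_zmod]
  have hqd : q ∣ Nat.card L - 1 := by
    have h1 : (⟨(z : K), hz'⟩ : L) ^ (Nat.card L - 1) = 1 := by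
      rw [Nat.card_eq_fintype_card]
      exact FiniteField.pow_card_sub_one_eq_one _ fun h => z.ne_zero (congrArg Subtype.val h)
    rw [← hz]
    refine orderOf_dvd_of_pow_eq_one (Units.ext ?_)
    rw [Units.val_pow_eq_pow_val, Units.val_one]
    exact congrArg Subtype.val h1
  rw [hb, ← ZMod.natCast_eq_zero_iff, Nat.cast_sub (Nat.one_le_pow _ _ hp.out.pos), Nat.cast_pow,
    Nat.cast_one, sub_eq_zero] at hqd
  have hadvd : a ∣ Module.finrank (ZMod p) L := (dvd_of_eq ha).trans (orderOf_dvd_of_pow_eq_one hqd)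
  have hle : a ≤ Module.finrank (ZMod p) L := Nat.le_of_dvd Module.finrank_pos hadvd
  have htop : L = ⊤ := by
    refine IntermediateField.eq_of_le_of_finrank_le le_top ?_
    rw [IntermediateField.finrank_top']
    exact (GaloisField.finrank p ha0).le.trans hle
  rw [← IntermediateField.adjoin_simple_toSubalgebra_of_isAlgebraic
    ((Algebra.IsIntegral.isIntegral (R := ZMod p) (z : K)).isAlgebraic)]
  change L.toSubalgebra = ⊤
  rw [htop, IntermediateField.top_toSubalgebra]

/-- The Sylow subgroup of the universal group. -/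
structure Model (p q a : ℕ) [Fact p.Prime] (K : Type) [Field K] [Algebra (ZMod p) K] (ζ : K) where
  carrier : Type
  [grp : Group carrier]
  [fin : Finite carrier]
  aut : MulAut carrier
  act : Act p q aut
  proj : carrier →* Multiplicative K
  surj : Function.Surjective proj
  equiv : ∀ g, (proj (aut g)).toAdd = ζ * (proj g).toAdd
  card : Nat.card carrier = p ^ (if a % 2 = 1 then a else 3 * a / 2)

section
variable {K : Type} [Field K] [Algebra (ZMod p) K] {ζ : K}

theorem model_odd (hK : Gen p q a K ζ) (ha2 : a % 2 = 1) : Nonempty (Model p q a K ζ) := by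
  haveI := hK.finite
  have hζ0 : ζ ≠ 0 := fun h => by simpa [h, zero_pow hq.out.ne_zero] using hK.pow
  let m : K ≃+ K := { Equiv.mulLeft₀ ζ hζ0 with map_add' := mul_add ζ }
  let φ : MulAut (Multiplicative K) := AddEquiv.toMultiplicative m
  have hφ : ∀ g, (φ g).toAdd = ζ * g.toAdd := fun g => rfl
  have hφn : ∀ (n : ℕ) g, ((φ ^ n) g).toAdd = ζ ^ n * g.toAdd := by
    intro n
    induction n with
    | zero => intro g; simp
    | succ n ih => intro g; rw [pow_succ', MulAut.mul_apply, hφ, ih, pow_succ', mul_assoc]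
  refine ⟨⟨Multiplicative K, φ, ⟨?_, ?_, ?_, ?_⟩, MonoidHom.id _, fun g => ⟨g, rfl⟩, hφ, ?_⟩⟩
  · exact IsPGroup.of_card (n := a) ((Nat.card_congr Multiplicative.toAdd).trans hK.card)
  · refine MulEquiv.ext fun g => Multiplicative.toAdd.injective ?_
    rw [hφn, hK.pow, one_mul, MulAut.one_apply]
  · intro h
    have := hφ (Multiplicative.ofAdd 1)
    rw [h, MulAut.one_apply, toAdd_ofAdd, mul_one] at this
    exact hK.ne_one this.symm
  · intro M hM hinv x hx
    rcases image_dichotomy (π := MonoidHom.id (Multiplicative K)) hK M (by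
      rintro w ⟨g, hg, rfl⟩
      exact ⟨φ g, hinv g hg, hφ g⟩) with h | h
    · have : x = 1 := by simpa using h hx
      rw [this, map_one]
    · exact absurd (eq_top_iff.2 fun g _ => by
        obtain ⟨g', hg', he⟩ := h g.toAdd
        exact Multiplicative.toAdd.injective he ▸ hg') hM
  · rw [if_pos ha2, Nat.card_congr Multiplicative.toAdd, hK.card]

/-- The unitary Heisenberg group of an involutory automorphism. -/
@[ext]
structure UH (τ : K →+* K) where
  v : K
  z : K
  cond : z + τ z = v * τ v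

variable {τ : K →+* K} (hτ : ∀ x, τ (τ x) = x)

/-- The group structure on `UH τ`. -/
@[reducible] def uhGroup : Group (UH τ) where
  mul g h := ⟨g.v + h.v, g.z + h.z + τ g.v * h.v, by
    rw [map_add, map_add, map_mul, hτ, map_add]
    linear_combination g.cond + h.cond⟩
  one := ⟨0, 0, by simp⟩
  inv g := ⟨-g.v, τ g.z, by rw [hτ, map_neg, neg_mul_neg, add_comm, g.cond]⟩
  mul_assoc g h k := by
    refine UH.ext (add_assoc _ _ _) ?_
    change g.z + h.z + τ g.v * h.v + k.z + τ (g.v + h.v) * k.v =
      g.z + (h.z + k.z + τ h.v * k.v) + τ g.v * (h.v + k.v)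
    rw [map_add]; ring
  one_mul g := by
    refine UH.ext (zero_add _) ?_
    change 0 + g.z + τ 0 * g.v = g.z
    rw [map_zero]; ring
  mul_one g := by
    refine UH.ext (add_zero _) ?_
    change g.z + 0 + τ g.v * 0 = g.z
    ring
  inv_mul_cancel g := by
    refine UH.ext (neg_add_cancel _) ?_
    change τ g.z + g.z + τ (-g.v) * g.v = 0
    rw [map_neg]
    linear_combination g.cond

theorem model_even (hK : Gen p q a K ζ) (ha : a = orderOf (p : ZMod q)) (hqp : q ≠ p)
    (ha2 : a % 2 = 0) : Nonempty (Model p q a K ζ) := by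
  haveI := hK.finite
  haveI : Fintype K := Fintype.ofFinite K
  have hζ0 : ζ ≠ 0 := fun h => by simpa [h, zero_pow hq.out.ne_zero] using hK.pow
  have hcardK : Fintype.card K = p ^ a := by rw [← Nat.card_eq_fintype_card, hK.card]
  haveI : CharP K p := charP_of_injective_algebraMap (algebraMap (ZMod p) K).injective p
  haveI : ExpChar K p := ExpChar.prime hp.out
  obtain ⟨b, rfl⟩ : ∃ b, a = b + b := ⟨a / 2, by omega⟩
  have hb0 : b ≠ 0 := by
    rintro rfl
    have := hK.card
    have h2 : 1 < Nat.card K := Finite.one_lt_card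
    rw [this] at h2
    simp at h2
  set m := p ^ b with hm
  set τ : K →+* K := iterateFrobenius K p b with hτdef
  have hτv : ∀ x, τ x = x ^ m := fun x => iterateFrobenius_def (R := K) p b x
  have hττ : ∀ x, τ (τ x) = x := fun x => by
    rw [hτv, hτv, ← pow_mul, hm, ← pow_add, ← hcardK, FiniteField.pow_card]
  -- `ζ ^ m = ζ⁻¹`
  have hord : orderOf ζ = q := orderOf_eq_prime hK.pow hK.ne_one
  have hτζ : τ ζ * ζ = 1 := by
    have hsq : ((p : ZMod q) ^ b) ^ 2 = 1 := by rw [← pow_mul, mul_two, ha, pow_orderOf_eq_one]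
    rcases sq_eq_one_iff.1 hsq with h | h
    · exfalso
      have := Nat.le_of_dvd (Nat.pos_of_ne_zero hb0) (orderOf_dvd_of_pow_eq_one h)
      omega
    · have hd : q ∣ m + 1 := by
        rw [← ZMod.natCast_eq_zero_iff, hm, Nat.cast_add, Nat.cast_pow, Nat.cast_one, h,
          neg_add_cancel]
      rw [hτv, ← pow_succ]
      exact orderOf_dvd_iff_pow_eq_one.1 (hord ▸ hd)
  have hτζ' : ζ * τ ζ = 1 := (mul_comm _ _).trans hτζ
  -- counting
  let Tr : K →+ K := AddMonoidHom.id K + τ.toAddMonoidHom
  let Df : K →+ K := AddMonoidHom.id K - τ.toAddMonoidHom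
  have hroots : ∀ (S : AddSubgroup K) (s : K), (∀ x ∈ S, x ^ m = s * x) → Nat.card S ≤ m := by
    intro S s hS
    classical
    have hdeg : (Polynomial.X ^ m - Polynomial.C s * Polynomial.X : Polynomial K).natDegree = m := by
      rw [Polynomial.natDegree_sub_eq_left_of_natDegree_lt]
      · exact Polynomial.natDegree_X_pow m
      · rw [Polynomial.natDegree_X_pow]
        exact lt_of_le_of_lt ((Polynomial.natDegree_C_mul_le _ _).trans Polynomial.natDegree_X_le)
          (Nat.one_lt_pow hb0 hp.out.one_lt)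
    have hne : (Polynomial.X ^ m - Polynomial.C s * Polynomial.X : Polynomial K) ≠ 0 := by
      intro h0
      rw [h0, Polynomial.natDegree_zero] at hdeg
      exact (pow_pos hp.out.pos b).ne' hdeg.symm
    rw [show Nat.card S = Fintype.card S from Nat.card_eq_fintype_card]
    calc Fintype.card S = (Finset.univ.map ⟨((↑) : S → K), Subtype.val_injective⟩).card := by simp
      _ ≤ (Polynomial.X ^ m - Polynomial.C s * Polynomial.X : Polynomial K).natDegree := by
        refine Polynomial.card_le_degree_of_subset_roots fun x hx => ?_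
        rw [Finset.mem_val, Finset.mem_map] at hx
        obtain ⟨y, -, rfl⟩ := hx
        rw [Polynomial.mem_roots hne]
        simp [hS y y.2]
      _ = m := hdeg
  have hKm : Nat.card K = m * m := by rw [hK.card, hm, ← pow_add]
  have hTker : Nat.card Tr.ker ≤ m := hroots _ (-1) fun x hx => by
    have : x + τ x = 0 := hx
    rw [← hτv, neg_one_mul]; exact eq_neg_of_add_eq_zero_right this
  have hDker : Nat.card Df.ker ≤ m := hroots _ 1 fun x hx => by
    have : x - τ x = 0 := hx
    rw [← hτv, one_mul]; exact (sub_eq_zero.1 this).symm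
  have hTr : Tr.range ≤ Df.ker := by
    rintro _ ⟨x, rfl⟩
    change x + τ x - τ (x + τ x) = 0
    rw [map_add, hττ]; abel
  have hDr : Df.range ≤ Tr.ker := by
    rintro _ ⟨x, rfl⟩
    change x - τ x + τ (x - τ x) = 0
    rw [map_sub, hττ]; abel
  have hmul : ∀ f : K →+ K, Nat.card f.range * Nat.card f.ker = m * m := fun f => by
    rw [← hKm, ← AddSubgroup.index_ker, mul_comm]
    exact AddSubgroup.card_mul_index _
  have hTr' := (Nat.card_le_card_of_injective _ (AddSubgroup.inclusion_injective hTr))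
  have hDr' := (Nat.card_le_card_of_injective _ (AddSubgroup.inclusion_injective hDr))
  have hm0 : 0 < m := pow_pos hp.out.pos b
  have h1 := hmul Tr
  have h2 := hmul Df
  have eT : Nat.card Tr.ker = m := le_antisymm hTker (Nat.le_of_mul_le_mul_left
    (h1 ▸ Nat.mul_le_mul_right _ (hTr'.trans hDker)) hm0)
  have eD : Nat.card Df.ker = m := le_antisymm hDker (Nat.le_of_mul_le_mul_left
    (h2 ▸ Nat.mul_le_mul_right _ (hDr'.trans hTker)) hm0)
  have eTr : Tr.range = Df.ker := AddSubgroup.eq_of_le_of_card_ge hTr (by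
    rw [eT] at h1; rw [eD, Nat.eq_of_mul_eq_mul_right hm0 h1])
  have eDr : Df.range = Tr.ker := AddSubgroup.eq_of_le_of_card_ge hDr (by
    rw [eD] at h2; rw [eT, Nat.eq_of_mul_eq_mul_right hm0 h2])
  have hsec : ∀ v : K, ∃ z, z + τ z = v * τ v := by
    intro v
    have : v * τ v ∈ Df.ker := by
      change v * τ v - τ (v * τ v) = 0
      rw [map_mul, hττ]; ring
    rw [← eTr] at this
    exact this
  choose sec hsec using hsec
  letI := uhGroup hττ
  haveI : Finite (UH τ) := Finite.of_injective (fun g => (g.v, g.z)) fun g h e =>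
    UH.ext (congrArg Prod.fst e) (congrArg Prod.snd e)
  have hmulv : ∀ g h : UH τ, (g * h).v = g.v + h.v := fun g h => rfl
  have hmulz : ∀ g h : UH τ, (g * h).z = g.z + h.z + τ g.v * h.v := fun g h => rfl
  have hinvv : ∀ g : UH τ, g⁻¹.v = -g.v := fun g => rfl
  have hinvz : ∀ g : UH τ, g⁻¹.z = τ g.z := fun g => rfl
  let proj : UH τ →* Multiplicative K := MonoidHom.mk' (fun g => Multiplicative.ofAdd g.v)
    fun g h => by rw [hmulv, ofAdd_add]
  have hproj : ∀ g, (proj g).toAdd = g.v := fun g => rfl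
  let φ : MulAut (UH τ) :=
    { toFun := fun g => ⟨ζ * g.v, g.z, by
        rw [map_mul]; linear_combination g.cond - g.v * τ g.v * hτζ'⟩
      invFun := fun g => ⟨τ ζ * g.v, g.z, by
        rw [map_mul, hττ]; linear_combination g.cond - g.v * τ g.v * hτζ'⟩
      left_inv := fun g => UH.ext (by simp [← mul_assoc, hτζ]) rfl
      right_inv := fun g => UH.ext (by simp [← mul_assoc, hτζ']) rfl
      map_mul' := fun g h => by
        refine UH.ext (mul_add _ _ _) ?_
        change g.z + h.z + τ g.v * h.v = g.z + h.z + τ (ζ * g.v) * (ζ * h.v)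
        rw [map_mul]
        linear_combination -(τ g.v * h.v) * hτζ }
  have hφv : ∀ g, (φ g).v = ζ * g.v := fun g => rfl
  have hφz : ∀ g, (φ g).z = g.z := fun g => rfl
  have hφn : ∀ (n : ℕ) g, ((φ ^ n) g).v = ζ ^ n * g.v ∧ ((φ ^ n) g).z = g.z := by
    intro n
    induction n with
    | zero => intro g; simp
    | succ n ih =>
      intro g
      rw [pow_succ', MulAut.mul_apply, hφv, hφz, (ih g).1, (ih g).2, pow_succ', mul_assoc]
      exact ⟨rfl, rfl⟩
  have hcard : Nat.card (UH τ) = p ^ (3 * b) := by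
    let e : UH τ ≃ K × Tr.ker :=
      { toFun := fun g => (g.v, ⟨g.z - sec g.v, by
          change g.z - sec g.v + τ (g.z - sec g.v) = 0
          rw [map_sub]; linear_combination g.cond - hsec g.v⟩)
        invFun := fun x => ⟨x.1, sec x.1 + x.2, by
          have : (x.2 : K) + τ x.2 = 0 := x.2.2
          rw [map_add]; linear_combination hsec x.1 + this⟩
        left_inv := fun g => UH.ext rfl (by simp)
        right_inv := fun x => Prod.ext rfl (Subtype.ext (by simp)) }
    rw [Nat.card_congr e, Nat.card_prod, eT, hK.card, hm, ← pow_add]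
    congr 1
    omega
  refine ⟨⟨UH τ, φ, ⟨IsPGroup.of_card hcard, ?_, ?_, ?_⟩, proj, fun k => ⟨⟨k.toAdd, sec k.toAdd, hsec _⟩, rfl⟩,
    hφv, ?_⟩⟩
  · exact MulEquiv.ext fun g => UH.ext (by rw [(hφn q g).1, hK.pow, one_mul]; rfl) (hφn q g).2
  · intro h
    have h' := hφv ⟨1, sec 1, hsec 1⟩
    rw [h, MulAut.one_apply] at h'
    simp only [mul_one] at h'
    exact hK.ne_one h'.symm
  · intro M hM hinv x hx
    rcases image_dichotomy (π := proj) hK M (by
      rintro w ⟨g, hg, rfl⟩
      exact ⟨φ g, hinv g hg, hφv g⟩) with h | h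
    · have h0 : x.v = 0 := congrArg Multiplicative.toAdd (h hx)
      exact UH.ext (by rw [hφv, h0, mul_zero]) rfl
    · refine absurd (eq_top_iff.2 fun g _ => ?_) hM
      obtain ⟨g', hg', he⟩ := h g.v
      rw [hproj] at he
      obtain ⟨u₁, hu₁, he₁⟩ := h 1
      rw [hproj] at he₁
      -- the difference is a commutator
      have hd : g.z - g'.z ∈ Tr.ker := by
        change g.z - g'.z + τ (g.z - g'.z) = 0
        rw [map_sub]; linear_combination g.cond - g'.cond + (-he) * (τ g'.v) + g.v * (congrArg τ he.symm)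
      rw [← eDr] at hd
      obtain ⟨w, hw⟩ := hd
      obtain ⟨u₂, hu₂, he₂⟩ := h w
      rw [hproj] at he₂
      have hk : u₁ * u₂ * (u₂ * u₁)⁻¹ * g' ∈ M :=
        mul_mem (mul_mem (mul_mem hu₁ hu₂) (inv_mem (mul_mem hu₂ hu₁))) hg'
      convert hk using 1
      have hw' : w - τ w = g.z - g'.z := hw
      refine UH.ext ?_ ?_
      · simp only [hmulv, hinvv, he, he₁, he₂]; ring
      · simp only [hmulz, hinvz, hmulv, hinvv, he, he₁, he₂, map_add, map_mul, map_neg, map_one,
          hττ]
        have c₁ : u₁.z + τ u₁.z = 1 := by rw [u₁.cond, he₁, map_one, mul_one]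
        have c₂ : u₂.z + τ u₂.z = w * τ w := by rw [u₂.cond, he₂]
        linear_combination -c₁ - c₂ - hw'
  · rw [if_neg (by omega), hcard]
    congr 1
    omega

theorem exists_model (hK : Gen p q a K ζ) (ha : a = orderOf (p : ZMod q)) (hqp : q ≠ p) :
    Nonempty (Model p q a K ζ) := by
  rcases Nat.mod_two_eq_zero_or_one a with h | h
  · exact model_even hK ha hqp h
  · exact model_odd hK h

end

attribute [instance] Model.grp Model.fin

/-- The equivariant map from the model onto a group of the same kind. -/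
theorem exists_map {K : Type} [Field K] [Algebra (ZMod p) K] {ζ : K} (hK : Gen p q a K ζ)
    (hqp : q ≠ p) (D : Model p q a K ζ) {P : Type*} [Group P] [Finite P] {φ : MulAut P}
    (hA : Act p q φ) {π : P →* Multiplicative K} (hπ : Function.Surjective π)
    (hπφ : ∀ g, (π (φ g)).toAdd = ζ * (π g).toAdd) :
    ∃ ψ : D.carrier →* P, Function.Surjective ψ ∧ (∀ g, ψ (D.aut g) = φ (ψ g)) ∧
      ψ.ker ≤ D.proj.ker := by
  let Φ : MulAut (D.carrier × P) := MulEquiv.prodCongr D.aut φ
  have hΦ : ∀ x, Φ x = (D.aut x.1, φ x.2) := fun x => rfl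
  -- a minimal subdirect product
  let S : Set (Subgroup (D.carrier × P)) := {R | (∀ x ∈ R, Φ x ∈ R) ∧
    (∀ x ∈ R, D.proj x.1 = π x.2) ∧ ∀ w : K, ∃ x ∈ R, (D.proj x.1).toAdd = w}
  have hS : S.Nonempty := by
    refine ⟨{
      carrier := {x | D.proj x.1 = π x.2}
      one_mem' := by simp
      mul_mem' := fun {x y} (hx : D.proj x.1 = π x.2) (hy : D.proj y.1 = π y.2) => by
        show D.proj (x * y).1 = π (x * y).2
        rw [Prod.fst_mul, Prod.snd_mul, map_mul, map_mul, hx, hy]
      inv_mem' := fun {x} (hx : D.proj x.1 = π x.2) => by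
        show D.proj x⁻¹.1 = π x⁻¹.2
        rw [Prod.fst_inv, Prod.snd_inv, map_inv, map_inv, hx] }, fun x (hx : D.proj x.1 = π x.2) => ?_,
      fun x hx => hx, fun w => ?_⟩
    · show D.proj (D.aut x.1) = π (φ x.2)
      exact Multiplicative.toAdd.injective (by rw [D.equiv, hπφ, hx])
    · obtain ⟨g, hg⟩ := D.surj (Multiplicative.ofAdd w)
      obtain ⟨h, hh⟩ := hπ (Multiplicative.ofAdd w)
      exact ⟨(g, h), hg.trans hh.symm, by rw [hg, toAdd_ofAdd]⟩
  obtain ⟨R, hR⟩ := (Set.toFinite S).exists_minimal hS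
  obtain ⟨hRi, hRd, hRc⟩ := hR.prop
  have hmap : R.map Φ.toMonoidHom = R := by
    refine Subgroup.eq_of_le_of_card_ge ?_ ?_
    · rintro _ ⟨x, hx, rfl⟩; exact hRi x hx
    · rw [Subgroup.card_map_of_injective Φ.injective]
  let θ : MulAut R := (Φ.subgroupMap R).trans (MulEquiv.subgroupCongr hmap)
  have hθ : ∀ x : R, (θ x : D.carrier × P) = Φ x := fun x => rfl
  let πR : R →* Multiplicative K := D.proj.comp ((MonoidHom.fst _ _).comp R.subtype)
  have hπR : Function.Surjective πR := fun k => by
    obtain ⟨x, hx, he⟩ := hRc k.toAdd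
    exact ⟨⟨x, hx⟩, Multiplicative.toAdd.injective he⟩
  have hπRθ : ∀ x, (πR (θ x)).toAdd = ζ * (πR x).toAdd := fun x => D.equiv _
  have hθn : ∀ (n : ℕ) (x : R), ((θ ^ n) x : D.carrier × P) =
      ((D.aut ^ n) (x : D.carrier × P).1, (φ ^ n) (x : D.carrier × P).2) := by
    intro n
    induction n with
    | zero => intro x; rfl
    | succ n ih =>
      intro x
      rw [pow_succ', MulAut.mul_apply, hθ, ih, hΦ]
      simp only [pow_succ', MulAut.mul_apply]
  have hAR : Act p q θ := by
    refine ⟨?_, ?_, ?_, ?_⟩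
    · exact (IsPGroup.to_subgroup (fun x => by
        obtain ⟨i, hi⟩ := D.act.pgroup x.1
        obtain ⟨j, hj⟩ := hA.pgroup x.2
        refine ⟨i + j, Prod.ext ?_ ?_⟩
        · rw [Prod.pow_fst, pow_add, pow_mul, hi, one_pow]; rfl
        · rw [Prod.pow_snd, pow_add, pow_mul', hj, one_pow]; rfl) R)
    · refine MulEquiv.ext fun x => Subtype.ext ?_
      rw [hθn, D.act.pow, hA.pow]; rfl
    · intro h
      obtain ⟨x, hx⟩ := hπR (Multiplicative.ofAdd 1)
      have := hπRθ x
      rw [h, MulAut.one_apply, hx, toAdd_ofAdd, mul_one] at this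
      exact hK.ne_one this.symm
    · intro M hM hinv x hx
      rcases image_dichotomy (π := πR) hK M (by
        rintro w ⟨g, hg, rfl⟩
        exact ⟨θ g, hinv g hg, hπRθ g⟩) with h | h
      · have h1 : D.proj (x : D.carrier × P).1 = 1 := h hx
        have h2 : π (x : D.carrier × P).2 = 1 := (hRd x x.2).symm.trans h1
        refine Subtype.ext (Prod.ext ?_ ?_)
        · exact fixed_of_mem_ker D.act hqp hK D.surj D.equiv h1
        · exact fixed_of_mem_ker hA hqp hK hπ hπφ h2
      · refine absurd ?_ hM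
        have hmem : M.map R.subtype ∈ S := by
          refine ⟨?_, ?_, fun w => ?_⟩
          · rintro _ ⟨y, hy, rfl⟩
            exact ⟨θ y, hinv y hy, rfl⟩
          · rintro _ ⟨y, -, rfl⟩
            exact hRd y y.2
          · obtain ⟨y, hy, he⟩ := h w
            exact ⟨_, ⟨y, hy, rfl⟩, he⟩
        have := hR.eq_of_le hmem (map_subtype_le M)
        rw [eq_top_iff]
        intro y _
        obtain ⟨y', hy', he⟩ := this.ge y.2
        rwa [← Subtype.ext he]
  let f : R →* D.carrier := (MonoidHom.fst _ _).comp R.subtype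
  have hf : Function.Surjective f := by
    rw [← MonoidHom.range_eq_top]
    refine eq_top_of_covers D.act hqp hK D.surj D.equiv fun w => ?_
    obtain ⟨x, hx, he⟩ := hRc w
    exact ⟨x.1, ⟨⟨x, hx⟩, rfl⟩, he⟩
  have hbij : Function.Bijective f := by
    refine (Nat.bijective_iff_surjective_and_card f).2 ⟨hf, le_antisymm ?_
      (Nat.card_le_card_of_surjective f hf)⟩
    rw [D.card]
    exact card_le hAR hqp hK hπR hπRθ
  let e : R ≃* D.carrier := MulEquiv.ofBijective f hbij
  let ψ : D.carrier →* P := ((MonoidHom.snd _ _).comp R.subtype).comp e.symm.toMonoidHom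
  have hproj : ∀ g, π (ψ g) = D.proj g := fun g => by
    refine (hRd _ (e.symm g).2).symm.trans ?_
    exact congrArg D.proj (e.apply_symm_apply g)
  refine ⟨ψ, ?_, fun g => ?_, fun g hg => ?_⟩
  · rw [← MonoidHom.range_eq_top]
    refine eq_top_of_covers hA hqp hK hπ hπφ fun w => ?_
    obtain ⟨g, hg⟩ := D.surj (Multiplicative.ofAdd w)
    exact ⟨ψ g, ⟨g, rfl⟩, by rw [hproj, hg, toAdd_ofAdd]⟩
  · have : e.symm (D.aut g) = θ (e.symm g) := by
      apply e.injective
      rw [e.apply_symm_apply]
      exact congrArg D.aut (e.apply_symm_apply g).symm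
    change ((e.symm (D.aut g) : R) : D.carrier × P).2 = φ ((e.symm g : R) : D.carrier × P).2
    rw [this]
    rfl
  · rw [MonoidHom.mem_ker] at hg ⊢
    rw [← hproj, hg, map_one]

end Cfsg.Agent.UniversalSchmidtModel4
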