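import Cfsg.Agent.Lib.PGroupsBasic
import Cfsg.Agent.Lib.RegularModule65

/-!
2-groups whose fourth upper central term has order 16, with the centraliser `W` of the third term
having small Frattini subgroup contained in all subgroups of index at most 16.
-/

set_option autoImplicit false
set_option linter.unusedSectionVars false

namespace Cfsg.Agent.UpperFour65

open Subgroup
open scoped commutatorElement
open Cfsg.Agent.RegularModule65 (C2 cc cc_ne_one C2_cases C2_mul_self)

variable {T : Type*} [Group T] [Finite T]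

/-- The terms of the upper central series. -/
abbrev Zs (T : Type*) [Group T] (i : ℕ) : Subgroup T := Subgroup.upperCentralSeries T i

/-- The hypotheses. -/
structure Hyp (T : Type*) [Group T] (W : Subgroup T) : Prop where
  isP : IsPGroup 2 T
  big : 2 ^ 14 ≤ Nat.card T
  four : Nat.card ↥(Zs T 4) = 16
  defW : W = centralizer ((Zs T 3 : Subgroup T) : Set T)
  small : Nat.card ↥(frattini ↥W) ≤ 8
  avoid : ∀ U : Subgroup ↥W, U.index ≤ 16 → frattini ↥W ≤ U

omit [Finite T] in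
theorem mem_Zs0 {x : T} : x ∈ Zs T 0 ↔ x = 1 := by
  show x ∈ Subgroup.upperCentralSeries T 0 ↔ _
  rw [Subgroup.upperCentralSeries_zero, mem_bot]

variable {W : Subgroup T} (h : Hyp T W)
include h

theorem exists_step (i : ℕ) {N : Subgroup T} [hN : N.Normal] (hne : ¬ N ≤ Zs T i) :
    ∃ x ∈ N, x ∉ Zs T i ∧ x ∈ Zs T (i + 1) := by
  haveI : Fact (Nat.Prime 2) := ⟨Nat.prime_two⟩
  have hM : N.map (QuotientGroup.mk' (Zs T i)) ≠ ⊥ := fun hb => hne (by
    rwa [Subgroup.map_eq_bot_iff, QuotientGroup.ker_mk'] at hb)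
  haveI : (N.map (QuotientGroup.mk' (Zs T i))).Normal :=
    Subgroup.Normal.map hN _ (QuotientGroup.mk'_surjective _)
  have hI := PGroupsBasic.inf_center_ne_bot (h.isP.to_quotient (Zs T i)) hM
  obtain ⟨⟨y, hy⟩, hyne⟩ := Subgroup.ne_bot_iff_exists_ne_one.1 hI
  have hy1 : y ≠ 1 := fun e => hyne (Subtype.ext e)
  obtain ⟨x, hx, rfl⟩ := hy.1
  refine ⟨x, hx, fun hxi => hy1 ((QuotientGroup.eq_one_iff x).2 hxi),
    Subgroup.mem_upperCentralSeries_succ_iff.2 fun t => ?_⟩
  rw [← QuotientGroup.eq_one_iff]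
  have := mem_center_iff.1 hy.2 (QuotientGroup.mk' (Zs T i) t)
  show QuotientGroup.mk' (Zs T i) _ = 1
  simp only [commutatorElement_def, map_mul, map_inv] at this ⊢
  rw [← this, mul_inv_cancel_right, mul_inv_cancel]

theorem card_Zs {i : ℕ} (hi : i ≤ 4) : Nat.card ↥(Zs T i) = 2 ^ i := by
  haveI : Fact (Nat.Prime 2) := ⟨Nat.prime_two⟩
  have hex : ∀ j, ∃ k, Nat.card ↥(Zs T j) = 2 ^ k := fun j =>
    (IsPGroup.iff_card.1 (h.isP.to_subgroup _))
  choose k hk using hex
  have hmono : Monotone (Zs T) := Subgroup.upperCentralSeries_mono T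
  have hlt : ∀ j, j < 4 → k j < k (j + 1) := by
    intro j hj
    have hne : ¬ (⊤ : Subgroup T) ≤ Zs T j := by
      intro htop
      have h1 := Subgroup.card_le_of_le (htop.trans (hmono (show j ≤ 4 by omega)))
      rw [Subgroup.card_top, h.four] at h1
      have := h.big
      omega
    obtain ⟨x, -, hx, hx'⟩ := exists_step h j hne
    have hl : Zs T j < Zs T (j + 1) :=
      lt_of_le_of_ne (hmono (Nat.le_succ j)) fun e => hx (e ▸ hx')
    have := Subgroup.card_le_of_le hl.le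
    rw [hk, hk, Nat.pow_le_pow_iff_right (by norm_num)] at this
    refine lt_of_le_of_ne this fun e => hl.ne ?_
    exact Subgroup.eq_of_le_of_card_ge hl.le (by rw [hk, hk, e])
  have h4 : k 4 = 4 := by
    have := hk 4
    rw [h.four] at this
    exact Nat.pow_right_injective le_rfl (this.symm.trans (by norm_num))
  have := hlt 0 (by norm_num); have := hlt 1 (by norm_num)
  have := hlt 2 (by norm_num); have := hlt 3 (by norm_num)
  rw [hk]
  congr 1
  interval_cases i <;> simp only [Nat.reduceAdd] at * <;> omega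

theorem Zs_le_of_not_le {N : Subgroup T} [N.Normal] : ∀ i, i ≤ 3 → ¬ N ≤ Zs T i → Zs T (i + 1) ≤ N := by
  intro i
  induction i with
  | zero =>
    intro _ hne
    obtain ⟨x, hxN, hx, hx'⟩ := exists_step h 0 hne
    intro y hy
    have h2 := card_Zs h (show 1 ≤ 4 by norm_num)
    have hle : zpowers x ≤ Zs T 1 := zpowers_le.2 hx'
    have hcard : Nat.card (zpowers x) = 2 := by
      have hd := Subgroup.card_dvd_of_le hle
      rw [h2] at hd
      rcases (Nat.dvd_prime Nat.prime_two).1 hd with h1 | h1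
      · exact absurd (mem_Zs0.2 (zpowers_eq_bot.1 (Subgroup.card_eq_one.1 h1))) hx
      · exact h1
    have := Subgroup.eq_of_le_of_card_ge hle (by rw [hcard, h2, pow_one])
    exact zpowers_le.2 hxN (this ▸ hy)
  | succ i ih =>
    intro hi hne
    obtain ⟨x, hxN, hx, hx'⟩ := exists_step h (i + 1) hne
    have hsub : Zs T (i + 1) ≤ N :=
      ih (by omega) fun hle => hne (hle.trans (Subgroup.upperCentralSeries_mono T (Nat.le_succ i)))
    set M := N ⊓ Zs T (i + 1 + 1) with hM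
    have hlt : Zs T (i + 1) < M := lt_of_le_of_ne
      (le_inf hsub (Subgroup.upperCentralSeries_mono T (Nat.le_succ _)))
      fun e => hx (e ▸ ⟨hxN, hx'⟩)
    have hd := Subgroup.card_dvd_of_le (inf_le_right : M ≤ Zs T (i + 1 + 1))
    rw [card_Zs h (by omega)] at hd
    obtain ⟨m, hm, hm'⟩ := (Nat.dvd_prime_pow Nat.prime_two).1 hd
    have hgt : 2 ^ (i + 1) < Nat.card M := by
      rw [← card_Zs h (show i + 1 ≤ 4 by omega)]
      refine lt_of_le_of_ne (Subgroup.card_le_of_le hlt.le) fun e => hlt.ne ?_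
      exact Subgroup.eq_of_le_of_card_ge hlt.le e.ge
    rw [hm', Nat.pow_lt_pow_iff_right (by norm_num)] at hgt
    have := Subgroup.eq_of_le_of_card_ge (inf_le_right : M ≤ Zs T (i + 1 + 1))
      (by rw [hm', card_Zs h (by omega), show m = i + 1 + 1 by omega])
    exact this ▸ inf_le_left

theorem W_normal : W.Normal := by rw [h.defW]; infer_instance

theorem exists_es : ∃ e₁ e₂ e₃ : T, e₁ ∈ Zs T 1 ∧ e₁ ≠ 1 ∧ e₂ ∈ Zs T 2 ∧ e₂ ∉ Zs T 1 ∧
    e₃ ∈ Zs T 3 ∧ e₃ ∉ Zs T 2 := by
  have key : ∀ i, i < 3 → ∃ x ∈ Zs T (i + 1), x ∉ Zs T i := by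
    intro i hi
    by_contra! hle
    have := Subgroup.card_le_of_le hle
    rw [card_Zs h (by omega), card_Zs h (by omega), Nat.pow_le_pow_iff_right (by norm_num)] at this
    omega
  obtain ⟨a, ha, ha'⟩ := key 0 (by norm_num)
  obtain ⟨b, hb, hb'⟩ := key 1 (by norm_num)
  obtain ⟨c, hc, hc'⟩ := key 2 (by norm_num)
  exact ⟨a, b, c, ha, fun e => ha' (e ▸ one_mem _), hb, hb', hc, hc'⟩

/-- Two elements outside the smaller term differ by an element of it. -/
theorem mul_mem_of_not_mem {i : ℕ} (hi : i < 4) {x y : T} (hx : x ∈ Zs T (i + 1)) (hx' : x ∉ Zs T i)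
    (hy : y ∈ Zs T (i + 1)) (hy' : y ∉ Zs T i) : x⁻¹ * y ∈ Zs T i := by
  have hidx : (Zs T i).relIndex (Zs T (i + 1)) = 2 := by
    have hle : Zs T i ≤ Zs T (i + 1) := Subgroup.upperCentralSeries_mono T (Nat.le_succ i)
    have := Subgroup.card_mul_index ((Zs T i).subgroupOf (Zs T (i + 1)))
    rw [Nat.card_congr (Subgroup.subgroupOfEquivOfLe hle).toEquiv, card_Zs h (by omega),
      card_Zs h (by omega), pow_succ] at this
    exact Nat.eq_of_mul_eq_mul_left (show 0 < 2 ^ i by positivity) this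
  have := Subgroup.mul_mem_iff_of_index_two hidx (a := (⟨x⁻¹, inv_mem hx⟩ : Zs T (i + 1)))
    (b := ⟨y, hy⟩)
  simp only [Subgroup.mem_subgroupOf, Subgroup.coe_mul, Subgroup.inv_mem_iff] at this
  exact this.2 (iff_of_false hx' hy')

theorem bracket_mem {i : ℕ} {x : T} (hx : x ∈ Zs T (i + 1)) (t : T) : ⁅t, x⁆ ∈ Zs T i := by
  have := inv_mem (Subgroup.mem_upperCentralSeries_succ_iff.1 hx t)
  simpa [commutatorElement_def, mul_assoc] using this

theorem mem_Z1 {x : T} (hx : x ∈ Zs T 1) (t : T) : t * x * t⁻¹ = x := by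
  have := bracket_mem h (i := 0) hx t
  rw [mem_Zs0, commutatorElement_def] at this
  calc t * x * t⁻¹ = t * x * t⁻¹ * x⁻¹ * x := by group
    _ = x := by rw [this, one_mul]

section Gens

variable {e₁ e₂ e₃ : T} (he : e₁ ∈ Zs T 1 ∧ e₁ ≠ 1 ∧ e₂ ∈ Zs T 2 ∧ e₂ ∉ Zs T 1 ∧
    e₃ ∈ Zs T 3 ∧ e₃ ∉ Zs T 2)
include he

theorem Z3_le_closure : Zs T 3 ≤ closure ({e₁, e₂, e₃} : Set T) := by
  obtain ⟨h1, h1', h2, h2', h3, h3'⟩ := he
  set C := closure ({e₁, e₂, e₃} : Set T)
  have m1 : e₁ ∈ C := subset_closure (by simp)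
  have m2 : e₂ ∈ C := subset_closure (by simp)
  have m3 : e₃ ∈ C := subset_closure (by simp)
  have z1 : Zs T 1 ≤ C := by
    intro x hx
    by_cases hx0 : x = 1
    · rw [hx0]; exact one_mem _
    · have := mul_mem_of_not_mem h (i := 0) (by norm_num) h1 (fun e => h1' (mem_Zs0.1 e)) hx (fun e => hx0 (mem_Zs0.1 e))
      rw [mem_Zs0, inv_mul_eq_one] at this
      exact this ▸ m1
  have z2 : Zs T 2 ≤ C := by
    intro x hx
    by_cases hx0 : x ∈ Zs T 1
    · exact z1 hx0
    · have := mul_mem m2 (z1 (mul_mem_of_not_mem h (i := 1) (by norm_num) h2 h2' hx hx0))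
      rwa [mul_inv_cancel_left] at this
  intro x hx
  by_cases hx0 : x ∈ Zs T 2
  · exact z2 hx0
  · have := mul_mem m3 (z2 (mul_mem_of_not_mem h (i := 2) (by norm_num) h3 h3' hx hx0))
    rwa [mul_inv_cancel_left] at this

theorem mem_W_of_fix {t : T} (h2 : t * e₂ * t⁻¹ = e₂) (h3 : t * e₃ * t⁻¹ = e₃) : t ∈ W := by
  rw [h.defW]
  have hc : closure ({e₁, e₂, e₃} : Set T) ≤ centralizer ({t} : Set T) := by
    rw [closure_le]
    rintro x (rfl | rfl | rfl) <;> rw [SetLike.mem_coe, mem_centralizer_singleton_iff]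
    · exact (mul_inv_eq_iff_eq_mul.1 (mem_Z1 h he.1 t)).symm
    · exact (mul_inv_eq_iff_eq_mul.1 h2).symm
    · exact (mul_inv_eq_iff_eq_mul.1 h3).symm
  intro x hx
  exact mem_centralizer_singleton_iff.1 (hc (Z3_le_closure h he hx))

end Gens

theorem conj_fix_of_mem_W {t x : T} (ht : t ∈ W) (hx : x ∈ Zs T 3) : t * x * t⁻¹ = x := by
  rw [h.defW] at ht
  rw [← ht x hx, mul_inv_cancel_right]

theorem exists_bits {e₁ e₂ e₃ : T} (he : e₁ ∈ Zs T 1 ∧ e₁ ≠ 1 ∧ e₂ ∈ Zs T 2 ∧ e₂ ∉ Zs T 1 ∧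
    e₃ ∈ Zs T 3 ∧ e₃ ∉ Zs T 2) (t : T) :
    ∃ x : Bool × Bool × Bool, t * e₂ * t⁻¹ = (bif x.1 then e₁ else 1) * e₂ ∧
      t * e₃ * t⁻¹ = (bif x.2.2 then e₁ else 1) * (bif x.2.1 then e₂ else 1) * e₃ := by
  obtain ⟨h1, h1', h2, h2', h3, h3'⟩ := he
  have z1 : ∀ x ∈ Zs T 1, ∃ a : Bool, x = bif a then e₁ else 1 := by
    intro x hx
    by_cases hx0 : x = 1
    · exact ⟨false, hx0⟩
    · have := mul_mem_of_not_mem h (i := 0) (by norm_num) h1 (fun e => h1' (mem_Zs0.1 e)) hx (fun e => hx0 (mem_Zs0.1 e))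
      rw [mem_Zs0, inv_mul_eq_one] at this
      exact ⟨true, this.symm⟩
  have z2 : ∀ x ∈ Zs T 2, ∃ c b : Bool, x = (bif c then e₁ else 1) * (bif b then e₂ else 1) := by
    intro x hx
    by_cases hx0 : x ∈ Zs T 1
    · obtain ⟨a, ha⟩ := z1 x hx0
      exact ⟨a, false, by rw [← ha]; simp⟩
    · have hm := mul_mem_of_not_mem h (i := 1) (by norm_num) h2 h2' hx hx0
      obtain ⟨a, ha⟩ := z1 _ hm
      refine ⟨a, true, ?_⟩
      have hc := mul_inv_eq_iff_eq_mul.1 (mem_Z1 h hm e₂)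
      rw [← ha]
      show x = e₂⁻¹ * x * e₂
      rw [← hc, mul_inv_cancel_left]
  obtain ⟨a, ha⟩ := z1 _ (bracket_mem h (i := 1) h2 t)
  obtain ⟨c, b, hcb⟩ := z2 _ (bracket_mem h (i := 2) h3 t)
  refine ⟨(a, b, c), ?_, ?_⟩
  · show t * e₂ * t⁻¹ = (bif a then e₁ else 1) * e₂
    rw [← ha, commutatorElement_def, inv_mul_cancel_right]
  · show t * e₃ * t⁻¹ = (bif c then e₁ else 1) * (bif b then e₂ else 1) * e₃
    rw [← hcb, commutatorElement_def, inv_mul_cancel_right]

theorem index_W_le : W.index ≤ 8 := by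
  classical
  obtain ⟨e₁, e₂, e₃, he⟩ := exists_es h
  choose x hx2 hx3 using exists_bits h he
  let f : T ⧸ W → Bool × Bool × Bool := fun q => x q.out
  have hf : Function.Injective f := by
    intro q r hqr
    have hqr' : x q.out = x r.out := hqr
    have a2 : q.out * e₂ * q.out⁻¹ = r.out * e₂ * r.out⁻¹ := by rw [hx2, hx2, hqr']
    have a3 : q.out * e₃ * q.out⁻¹ = r.out * e₃ * r.out⁻¹ := by rw [hx3, hx3, hqr']
    rw [← QuotientGroup.out_eq' q, ← QuotientGroup.out_eq' r, QuotientGroup.eq]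
    refine mem_W_of_fix h he ?_ ?_
    · calc q.out⁻¹ * r.out * e₂ * (q.out⁻¹ * r.out)⁻¹
          = q.out⁻¹ * (r.out * e₂ * r.out⁻¹) * q.out := by group
        _ = e₂ := by rw [← a2]; group
    · calc q.out⁻¹ * r.out * e₃ * (q.out⁻¹ * r.out)⁻¹
          = q.out⁻¹ * (r.out * e₃ * r.out⁻¹) * q.out := by group
        _ = e₃ := by rw [← a3]; group
  rw [Subgroup.index_eq_card]
  exact (Nat.card_le_card_of_injective f hf).trans (by simp)

/-- The Frattini subgroup of `W` inside `T`. -/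
abbrev Phi (W : Subgroup T) : Subgroup T := (frattini ↥W).map W.subtype

theorem Phi_le : Phi W ≤ Zs T 3 := by
  haveI := W_normal h
  haveI : (Phi W).Normal := ConjAct.normal_of_characteristic_of_normal
  by_contra hne
  have := Subgroup.card_le_of_le (Zs_le_of_not_le h 3 le_rfl hne)
  rw [h.four, Subgroup.card_map_of_injective W.subtype_injective] at this
  have := h.small
  omega

theorem sq_mem_Phi {x : T} (hx : x ∈ W) : x * x ∈ Phi W := by
  haveI : Fact (Nat.Prime 2) := ⟨Nat.prime_two⟩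
  refine ⟨⟨x * x, mul_mem hx hx⟩, ?_, rfl⟩
  have := PGroupsBasic.pow_mem_frattini (h.isP.to_subgroup W) ⟨x, hx⟩
  rw [pow_two] at this
  exact this

theorem bracket_mem_Phi {x y : T} (hx : x ∈ W) (hy : y ∈ W) : ⁅x, y⁆ ∈ Phi W := by
  haveI := W_normal h
  haveI : (Phi W).Normal := ConjAct.normal_of_characteristic_of_normal
  have e : ⁅x, y⁆ = (x * y) * (x * y) * (y⁻¹ * (x * x)⁻¹ * y) * (y * y)⁻¹ := by
    rw [commutatorElement_def]; group
  rw [e]
  refine mul_mem (mul_mem (sq_mem_Phi h (mul_mem hx hy)) ?_) (inv_mem (sq_mem_Phi h hy))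
  have := (inferInstance : (Phi W).Normal).conj_mem _ (inv_mem (sq_mem_Phi h hx)) y⁻¹
  simpa using this

/-- The elementary abelian section `W / N`, for a normal `N` containing `Phi W`. -/
theorem card_bound {k : ℕ} (hk : k ≤ 3) (hN : Phi W = Zs T k) :
    Nat.card ↥W ≤ 2 ^ k * 2 ^ W.index := by
  classical
  haveI := W_normal h
  set π := QuotientGroup.mk' (Zs T k) with hπ
  set V := W.map π with hV
  haveI : V.Normal := Subgroup.Normal.map inferInstance π (QuotientGroup.mk'_surjective _)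
  have hcomm : ∀ v w : V, v * w = w * v := by
    rintro ⟨_, x, hx, rfl⟩ ⟨_, y, hy, rfl⟩
    refine Subtype.ext ?_
    show π x * π y = π y * π x
    rw [← commutatorElement_eq_one_iff_mul_comm, ← map_commutatorElement, hπ,
      QuotientGroup.mk'_apply, QuotientGroup.eq_one_iff, ← hN]
    exact bracket_mem_Phi h hx hy
  letI : CommGroup V := { (inferInstance : Group V) with mul_comm := hcomm }
  have hsq : ∀ v : V, v * v = 1 := by
    rintro ⟨_, x, hx, rfl⟩
    refine Subtype.ext ?_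
    show π x * π x = 1
    rw [← map_mul, hπ, QuotientGroup.mk'_apply, QuotientGroup.eq_one_iff, ← hN]
    exact sq_mem_Phi h hx
  let α : T ⧸ W →* MulAut V := QuotientGroup.lift W ((MulAut.conjNormal (H := V)).comp π) (by
    intro t ht
    rw [MonoidHom.mem_ker]
    ext v
    show π t * v.1 * (π t)⁻¹ = v.1
    have := congrArg Subtype.val (hcomm ⟨π t, mem_map_of_mem π ht⟩ v)
    exact mul_inv_eq_iff_eq_mul.2 this)
  by_cases hWk : W ≤ Zs T k
  · calc Nat.card ↥W ≤ 2 ^ k * 1 := by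
          rw [mul_one, ← card_Zs h (by omega)]; exact Subgroup.card_le_of_le hWk
      _ ≤ _ := Nat.mul_le_mul_left _ (Nat.one_le_pow _ _ (by norm_num))
  obtain ⟨e, heW, hek, hek'⟩ := exists_step h k hWk
  have heV : π e ∈ V := mem_map_of_mem π heW
  have hinv : ∀ N : Subgroup V, (∀ g : T ⧸ W, ∀ v ∈ N, α g v ∈ N) → N ≠ ⊥ → (⟨π e, heV⟩ : V) ∈ N := by
    intro N hNinv hNne
    set M := (N.map V.subtype).comap π with hM
    haveI : M.Normal := ⟨fun m hm t => by
      obtain ⟨v, hv, hve⟩ := hm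
      refine ⟨α (t : T ⧸ W) v, hNinv _ v hv, ?_⟩
      show π t * v.1 * (π t)⁻¹ = π (t * m * t⁻¹)
      rw [map_mul, map_mul, map_inv, show (v : T ⧸ Zs T k) = π m from hve]⟩
    have hMk : ¬ M ≤ Zs T k := fun hle => hNne (by
      rw [eq_bot_iff]
      intro v hv
      obtain ⟨m, hm⟩ := QuotientGroup.mk'_surjective (Zs T k) v.1
      rw [mem_bot]
      refine Subtype.ext ?_
      rw [← hm, QuotientGroup.mk'_apply, OneMemClass.coe_one, QuotientGroup.eq_one_iff]
      exact hle ⟨v, hv, hm.symm⟩)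
    obtain ⟨v, hv, hve⟩ := Zs_le_of_not_le h k hk hMk hek'
    exact (Subtype.ext hve : v = ⟨π e, heV⟩) ▸ hv
  have hb := RegularModule65.card_le α hinv hsq
    (fun he => hek ((QuotientGroup.eq_one_iff e).1 (congrArg Subtype.val he)))
  have hcard : Nat.card ↥W = Nat.card ↥(Zs T k) * Nat.card V := by
    have hle : Zs T k ≤ W := hN ▸ map_subtype_le _
    have e1 : V.index = W.index := Subgroup.index_map_eq _ (QuotientGroup.mk'_surjective _)
      (by rw [QuotientGroup.ker_mk']; exact hle)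
    have e2 := V.card_mul_index
    have e3 := W.card_mul_index
    have e4 := Subgroup.card_eq_card_quotient_mul_card_subgroup (Zs T k)
    rw [e1] at e2
    refine Nat.eq_of_mul_eq_mul_right (Nat.pos_of_ne_zero Subgroup.index_ne_zero_of_finite : 0 < W.index) ?_
    rw [e3, e4, mul_assoc, e2, mul_comm]
  rw [hcard, card_Zs h (by omega)]
  rw [← Subgroup.index_eq_card] at hb
  exact Nat.mul_le_mul_left _ hb

theorem main : Phi W = Zs T 3 ∧ W.index = 8 ∧ Nat.card ↥W = 2 ^ 11 ∧ Nat.card T = 2 ^ 14 := by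
  haveI := W_normal h
  haveI : (Phi W).Normal := ConjAct.normal_of_characteristic_of_normal
  obtain ⟨k, hk, hPk⟩ : ∃ k, k ≤ 3 ∧ Phi W = Zs T k := by
    have hP := Phi_le h
    by_cases c2 : Phi W ≤ Zs T 2
    · by_cases c1 : Phi W ≤ Zs T 1
      · by_cases c0 : Phi W ≤ Zs T 0
        · exact ⟨0, by norm_num, le_antisymm c0 (by rw [Zs, Subgroup.upperCentralSeries_zero]; exact bot_le)⟩
        · exact ⟨1, by norm_num, le_antisymm c1 (Zs_le_of_not_le h 0 (by norm_num) c0)⟩
      · exact ⟨2, by norm_num, le_antisymm c2 (Zs_le_of_not_le h 1 (by norm_num) c1)⟩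
    · exact ⟨3, le_rfl, le_antisymm hP (Zs_le_of_not_le h 2 (by norm_num) c2)⟩
  have hb := card_bound h hk hPk
  have hi := index_W_le h
  have hmul := W.card_mul_index
  have hbig := h.big
  have hp1 : 2 ^ W.index ≤ 2 ^ 8 := Nat.pow_le_pow_right (by norm_num) hi
  have hp2 : 2 ^ k ≤ 2 ^ 3 := Nat.pow_le_pow_right (by norm_num) hk
  have hW : Nat.card ↥W ≤ 2 ^ 11 := hb.trans ((Nat.mul_le_mul hp2 hp1).trans (by norm_num))
  have hi8 : W.index = 8 := by
    by_contra hne
    have : W.index ≤ 7 := by omega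
    have := Nat.mul_le_mul hW this
    norm_num at this hbig
    omega
  have hW11 : Nat.card ↥W = 2 ^ 11 := by
    rw [hi8] at hmul
    norm_num at hW hbig ⊢
    omega
  refine ⟨?_, hi8, hW11, by rw [← hmul, hi8, hW11]; norm_num⟩
  rw [hPk]
  congr 1
  by_contra hne
  have hk2 : 2 ^ k ≤ 2 ^ 2 := Nat.pow_le_pow_right (by norm_num) (by omega)
  have := hb.trans (Nat.mul_le_mul hk2 hp1)
  rw [hW11] at this
  norm_num at this

theorem Z3_le : Zs T 3 ≤ W := (main h).1 ▸ map_subtype_le _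

theorem Z3_comm {x y : T} (hx : x ∈ Zs T 3) (hy : y ∈ W) : x * y = y * x := by
  rw [h.defW] at hy; exact hy x hx

theorem sq_W {x : T} (hx : x ∈ W) : x * x ∈ Zs T 3 := (main h).1 ▸ sq_mem_Phi h hx

theorem bracket_W {x y : T} (hx : x ∈ W) (hy : y ∈ W) : ⁅x, y⁆ ∈ Zs T 3 :=
  (main h).1 ▸ bracket_mem_Phi h hx hy

/-- Passing to an avoiding subgroup of index two. -/
theorem exists_avoid {K H : Subgroup T} {e : T} (hHK : H ≤ K) (he : e ∈ K) (heH : e ∉ H)
    (hsq : ∀ x ∈ K, x * x ∈ H) (hcomm : ∀ x ∈ K, ∀ y ∈ K, ⁅x, y⁆ ∈ H) :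
    ∃ U : Subgroup T, U ≤ K ∧ e ∉ U ∧ Nat.card K ≤ 2 * Nat.card U := by
  classical
  obtain ⟨U, hU⟩ := (Set.toFinite {N : Subgroup T | H ≤ N ∧ N ≤ K ∧ e ∉ N}).exists_maximal
    ⟨H, le_rfl, hHK, heH⟩
  obtain ⟨hHU, hUK, heU⟩ := hU.prop
  refine ⟨U, hUK, heU, ?_⟩
  have key : ∀ x ∈ K, x ∈ U ∨ x * e ∈ U := by
    intro x hx
    by_cases hxU : x ∈ U
    · exact Or.inl hxU
    refine Or.inr ?_
    have hnorm : ∀ u ∈ U, ∀ y ∈ K, y * u * y⁻¹ ∈ U := fun u hu y hy => by
      rw [show y * u * y⁻¹ = ⁅y, u⁆ * u by rw [commutatorElement_def]; group]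
      exact mul_mem (hHU (hcomm y hy u (hUK hu))) hu
    let U' : Subgroup T :=
      { carrier := {g | g ∈ U ∨ g * x⁻¹ ∈ U}
        one_mem' := Or.inl U.one_mem
        mul_mem' := fun {g g'} hg hg' => by
          rcases hg with hg | hg <;> rcases hg' with hg' | hg'
          · exact Or.inl (mul_mem hg hg')
          · exact Or.inr (by rw [mul_assoc]; exact mul_mem hg hg')
          · refine Or.inr ?_
            rw [show g * g' * x⁻¹ = g * x⁻¹ * (x * g' * x⁻¹) by group]
            exact mul_mem hg (hnorm _ hg' x hx)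
          · refine Or.inl ?_
            rw [show g * g' = g * x⁻¹ * (x * (g' * x⁻¹) * x⁻¹) * (x * x) by group]
            exact mul_mem (mul_mem hg (hnorm _ hg' x hx)) (hHU (hsq x hx))
        inv_mem' := fun {g} hg => by
          rcases hg with hg | hg
          · exact Or.inl (inv_mem hg)
          · refine Or.inr ?_
            rw [show g⁻¹ * x⁻¹ = x⁻¹ * (g * x⁻¹)⁻¹ * (x⁻¹)⁻¹ * (x * x)⁻¹ by group]
            exact mul_mem (hnorm _ (inv_mem hg) _ (inv_mem hx)) (inv_mem (hHU (hsq x hx))) }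
    have hle : U ≤ U' := fun g hg => Or.inl hg
    have hxU' : x ∈ U' := Or.inr (by rw [mul_inv_cancel]; exact U.one_mem)
    have hU'K : U' ≤ K := by
      rintro g (hg | hg)
      · exact hUK hg
      · have := mul_mem (hUK hg) hx; rwa [inv_mul_cancel_right] at this
    have he' : e ∈ U' := by
      by_contra hne
      exact hxU (hU.le_of_ge ⟨hHU.trans hle, hU'K, hne⟩ hle hxU')
    rcases he' with he' | he'
    · exact absurd he' heU
    · rw [show x * e = x * (e * x⁻¹) * x⁻¹ * (x * x) by group]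
      exact mul_mem (hnorm _ he' x hx) (hHU (hsq x hx))
  let f : K → U × Bool := fun x => if hx : x.1 ∈ U then (⟨x.1, hx⟩, false)
    else (⟨x.1 * e, (key x x.2).resolve_left hx⟩, true)
  have hf : Function.Injective f := by
    intro a b hab
    simp only [f] at hab
    split_ifs at hab
    all_goals have h1 := congrArg (fun p : U × Bool => (p.1 : T)) hab
    all_goals have h2 := congrArg Prod.snd hab
    all_goals first
      | exact Subtype.ext h1
      | exact Subtype.ext (mul_right_cancel h1)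
      | exact absurd h2 Bool.false_ne_true
      | exact absurd h2.symm Bool.false_ne_true
  refine (Nat.card_le_card_of_injective f hf).trans ?_
  rw [Nat.card_prod, mul_comm]
  simp

theorem avoid_T {U : Subgroup T} (hU : U ≤ W) (hcard : 2 ^ 7 ≤ Nat.card U) : Zs T 3 ≤ U := by
  rw [← (main h).1]
  rintro _ ⟨x, hx, rfl⟩
  have hi : (U.subgroupOf W).index ≤ 16 := by
    have := (U.subgroupOf W).card_mul_index
    rw [Nat.card_congr (Subgroup.subgroupOfEquivOfLe hU).toEquiv, (main h).2.2.1] at this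
    norm_num at hcard this
    nlinarith
  exact h.avoid _ hi hx

/-- A subgroup of index at most four in `W` is not abelian modulo `H`. -/
theorem not_small {A H : Subgroup T} (hA : A ≤ W) (hcard : 2 ^ 9 ≤ Nat.card A) (hH : H ≤ Zs T 3)
    {e : T} (he : e ∈ Zs T 3) (heH : e ∉ H) (hidx : ∀ x ∈ Zs T 3, x ∉ H → x⁻¹ * e ∈ H)
    (hcomm : ∀ x ∈ A, ∀ y ∈ A, ⁅x, y⁆ ∈ H) : False := by
  classical
  have hZA : Zs T 3 ≤ A := avoid_T h hA (le_trans (by norm_num) hcard)
  let K : Subgroup T :=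
    { carrier := {x | x ∈ A ∧ x * x ∈ H}
      one_mem' := ⟨one_mem _, by simp⟩
      mul_mem' := fun {x y} hx hy => ⟨mul_mem hx.1 hy.1, by
        have hc := hcomm y hy.1 x hx.1
        have e1 : x * y * (x * y) = x * x * (x⁻¹ * ⁅y, x⁆ * x) * (y * y) := by
          rw [commutatorElement_def]; group
        rw [e1]
        refine mul_mem (mul_mem hx.2 ?_) hy.2
        rw [mul_assoc, Z3_comm h (hH hc) (hA hx.1), inv_mul_cancel_left]
        exact hc⟩
      inv_mem' := fun {x} hx => ⟨inv_mem hx.1, by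
        rw [← mul_inv_rev]; exact inv_mem hx.2⟩ }
  have hKcard : Nat.card A ≤ 2 * Nat.card K := by
    by_cases hall : ∀ x ∈ A, x * x ∈ H
    · have hle : A ≤ K := fun x hx => ⟨hx, hall x hx⟩
      have := Subgroup.card_le_of_le hle
      omega
    push Not at hall
    obtain ⟨x₀, hx₀, hx₀'⟩ := hall
    have key : ∀ x ∈ A, x ∈ K ∨ x * x₀ ∈ K := by
      intro x hx
      by_cases hxH : x * x ∈ H
      · exact Or.inl ⟨hx, hxH⟩
      refine Or.inr ⟨mul_mem hx hx₀, ?_⟩
      have hc := hcomm x₀ hx₀ x hx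
      have e1 : x * x₀ * (x * x₀) = x * x * (x⁻¹ * ⁅x₀, x⁆ * x) * (x₀ * x₀) := by
        rw [commutatorElement_def]; group
      rw [e1, mul_assoc x⁻¹, Z3_comm h (hH hc) (hA hx), inv_mul_cancel_left]
      have a1 := hidx _ (sq_W h (hA hx)) hxH
      have a2 := hidx _ (sq_W h (hA hx₀)) hx₀'
      have a3 : (x * x) * ⁅x₀, x⁆ * (x₀ * x₀) = ⁅x₀, x⁆ * ((x * x) * (x₀ * x₀)) := by
        rw [← Z3_comm h (hH hc) (Z3_le h (sq_W h (hA hx)))]; group
      rw [a3]
      refine mul_mem hc ?_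
      have a5 : x * x * (x₀ * x₀) = (e * e) * ((x * x)⁻¹ * e)⁻¹ * ((x₀ * x₀)⁻¹ * e)⁻¹ := by
        have c1 := Z3_comm h (sq_W h (hA hx)) (Z3_le h he)
        calc x * x * (x₀ * x₀) = e * (x * x) * e⁻¹ * (x₀ * x₀) := by
              rw [← c1, mul_inv_cancel_right]
          _ = _ := by
              rw [mul_inv_rev, inv_inv, mul_inv_rev, inv_inv]
              simp only [← mul_assoc, mul_inv_cancel_right]
      rw [a5]
      refine mul_mem (mul_mem ?_ (inv_mem a1)) (inv_mem a2)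
      by_contra hee
      have := hidx _ (mul_mem he he) hee
      rw [mul_inv_rev, mul_assoc, inv_mul_cancel, mul_one] at this
      exact heH (inv_mem_iff.1 this)
    let f : A → K × Bool := fun x => if hx : x.1 ∈ K then (⟨x.1, hx⟩, false)
      else (⟨x.1 * x₀, (key x x.2).resolve_left hx⟩, true)
    have hf : Function.Injective f := by
      intro a b hab
      simp only [f] at hab
      split_ifs at hab
      all_goals have h1 := congrArg (fun p : K × Bool => (p.1 : T)) hab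
      all_goals have h2 := congrArg Prod.snd hab
      all_goals first
        | exact Subtype.ext h1
        | exact Subtype.ext (mul_right_cancel h1)
        | exact absurd h2 Bool.false_ne_true
        | exact absurd h2.symm Bool.false_ne_true
    refine (Nat.card_le_card_of_injective f hf).trans ?_
    rw [Nat.card_prod, mul_comm]
    simp
  have hsqZ : ∀ z ∈ H, z * z ∈ H := fun z hz => mul_mem hz hz
  have heK : e ∈ K := ⟨hZA he, by
    by_contra hee
    have := hidx _ (mul_mem he he) hee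
    rw [mul_inv_rev, mul_assoc, inv_mul_cancel, mul_one] at this
    exact heH (inv_mem_iff.1 this)⟩
  obtain ⟨U, hUK, heU, hUcard⟩ := exists_avoid h (K := K) (H := H) (e := e)
    (fun z hz => ⟨hZA (hH hz), hsqZ z hz⟩) heK heH (fun x hx => hx.2)
    (fun x hx y hy => hcomm x hx.1 y hy.1)
  have hUW : U ≤ W := fun x hx => hA (hUK hx).1
  refine heU (avoid_T h hUW ?_ he)
  norm_num at hcard ⊢
  omega

end Cfsg.Agent.UpperFour65
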