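import Cfsg.Agent.Lib.UpperFourCenter65

/-!
Odd-order automorphisms are trivial; `W` is the only subgroup of its isomorphism type.
-/

set_option autoImplicit false
set_option linter.unusedSectionVars false

namespace Cfsg.Agent.UpperFourAut65

open Subgroup Cfsg.Agent.UpperFour65
open scoped commutatorElement

variable {T : Type*} [Group T] [Finite T] {W : Subgroup T} (h : Hyp T W)
include h

/-- An odd-order automorphism trivial on `N` and on the cosets of `N` is trivial. -/
theorem fix_of_chain {φ : MulAut T} {m : ℕ} (hm : φ ^ m = 1) (hodd : Odd m) {N : Subgroup T}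
    (hN : ∀ x ∈ N, φ x = x) {t : T} (ht : t⁻¹ * φ t ∈ N) : φ t = t := by
  haveI : Fact (Nat.Prime 2) := ⟨Nat.prime_two⟩
  set d := t⁻¹ * φ t with hd
  have hpow : ∀ n : ℕ, (φ ^ n) t = t * d ^ n := by
    intro n
    induction n with
    | zero => simp
    | succ n ih =>
      rw [pow_succ', MulAut.mul_apply, ih, map_mul, map_pow, hN d ht, pow_succ' d, ← mul_assoc,
        hd, mul_inv_cancel_left]
  have h5 := hpow m
  rw [hm, MulAut.one_apply] at h5
  have e5 : d ^ m = 1 := mul_left_cancel (a := t) (by rw [← h5, mul_one])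
  obtain ⟨k, hk⟩ := h.isP d
  have hcop : Nat.Coprime m (2 ^ k) := by
    refine Nat.Coprime.pow_right k ?_
    rw [Nat.coprime_two_right]; exact hodd
  have : orderOf d ∣ 1 := by
    rw [← hcop]
    exact Nat.dvd_gcd (orderOf_dvd_of_pow_eq_one e5) (orderOf_dvd_of_pow_eq_one hk)
  have hd1 : d = 1 := orderOf_eq_one_iff.1 (Nat.dvd_one.1 this)
  exact (inv_mul_eq_one.1 (hd ▸ hd1)).symm

theorem Zs_invariant (φ : MulAut T) (i : ℕ) (x : T) : φ x ∈ Zs T i ↔ x ∈ Zs T i := by
  induction i generalizing x with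
  | zero => rw [mem_Zs0, mem_Zs0, EmbeddingLike.map_eq_one_iff]
  | succ i ih =>
    rw [Subgroup.mem_upperCentralSeries_succ_iff, Subgroup.mem_upperCentralSeries_succ_iff]
    constructor
    · intro hx y
      rw [← ih]
      simpa [map_mul, map_inv, commutatorElement_def] using hx (φ y)
    · intro hx y
      have := (ih _).2 (hx (φ.symm y))
      simpa [map_mul, map_inv, commutatorElement_def] using this

theorem fix_Zs {φ : MulAut T} {m : ℕ} (hm : φ ^ m = 1) (hodd : Odd m) :
    ∀ i, i ≤ 4 → ∀ x ∈ Zs T i, φ x = x := by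
  intro i
  induction i with
  | zero => intro _ x hx; rw [mem_Zs0] at hx; rw [hx, map_one]
  | succ i ih =>
    intro hi x hx
    by_cases hxi : x ∈ Zs T i
    · exact ih (by omega) x hxi
    · refine fix_of_chain h hm hodd (ih (by omega)) ?_
      exact mul_mem_of_not_mem h (by omega) hx hxi ((Zs_invariant h φ (i + 1) x).2 hx)
        (fun hh => hxi ((Zs_invariant h φ i x).1 hh))

/-- Odd-order automorphisms are trivial. -/
theorem aut_trivial {φ : MulAut T} {m : ℕ} (hm : φ ^ m = 1) (hodd : Odd m) (t : T) : φ t = t := by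
  classical
  haveI := W_normal h
  have hfix3 := fix_Zs h hm hodd 3 (by norm_num)
  have hcoset : ∀ u : T, u⁻¹ * φ u ∈ W := by
    intro u
    rw [h.defW, Subgroup.mem_centralizer_iff]
    intro x hx
    have hc : u * x * u⁻¹ ∈ Zs T 3 := (inferInstance : (Zs T 3).Normal).conj_mem x hx u
    have e : φ u * x * (φ u)⁻¹ = u * x * u⁻¹ := by
      have := hfix3 _ hc
      rwa [map_mul, map_mul, map_inv, hfix3 x hx] at this
    have e2 : φ u * x = u * x * u⁻¹ * φ u := mul_inv_eq_iff_eq_mul.1 e
    calc x * (u⁻¹ * φ u) = u⁻¹ * (u * x * u⁻¹ * φ u) := by group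
      _ = u⁻¹ * φ u * x := by rw [← e2, mul_assoc]
  have hφW : ∀ w, w ∈ W → φ w ∈ W := fun w hw => by
    have := mul_mem hw (hcoset w); rwa [mul_inv_cancel_left] at this
  set π := QuotientGroup.mk' (Zs T 3) with hπ
  set V := W.map π with hV
  haveI : V.Normal := Subgroup.Normal.map inferInstance π (QuotientGroup.mk'_surjective _)
  have hcomm : ∀ v w : V, v * w = w * v := by
    rintro ⟨_, x, hx, rfl⟩ ⟨_, y, hy, rfl⟩
    refine Subtype.ext ?_
    show π x * π y = π y * π x
    rw [← commutatorElement_eq_one_iff_mul_comm, ← map_commutatorElement, hπ,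
      QuotientGroup.mk'_apply, QuotientGroup.eq_one_iff]
    exact bracket_W h hx hy
  letI : CommGroup V := { (inferInstance : Group V) with mul_comm := hcomm }
  let r : W →* V := π.subgroupMap W
  have hr : Function.Surjective r := π.subgroupMap_surjective W
  have hiter : ∀ (n : ℕ) (w : T), w ∈ W → (φ ^ n) w ∈ W := by
    intro n
    induction n with
    | zero => intro w hw; simpa using hw
    | succ n ih => intro w hw; rw [pow_succ', MulAut.mul_apply]; exact hφW _ (ih w hw)
  let term : ℕ → W →* W := fun n =>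
    { toFun := fun w => ⟨(φ ^ n) w.1, hiter n w.1 w.2⟩
      map_one' := Subtype.ext (by simp)
      map_mul' := fun a b => Subtype.ext (by simp) }
  let η : W →* V :=
    { toFun := fun w => ∏ i ∈ Finset.range m, r (term i w)
      map_one' := by simp
      map_mul' := fun a b => by simp [Finset.prod_mul_distrib] }
  set M : Subgroup T := η.ker.map W.subtype with hM
  have hZM : Zs T 3 ≤ M := by
    intro x hx
    refine ⟨⟨x, Z3_le h hx⟩, ?_, rfl⟩
    rw [SetLike.mem_coe, MonoidHom.mem_ker]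
    show ∏ i ∈ Finset.range m, r (term i ⟨x, Z3_le h hx⟩) = 1
    refine Finset.prod_eq_one fun i _ => Subtype.ext ?_
    show π ((φ ^ i) x) = 1
    rw [hπ, QuotientGroup.mk'_apply, QuotientGroup.eq_one_iff]
    exact (Zs_invariant h (φ ^ i) 3 x).2 hx
  have hmod : ∀ (i : ℕ) (u : T), u⁻¹ * (φ ^ i) u ∈ W := by
    intro i u
    induction i with
    | zero => simp
    | succ i ih =>
      rw [pow_succ', MulAut.mul_apply]
      have := mul_mem ih (hcoset ((φ ^ i) u))
      rwa [mul_assoc, mul_inv_cancel_left] at this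
  haveI : M.Normal := ⟨by
    rintro _ ⟨w, hw, rfl⟩ u
    refine ⟨⟨u * w.1 * u⁻¹, (inferInstance : W.Normal).conj_mem _ w.2 u⟩, ?_, rfl⟩
    rw [SetLike.mem_coe, MonoidHom.mem_ker] at hw ⊢
    let c : V →* V := (MulAut.conjNormal (H := V) (π u)).toMonoidHom
    have key : ∀ i, r (term i ⟨u * w.1 * u⁻¹, (inferInstance : W.Normal).conj_mem _ w.2 u⟩) =
        c (r (term i w)) := by
      intro i
      refine Subtype.ext ?_
      show π ((φ ^ i) (u * w.1 * u⁻¹)) = π u * π ((φ ^ i) w.1) * (π u)⁻¹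
      have hu : (φ ^ i) u = u * (u⁻¹ * (φ ^ i) u) := by group
      rw [map_mul (φ ^ i), map_mul (φ ^ i), map_inv (φ ^ i), hu]
      set d := u⁻¹ * (φ ^ i) u with hd
      set x := (φ ^ i) w.1 with hx
      have hdx : π d * π x = π x * π d := congrArg Subtype.val
        (hcomm ⟨π d, mem_map_of_mem π (hmod i u)⟩ ⟨π x, mem_map_of_mem π (hiter i w.1 w.2)⟩)
      rw [map_mul, map_mul, map_inv, map_mul, mul_assoc (π u) (π d), hdx]
      group
    show ∏ i ∈ Finset.range m, r (term i _) = 1
    rw [Finset.prod_congr rfl fun i _ => key i, ← map_prod]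
    rw [show ∏ i ∈ Finset.range m, r (term i w) = 1 from hw, map_one]⟩
  have hM3 : M ≤ Zs T 3 := by
    by_contra hne
    have hle := Zs_le_of_not_le h 3 le_rfl hne
    obtain ⟨e, he4, hek⟩ : ∃ e, e ∈ Zs T 4 ∧ e ∉ Zs T 3 := by
      by_contra! hle
      have := Subgroup.card_le_of_le hle
      rw [card_Zs h le_rfl, card_Zs h (show 3 ≤ 4 by norm_num)] at this
      norm_num at this
    obtain ⟨w, hw, he⟩ := hle he4
    rw [SetLike.mem_coe, MonoidHom.mem_ker] at hw
    have hfix : ∀ i, (φ ^ i) e = e := fun i => by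
      induction i with
      | zero => simp
      | succ i ih => rw [pow_succ', MulAut.mul_apply, ih]; exact fix_Zs h hm hodd 4 le_rfl e he4
    have hterm : ∀ i, r (term i w) = r w := fun i => Subtype.ext (by
      show π ((φ ^ i) w.1) = π w.1
      rw [show (w : T) = e from he, hfix])
    have hw' : (r w) ^ m = 1 := by
      rw [← hw]
      show _ = ∏ i ∈ Finset.range m, r (term i w)
      rw [Finset.prod_congr rfl fun i _ => hterm i, Finset.prod_const, Finset.card_range]
    have h2 : r w * r w = 1 := Subtype.ext (by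
      show π w.1 * π w.1 = 1
      rw [← map_mul, hπ, QuotientGroup.mk'_apply, QuotientGroup.eq_one_iff]
      exact sq_W h w.2)
    obtain ⟨j, rfl⟩ := hodd
    rw [pow_succ, pow_mul, pow_two, h2, one_pow, one_mul] at hw'
    exact hek (he ▸ (QuotientGroup.eq_one_iff (w : T)).1 (congrArg Subtype.val hw'))
  have hfixV : ∀ w ∈ W, w⁻¹ * φ w ∈ Zs T 3 := by
    intro w hw
    refine hM3 ⟨(⟨w, hw⟩ : W)⁻¹ * term 1 ⟨w, hw⟩, ?_, by simp [term]⟩
    rw [SetLike.mem_coe, MonoidHom.mem_ker, map_mul, map_inv, inv_mul_eq_one]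
    show ∏ i ∈ Finset.range m, r (term i ⟨w, hw⟩) = ∏ i ∈ Finset.range m, r (term i (term 1 ⟨w, hw⟩))
    have e1 : ∀ i, r (term i (term 1 ⟨w, hw⟩)) = r (term (i + 1) ⟨w, hw⟩) := fun i => by
      refine congrArg r (Subtype.ext ?_)
      show (φ ^ i) ((φ ^ 1) w) = (φ ^ (i + 1)) w
      rw [pow_one, pow_succ, MulAut.mul_apply]
    rw [Finset.prod_congr rfl fun i _ => e1 i]
    set f : ℕ → V := fun i => r (term i ⟨w, hw⟩) with hf
    have h0 : f m = f 0 := congrArg r (Subtype.ext (by
      show (φ ^ m) w = (φ ^ 0) w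
      rw [hm, pow_zero]))
    have a := Finset.prod_range_succ f m
    have b := Finset.prod_range_succ' f m
    rw [a, h0] at b
    exact mul_right_cancel b
  exact fix_of_chain h hm hodd (fun w hw => fix_of_chain h hm hodd hfix3 (hfixV w hw)) (hcoset t)

/-- The subgroup generated by the squares. -/
def sqs {G : Type*} [Group G] (I : Subgroup G) : Subgroup G := closure ((fun x => x * x) '' (I : Set G))

omit h in
theorem sqs_map {G H : Type*} [Group G] [Group H] (f : G →* H) (I : Subgroup G) :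
    (sqs I).map f = sqs (I.map f) := by
  rw [sqs, sqs, MonoidHom.map_closure]
  congr 1
  ext y
  constructor
  · rintro ⟨_, ⟨x, hx, rfl⟩, rfl⟩
    exact ⟨f x, mem_map_of_mem f hx, (map_mul f x x).symm⟩
  · rintro ⟨_, ⟨x, hx, rfl⟩, rfl⟩
    exact ⟨x * x, ⟨x, hx, rfl⟩, map_mul f x x⟩

theorem sqs_eq {I : Subgroup T} (hI : I ≤ W) (hcard : 2 ^ 8 ≤ Nat.card I) : sqs I = Zs T 3 := by
  have hle : sqs I ≤ Zs T 3 := (closure_le _).2 (by rintro _ ⟨x, hx, rfl⟩; exact sq_W h (hI hx))
  refine le_antisymm hle fun e he => ?_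
  by_contra hne
  have hZI := avoid_T h hI (le_trans (by norm_num) hcard)
  have hsq : ∀ x ∈ I, x * x ∈ sqs I := fun x hx => subset_closure ⟨x, hx, rfl⟩
  have hcm : ∀ x ∈ I, ∀ y ∈ I, ⁅x, y⁆ ∈ sqs I := fun x hx y hy => by
    have e1 : ⁅x, y⁆ = (x * y) * (x * y) * (y⁻¹ * (x * x)⁻¹ * y) * (y * y)⁻¹ := by
      rw [commutatorElement_def]; group
    rw [e1, mul_assoc y⁻¹, Z3_comm h (inv_mem (hle (hsq x hx))) (hI hy), inv_mul_cancel_left]
    exact mul_mem (mul_mem (hsq _ (mul_mem hx hy)) (inv_mem (hsq x hx))) (inv_mem (hsq y hy))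
  obtain ⟨U, hUI, heU, hU⟩ := exists_avoid h (hle.trans hZI) (hZI he) hne hsq hcm
  exact heU (avoid_T h (hUI.trans hI) (by norm_num at hcard ⊢; omega) he)

/-- A subgroup of `T` isomorphic to `W` is `W`. -/
theorem eq_of_equiv (U : Subgroup T) (ε : W ≃* U) : U = W := by
  obtain ⟨-, hidx, hW11, hT⟩ := main h
  have hU : Nat.card U = 2 ^ 11 := (Nat.card_congr ε.toEquiv).symm.trans hW11
  set I := U ⊓ W with hI
  haveI := W_normal h
  have hIcard : 2 ^ 8 ≤ Nat.card I := by
    have h1 := (W.subgroupOf U).card_mul_index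
    have hd : (W.subgroupOf U).index ∣ W.index := Subgroup.relIndex_dvd_index_of_normal W U
    have hle := Nat.le_of_dvd (by rw [hidx]; norm_num) hd
    rw [hidx] at hle
    have e : Nat.card (W.subgroupOf U) = Nat.card I := by
      rw [← Subgroup.card_map_of_injective U.subtype_injective, Subgroup.subgroupOf_map_subtype,
        hI, inf_comm]
    rw [e, hU] at h1
    by_contra hlt
    have : Nat.card I * (W.subgroupOf U).index ≤ 255 * 8 := Nat.mul_le_mul (by norm_num at hlt ⊢; omega) hle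
    rw [h1] at this
    norm_num at this
  have hIW : sqs I = Zs T 3 := sqs_eq h inf_le_right hIcard
  let f : W →* T := U.subtype.comp ε.toMonoidHom
  have hfi : Function.Injective f := U.subtype_injective.comp ε.injective
  set J : Subgroup W := I.comap f with hJ
  have hJmap : J.map f = I := by
    refine le_antisymm (map_comap_le f I) fun x hx => ?_
    refine ⟨ε.symm ⟨x, hx.1⟩, ?_, by simp [f]⟩
    show f _ ∈ I
    simpa [f] using hx
  have hJcard : 2 ^ 8 ≤ Nat.card ↥(J.map W.subtype) := by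
    rw [Subgroup.card_map_of_injective W.subtype_injective, ← Subgroup.card_map_of_injective hfi, hJmap]
    exact hIcard
  have hJW : sqs (J.map W.subtype) = Zs T 3 := sqs_eq h (map_subtype_le _) hJcard
  have hcen : ∀ z ∈ Zs T 3, ∀ u ∈ U, z * u = u * z := by
    intro z hz u hu
    rw [← hIW, ← hJmap, ← sqs_map] at hz
    obtain ⟨z', hz', rfl⟩ := hz
    have hz3 : (z' : T) ∈ Zs T 3 := by
      rw [← hJW, ← sqs_map]; exact ⟨z', hz', rfl⟩
    have hc : z' * ε.symm ⟨u, hu⟩ = ε.symm ⟨u, hu⟩ * z' :=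
      Subtype.ext (Z3_comm h hz3 (ε.symm ⟨u, hu⟩).2)
    have := congrArg f hc
    simpa [f, map_mul] using this
  have hle : U ≤ W := fun u hu => by
    rw [h.defW, Subgroup.mem_centralizer_iff]
    exact fun z hz => hcen z hz u hu
  exact Subgroup.eq_of_le_of_card_ge hle (by rw [hU, hW11])

end Cfsg.Agent.UpperFourAut65
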