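import Cfsg.Agent.Lib.UpperFour65

/-!
The quotient by `W` is dihedral of order 8 and the centre of `W` has order 8.
-/

set_option autoImplicit false
set_option linter.unusedSectionVars false

namespace Cfsg.Agent.UpperFourCenter65

open Subgroup Cfsg.Agent.UpperFour65
open scoped commutatorElement
open Cfsg.Agent.RegularModule65 (C2 cc cc_ne_one C2_cases C2_mul_self)

variable {T : Type*} [Group T] [Finite T] {W : Subgroup T} (h : Hyp T W)
include h

theorem bracket_eq_Z3 : ⁅W, W⁆ = Zs T 3 := by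
  haveI := W_normal h
  have hle : ⁅W, W⁆ ≤ Zs T 3 := by
    rw [Subgroup.commutator_le]; exact fun x hx y hy => bracket_W h hx hy
  refine le_antisymm hle ?_
  by_contra hne
  have hle2 : ⁅W, W⁆ ≤ Zs T 2 := by
    by_contra h2
    exact hne (Zs_le_of_not_le h 2 (by norm_num) h2)
  obtain ⟨e₁, e₂, e₃, he⟩ := exists_es h
  exact not_small h le_rfl (by rw [(main h).2.2.1]; norm_num)
    (Subgroup.upperCentralSeries_mono T (by norm_num : 2 ≤ 3)) he.2.2.2.2.1 he.2.2.2.2.2
    (fun x hx hx2 => mul_mem_of_not_mem h (i := 2) (by norm_num) hx hx2 he.2.2.2.2.1 he.2.2.2.2.2)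
    (fun x hx y hy => hle2 (Subgroup.commutator_mem_commutator hx hy))

theorem sq_Z3 {x : T} (hx : x ∈ Zs T 3) : x * x = 1 := by
  let S : Subgroup T :=
    { carrier := {y | y ∈ Zs T 3 ∧ y * y = 1}
      one_mem' := ⟨one_mem _, one_mul 1⟩
      mul_mem' := fun {y y'} hy hy' => ⟨mul_mem hy.1 hy'.1, by
        rw [mul_assoc, ← mul_assoc y' y y', ← Z3_comm h hy.1 (Z3_le h hy'.1), mul_assoc y y' y',
          hy'.2, mul_one, hy.2]⟩
      inv_mem' := fun {y} hy => ⟨inv_mem hy.1, by rw [← mul_inv_rev, hy.2, inv_one]⟩ }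
  have hle : ⁅W, W⁆ ≤ S := by
    rw [Subgroup.commutator_le]
    intro a ha b hb
    have hc := bracket_W h ha hb
    refine ⟨hc, ?_⟩
    have e : ⁅a * a, b⁆ = a * ⁅a, b⁆ * a⁻¹ * ⁅a, b⁆ := by simp only [commutatorElement_def]; group
    rw [← Z3_comm h hc ha, mul_inv_cancel_right] at e
    rw [← e, commutatorElement_eq_one_iff_mul_comm]
    exact Z3_comm h (sq_W h ha) hb
  rw [← bracket_eq_Z3 h] at hx
  exact (hle hx).2

/-- Three bits. -/
abbrev B3 := Bool × Bool × Bool

/-- The multiplication of the dihedral group in coordinates. -/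
def op (x y : B3) : B3 := (xor x.1 y.1, xor x.2.1 y.2.1, xor (xor x.2.2 y.2.2) (x.1 && y.2.1))

/-- The identification with the dihedral group. -/
def toD : B3 → DihedralGroup 4
  | (false, false, false) => .r 0
  | (true, true, false) => .r 1
  | (false, false, true) => .r 2
  | (true, true, true) => .r 3
  | (true, false, false) => .sr 0
  | (false, true, false) => .sr 3
  | (true, false, true) => .sr 2
  | (false, true, true) => .sr 1

omit h in
theorem toD_op : ∀ x y, toD (op x y) = toD x * toD y := by decide +kernel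

omit h in
theorem toD_injective : Function.Injective toD := by
  intro x y; revert x y; decide +kernel

/-- Coordinates on `T` modulo `W`. -/
theorem exists_coords : ∃ ψ : T → B3,
    (∀ t u, ψ (t * u) = op (ψ t) (ψ u)) ∧ (∀ t u, ψ t = ψ u ↔ t⁻¹ * u ∈ W) ∧
      Function.Surjective ψ ∧
      ∀ t y, y ∈ Zs T 3 → y ∉ Zs T 2 → t * y * t⁻¹ = y →
        (ψ t).2.1 = false ∧ ((ψ t).1 = false → (ψ t).2.2 = false) := by
  classical
  obtain ⟨e₁, e₂, e₃, he⟩ := exists_es h
  choose ψ hψ2 hψ3 using exists_bits h he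
  obtain ⟨h1, h1', h2, h2', h3, h3'⟩ := id he
  have m1 : Zs T 1 ≤ Zs T 2 := Subgroup.upperCentralSeries_mono T (by norm_num : 1 ≤ 2)
  have m2 : Zs T 2 ≤ Zs T 3 := Subgroup.upperCentralSeries_mono T (by norm_num : 2 ≤ 3)
  have h11 : e₁ * e₁ = 1 := sq_Z3 h (m2 (m1 h1))
  have h22 : e₂ * e₂ = 1 := sq_Z3 h (m2 h2)
  have h12 : e₁ * e₂ = e₂ * e₁ := Z3_comm h (m2 (m1 h1)) (Z3_le h (m2 h2))
  let E : Bool → Bool → T := fun c b => (bif c then e₁ else 1) * (bif b then e₂ else 1)
  have Emul : ∀ c b c' b', E c b * E c' b' = E (xor c c') (xor b b') := by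
    have ha : ∀ c c', (bif c then e₁ else (1 : T)) * (bif c' then e₁ else 1) =
        bif xor c c' then e₁ else 1 := by
      intro c c'; cases c <;> cases c' <;> simp [h11]
    have hb : ∀ c c', (bif c then e₂ else (1 : T)) * (bif c' then e₂ else 1) =
        bif xor c c' then e₂ else 1 := by
      intro c c'; cases c <;> cases c' <;> simp [h22]
    have hc : ∀ b c', (bif b then e₂ else (1 : T)) * (bif c' then e₁ else 1) =
        (bif c' then e₁ else 1) * (bif b then e₂ else 1) := by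
      intro b c'; cases b <;> cases c' <;> simp [h12]
    intro c b c' b'
    show _ * _ * (_ * _) = _ * _
    rw [mul_assoc, ← mul_assoc (bif b then e₂ else (1 : T)), hc, ← ha, ← hb]
    group
  have Einj : ∀ c b, E c b = 1 → c = false ∧ b = false := by
    intro c b hE
    cases b
    · cases c
      · exact ⟨rfl, rfl⟩
      · exact absurd (by simpa [E] using hE) h1'
    · exfalso
      cases c
      · have : e₂ = 1 := by simpa [E] using hE
        exact h2' (this ▸ one_mem _)
      · have : e₁ * e₂ = 1 := by simpa [E] using hE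
        exact h2' (eq_inv_of_mul_eq_one_right this ▸ inv_mem h1)
  have Einj' : ∀ c b c' b', E c b = E c' b' → c = c' ∧ b = b' := by
    intro c b c' b' hE
    have := Emul c b c' b'
    rw [hE, Emul] at this
    simp only [bne_self_eq_false] at this
    obtain ⟨a1, a2⟩ := Einj _ _ (this.symm.trans (by simp [E]))
    exact ⟨by revert a1; cases c <;> cases c' <;> simp, by revert a2; cases b <;> cases b' <;> simp⟩
  have conjE : ∀ t c b, t * E c b * t⁻¹ = E (xor c ((ψ t).1 && b)) b := by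
    intro t c b
    have hc : t * (bif c then e₁ else 1) * t⁻¹ = (bif c then e₁ else (1 : T)) := by
      cases c
      · simp
      · exact mem_Z1 h h1 t
    have hb : t * (bif b then e₂ else 1) * t⁻¹ = E ((ψ t).1 && b) b := by
      cases b
      · simp [E]
      · simp only [Bool.and_true, cond_true]
        exact hψ2 t
    have hsplit : E c false = (bif c then e₁ else (1 : T)) := by simp [E]
    calc t * E c b * t⁻¹
        = (t * (bif c then e₁ else 1) * t⁻¹) * (t * (bif b then e₂ else 1) * t⁻¹) := by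
          show t * (_ * _) * t⁻¹ = _
          group
      _ = E c false * E ((ψ t).1 && b) b := by rw [hc, hb, hsplit]
      _ = _ := by rw [Emul]; simp
  have hp2 : ∀ t, t * e₂ * t⁻¹ = E (ψ t).1 true := fun t => by rw [hψ2]; rfl
  have hp3 : ∀ t, t * e₃ * t⁻¹ = E (ψ t).2.2 (ψ t).2.1 * e₃ := fun t => hψ3 t
  have hlaw : ∀ t u, ψ (t * u) = op (ψ t) (ψ u) := by
    intro t u
    have a2 : E (ψ (t * u)).1 true = E (xor (ψ u).1 (ψ t).1) true := by
      rw [← hp2, show t * u * e₂ * (t * u)⁻¹ = t * (u * e₂ * u⁻¹) * t⁻¹ by group, hp2, conjE]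
      simp
    have a3 : E (ψ (t * u)).2.2 (ψ (t * u)).2.1 * e₃ =
        E (xor (xor (ψ u).2.2 ((ψ t).1 && (ψ u).2.1)) (ψ t).2.2) (xor (ψ u).2.1 (ψ t).2.1) * e₃ := by
      rw [← hp3, show t * u * e₃ * (t * u)⁻¹ = t * (u * e₃ * u⁻¹) * t⁻¹ by group, hp3, ← Emul,
        show t * (E (ψ u).2.2 (ψ u).2.1 * e₃) * t⁻¹ =
          (t * E (ψ u).2.2 (ψ u).2.1 * t⁻¹) * (t * e₃ * t⁻¹) by group, conjE, hp3, ← mul_assoc]
    obtain ⟨b1, -⟩ := Einj' _ _ _ _ a2
    obtain ⟨b3, b2⟩ := Einj' _ _ _ _ (mul_right_cancel a3)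
    refine Prod.ext ?_ (Prod.ext ?_ ?_)
    · rw [b1, op]; exact Bool.xor_comm _ _
    · rw [b2, op]; exact Bool.xor_comm _ _
    · rw [b3, op]
      show _ = xor (xor _ _) _
      cases (ψ u).2.2 <;> cases (ψ t).2.2 <;> cases (ψ t).1 <;> cases (ψ u).2.1 <;> rfl
  have hiff : ∀ t u, ψ t = ψ u ↔ t⁻¹ * u ∈ W := by
    intro t u
    constructor
    · intro e
      refine mem_W_of_fix h he ?_ ?_
      · calc t⁻¹ * u * e₂ * (t⁻¹ * u)⁻¹ = t⁻¹ * (u * e₂ * u⁻¹) * t := by group
          _ = e₂ := by rw [hp2, ← e, ← hp2]; group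
      · calc t⁻¹ * u * e₃ * (t⁻¹ * u)⁻¹ = t⁻¹ * (u * e₃ * u⁻¹) * t := by group
          _ = e₃ := by rw [hp3, ← e, ← hp3]; group
    · intro hw
      have a2 : E (ψ t).1 true = E (ψ u).1 true := by
        rw [← hp2, ← hp2]
        have := conj_fix_of_mem_W h hw (m2 h2)
        calc t * e₂ * t⁻¹ = t * (t⁻¹ * u * e₂ * (t⁻¹ * u)⁻¹) * t⁻¹ := by rw [this]
          _ = _ := by group
      have a3 : E (ψ t).2.2 (ψ t).2.1 * e₃ = E (ψ u).2.2 (ψ u).2.1 * e₃ := by
        rw [← hp3, ← hp3]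
        have := conj_fix_of_mem_W h hw h3
        calc t * e₃ * t⁻¹ = t * (t⁻¹ * u * e₃ * (t⁻¹ * u)⁻¹) * t⁻¹ := by rw [this]
          _ = _ := by group
      obtain ⟨b3, b2⟩ := Einj' _ _ _ _ (mul_right_cancel a3)
      exact Prod.ext (Einj' _ _ _ _ a2).1 (Prod.ext b2 b3)
  refine ⟨ψ, hlaw, hiff, ?_, ?_⟩
  · let f : T ⧸ W → B3 := fun q => ψ q.out
    have hf : Function.Injective f := fun q r e => by
      rw [← QuotientGroup.out_eq' q, ← QuotientGroup.out_eq' r, QuotientGroup.eq]
      exact (hiff _ _).1 e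
    have hcard : Nat.card (T ⧸ W) = Nat.card B3 := by
      rw [← Subgroup.index_eq_card, (main h).2.1]; simp
    have := ((Nat.bijective_iff_injective_and_card f).2 ⟨hf, hcard⟩).2
    intro x
    obtain ⟨q, hq⟩ := this x
    exact ⟨q.out, hq⟩
  · intro t y hy hy2 hfix
    obtain ⟨c, b, hcb⟩ : ∃ c b, y = E c b * e₃ := by
      have hm := mul_mem_of_not_mem h (i := 2) (by norm_num) hy hy2 h3 h3'
      -- `y⁻¹ e₃` lies in the second term
      have z2 : ∀ x ∈ Zs T 2, ∃ c b, x = E c b := by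
        intro x hx
        by_cases hx1 : x ∈ Zs T 1
        · by_cases hx0 : x = 1
          · exact ⟨false, false, by simp [E, hx0]⟩
          · have := mul_mem_of_not_mem h (i := 0) (by norm_num) h1 (fun e => h1' (mem_Zs0.1 e)) hx1
              (fun e => hx0 (mem_Zs0.1 e))
            rw [mem_Zs0, inv_mul_eq_one] at this
            exact ⟨true, false, by simp [E, this]⟩
        · have hx' := mul_mem_of_not_mem h (i := 1) (by norm_num) h2 h2' hx hx1
          by_cases hx0 : e₂⁻¹ * x = 1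
          · exact ⟨false, true, by rw [inv_mul_eq_one] at hx0; simp [E, hx0]⟩
          · have := mul_mem_of_not_mem h (i := 0) (by norm_num) h1 (fun e => h1' (mem_Zs0.1 e)) hx'
              (fun e => hx0 (mem_Zs0.1 e))
            rw [mem_Zs0, inv_mul_eq_one] at this
            refine ⟨true, true, ?_⟩
            show x = (bif true then e₁ else 1) * (bif true then e₂ else 1)
            rw [cond_true, cond_true, h12, this, mul_inv_cancel_left]
      obtain ⟨c, b, hcb⟩ := z2 _ (inv_mem hm)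
      refine ⟨c, b, ?_⟩
      rw [← hcb, mul_inv_rev, inv_inv]
      rw [mul_assoc, Z3_comm h hy (Z3_le h h3), ← mul_assoc, inv_mul_cancel, one_mul]
    have e : t * y * t⁻¹ = E (xor (xor c ((ψ t).1 && b)) (ψ t).2.2) (xor b (ψ t).2.1) * e₃ := by
      rw [hcb, show t * (E c b * e₃) * t⁻¹ = (t * E c b * t⁻¹) * (t * e₃ * t⁻¹) by group, conjE, hp3,
        ← mul_assoc, Emul]
    rw [hfix, hcb] at e
    obtain ⟨d1, d2⟩ := Einj' _ _ _ _ (mul_right_cancel e)
    revert d1 d2
    cases c <;> cases b <;> cases (ψ t).1 <;> cases (ψ t).2.1 <;> cases (ψ t).2.2 <;> simp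

theorem quotient_dihedral [W.Normal] : Nonempty (T ⧸ W ≃* DihedralGroup 4) := by
  obtain ⟨ψ, hlaw, hiff, hsurj, -⟩ := exists_coords h
  let f : T →* DihedralGroup 4 := MonoidHom.mk' (fun t => toD (ψ t)) fun t u => by
    rw [hlaw, toD_op]
  have hker : f.ker = W := by
    ext t
    rw [MonoidHom.mem_ker, ← map_one f]
    show toD (ψ t) = toD (ψ 1) ↔ _
    rw [toD_injective.eq_iff, hiff, mul_one, inv_mem_iff]
  have hsD : Function.Surjective toD := by
    intro d; revert d; decide +kernel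
  have hfs : Function.Surjective f := fun d => by
    obtain ⟨x, rfl⟩ := hsD d
    obtain ⟨t, rfl⟩ := hsurj x
    exact ⟨t, rfl⟩
  exact ⟨(QuotientGroup.quotientMulEquivOfEq hker.symm).trans
    (QuotientGroup.quotientKerEquivOfSurjective f hfs)⟩

open Classical in
/-- The functional on `Z₃` killing `Z₂`. -/
noncomputable def fz (x : T) : C2 := if x ∈ Zs T 2 then 1 else cc

theorem fz_mul {x y : T} (hx : x ∈ Zs T 3) (hy : y ∈ Zs T 3) : fz (x * y) = fz x * fz y := by
  classical
  unfold fz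
  by_cases a : x ∈ Zs T 2 <;> by_cases b : y ∈ Zs T 2
  · simp [a, b, mul_mem a b]
  · simp [a, b, show x * y ∉ Zs T 2 from fun hh => b ((Subgroup.mul_mem_cancel_left _ a).1 hh)]
  · simp [a, b, show x * y ∉ Zs T 2 from fun hh => a ((Subgroup.mul_mem_cancel_right _ b).1 hh)]
  · have := mul_mem_of_not_mem h (i := 2) (by norm_num) hx a hy b
    rw [inv_eq_of_mul_eq_one_right (sq_Z3 h hx)] at this
    simp [a, b, this, C2_mul_self]

theorem fz_conj (t x : T) : fz (t * x * t⁻¹) = fz x := by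
  classical
  unfold fz
  have : t * x * t⁻¹ ∈ Zs T 2 ↔ x ∈ Zs T 2 :=
    ⟨fun hh => by
      have := (inferInstance : (Zs T 2).Normal).conj_mem _ hh t⁻¹
      simpa [mul_assoc] using this, fun hh => (inferInstance : (Zs T 2).Normal).conj_mem _ hh t⟩
  simp [this]

theorem fz_one : fz (1 : T) = 1 := by simp [fz]

/-- The commutator form. -/
noncomputable def β (x y : T) : C2 := fz ⁅x, y⁆

theorem β_mul {x y y' : T} (hx : x ∈ W) (hy : y ∈ W) (hy' : y' ∈ W) :
    β (x : T) (y * y') = β x y * β x y' := by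
  have e : ⁅x, y * y'⁆ = ⁅x, y⁆ * (y * ⁅x, y'⁆ * y⁻¹) := by simp only [commutatorElement_def]; group
  unfold β
  rw [e, ← Z3_comm h (bracket_W h hx hy') hy, mul_inv_cancel_right,
    fz_mul h (bracket_W h hx hy) (bracket_W h hx hy')]

theorem β_symm {x y : T} (hx : x ∈ W) (hy : y ∈ W) : β y x = β x y := by
  unfold β
  rw [← commutatorElement_inv, inv_eq_of_mul_eq_one_right (sq_Z3 h (bracket_W h hx hy))]

theorem β_Z3 {x z : T} (hx : x ∈ W) (hz : z ∈ Zs T 3) : β x z = 1 := by
  unfold β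
  rw [commutatorElement_eq_one_iff_mul_comm.2 (Z3_comm h hz hx).symm, fz_one h]

theorem β_conj (t x y : T) : β (t * x * t⁻¹) (t * y * t⁻¹) = β x y := by
  unfold β
  rw [← conjugate_commutatorElement, fz_conj h]

theorem β_one (x : T) : β x 1 = 1 := by
  unfold β; rw [commutatorElement_one_right, fz_one h]

/-- The elements orthogonal to a set. -/
noncomputable def perp (S : Set T) (hS : S ⊆ W) : Subgroup T where
  carrier := {y | y ∈ W ∧ ∀ x ∈ S, β x y = 1}
  one_mem' := ⟨one_mem _, fun x _ => β_one h x⟩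
  mul_mem' := fun {y y'} hy hy' => ⟨mul_mem hy.1 hy'.1, fun x hx => by
    rw [β_mul h (hS hx) hy.1 hy'.1, hy.2 x hx, hy'.2 x hx, one_mul]⟩
  inv_mem' := fun {y} hy => ⟨inv_mem hy.1, fun x hx => by
    have := β_mul h (hS hx) hy.1 (inv_mem hy.1)
    rw [mul_inv_cancel, β_one h, hy.2 x hx, one_mul] at this
    exact this.symm⟩

/-- If `e ∈ Z₄` is central in `W`, the radical of the form is large. -/
theorem radical_large (hZ4 : Zs T 4 ≤ W) (hcen : ∀ e ∈ Zs T 4, ∀ w ∈ W, e * w = w * e) :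
    ∃ R : Subgroup T, R ≤ W ∧ 2 ^ 7 ≤ Nat.card R ∧ ∀ x ∈ R, ∀ y ∈ W, β x y = 1 := by
  classical
  haveI := W_normal h
  have hPhi := (main h).1
  have hWle : Zs T 3 ≤ W := Z3_le h
  set π := QuotientGroup.mk' (Zs T 3) with hπ
  set V := W.map π with hV
  haveI : V.Normal := Subgroup.Normal.map inferInstance π (QuotientGroup.mk'_surjective _)
  have hcomm : ∀ v w : V, v * w = w * v := by
    rintro ⟨_, x, hx, rfl⟩ ⟨_, y, hy, rfl⟩
    refine Subtype.ext ?_
    show π x * π y = π y * π x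
    rw [← commutatorElement_eq_one_iff_mul_comm, ← map_commutatorElement, hπ,
      QuotientGroup.mk'_apply, QuotientGroup.eq_one_iff]
    exact bracket_W h hx hy
  letI : CommGroup V := { (inferInstance : Group V) with mul_comm := hcomm }
  have hsq : ∀ v : V, v * v = 1 := by
    rintro ⟨_, x, hx, rfl⟩
    refine Subtype.ext ?_
    show π x * π x = 1
    rw [← map_mul, hπ, QuotientGroup.mk'_apply, QuotientGroup.eq_one_iff]
    exact sq_W h hx
  let α : T ⧸ W →* MulAut V := QuotientGroup.lift W ((MulAut.conjNormal (H := V)).comp π) (by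
    intro t ht
    rw [MonoidHom.mem_ker]
    ext v
    show π t * v.1 * (π t)⁻¹ = v.1
    exact mul_inv_eq_iff_eq_mul.2 (congrArg Subtype.val (hcomm ⟨π t, mem_map_of_mem π ht⟩ v)))
  obtain ⟨e, he4, hek⟩ : ∃ e, e ∈ Zs T 4 ∧ e ∉ Zs T 3 := by
    by_contra! hle
    have := Subgroup.card_le_of_le hle
    rw [card_Zs h le_rfl, card_Zs h (show 3 ≤ 4 by norm_num)] at this
    norm_num at this
  have heW : e ∈ W := hZ4 he4
  have heV : π e ∈ V := mem_map_of_mem π heW
  have hinv : ∀ N : Subgroup V, (∀ g : T ⧸ W, ∀ v ∈ N, α g v ∈ N) → N ≠ ⊥ → (⟨π e, heV⟩ : V) ∈ N := by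
    intro N hNinv hNne
    set M := (N.map V.subtype).comap π with hM
    haveI : M.Normal := ⟨fun m hm t => by
      obtain ⟨v, hv, hve⟩ := hm
      refine ⟨α (t : T ⧸ W) v, hNinv _ v hv, ?_⟩
      show π t * v.1 * (π t)⁻¹ = π (t * m * t⁻¹)
      rw [map_mul, map_mul, map_inv, show (v : T ⧸ Zs T 3) = π m from hve]⟩
    have hMk : ¬ M ≤ Zs T 3 := fun hle => hNne (by
      rw [eq_bot_iff]
      intro v hv
      obtain ⟨m, hm⟩ := QuotientGroup.mk'_surjective (Zs T 3) v.1
      rw [mem_bot]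
      refine Subtype.ext ?_
      rw [← hm, QuotientGroup.mk'_apply, OneMemClass.coe_one, QuotientGroup.eq_one_iff]
      exact hle ⟨v, hv, hm.symm⟩)
    obtain ⟨v, hv, hve⟩ := Zs_le_of_not_le h 3 le_rfl hMk he4
    exact (Subtype.ext hve : v = ⟨π e, heV⟩) ▸ hv
  have hVcard : Nat.card V = 2 ^ 8 := by
    have e1 : V.index = W.index := Subgroup.index_map_eq _ (QuotientGroup.mk'_surjective _)
      (by rw [QuotientGroup.ker_mk']; exact hWle)
    have e2 := V.card_mul_index
    have e4 := Subgroup.card_eq_card_quotient_mul_card_subgroup (Zs T 3)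
    rw [e1, (main h).2.1] at e2
    rw [(main h).2.2.2, card_Zs h (show 3 ≤ 4 by norm_num)] at e4
    norm_num at e4 ⊢
    omega
  have hG : Nat.card (T ⧸ W) = 8 := by rw [← Subgroup.index_eq_card, (main h).2.1]
  haveI : Fintype (T ⧸ W) := Fintype.ofFinite _
  obtain ⟨v₀, hgen, hprod, hfixcard⟩ := RegularModule65.regular α hinv hsq (fun he => hek
    ((QuotientGroup.eq_one_iff e).1 (congrArg Subtype.val he))) (by rw [hVcard, hG])
  obtain ⟨w₀, hw₀, hw₀v⟩ := v₀.2
  -- the form against `w₀`, as a functional on `V`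
  let r : W →* V := π.subgroupMap W
  have hr : Function.Surjective r := π.subgroupMap_surjective W
  let χW : W →* C2 :=
    { toFun := fun y => β w₀ y
      map_one' := β_one h w₀
      map_mul' := fun y y' => β_mul h hw₀ y.2 y'.2 }
  have hkerχ : r.ker ≤ χW.ker := fun y hy => by
    have : (y : T) ∈ Zs T 3 := (QuotientGroup.eq_one_iff (y : T)).1 (congrArg Subtype.val hy)
    exact β_Z3 h hw₀ this
  let χ : V →* C2 := r.liftOfSurjective hr ⟨χW, hkerχ⟩
  have hχ : ∀ (y : T) (hy : y ∈ W), χ ⟨π y, mem_map_of_mem π hy⟩ = β w₀ y := fun y hy => by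
    have := MonoidHom.liftOfRightInverse_comp_apply r (Function.surjInv hr)
      (Function.rightInverse_surjInv hr) ⟨χW, hkerχ⟩ ⟨y, hy⟩
    exact this
  set cT : T → C2 := fun t => β w₀ (t * w₀ * t⁻¹) with hcT
  have hconjW : ∀ t, ∀ w ∈ W, t * w * t⁻¹ ∈ W := fun t w hw =>
    (inferInstance : W.Normal).conj_mem w hw t
  have hcT' : ∀ t : T, χ (α (t : T ⧸ W) v₀) = cT t := fun t => by
    have e1 : α (t : T ⧸ W) v₀ = ⟨π (t * w₀ * t⁻¹), mem_map_of_mem π (hconjW t w₀ hw₀)⟩ :=
      Subtype.ext (by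
        show π t * v₀.1 * (π t)⁻¹ = π (t * w₀ * t⁻¹)
        rw [← hw₀v, map_mul, map_mul, map_inv])
    rw [e1, hχ _ (hconjW t w₀ hw₀)]
  obtain ⟨ψ, hlaw, hiff, hsurj, hfix⟩ := exists_coords h
  have hcoset : ∀ t u, ψ t = ψ u → cT t = cT u := fun t u e => by
    rw [← hcT', ← hcT', (QuotientGroup.eq.2 ((hiff t u).1 e) : (t : T ⧸ W) = (u : T ⧸ W))]
  have hψ1 : ψ 1 = (false, false, false) := by
    have := hlaw 1 1
    rw [one_mul] at this
    revert this
    generalize ψ 1 = x
    revert x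
    decide
  choose rep hrep using hsurj
  set d : B3 → C2 := fun x => cT (rep x) with hd
  have hdψ : ∀ t, cT t = d (ψ t) := fun t => hcoset _ _ (hrep _).symm
  have hd0 : d (false, false, false) = 1 := by
    rw [← hψ1, ← hdψ, hcT]
    show β w₀ (1 * w₀ * 1⁻¹) = 1
    rw [one_mul, inv_one, mul_one]
    unfold β
    rw [commutatorElement_self, fz_one h]
  have hinvd : ∀ t, cT t⁻¹ = cT t := fun t => by
    show β w₀ (t⁻¹ * w₀ * (t⁻¹)⁻¹) = β w₀ (t * w₀ * t⁻¹)
    rw [← β_conj h t, show t * (t⁻¹ * w₀ * (t⁻¹)⁻¹) * t⁻¹ = w₀ by group,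
      β_symm h hw₀ (hconjW t w₀ hw₀)]
  have hbad : ∀ t, t * t ∈ W → cT t ≠ 1 →
      (ψ t).2.1 = false ∧ ((ψ t).1 = false → (ψ t).2.2 = false) := by
    intro t htt hne
    set y := ⁅w₀, t * w₀ * t⁻¹⁆ with hy
    have hy3 : y ∈ Zs T 3 := bracket_W h hw₀ (hconjW t w₀ hw₀)
    refine hfix t y hy3 (fun hy2 => hne ?_) ?_
    · show fz _ = 1
      rw [← hy]; simp [fz, hy2]
    · have hz : ⁅t * t, w₀⁆ ∈ Zs T 3 := bracket_W h htt hw₀
      have e1 : t * (t * w₀ * t⁻¹) * t⁻¹ = ⁅t * t, w₀⁆ * w₀ := by rw [commutatorElement_def]; group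
      rw [hy, conjugate_commutatorElement, e1]
      set u := t * w₀ * t⁻¹
      have hu : u ∈ W := hconjW t w₀ hw₀
      have e2 : ⁅u, ⁅t * t, w₀⁆ * w₀⁆ = ⁅u, w₀⁆ := by
        rw [show ⁅u, ⁅t * t, w₀⁆ * w₀⁆ = ⁅u, ⁅t * t, w₀⁆⁆ * (⁅t * t, w₀⁆ * ⁅u, w₀⁆ * ⁅t * t, w₀⁆⁻¹) by
            simp only [commutatorElement_def]; group,
          commutatorElement_eq_one_iff_mul_comm.2 (Z3_comm h hz hu).symm, one_mul,
          Z3_comm h hz (Z3_le h (bracket_W h hu hw₀)), mul_inv_cancel_right]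
      rw [e2, ← commutatorElement_inv, inv_eq_of_mul_eq_one_right (sq_Z3 h (bracket_W h hw₀ hu))]
  have hsqW : ∀ x : B3, op x x = (false, false, false) → rep x * rep x ∈ W := fun x hx => by
    have : ψ 1 = ψ (rep x * rep x) := by rw [hψ1, hlaw, hrep, hx]
    have := (hiff _ _).1 this
    rwa [inv_one, one_mul] at this
  have hone : ∀ x : B3, op x x = (false, false, false) →
      ¬ (x.2.1 = false ∧ (x.1 = false → x.2.2 = false)) → d x = 1 := fun x hx hn => by
    by_contra hne
    exact hn (by have := hbad (rep x) (hsqW x hx) hne; rwa [hrep] at this)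
  have hpair : d (true, true, false) = d (true, true, true) := by
    have e : ψ (rep (true, true, false))⁻¹ = (true, true, true) := by
      have := hlaw (rep (true, true, false)) (rep (true, true, false))⁻¹
      rw [mul_inv_cancel, hψ1, hrep] at this
      revert this
      generalize ψ (rep (true, true, false))⁻¹ = x
      revert x
      decide
    show cT _ = _
    rw [← hinvd, hdψ, e]
  have htotal : ∏ x : B3, d x = 1 := by
    have hbij : Function.Bijective (fun x : B3 => (rep x : T ⧸ W)) := by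
      refine (Nat.bijective_iff_injective_and_card _).2 ⟨fun x y e => ?_, by rw [hG]; simp⟩
      rw [← hrep x, ← hrep y]
      exact (hiff _ _).2 (QuotientGroup.eq.1 e)
    have e1 : ∏ x : B3, d x = ∏ g : T ⧸ W, χ (α g v₀) :=
      Fintype.prod_equiv (Equiv.ofBijective _ hbij) _ _ fun x => (hcT' (rep x)).symm
    rw [e1, ← map_prod, hprod, hχ e heW]
    unfold β
    rw [commutatorElement_eq_one_iff_mul_comm.2 (hcen e he4 w₀ hw₀).symm, fz_one h]
  have hinvar : ∀ x, d (op (false, false, true) x) = d x := by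
    have a1 : d (false, false, true) = 1 := hone _ (by decide) (by decide)
    have a2 : d (false, true, false) = 1 := hone _ (by decide) (by decide)
    have a3 : d (false, true, true) = 1 := hone _ (by decide) (by decide)
    have a4 : d (true, false, false) = d (true, false, true) := by
      simp only [Fintype.prod_prod_type, Fintype.prod_bool] at htotal
      rw [hd0, a1, a2, a3, hpair] at htotal
      revert htotal
      generalize d (true, true, true) = p
      generalize d (true, false, true) = q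
      generalize d (true, false, false) = r
      revert p q r
      decide
    rintro ⟨(_|_), (_|_), (_|_)⟩ <;>
      first
        | exact a1.trans hd0.symm
        | exact hd0.trans a1.symm
        | exact a2.trans a3.symm
        | exact a3.trans a2.symm
        | exact a4
        | exact a4.symm
        | exact hpair
        | exact hpair.symm
  obtain ⟨z, hz⟩ : ∃ z, ψ z = (false, false, true) := ⟨_, hrep _⟩
  have hzz : ∀ g k, cT ((z * g)⁻¹ * k) = cT (g⁻¹ * k) := fun g k => by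
    have hzi : ψ z⁻¹ = (false, false, true) := by
      have := hlaw z z⁻¹
      rw [mul_inv_cancel, hψ1, hz] at this
      revert this
      generalize ψ z⁻¹ = x
      revert x
      decide
    have e : ψ ((z * g)⁻¹ * k) = op (false, false, true) (ψ (g⁻¹ * k)) := by
      rw [mul_inv_rev, hlaw, hlaw, hlaw, hzi]
      generalize ψ g⁻¹ = a
      generalize ψ k = b
      revert a b
      decide
    rw [hdψ, e, hinvar, ← hdψ]
  -- the conjugation by `z` fixes the form
  have hS : ∀ w ∈ W, ∀ x ∈ W, β x (z * w * z⁻¹) = β x w := by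
    let S : Subgroup T :=
      { carrier := {w | w ∈ W ∧ ∀ x ∈ W, β x (z * w * z⁻¹) = β x w}
        one_mem' := ⟨one_mem _, fun x _ => by rw [mul_one, mul_inv_cancel]⟩
        mul_mem' := fun {w w'} hw hw' => ⟨mul_mem hw.1 hw'.1, fun x hx => by
          rw [show z * (w * w') * z⁻¹ = (z * w * z⁻¹) * (z * w' * z⁻¹) by group,
            β_mul h hx (hconjW z w hw.1) (hconjW z w' hw'.1), hw.2 x hx, hw'.2 x hx,
            β_mul h hx hw.1 hw'.1]⟩
        inv_mem' := fun {w} hw => ⟨inv_mem hw.1, fun x hx => by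
          have a := β_mul h hx (hconjW z w hw.1) (hconjW z w⁻¹ (inv_mem hw.1))
          have b := β_mul h hx hw.1 (inv_mem hw.1)
          rw [mul_inv_cancel, β_one h] at b
          rw [show z * w * z⁻¹ * (z * w⁻¹ * z⁻¹) = 1 by group, β_one h, hw.2 x hx, b] at a
          exact (mul_left_cancel a).symm⟩ }
    -- a subgroup containing the orbit of `w₀` and `Z₃` is everything
    have hall : ∀ S' : Subgroup T, Zs T 3 ≤ S' → (∀ t, t * w₀ * t⁻¹ ∈ S') → W ≤ S' := by
      intro S' hZS horb w hw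
      have hle : closure (Set.range fun g : T ⧸ W => α g v₀) ≤ (S'.map π).comap V.subtype := by
        rw [closure_le]
        rintro _ ⟨g, rfl⟩
        obtain ⟨t, rfl⟩ := QuotientGroup.mk_surjective g
        refine ⟨t * w₀ * t⁻¹, horb t, ?_⟩
        show π (t * w₀ * t⁻¹) = π t * v₀.1 * (π t)⁻¹
        rw [← hw₀v, map_mul, map_mul, map_inv]
      rw [hgen] at hle
      obtain ⟨s, hs, hse⟩ := hle (mem_top (⟨π w, mem_map_of_mem π hw⟩ : V))
      have := mul_mem hs (hZS (QuotientGroup.eq.1 hse))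
      rwa [mul_inv_cancel_left] at this
    have key : ∀ g k, β (k * w₀ * k⁻¹) (z * (g * w₀ * g⁻¹) * z⁻¹) =
        β (k * w₀ * k⁻¹) (g * w₀ * g⁻¹) := by
      intro g k
      have conv : ∀ u, β (k * w₀ * k⁻¹) (u * w₀ * u⁻¹) = cT (u⁻¹ * k) := fun u => by
        rw [← β_conj h u⁻¹, show u⁻¹ * (u * w₀ * u⁻¹) * u⁻¹⁻¹ = w₀ by group,
          show u⁻¹ * (k * w₀ * k⁻¹) * u⁻¹⁻¹ = u⁻¹ * k * w₀ * (u⁻¹ * k)⁻¹ by group,
          β_symm h hw₀ (hconjW _ w₀ hw₀)]
      rw [show z * (g * w₀ * g⁻¹) * z⁻¹ = z * g * w₀ * (z * g)⁻¹ by group, conv, conv, hzz]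
    have hWS : W ≤ S := by
      refine hall S (fun y hy => ⟨hWle hy, fun x hx => ?_⟩) (fun g => ⟨hconjW g w₀ hw₀, ?_⟩)
      · rw [β_Z3 h hx hy, β_Z3 h hx ((inferInstance : (Zs T 3).Normal).conj_mem y hy z)]
      · intro x hx
        let X : Subgroup T :=
          { carrier := {x | x ∈ W ∧ β x (z * (g * w₀ * g⁻¹) * z⁻¹) = β x (g * w₀ * g⁻¹)}
            one_mem' := ⟨one_mem _, by
              rw [β_symm h (hconjW z _ (hconjW g w₀ hw₀)) (one_mem _),
                β_symm h (hconjW g w₀ hw₀) (one_mem _), β_one h, β_one h]⟩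
            mul_mem' := fun {x x'} hx hx' => ⟨mul_mem hx.1 hx'.1, by
              have m1 := hconjW z _ (hconjW g w₀ hw₀)
              have m2 := hconjW g w₀ hw₀
              rw [β_symm h m1 (mul_mem hx.1 hx'.1), β_mul h m1 hx.1 hx'.1, ← β_symm h m1 hx.1,
                ← β_symm h m1 hx'.1, hx.2, hx'.2, β_symm h m2 hx.1, β_symm h m2 hx'.1,
                ← β_mul h m2 hx.1 hx'.1, β_symm h m2 (mul_mem hx.1 hx'.1)]⟩
            inv_mem' := fun {x} hx => ⟨inv_mem hx.1, by
              have m1 := hconjW z _ (hconjW g w₀ hw₀)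
              have m2 := hconjW g w₀ hw₀
              have a := β_mul h m1 hx.1 (inv_mem hx.1)
              have b := β_mul h m2 hx.1 (inv_mem hx.1)
              rw [mul_inv_cancel, β_one h] at a b
              rw [← β_symm h m1 hx.1, hx.2, β_symm h m2 hx.1, b] at a
              rw [β_symm h m1 (inv_mem hx.1), β_symm h m2 (inv_mem hx.1)]
              exact (mul_left_cancel a).symm⟩ }
        exact (hall X (fun y hy => ⟨hWle hy, by
          rw [β_symm h (hconjW z _ (hconjW g w₀ hw₀)) (hWle hy), β_Z3 h (hconjW z _ (hconjW g w₀ hw₀)) hy,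
            β_symm h (hconjW g w₀ hw₀) (hWle hy), β_Z3 h (hconjW g w₀ hw₀) hy]⟩)
          (fun k => ⟨hconjW k w₀ hw₀, key g k⟩) hx).2
    exact fun w hw => (hWS hw).2
  -- the radical
  set R := perp h (W : Set T) subset_rfl with hR
  have hRW : R ≤ W := fun y hy => hy.1
  have hmemR : ∀ w ∈ W, ⁅z, w⁆ ∈ R := by
    intro w hw
    have e : ⁅z, w⁆ = z * w * z⁻¹ * w⁻¹ := commutatorElement_def z w
    refine ⟨by rw [e]; exact mul_mem (hconjW z w hw) (inv_mem hw), fun x hx => ?_⟩
    rw [e, β_mul h hx (hconjW z w hw) (inv_mem hw), hS w hw x hx, ← β_mul h hx hw (inv_mem hw),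
      mul_inv_cancel, β_one h]
  let zb : T ⧸ W := z
  have hzord : orderOf zb = 2 := by
    refine orderOf_eq_prime (hp := ⟨Nat.prime_two⟩) ?_ ?_
    · rw [pow_two, ← QuotientGroup.mk_mul, QuotientGroup.eq_one_iff]
      have : ψ 1 = ψ (z * z) := by rw [hψ1, hlaw, hz]; decide
      have := (hiff _ _).1 this
      rwa [inv_one, one_mul] at this
    · intro e
      have : z⁻¹ * 1 ∈ W := by rw [mul_one, inv_mem_iff]; exact (QuotientGroup.eq_one_iff z).1 e
      have := (hiff z 1).2 this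
      rw [hz, hψ1] at this
      exact absurd this (by decide)
  have hidx4 : (zpowers zb).index = 4 := by
    have := (zpowers zb).card_mul_index
    rw [Nat.card_zpowers, hzord, hG] at this
    omega
  let η : V →* V :=
    { toFun := fun v => α zb v * v
      map_one' := by rw [map_one, one_mul]
      map_mul' := fun v v' => by rw [map_mul, mul_mul_mul_comm] }
  have hker : Nat.card η.ker ≤ 2 ^ 4 := by
    refine le_trans ?_ (hidx4 ▸ hfixcard zb)
    refine Nat.card_le_card_of_injective (fun v : η.ker => (⟨v.1, ?_⟩ : {v : V // α zb v = v})) ?_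
    · have : α zb v.1 * v.1 = 1 := v.2
      exact mul_right_cancel (this.trans (hsq v.1).symm)
    · intro a b e
      exact Subtype.ext (congrArg (fun x : {v : V // α zb v = v} => x.1) e)
  have hrange : 2 ^ 4 ≤ Nat.card η.range := by
    have h1 := Subgroup.card_eq_card_quotient_mul_card_subgroup η.ker
    rw [Nat.card_congr (QuotientGroup.quotientKerEquivRange η).toEquiv, hVcard] at h1
    by_contra hlt
    have : Nat.card η.range * Nat.card η.ker ≤ 15 * 2 ^ 4 := Nat.mul_le_mul (by norm_num at hlt ⊢; omega) hker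
    rw [← h1] at this
    norm_num at this
  have hZR : Zs T 3 ≤ R := fun y hy => ⟨hWle hy, fun x hx => β_Z3 h hx hy⟩
  have hRmap : Nat.card η.range ≤ Nat.card ↥(R.map π) := by
    rw [← Subgroup.card_map_of_injective V.subtype_injective]
    refine Subgroup.card_le_of_le ?_
    rintro _ ⟨_, ⟨v, rfl⟩, rfl⟩
    obtain ⟨w, hw, hwv⟩ := v.2
    refine ⟨⁅z, w⁆, hmemR w hw, ?_⟩
    show π ⁅z, w⁆ = π z * v.1 * (π z)⁻¹ * v.1
    rw [← hwv, commutatorElement_def, map_mul, map_mul, map_mul, map_inv, map_inv,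
      inv_eq_of_mul_eq_one_right (show π w * π w = 1 from congrArg Subtype.val (hsq ⟨π w, mem_map_of_mem π hw⟩))]
  refine ⟨R, hRW, ?_, fun x hx y hy => by rw [β_symm h hy hx.1]; exact hx.2 y hy⟩
  have e1 : (R.map π).index = R.index := Subgroup.index_map_eq _ (QuotientGroup.mk'_surjective _)
    (by rw [QuotientGroup.ker_mk']; exact hZR)
  have e2 := (R.map π).card_mul_index
  have e3 := R.card_mul_index
  have e4 := Subgroup.card_eq_card_quotient_mul_card_subgroup (Zs T 3)
  rw [card_Zs h (show 3 ≤ 4 by norm_num)] at e4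
  rw [e1] at e2
  have e5 : Nat.card R = 2 ^ 3 * Nat.card ↥(R.map π) := by
    refine Nat.eq_of_mul_eq_mul_right (Nat.pos_of_ne_zero Subgroup.index_ne_zero_of_finite : 0 < R.index) ?_
    rw [e3, e4, mul_assoc, e2, mul_comm]
  rw [e5, show (2 : ℕ) ^ 7 = 2 ^ 3 * 2 ^ 4 by norm_num]
  exact Nat.mul_le_mul_left _ (hrange.trans hRmap)

theorem β_ne_bot {A : Subgroup T} (hA : A ≤ W) (hcard : 2 ^ 9 ≤ Nat.card A) :
    ∃ x ∈ A, ∃ y ∈ A, β x y ≠ 1 := by
  by_contra! hno
  obtain ⟨e₁, e₂, e₃, he⟩ := exists_es h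
  refine not_small h hA hcard (Subgroup.upperCentralSeries_mono T (by norm_num : 2 ≤ 3))
    he.2.2.2.2.1 he.2.2.2.2.2
    (fun x hx hx2 => mul_mem_of_not_mem h (i := 2) (by norm_num) hx hx2 he.2.2.2.2.1 he.2.2.2.2.2)
    (fun x hx y hy => ?_)
  by_contra hne
  have : fz ⁅x, y⁆ = 1 := hno x hx y hy
  simp [fz, hne] at this
  exact cc_ne_one this

theorem not_Z4_central : ¬ (Zs T 4 ≤ W ∧ ∀ e ∈ Zs T 4, ∀ w ∈ W, e * w = w * e) := by
  rintro ⟨hZ4, hcen⟩
  obtain ⟨R, hRW, hRcard, hRβ⟩ := radical_large h hZ4 hcen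
  by_cases hbig : 2 ^ 9 ≤ Nat.card R
  · obtain ⟨x, hx, y, hy, hne⟩ := β_ne_bot h hRW hbig
    exact hne (hRβ x hx y (hRW hy))
  have hex : ∀ P : Subgroup T, ∃ k, Nat.card P = 2 ^ k := fun P =>
    haveI : Fact (Nat.Prime 2) := ⟨Nat.prime_two⟩
    IsPGroup.iff_card.1 (h.isP.to_subgroup P)
  have htwo : ∀ P Q : Subgroup T, P ≤ Q → P ≠ Q → 2 * Nat.card P ≤ Nat.card Q := by
    intro P Q hle hne
    obtain ⟨a, ha⟩ := hex P
    obtain ⟨b, hb⟩ := hex Q
    have h1 := Subgroup.card_le_of_le hle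
    rw [ha, hb, Nat.pow_le_pow_iff_right (by norm_num)] at h1
    have hlt : a < b := lt_of_le_of_ne h1 fun e => hne (Subgroup.eq_of_le_of_card_ge hle (by rw [ha, hb, e]))
    rw [ha, hb, ← pow_succ']
    exact Nat.pow_le_pow_right (by norm_num) hlt
  obtain ⟨x, hx, hxR⟩ : ∃ x ∈ W, x ∉ R := by
    by_contra! hle
    have := Subgroup.card_le_of_le hle
    rw [(main h).2.2.1] at this
    norm_num at this hbig
    omega
  have hself : ∀ u : T, β u u = 1 := fun u => by unfold β; rw [commutatorElement_self, fz_one h]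
  set P := perp h ({x} : Set T) (Set.singleton_subset_iff.2 hx) with hP
  have hPcard : Nat.card W ≤ 2 * Nat.card P := by
    let φ : W →* C2 :=
      { toFun := fun y => β x y
        map_one' := β_one h x
        map_mul' := fun y y' => β_mul h hx y.2 y'.2 }
    have h1 := Subgroup.card_eq_card_quotient_mul_card_subgroup φ.ker
    rw [Nat.card_congr (QuotientGroup.quotientKerEquivRange φ).toEquiv] at h1
    have h2 : Nat.card φ.range ≤ 2 := by
      refine (Subgroup.card_le_card_group _).trans ?_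
      rw [Nat.card_eq_fintype_card]; rfl
    have h3 : Nat.card φ.ker ≤ Nat.card P := by
      refine Nat.card_le_card_of_injective (fun y : φ.ker => (⟨y.1.1, y.1.2, fun u hu => by
        rw [Set.mem_singleton_iff.1 hu]; exact y.2⟩ : P)) ?_
      intro a b e
      exact Subtype.ext (Subtype.ext (congrArg (fun p : P => p.1) e))
    rw [h1]
    exact Nat.mul_le_mul h2 h3
  set A₁ := R ⊔ zpowers x with hA₁
  have hA₁W : A₁ ≤ W := sup_le hRW (zpowers_le.2 hx)
  have hA₁P : A₁ ≤ P := sup_le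
    (fun r hr => ⟨hRW hr, fun u hu => by
      rw [Set.mem_singleton_iff.1 hu, β_symm h (hRW hr) hx]; exact hRβ r hr x hx⟩)
    (zpowers_le.2 ⟨hx, fun u hu => by rw [Set.mem_singleton_iff.1 hu]; exact hself x⟩)
  have hA₁card : 2 * Nat.card R ≤ Nat.card A₁ :=
    htwo _ _ le_sup_left fun e => hxR (by rw [e]; exact mem_sup_right (mem_zpowers x))
  have extend : ∀ (A : Subgroup T) (y : T), A ≤ W → y ∈ W → (∀ a ∈ A, ∀ b ∈ A, β a b = 1) →
      (∀ a ∈ A, β y a = 1) → ∀ a ∈ A ⊔ zpowers y, ∀ b ∈ A ⊔ zpowers y, β a b = 1 := by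
    intro A y hA hy hAA hyA
    have hsub : A ⊔ zpowers y ≤ W := sup_le hA (zpowers_le.2 hy)
    have h1 : ∀ b ∈ A ⊔ zpowers y, (∀ a ∈ A, β a b = 1) ∧ β y b = 1 := by
      have hs : (A : Set T) ∪ {y} ⊆ W := Set.union_subset hA (Set.singleton_subset_iff.2 hy)
      have hle : A ⊔ zpowers y ≤ perp h ((A : Set T) ∪ {y}) hs := by
        refine sup_le (fun b hb => ⟨hA hb, ?_⟩) (zpowers_le.2 ⟨hy, ?_⟩)
        · rintro u (hu | hu)
          · exact hAA u hu b hb
          · rw [Set.mem_singleton_iff.1 hu]; exact hyA b hb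
        · rintro u (hu | hu)
          · rw [β_symm h hy (hA hu)]; exact hyA u hu
          · rw [Set.mem_singleton_iff.1 hu]; exact hself y
      intro b hb
      exact ⟨fun a ha => (hle hb).2 a (Or.inl ha), (hle hb).2 y (Or.inr rfl)⟩
    intro a ha b hb
    have hle2 : A ⊔ zpowers y ≤ perp h ({b} : Set T) (Set.singleton_subset_iff.2 (hsub hb)) := by
      refine sup_le (fun a' ha' => ⟨hA ha', ?_⟩) (zpowers_le.2 ⟨hy, ?_⟩)
      · intro u hu
        rw [Set.mem_singleton_iff.1 hu, β_symm h (hA ha') (hsub hb)]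
        exact (h1 b hb).1 a' ha'
      · intro u hu
        rw [Set.mem_singleton_iff.1 hu, β_symm h hy (hsub hb)]
        exact (h1 b hb).2
    rw [β_symm h (hsub hb) (hsub ha)]
    exact (hle2 ha).2 b rfl
  have hA₁β := extend R x hRW hx (fun a ha b hb => hRβ a ha b (hRW hb))
    (fun a ha => by rw [β_symm h (hRW ha) hx]; exact hRβ a ha x hx)
  have hW11 := (main h).2.2.1
  by_cases hPA : P ≤ A₁
  · have := Subgroup.card_le_of_le hPA
    obtain ⟨x', hx', y', hy', hne⟩ := β_ne_bot h hA₁W (by rw [hW11] at hPcard; norm_num at hPcard ⊢; omega)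
    exact hne (hA₁β x' hx' y' hy')
  · obtain ⟨y, hyP, hyA⟩ := SetLike.not_le_iff_exists.1 hPA
    have hy : y ∈ W := hyP.1
    have hyA₁ : ∀ a ∈ A₁, β y a = 1 := by
      have hle : A₁ ≤ perp h ({y} : Set T) (Set.singleton_subset_iff.2 hy) :=
        sup_le (fun r hr => ⟨hRW hr, fun u hu => by
          rw [Set.mem_singleton_iff.1 hu, β_symm h (hRW hr) hy]; exact hRβ r hr y hy⟩)
          (zpowers_le.2 ⟨hx, fun u hu => by
            rw [Set.mem_singleton_iff.1 hu, β_symm h hx hy]; exact hyP.2 x rfl⟩)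
      exact fun a ha => (hle ha).2 y rfl
    have hA₂β := extend A₁ y hA₁W hy hA₁β hyA₁
    have hc := htwo A₁ (A₁ ⊔ zpowers y) le_sup_left fun e => hyA (by rw [e]; exact mem_sup_right (mem_zpowers y))
    obtain ⟨x', hx', y', hy', hne⟩ := β_ne_bot h (sup_le hA₁W (zpowers_le.2 hy))
      (A := A₁ ⊔ zpowers y) (by norm_num at hRcard ⊢; omega)
    exact hne (hA₂β x' hx' y' hy')

theorem center_W : (center W).map W.subtype = Zs T 3 := by
  haveI := W_normal h
  haveI : ((center W).map W.subtype).Normal := ConjAct.normal_of_characteristic_of_normal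
  refine le_antisymm ?_ ?_
  · by_contra hne
    have hle := Zs_le_of_not_le h 3 le_rfl hne
    refine not_Z4_central h ⟨hle.trans (map_subtype_le _), fun e he w hw => ?_⟩
    obtain ⟨e', he', rfl⟩ := hle he
    exact (congrArg Subtype.val (mem_center_iff.1 he' ⟨w, hw⟩)).symm
  · intro x hx
    exact ⟨⟨x, Z3_le h hx⟩, mem_center_iff.2 fun w => Subtype.ext (Z3_comm h hx w.2).symm, rfl⟩

end Cfsg.Agent.UpperFourCenter65
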