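import Mathlib
import Cfsg.Prelude.Def_Solvable
import Cfsg.Agent.Lib.ComponentsFitting
import Cfsg.Agent.Lib.CNGlobal
import Cfsg.Agent.Lib.HallSchmidt

/-! A nilpotency criterion for terms of the lower central series: the solvable case. -/

set_option autoImplicit false
set_option linter.style.haveILetI false
set_option linter.unusedSectionVars false

open Cfsg Subgroup
open scoped commutatorElement

namespace Cfsg.Agent.ValueCriterion67

open Cfsg.Agent.ComponentsCores Cfsg.Agent.ComponentsFitting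

variable {G : Type*} [Group G]

/-- Left-normed commutator values of length `k + 1`. -/
def IsVal : ℕ → G → Prop
  | 0, _ => True
  | k + 1, x => ∃ a b, IsVal k a ∧ x = ⁅a, b⁆

theorem isVal_of_succ : ∀ {k : ℕ} {x : G}, IsVal (k + 1) x → IsVal k x
  | 0, _, _ => trivial
  | _ + 1, _, ⟨a, b, ha, hx⟩ => ⟨a, b, isVal_of_succ ha, hx⟩

theorem isVal_map {H : Type*} [Group H] (f : G →* H) : ∀ {k : ℕ} {x : G}, IsVal k x → IsVal k (f x)
  | 0, _, _ => trivial
  | _ + 1, _, ⟨a, b, ha, hx⟩ => ⟨f a, f b, isVal_map f ha, by rw [hx, map_commutatorElement]⟩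

theorem isVal_mem : ∀ {k : ℕ} {x : G}, IsVal k x → x ∈ (⊤ : Subgroup G).lowerCentralSeries k
  | 0, _, _ => mem_top _
  | _ + 1, _, ⟨a, b, ha, hx⟩ => hx ▸ commutator_mem_commutator (isVal_mem ha) (mem_top b)

theorem lcs_le : ∀ (k : ℕ) (N : Subgroup G), N.Normal → (∀ x : G, IsVal k x → x ∈ N) →
    (⊤ : Subgroup G).lowerCentralSeries k ≤ N
  | 0, N, _, h => fun x _ => h x trivial
  | k + 1, N, hN, h => by
    haveI := hN
    have ih := lcs_le k ((center (G ⧸ N)).comap (QuotientGroup.mk' N)) inferInstance fun a ha => by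
      rw [mem_comap, mem_center_iff]
      intro q
      obtain ⟨b, rfl⟩ := QuotientGroup.mk'_surjective N q
      have h1 := (QuotientGroup.eq_one_iff _).mpr (h ⁅a, b⁆ ⟨a, b, ha, rfl⟩)
      change QuotientGroup.mk' N ⁅a, b⁆ = 1 at h1
      rw [map_commutatorElement] at h1
      exact (commutatorElement_eq_one_iff_mul_comm.mp h1).symm
    rw [Subgroup.lowerCentralSeries_succ, commutator_le]
    intro a ha b hb
    refine (QuotientGroup.eq_one_iff _).mp ?_
    show QuotientGroup.mk' N ⁅a, b⁆ = 1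
    rw [map_commutatorElement, commutatorElement_eq_one_iff_mul_comm]
    exact (mem_center_iff.mp (mem_comap.mp (ih ha)) _).symm

/-- `[n, x, …, x]` with `j` copies of `x`. -/
def engel (x : G) : ℕ → G → G
  | 0, n => n
  | j + 1, n => ⁅engel x j n, x⁆

theorem isVal_engel (x n : G) : ∀ j, IsVal j (engel x j n)
  | 0 => trivial
  | j + 1 => ⟨_, x, isVal_engel x n j, rfl⟩

theorem map_engel {H : Type*} [Group H] (f : G →* H) (x n : G) :
    ∀ j, f (engel x j n) = engel (f x) j (f n)
  | 0 => rfl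
  | j + 1 => by simp only [engel, map_commutatorElement, map_engel f x n j]

theorem engel_mem {N : Subgroup G} {x n : G} (hx : x ∈ normalizer (N : Set G)) (hn : n ∈ N) :
    ∀ j, engel x j n ∈ N
  | 0 => hn
  | j + 1 => by
    have h1 := engel_mem hx hn j
    have : engel x (j + 1) n = engel x j n * (x * (engel x j n)⁻¹ * x⁻¹) := by
      simp only [engel, commutatorElement_def]; group
    rw [this]
    exact mul_mem h1 ((mem_normalizer_iff.mp hx _).mp (inv_mem h1))

theorem commutator_mem {N : Subgroup G} {x n : G} (hx : x ∈ normalizer (N : Set G)) (hn : n ∈ N) :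
    ⁅n, x⁆ ∈ N := engel_mem hx hn 1

variable [Finite G]

/-- A nilpotent action of a coprime element is trivial. -/
theorem centralizes_of_engel {N : Subgroup G} {x : G} (hx : x ∈ normalizer (N : Set G))
    (hcop : (orderOf x).Coprime (Nat.card N)) :
    ∀ (j : ℕ), (∀ n ∈ N, engel x j n = 1) → x ∈ centralizer (N : Set G)
  | 0, h => mem_centralizer_iff.mpr fun n hn => by simp [show n = 1 from h n hn]
  | 1, h => mem_centralizer_iff.mpr fun n hn => commutatorElement_eq_one_iff_mul_comm.mp (h n hn)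
  | j + 2, h => centralizes_of_engel hx hcop (j + 1) fun n hn => by
    set m := engel x j n
    have hm : m ∈ N := engel_mem hx hn j
    show ⁅m, x⁆ = 1
    set c := ⁅m, x⁆
    have hc : c ∈ N := commutator_mem hx hm
    have hcomm : Commute c x := commutatorElement_eq_one_iff_mul_comm.mp (h n hn)
    have hconj : c * x = m * x * m⁻¹ := by simp [c, commutatorElement_def]
    have hco : (orderOf c).Coprime (orderOf x) :=
      (hcop.coprime_dvd_right (orderOf_dvd_natCard N hc)).symm
    have h1 : orderOf (c * x) = orderOf c * orderOf x := hcomm.orderOf_mul_eq_mul_orderOf_of_coprime hco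
    have h2 : orderOf (c * x) = orderOf x := by
      rw [hconj]; exact orderOf_injective (MulAut.conj m).toMonoidHom (MulAut.conj m).injective x
    rw [h2] at h1
    have := Nat.eq_of_mul_eq_mul_right (orderOf_pos x) (show 1 * orderOf x = orderOf c * orderOf x by
      rw [one_mul]; exact h1)
    exact orderOf_eq_one_iff.mp this.symm

/-- The properties of the set of values that are used. -/
structure Good (k : ℕ) (V : G → Prop) : Prop where
  val : ∀ x, IsVal k x → V x
  conj : ∀ g x, V x → V (g * x * g⁻¹)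
  cen : ∀ x, V x → ∀ N : Subgroup G, x ∈ normalizer (N : Set G) →
    (orderOf x).Coprime (Nat.card N) → x ∈ centralizer (N : Set G)

theorem mem_normalizer_normal {N : Subgroup G} [hN : N.Normal] (x : G) :
    x ∈ normalizer (N : Set G) := by
  rw [normalizer_eq_top_iff.mpr hN]; exact mem_top x

theorem Good.restrict {k : ℕ} {V : G → Prop} (h : Good k V) (H : Subgroup G) :
    Good k (fun x : H => V x) where
  val x hx := h.val _ (isVal_map H.subtype hx)
  conj g x hx := h.conj g x hx
  cen x hx N hxN hcop := by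
    have h1 := h.cen x hx (N.map H.subtype)
      (le_normalizer_map H.subtype (mem_map_of_mem H.subtype hxN))
      (by rwa [card_map_of_injective H.subtype_injective, orderOf_coe])
    rw [mem_centralizer_iff] at h1 ⊢
    exact fun n hn => Subtype.ext (h1 n (mem_map_of_mem H.subtype hn))

theorem good_of_cond {k : ℕ} (h : ∀ x y : G, IsVal k x → IsVal k y →
    (orderOf x).Coprime (orderOf y) →
      (∀ r : ℕ, r.Prime → r ∣ orderOf x * orderOf y → r ∣ orderOf (x * y)) ∨
        orderOf x * orderOf y ≤ orderOf (x * y)) : Good k (IsVal (G := G) k) where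
  val _ := id
  conj g _ hx := isVal_map (MulAut.conj g).toMonoidHom hx
  cen x hx N hxN hcop := centralizes_of_engel hxN hcop (k + 1) fun n hn => by
    set y := engel x (k + 1) n
    have hy : y ∈ N := engel_mem hxN hn _
    have hyv : IsVal k y := isVal_of_succ (isVal_engel x n (k + 1))
    have hco : (orderOf y).Coprime (orderOf x) :=
      (hcop.coprime_dvd_right (orderOf_dvd_natCard N hy)).symm
    have he : orderOf (y * x) = orderOf x := by
      have : y * x = engel x k n * x * (engel x k n)⁻¹ := by simp [y, engel, commutatorElement_def]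
      rw [this]
      exact orderOf_injective (MulAut.conj (engel x k n)).toMonoidHom (MulAut.conj _).injective x
    rcases h y x hyv hx hco with h1 | h1
    · rw [← orderOf_eq_one_iff]
      by_contra hne
      obtain ⟨r, hr, hrd⟩ := Nat.exists_prime_and_dvd hne
      exact Nat.Prime.not_dvd_one hr (hco ▸ Nat.dvd_gcd hrd (he ▸ h1 r hr (hrd.mul_right _)))
    · rw [he] at h1
      have h2 : orderOf y ≤ 1 := Nat.le_of_mul_le_mul_right (by rwa [one_mul]) (orderOf_pos x)
      exact orderOf_eq_one_iff.mp (le_antisymm h2 (orderOf_pos y))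

/-- Nilpotency from commuting of elements of coprime prime-power orders. -/
theorem isNilpotent_of_commute (h : ∀ p q : ℕ, p.Prime → q.Prime → p ≠ q → ∀ u v : G,
    (∃ i, orderOf u = p ^ i) → (∃ j, orderOf v = q ^ j) → Commute u v) : Group.IsNilpotent G := by
  refine (Group.isNilpotent_of_finite_tfae.out 0 3).mpr fun p hp P => ?_
  haveI := hp
  rw [← normalizer_eq_top_iff]
  refine HallSchmidt.eq_top_of_sylow_le fun r hr => ?_
  haveI := Fact.mk hr
  by_cases hrp : r = p
  · subst hrp
    exact ⟨P, le_normalizer⟩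
  · refine ⟨Classical.arbitrary _, fun v hv => centralizer_le_normalizer _ ?_⟩
    rw [mem_centralizer_iff]
    intro u hu
    obtain ⟨i, hi⟩ := IsPGroup.iff_orderOf.mp P.isPGroup' ⟨u, hu⟩
    obtain ⟨j, hj⟩ := IsPGroup.iff_orderOf.mp (Classical.arbitrary (Sylow r G)).isPGroup' ⟨v, hv⟩
    rw [orderOf_mk] at hi hj
    exact h p r hp.out hr (Ne.symm hrp) u v ⟨i, hi⟩ ⟨j, hj⟩

/-- Lifting a nontrivial coprime action on a `q`-subgroup of a quotient to a value. -/
theorem exists_val_lift {Q : Type*} [Group Q] [Finite Q] (k : ℕ) (φ : G →* Q)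
    (hφ : Function.Surjective φ) {q : ℕ} [Fact q.Prime] {U : Subgroup Q} (hU : IsPGroup q U)
    {a : Q} (ha : a ∈ normalizer (U : Set Q)) (hcop : (orderOf a).Coprime (Nat.card U))
    (hne : a ∉ centralizer (U : Set Q)) :
    ∃ t : G, IsVal k t ∧ (∃ i, orderOf t = q ^ i) ∧ φ t ∈ U ∧ φ t ≠ 1 := by
  set W := U.comap φ with hW
  obtain ⟨R⟩ : Nonempty (Sylow q ↥W) := inferInstance
  set ψ := φ.subgroupComap U
  have hψ : Function.Surjective ψ := φ.subgroupComap_surjective_of_surjective U hφ
  have hRU : (R : Subgroup ↥W).map ψ = ⊤ := by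
    have h1 : ((R : Subgroup ↥W).map ψ).index = 1 := by
      obtain ⟨i, hi⟩ := hU.index ((R : Subgroup ↥W).map ψ)
      have hnd : ¬ q ∣ ((R : Subgroup ↥W).map ψ).index := fun hd =>
        R.not_dvd_index (hd.trans (index_map_dvd _ hψ))
      rcases Nat.eq_zero_or_pos i with rfl | hpos
      · simpa using hi
      · exact absurd (hi ▸ dvd_pow_self q hpos.ne') hnd
    exact index_eq_one.mp h1
  have hsurjR : ∀ u ∈ U, ∃ r : ↥W, r ∈ R ∧ φ r = u := by
    intro u hu
    obtain ⟨r, hr, hru⟩ := (hRU ▸ mem_top (⟨u, hu⟩ : ↥U) : (⟨u, hu⟩ : ↥U) ∈ (R : Subgroup ↥W).map ψ)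
    exact ⟨r, hr, congrArg Subtype.val hru⟩
  -- a lift of `a` normalising `R`
  obtain ⟨g, rfl⟩ := hφ a
  have hgW : g ∈ normalizer (W : Set G) := by
    rw [mem_normalizer_iff]
    intro x
    show φ x ∈ U ↔ φ (g * x * g⁻¹) ∈ U
    simpa using mem_normalizer_iff.mp ha (φ x)
  set R0 := (R : Subgroup ↥W).map W.subtype
  obtain ⟨g', hg', hgg⟩ : ∃ g' ∈ normalizer (R0 : Set G), φ g' = φ g := by
    let c : ↥W ≃* ↥W := conjAutOfNormalizer W g hgW
    obtain ⟨S, hS⟩ : ∃ S : Sylow q ↥W, (S : Subgroup ↥W) = (R : Subgroup ↥W).map c.toMonoidHom :=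
      ⟨Sylow.ofCard ((R : Subgroup ↥W).map c.toMonoidHom)
        (by rw [card_map_of_injective c.injective, R.card_eq_multiplicity]), rfl⟩
    obtain ⟨w, hw⟩ := MulAction.exists_smul_eq ↥W S R
    obtain ⟨r, hr, hrw⟩ := hsurjR (φ w) w.2
    have hwg : (w : G) * g ∈ normalizer (R0 : Set G) := by
      refine mem_normalizer_fintype fun x hx => ?_
      obtain ⟨y, hy, rfl⟩ := hx
      refine ⟨w * c y * w⁻¹, ?_, ?_⟩
      · rw [SetLike.mem_coe]
        conv => rw [← hw]
        exact ⟨c y, hS ▸ mem_map_of_mem c.toMonoidHom hy, rfl⟩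
      · simp [c, conjAutOfNormalizer, mul_assoc]
    refine ⟨(r : G)⁻¹ * (w * g), mul_mem (inv_mem (le_normalizer (mem_map_of_mem _ hr))) hwg, ?_⟩
    rw [map_mul, map_mul, map_inv, hrw]; group
  obtain ⟨u, hu, hu1⟩ : ∃ u ∈ U, engel (φ g) k u ≠ 1 := by
    by_contra hcon
    push Not at hcon
    exact hne (centralizes_of_engel ha hcop k hcon)
  obtain ⟨r, hr, rfl⟩ := hsurjR u hu
  have hmem : engel g' k r ∈ R0 := engel_mem hg' (mem_map_of_mem _ hr) k
  refine ⟨engel g' k r, isVal_engel _ _ k, ?_, ?_, ?_⟩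
  · obtain ⟨i, hi⟩ := IsPGroup.iff_orderOf.mp (R.isPGroup'.map W.subtype) ⟨_, hmem⟩
    exact ⟨i, by rwa [orderOf_mk] at hi⟩
  · rw [map_engel, hgg]; exact engel_mem ha hu k
  · rw [map_engel, hgg]; exact hu1

section Solvable

theorem orderOf_coprime_prime_pow {x y : G} {p q i j : ℕ} (hp : p.Prime) (hq : q.Prime)
    (hne : p ≠ q) (hx : orderOf x = p ^ i) (hy : orderOf y = q ^ j) :
    (orderOf x).Coprime (orderOf y) := by
  rw [hx, hy]; exact ((Nat.coprime_primes hp hq).mpr hne).pow i j

theorem coprime_of_pGroup' {x : G} {p q i : ℕ} [Fact q.Prime] (hp : p.Prime) (hne : p ≠ q)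
    (hx : orderOf x = p ^ i) {N : Subgroup G} (hN : IsPGroup q N) :
    (orderOf x).Coprime (Nat.card N) := by
  obtain ⟨j, hj⟩ := IsPGroup.iff_card.mp hN
  rw [hx, hj]; exact ((Nat.coprime_primes hp (Fact.out : q.Prime)).mpr hne).pow i j

theorem mem_fitting_of_forall [Group.IsSolvable G] {x : G}
    (h : ∀ q : ℕ, q.Prime → x ∈ centralizer (pCore q G : Set G)) : x ∈ fittingSubgroup G := by
  refine centralizer_fitting_le_of_solvable ?_
  rw [fittingSubgroup_eq_iSup]
  refine (le_centralizer_iff.mp ?_ : zpowers x ≤ _) (mem_zpowers x)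
  exact iSup_le fun q => le_centralizer_iff.mp
    (zpowers_le.mpr (h q (Nat.prime_of_mem_primeFactors q.2)))

theorem mem_pCore_of_fitting {x : G} {q i : ℕ} [hq : Fact q.Prime] (hx : x ∈ fittingSubgroup G)
    (ho : orderOf x = q ^ i) : x ∈ pCore q G := by
  set F := fittingSubgroup G
  have hp : IsPGroup q ↥(zpowers (⟨x, hx⟩ : F)) :=
    IsPGroup.of_card (n := i) (by rw [Nat.card_zpowers, orderOf_mk, ho])
  obtain ⟨P, hP⟩ := hp.exists_le_sylow
  haveI : (P : Subgroup F).Normal := inferInstance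
  haveI : (P : Subgroup F).Characteristic := P.characteristic_of_normal inferInstance
  haveI : ((P : Subgroup F).map F.subtype).Normal := inferInstance
  exact le_pCore' (P.isPGroup'.map F.subtype) ⟨⟨x, hx⟩, hP (mem_zpowers _), rfl⟩

variable {k : ℕ} {V : G → Prop} (hV : Good k V)
include hV

theorem val_cent {x : G} {q i : ℕ} (hq : q.Prime) (hx : V x) (ho : orderOf x = q ^ i) {r : ℕ}
    (hr : r.Prime) (hne : q ≠ r) : x ∈ centralizer (pCore r G : Set G) := by
  haveI := Fact.mk hr
  exact hV.cen x hx _ (mem_normalizer_normal x)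
    (coprime_of_pGroup' hq hne ho (isPGroup_pCore r))

variable [Group.IsSolvable G]

/-- The elements centralising the cores for primes other than `q`. -/
def coreCent (_ : Good k V) (q : ℕ) : Subgroup G :=
  ⨅ r : {r : ℕ // r.Prime ∧ r ≠ q}, centralizer (pCore (r : ℕ) G : Set G)

theorem val_mem_fitting {x : G} {q i : ℕ} (hq : q.Prime) (hx : V x) (ho : orderOf x = q ^ i) :
    x ∈ fittingSubgroup G := by
  haveI := Fact.mk hq
  set F := fittingSubgroup G with hF
  set C := coreCent hV q with hC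
  have hmemC : ∀ {y : G}, y ∈ C ↔ ∀ r : ℕ, r.Prime → r ≠ q → y ∈ centralizer (pCore r G : Set G) :=
    fun {y} => by simp [hC, coreCent, mem_iInf]
  haveI hCn : C.Normal := normal_iInf_normal fun r => inferInstance
  have hxC : x ∈ C := hmemC.mpr fun r hr hne => val_cent hV hq hx ho hr (Ne.symm hne)
  set π := QuotientGroup.mk' F with hπ
  set D := C.map π with hD
  haveI hDn : D.Normal := Subgroup.Normal.map inferInstance π (QuotientGroup.mk'_surjective F)
  set φ := π.subgroupMap C
  -- values of order prime to `q` inside `C`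
  have hkey : ∀ t : G, V t → t ∈ C → ∀ r j : ℕ, r.Prime → r ≠ q → orderOf t = r ^ j → t ∈ F := by
    intro t ht htC r j hr hrq hto
    refine mem_fitting_of_forall fun s hs => ?_
    by_cases hsq : s = q
    · subst hsq; exact val_cent hV hr ht hto hs hrq
    · exact hmemC.mp htC s hs hsq
  -- the `q`-core of the image is trivial
  have hQbot : pCore q ↥D = ⊥ := by
    haveI hnK : ((pCore q ↥D).map D.subtype).Normal := inferInstance
    set Y := C ⊓ ((pCore q ↥D).map D.subtype).comap π
    haveI : Y.Normal := inferInstance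
    have hYr : ∀ u ∈ Y, ∀ r j : ℕ, r.Prime → r ≠ q → orderOf u = r ^ j → u ∈ F := by
      intro u hu r j hr hrq huo
      obtain ⟨d, hd, hdu⟩ := hu.2
      obtain ⟨i', hi'⟩ := IsPGroup.iff_orderOf.mp (isPGroup_pCore (G := ↥D) q) ⟨d, hd⟩
      rw [orderOf_mk, ← orderOf_coe, show (d : G ⧸ F) = π u from hdu] at hi'
      have h1 : orderOf (π u) ∣ r ^ j := huo ▸ orderOf_map_dvd π u
      have h2 : orderOf (π u) = 1 := Nat.eq_one_of_dvd_coprimes
        (((Nat.coprime_primes hq hr).mpr (Ne.symm hrq)).pow i' j) hi'.dvd h1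
      exact (QuotientGroup.eq_one_iff u).mp (orderOf_eq_one_iff.mp h2)
    have hYnil : Group.IsNilpotent ↥Y := by
      refine isNilpotent_of_commute fun p r hp hr hne u v ⟨i₁, hu⟩ ⟨j₁, hv⟩ => ?_
      rw [← orderOf_coe] at hu hv
      have key : ∀ (a b : ↥Y) (p r i j : ℕ), p.Prime → r.Prime → r ≠ q → p ≠ r →
          orderOf (a : G) = p ^ i → orderOf (b : G) = r ^ j → Commute a b := by
        intro a b p r i j hp hr hrq hne hao hbo
        haveI := Fact.mk hr
        have hb := mem_pCore_of_fitting (hYr b b.2 r j hr hrq hbo) hbo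
        exact Subtype.ext (mem_centralizer_iff.mp (hmemC.mp a.2.1 r hr hrq) b hb).symm
      by_cases hrq : r = q
      · exact (key v u r p j₁ i₁ hr hp (fun h => hne (h.trans hrq.symm)) hne.symm hv hu).symm
      · exact key u v p r i₁ j₁ hp hr hrq hne hu hv
    have hYF : Y ≤ F := le_fitting hYnil
    rw [eq_bot_iff]
    rintro ⟨_, c, hc, rfl⟩ hd
    rw [mem_bot]
    exact Subtype.ext ((QuotientGroup.eq_one_iff c).mpr (hYF ⟨hc, ⟨_, hd, rfl⟩⟩))
  haveI : Group.IsSolvable ↥D := inferInstance
  set xb : ↥D := ⟨π x, mem_map_of_mem π hxC⟩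
  have hxbo : orderOf xb ∣ q ^ i := by
    rw [← orderOf_coe]; exact ho ▸ orderOf_map_dvd π x
  obtain ⟨i', -, hi'⟩ := (Nat.dvd_prime_pow hq).mp hxbo
  have hcent : ∀ r : ℕ, r.Prime → xb ∈ centralizer (pCore r ↥D : Set ↥D) := by
    intro r hr
    haveI := Fact.mk hr
    by_cases hrq : r = q
    · subst hrq; rw [hQbot]; exact mem_centralizer_iff.mpr fun y hy => by simp [mem_bot.mp hy]
    by_contra hne
    obtain ⟨t, htv, ⟨j, htj⟩, htU, ht1⟩ := exists_val_lift k φ (π.subgroupMap_surjective C)
      (isPGroup_pCore r) (mem_normalizer_normal xb)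
      (coprime_of_pGroup' hq (Ne.symm hrq) hi' (isPGroup_pCore r)) hne
    refine ht1 (Subtype.ext ?_)
    exact (QuotientGroup.eq_one_iff (t : G)).mpr (hkey t (hV.val _ (isVal_map C.subtype htv)) t.2 r j
      hr hrq (by rw [orderOf_coe]; exact htj))
  have h1 := mem_pCore_of_fitting (mem_fitting_of_forall hcent) hi'
  rw [hQbot, mem_bot] at h1
  exact (QuotientGroup.eq_one_iff x).mp (congrArg Subtype.val h1)

theorem val_mem_pCore {x : G} {q i : ℕ} (hq : q.Prime) (hx : V x) (ho : orderOf x = q ^ i) :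
    x ∈ pCore q G :=
  haveI := Fact.mk hq
  mem_pCore_of_fitting (val_mem_fitting hV hq hx ho) ho

theorem quotient_nilpotent : Group.IsNilpotent (G ⧸ fittingSubgroup G) := by
  set F := fittingSubgroup G with hF
  set π := QuotientGroup.mk' F
  -- a primary element centralises the cores for the other primes
  have hstep : ∀ (a : G ⧸ F) (r s i : ℕ), r.Prime → s.Prime → s ≠ r → orderOf a = s ^ i →
      a ∈ centralizer (pCore r (G ⧸ F) : Set (G ⧸ F)) := by
    intro a r s i hr hs hne ho
    haveI := Fact.mk hr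
    by_contra hc
    obtain ⟨t, htv, ⟨j, htj⟩, -, ht1⟩ := exists_val_lift k π (QuotientGroup.mk'_surjective F)
      (isPGroup_pCore r) (mem_normalizer_normal a)
      (coprime_of_pGroup' hs hne ho (isPGroup_pCore r)) hc
    exact ht1 ((QuotientGroup.eq_one_iff t).mpr (val_mem_fitting hV hr (hV.val t htv) htj))
  suffices hprim : ∀ (b : G ⧸ F) (s i : ℕ), s.Prime → orderOf b = s ^ i →
      b ∈ fittingSubgroup (G ⧸ F) by
    have htop : fittingSubgroup (G ⧸ F) = ⊤ := eq_top_iff.mpr fun b _ =>
      CNGlobal.mem_of_prime_parts _ b fun s hs y _ i hy => hprim y s i hs hy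
    exact Group.nilpotent_of_mulEquiv ((MulEquiv.subgroupCongr htop).trans Subgroup.topEquiv)
  intro b s i hs hb
  set D := ⨅ r : {r : ℕ // r.Prime ∧ r ≠ s}, centralizer (pCore (r : ℕ) (G ⧸ F) : Set (G ⧸ F))
  haveI : D.Normal := normal_iInf_normal fun r => inferInstance
  have hmemD : ∀ {y : G ⧸ F}, y ∈ D ↔ ∀ r : ℕ, r.Prime → r ≠ s →
      y ∈ centralizer (pCore r (G ⧸ F) : Set (G ⧸ F)) := fun {y} => by simp [D, mem_iInf]
  have hDnil : Group.IsNilpotent ↥D := by
    refine isNilpotent_of_commute fun p r hp hr hne u v ⟨i₁, hu⟩ ⟨j₁, hv⟩ => ?_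
    rw [← orderOf_coe] at hu hv
    have key : ∀ (a c : ↥D) (p r i j : ℕ), p.Prime → r.Prime → r ≠ s → p ≠ r →
        orderOf (a : G ⧸ F) = p ^ i → orderOf (c : G ⧸ F) = r ^ j → Commute a c := by
      intro a c p r i j hp hr hrs hne hao hco
      haveI := Fact.mk hr
      have hc : (c : G ⧸ F) ∈ pCore r (G ⧸ F) := by
        refine mem_pCore_of_fitting (mem_fitting_of_forall fun l hl => ?_) hco
        by_cases hlr : l = r
        · subst hlr; exact hmemD.mp c.2 l hl hrs
        · exact hstep _ l r j hl hr (Ne.symm hlr) hco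
      exact Subtype.ext (mem_centralizer_iff.mp (hmemD.mp a.2 r hr hrs) _ hc).symm
    by_cases hrs : r = s
    · exact (key v u r p j₁ i₁ hr hp (fun h => hne (h.trans hrs.symm)) hne.symm hv hu).symm
    · exact key u v p r i₁ j₁ hp hr hrs hne hu hv
  exact le_fitting hDnil (hmemD.mpr fun r hr hne => hstep b r s i hr hs (Ne.symm hne) hb)

theorem lcs_le_fitting : (⊤ : Subgroup G).lowerCentralSeries k ≤ fittingSubgroup G := by
  set F := fittingSubgroup G with hF
  set π := QuotientGroup.mk' F with hπ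
  haveI hnil : Group.IsNilpotent (G ⧸ F) := quotient_nilpotent hV
  refine lcs_le k F inferInstance fun x hx => ?_
  rw [← QuotientGroup.eq_one_iff]
  show π x = 1
  rw [← orderOf_eq_one_iff]
  by_contra hne
  obtain ⟨r, hr, hrd⟩ := Nat.exists_prime_and_dvd hne
  haveI := Fact.mk hr
  obtain ⟨P⟩ : Nonempty (Sylow r G) := inferInstance
  set N := pPrimeCore r (G ⧸ F)
  set ρ := (QuotientGroup.mk' N).comp π
  have hcov : (P : Subgroup G).map π ⊔ N = ⊤ := by
    refine HallSchmidt.eq_top_of_sylow_le fun p hp => ?_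
    haveI := Fact.mk hp
    by_cases hpr : p = r
    · subst hpr
      exact ⟨P.mapSurjective (QuotientGroup.mk'_surjective F), le_sup_left⟩
    · refine ⟨Classical.arbitrary _, le_sup_of_le_right (le_pPrimeCore' ?_)⟩
      obtain ⟨j, hj⟩ := IsPGroup.iff_card.mp (Classical.arbitrary (Sylow p (G ⧸ F))).isPGroup'
      rw [hj]; exact ((Nat.coprime_primes hp hr).mpr hpr).pow_left j
  have hPbot : (P : Subgroup G).lowerCentralSeries k ≤ F := by
    rw [← top_subtype_lowerCentralSeries, map_le_iff_le_comap]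
    refine lcs_le k _ inferInstance fun y hy => ?_
    obtain ⟨i, hi⟩ := IsPGroup.iff_orderOf.mp P.isPGroup' y
    exact val_mem_fitting hV hr (hV.val _ (isVal_map (P : Subgroup G).subtype hy))
      (by rw [Subgroup.coe_subtype, orderOf_coe]; exact hi)
  have hρP : (P : Subgroup G).map ρ = ⊤ := by
    rw [← Subgroup.map_map]
    have h0 := congrArg (Subgroup.map (QuotientGroup.mk' N)) hcov
    rwa [Subgroup.map_sup, QuotientGroup.map_mk'_self, sup_bot_eq,
      map_top_of_surjective _ (QuotientGroup.mk'_surjective N)] at h0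
  have h1 : ρ x ∈ ((P : Subgroup G).lowerCentralSeries k).map ρ := by
    rw [map_lowerCentralSeries, hρP]
    exact isVal_mem (isVal_map ρ hx)
  obtain ⟨y, hy, hyx⟩ := h1
  have h2 : π x ∈ N := by
    rw [← QuotientGroup.eq_one_iff]
    show ρ x = 1
    rw [← hyx, MonoidHom.comp_apply, show π y = 1 from (QuotientGroup.eq_one_iff y).mpr (hPbot hy),
      map_one]
  exact hr.not_dvd_one ((pPrimeCore_coprime (G := G ⧸ F) r).coprime_dvd_left
    (hrd.trans (orderOf_dvd_natCard N h2)) |> fun h => (Nat.coprime_self r).mp h ▸ dvd_rfl)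

theorem lcs_nilpotent : Group.IsNilpotent ↥((⊤ : Subgroup G).lowerCentralSeries k) :=
  nilpotent_of_le (lcs_le_fitting hV) inferInstance

end Solvable

end Cfsg.Agent.ValueCriterion67
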