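import Mathlib
import Cfsg.Agent.Lib.ValueCriterion67
import Cfsg.Agent.Lib.AlperinTame
import Cfsg.Agent.Lib.BaerSuzuki
import Cfsg.Agent.Lib.ZStarTheorem
import Cfsg.Agent.Lib.PGroupsBasic

/-! The criterion forces solvability, given solvability of groups of odd order. -/

set_option autoImplicit false
set_option linter.style.haveILetI false
set_option linter.unusedSectionVars false

open Cfsg Subgroup
open scoped commutatorElement

namespace Cfsg.Agent.ValueCriterion67

open Cfsg.Agent.ComponentsCores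

universe u

section Simple

variable {S : Type u} [Group S] [Finite S] [IsSimpleGroup S]

/-- The subgroup generated by the members of `T` in `H`. -/
def gen (T : Set S) (H : Subgroup S) : Subgroup S := closure (T ∩ (H : Set S))

theorem gen_le (T : Set S) (H : Subgroup S) : gen T H ≤ H :=
  (closure_le _).mpr Set.inter_subset_right

theorem gen_mono (T : Set S) {H K : Subgroup S} (h : H ≤ K) : gen T H ≤ gen T K :=
  closure_mono (Set.inter_subset_inter_right T h)

theorem normalizer_le_normalizer_gen {T : Set S} (hT : ∀ g, ∀ s ∈ T, g * s * g⁻¹ ∈ T)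
    (H : Subgroup S) : normalizer (H : Set S) ≤ normalizer (gen T H : Set S) := by
  intro g hg
  refine mem_normalizer_fintype fun x hx => ?_
  have hle : gen T H ≤ (gen T H).comap (MulAut.conj g).toMonoidHom := (closure_le _).mpr
    fun s hs => subset_closure ⟨hT g s hs.1, (mem_normalizer_iff.mp hg s).mp hs.2⟩
  exact hle hx

theorem normalizer_ne_top {D : Subgroup S} (h1 : D ≠ ⊥) (h2 : D ≠ ⊤) :
    normalizer (D : Set S) ≠ ⊤ := fun h => by
  rcases (normalizer_eq_top_iff.mp h).eq_bot_or_eq_top with h' | h'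
  exacts [h1 h', h2 h']

/-- The hypotheses on the set of images of values of `2`-power order. -/
structure Hyp (T : Set S) : Prop where
  noncomm : ∃ a b : S, a * b ≠ b * a
  sol : ∀ H : Subgroup S, H ≠ ⊤ → Group.IsSolvable H
  nsol : ¬ Group.IsSolvable S
  ne_one : ∀ s ∈ T, s ≠ 1
  conj : ∀ g, ∀ s ∈ T, g * s * g⁻¹ ∈ T
  core : ∀ H : Subgroup S, H ≠ ⊤ → ∀ s ∈ T, ∀ hs : s ∈ H, (⟨s, hs⟩ : H) ∈ pCore 2 ↥H
  lift : ∀ U : Subgroup S, IsPGroup 2 U → ∀ a ∈ normalizer (U : Set S), Odd (orderOf a) →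
    a ∉ centralizer (U : Set S) → ∃ s ∈ T, s ∈ U

variable {T : Set S} (h : Hyp T)
include h

theorem Hyp.center_eq_bot : center S = ⊥ := by
  rcases (inferInstance : (center S).Normal).eq_bot_or_eq_top with hc | hc
  · exact hc
  · obtain ⟨a, b, hab⟩ := h.noncomm
    exact absurd (mem_center_iff.mp (hc ▸ mem_top a : a ∈ center S) b).symm hab

theorem Hyp.isPGroup_gen {H : Subgroup S} (hH : H ≠ ⊤) : IsPGroup 2 ↥(gen T H) := by
  haveI := Fact.mk Nat.prime_two
  refine ((isPGroup_pCore (G := ↥H) 2).map H.subtype).to_le ((closure_le _).mpr ?_)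
  exact fun s hs => ⟨⟨s, hs.2⟩, h.core H hH s hs.1 hs.2, rfl⟩

theorem Hyp.exists_new {H : Subgroup S} (hH : H ≠ ⊤) {D : Subgroup S}
    (hgen : ∀ s ∈ T, s ∈ D → s ∈ H) (hD : gen T D = D) (hlt : D < gen T H) :
    ∃ s ∈ T, s ∈ H ∧ s ∉ D ∧ s ∈ normalizer (D : Set S) := by
  haveI := Fact.mk Nat.prime_two
  by_contra hcon
  push Not at hcon
  set E := gen T H ⊓ normalizer (D : Set S) with hE
  have hDE : D ≤ E := le_inf hlt.le le_normalizer
  have hTE : gen T E = D := le_antisymm ((closure_le _).mpr fun s hs => by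
    by_contra hsD
    exact hcon s hs.1 (gen_le T H hs.2.1) hsD hs.2.2) (hD ▸ gen_mono T hDE)
  rcases (inf_le_left : E ≤ gen T H).eq_or_lt with he | he
  · have h1 : gen T H ≤ D := (closure_le _).mpr fun s hs => by
      have hsE : s ∈ E := by
        show s ∈ gen T H ⊓ normalizer (D : Set S)
        rw [he]
        exact subset_closure hs
      exact hTE ▸ subset_closure ⟨hs.1, hsE⟩
    exact hlt.not_ge h1
  · have h2 := AlperinTame.lt_normalizer_inf (p := 2) (h.isPGroup_gen hH) he
    refine h2.not_ge (le_inf inf_le_left ?_)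
    calc gen T H ⊓ normalizer (E : Set S) ≤ normalizer (E : Set S) := inf_le_right
      _ ≤ normalizer (gen T E : Set S) := normalizer_le_normalizer_gen h.conj E
      _ = normalizer (D : Set S) := by rw [hTE]

/-- A member of `T` lies in only one maximal subgroup. -/
theorem Hyp.maximal_unique {M N : Subgroup S} (hM : IsCoatom M) (hN : IsCoatom N) {s : S}
    (hs : s ∈ T) (hsM : s ∈ M) (hsN : s ∈ N) : M = N := by
  by_contra hne
  let P : Set (Subgroup S × Subgroup S) :=
    {x | IsCoatom x.1 ∧ IsCoatom x.2 ∧ x.1 ≠ x.2 ∧ ∃ s ∈ T, s ∈ x.1 ⊓ x.2}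
  obtain ⟨⟨A, B⟩, ⟨hA, hB, hAB, t, ht, htAB⟩, hmax⟩ := Set.exists_max_image P
    (fun x => Nat.card ↥(gen T (x.1 ⊓ x.2))) (Set.toFinite P) ⟨(M, N), hM, hN, hne, s, hs, hsM, hsN⟩
  dsimp only at hA hB hAB htAB hmax
  set D := gen T (A ⊓ B) with hD
  have hDbot : D ≠ ⊥ := fun e =>
    h.ne_one t ht (mem_bot.mp (e ▸ subset_closure ⟨ht, htAB⟩ : t ∈ (⊥ : Subgroup S)))
  have hDtop : D ≠ ⊤ := fun e => hA.1 (top_le_iff.mp (e ▸ (gen_le T _).trans inf_le_left))
  have hDD : gen T D = D := le_antisymm (gen_le T D) ((closure_le _).mpr fun x hx =>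
    subset_closure ⟨hx.1, subset_closure hx⟩)
  obtain ⟨X, hX, hNX⟩ := (eq_top_or_exists_le_coatom (normalizer (D : Set S))).resolve_left
    (normalizer_ne_top hDbot hDtop)
  have key : ∀ C : Subgroup S, IsCoatom C → D ≤ C → X = C := by
    intro C hC hDC
    rcases (gen_mono T hDC).eq_or_lt with he | he
    · rw [hDD] at he
      have hle : C ≤ normalizer (D : Set S) :=
        le_normalizer.trans ((normalizer_le_normalizer_gen h.conj C).trans (by rw [← he]))
      exact (hC.le_iff.mp (hle.trans hNX)).resolve_left hX.1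
    · rw [hDD] at he
      obtain ⟨x, hxT, hxC, hxD, hxN⟩ := h.exists_new hC.1 (fun y _ hy => hDC hy) hDD he
      by_contra hXC
      have hlt : D < gen T (X ⊓ C) := by
        refine lt_of_le_of_ne (hDD.ge.trans (gen_mono T (le_inf (le_normalizer.trans hNX) hDC))) ?_
        intro e
        exact hxD (e ▸ subset_closure ⟨hxT, hNX hxN, hxC⟩)
      have h1 := hmax (X, C) ⟨hX, hC, hXC, x, hxT, hNX hxN, hxC⟩
      exact not_lt.mpr h1 (by
        exact (Set.ncard_lt_ncard (SetLike.coe_ssubset_coe.mpr hlt) (Set.toFinite _)))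
  exact hAB ((key A hA ((gen_le T _).trans inf_le_left)).symm.trans
    (key B hB ((gen_le T _).trans inf_le_right)))

omit h in
theorem odd_of_not_two_dvd {a : S} (ha : ¬ 2 ∣ orderOf a) : Odd (orderOf a) :=
  Nat.not_even_iff_odd.mp (fun he => ha he.two_dvd)

theorem Hyp.no_involution {s : S} (hs : s ∈ T) : orderOf s ≠ 2 := by
  intro ho
  haveI := Fact.mk Nat.prime_two
  have hS : ∀ N : Subgroup S, N.Normal → IsPGroup 2 N → s ∉ N := by
    intro N hN hNp hsN
    rcases hN.eq_bot_or_eq_top with hb | hb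
    · exact h.ne_one s hs (mem_bot.mp (hb ▸ hsN))
    · subst hb
      haveI : Group.IsNilpotent ↥(⊤ : Subgroup S) := hNp.isNilpotent
      haveI : Group.IsNilpotent S := Group.nilpotent_of_mulEquiv Subgroup.topEquiv
      exact h.nsol inferInstance
  obtain ⟨w, hw1, hwo, hws⟩ := BaerSuzuki.exists_inverted_odd s ho hS
  have hsN : zpowers s ≤ normalizer (zpowers w : Set S) := by
    rw [zpowers_le]
    refine mem_normalizer_fintype fun x hx => ?_
    obtain ⟨n, rfl⟩ := mem_zpowers_iff.mp hx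
    refine mem_zpowers_iff.mpr ⟨-n, ?_⟩
    rw [← conj_zpow, hws, inv_zpow, zpow_neg]
  set H := zpowers s ⊔ zpowers w with hH
  have hHne : H ≠ ⊤ := by
    intro e
    haveI : (zpowers w).Normal := normalizer_eq_top_iff.mp (top_le_iff.mp (e ▸ sup_le hsN le_normalizer))
    refine h.nsol ?_
    have hsurj : Function.Surjective ((QuotientGroup.mk' (zpowers w)).comp (zpowers s).subtype) := by
      intro q
      obtain ⟨g, rfl⟩ := QuotientGroup.mk'_surjective _ q
      have hg : g ∈ ((zpowers s ⊔ zpowers w : Subgroup S) : Set S) := by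
        rw [← hH, e]; exact mem_top g
      rw [coe_mul_of_left_le_normalizer_right _ _ hsN] at hg
      obtain ⟨a, ha, b, hb, rfl⟩ := Set.mem_mul.mp hg
      refine ⟨⟨a, ha⟩, ?_⟩
      show QuotientGroup.mk' (zpowers w) a = QuotientGroup.mk' (zpowers w) (a * b)
      rw [map_mul, show QuotientGroup.mk' (zpowers w) b = 1 from (QuotientGroup.eq_one_iff b).mpr hb,
        mul_one]
    haveI h1 : Group.IsSolvable ↥(zpowers s) := CoprimeAction.isSolvable_zpowers s
    haveI h2 : Group.IsSolvable ↥(zpowers w) := CoprimeAction.isSolvable_zpowers w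
    haveI h3 : Group.IsSolvable (S ⧸ zpowers w) := Group.isSolvable_of_surjective hsurj
    exact Group.isSolvable_of_ker_le_range (zpowers w).subtype (QuotientGroup.mk' (zpowers w))
      (by rw [QuotientGroup.ker_mk', range_subtype])
  have hwH : w ∈ H := mem_sup_right (mem_zpowers w)
  have hcore := h.core H hHne s hs (mem_sup_left (mem_zpowers s))
  have h1 : (⟨s, mem_sup_left (mem_zpowers s)⟩ : H) * ⟨w, hwH⟩ *
      (⟨s, mem_sup_left (mem_zpowers s)⟩ : H)⁻¹ * (⟨w, hwH⟩ : H)⁻¹ ∈ pCore 2 ↥H := by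
    have hn : (pCore 2 ↥H).Normal := inferInstance
    have h2 := mul_mem hcore (hn.conj_mem _ (inv_mem hcore) ⟨w, hwH⟩)
    rwa [← mul_assoc, ← mul_assoc] at h2
  obtain ⟨j, hj⟩ := IsPGroup.iff_orderOf.mp (isPGroup_pCore (G := ↥H) 2) ⟨_, h1⟩
  rw [orderOf_mk, ← orderOf_coe] at hj
  simp only [Subgroup.coe_mul, InvMemClass.coe_inv, hws] at hj
  rw [← mul_inv_rev, orderOf_inv] at hj
  have h2 : orderOf (w * w) = 1 := Nat.eq_one_of_dvd_coprimes
    ((Nat.coprime_two_left.mpr hwo).pow_left j) hj.dvd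
    (by rw [← pow_two]; exact orderOf_pow_dvd 2)
  have h3 : orderOf w ∣ 2 := by
    rw [orderOf_dvd_iff_pow_eq_one, pow_two]; exact orderOf_eq_one_iff.mp h2
  rcases (Nat.dvd_prime Nat.prime_two).mp h3 with h4 | h4
  · exact hw1 (orderOf_eq_one_iff.mp h4)
  · exact (Nat.not_even_iff_odd.mpr hwo) (h4 ▸ even_two)

theorem Hyp.false (heven : 2 ∣ Nat.card S) : False := by
  haveI := Fact.mk Nat.prime_two
  obtain ⟨P⟩ : Nonempty (Sylow 2 S) := inferInstance
  have hPtop : (P : Subgroup S) ≠ ⊤ := by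
    intro e
    haveI : Group.IsNilpotent ↥(⊤ : Subgroup S) := (e ▸ P.isPGroup').isNilpotent
    haveI : Group.IsNilpotent S := Group.nilpotent_of_mulEquiv Subgroup.topEquiv
    exact h.nsol inferInstance
  obtain ⟨M, hM, hPM⟩ := (eq_top_or_exists_le_coatom (P : Subgroup S)).resolve_left hPtop
  set D := gen T (P : Subgroup S) with hD
  haveI hDn : (D.subgroupOf (P : Subgroup S)).Normal := normal_subgroupOf_of_le_normalizer
    (le_normalizer.trans (normalizer_le_normalizer_gen h.conj _))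
  -- an involution of the centre of `P`, inside `D` when `D` is nontrivial
  have hPne : Nontrivial ↥(P : Subgroup S) := by
    rw [Subgroup.nontrivial_iff_ne_bot]
    exact P.ne_bot_of_dvd_card heven
  obtain ⟨z, hz, hzP, hzZ, hzD⟩ : ∃ z : S, orderOf z = 2 ∧ z ∈ P ∧
      (∀ y ∈ P, y * z = z * y) ∧ (D ≠ ⊥ → z ∈ D) := by
    obtain ⟨W, hWn, hW1, hWD⟩ : ∃ W : Subgroup ↥(P : Subgroup S), W.Normal ∧ W ≠ ⊥ ∧
        (D ≠ ⊥ → W ≤ D.subgroupOf (P : Subgroup S)) := by
      by_cases hD1 : D = ⊥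
      · exact ⟨⊤, inferInstance, top_ne_bot, fun hne => absurd hD1 hne⟩
      · refine ⟨D.subgroupOf (P : Subgroup S), hDn, ?_, fun _ => le_rfl⟩
        rw [Ne, subgroupOf_eq_bot, disjoint_of_le_iff_left_eq_bot (gen_le T _)]
        exact hD1
    haveI := hWn
    have hZW : center ↥(P : Subgroup S) ⊓ W ≠ ⊥ :=
      (by rw [inf_comm]; exact PGroupsBasic.inf_center_ne_bot P.isPGroup' hW1)
    have hdvd : 2 ∣ Nat.card ↥(center ↥(P : Subgroup S) ⊓ W) := by
      obtain ⟨n, hn⟩ := IsPGroup.iff_card.mp (P.isPGroup'.to_subgroup (center ↥(P : Subgroup S) ⊓ W))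
      rcases Nat.eq_zero_or_pos n with rfl | hpos
      · exact absurd (card_eq_one.mp (by simpa using hn)) hZW
      · exact hn ▸ dvd_pow_self 2 hpos.ne'
    obtain ⟨⟨z, hzm⟩, hzo⟩ := exists_prime_orderOf_dvd_card' 2 hdvd
    rw [orderOf_mk, ← orderOf_coe] at hzo
    exact ⟨z, hzo, z.2, fun y hy => congrArg Subtype.val (mem_center_iff.mp hzm.1 ⟨y, hy⟩),
      fun hne => hWD hne hzm.2⟩
  have hz1 : z ≠ 1 := fun e => by simp [e] at hz
  -- `M` centralises `z` when it contains a member of `T`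
  have hMz : ∀ t ∈ T, t ∈ P → ∀ x ∈ M, x * z = z * x := by
    intro t ht htP x hx
    have hDne : D ≠ ⊥ := fun e =>
      h.ne_one t ht (mem_bot.mp (e ▸ subset_closure ⟨ht, htP⟩ : t ∈ (⊥ : Subgroup S)))
    set O := (pCore 2 ↥M).map M.subtype with hO
    have hzO : z ∈ O := by
      have hle : D ≤ O := (closure_le _).mpr fun s hs =>
        ⟨⟨s, hPM hs.2⟩, h.core M hM.1 s hs.1 (hPM hs.2), rfl⟩
      exact hle (hzD hDne)
    have hOP : O ≤ (P : Subgroup S) := by
      have h1 := IsPGroup.le_sylow_of_normal (isPGroup_pCore (G := ↥M) 2) (P.subtype hPM)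
      rw [hO, map_le_iff_le_comap]
      exact h1
    set Z := (center ↥O).map O.subtype with hZ
    set E : Subgroup S :=
      { carrier := {y | y ∈ Z ∧ y ^ 2 = 1}
        one_mem' := ⟨one_mem _, one_pow _⟩
        mul_mem' := fun {a b} ha hb => ⟨mul_mem ha.1 hb.1, by
          obtain ⟨a', ha', rfl⟩ := ha.1
          have hc : Commute (O.subtype a') b := by
            obtain ⟨b', -, rfl⟩ := hb.1
            exact congrArg Subtype.val (mem_center_iff.mp ha' b').symm
          rw [hc.mul_pow, ha.2, hb.2, one_mul]⟩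
        inv_mem' := fun {a} ha => ⟨inv_mem ha.1, by rw [inv_pow, ha.2, inv_one]⟩ }
    have hEO : E ≤ O := fun y hy => map_subtype_le _ hy.1
    have hE2 : IsPGroup 2 ↥E := P.isPGroup'.to_le (hEO.trans hOP)
    have hzE : z ∈ E := by
      refine ⟨⟨⟨z, hzO⟩, mem_center_iff.mpr fun y => Subtype.ext (hzZ y (hOP y.2)), rfl⟩, ?_⟩
      rw [← hz]; exact pow_orderOf_eq_one z
    have hMO : M ≤ normalizer (O : Set S) := by
      have h1 := normalizer_le_normalizer_map_subtype M (pCore 2 ↥M)
      exact le_normalizer.trans h1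
    have hME : ∀ g ∈ M, g ∈ normalizer (E : Set S) := by
      intro g hg
      have hgZ : g ∈ normalizer (Z : Set S) :=
        normalizer_le_normalizer_map_subtype O (center ↥O) (hMO hg)
      refine mem_normalizer_fintype fun y hy => ⟨(mem_normalizer_iff.mp hgZ y).mp hy.1, ?_⟩
      rw [conj_pow, hy.2, mul_one, mul_inv_cancel]
    set K := M ⊓ centralizer ({z} : Set S) with hK
    have hKM : M ≤ K := by
      have h1 : K.subgroupOf M = ⊤ := by
        refine HallSchmidt.eq_top_of_sylow_le fun r hr => ?_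
        haveI := Fact.mk hr
        by_cases hr2 : r = 2
        · subst hr2
          exact ⟨P.subtype hPM, fun y hy => ⟨y.2, mem_centralizer_singleton_iff.mpr (hzZ y hy)⟩⟩
        · refine ⟨Classical.arbitrary _, fun y hy => ⟨y.2, ?_⟩⟩
          obtain ⟨i, hi⟩ := IsPGroup.iff_orderOf.mp (Classical.arbitrary (Sylow r ↥M)).isPGroup' ⟨y, hy⟩
          rw [orderOf_mk, ← orderOf_coe] at hi
          have hodd : Odd (orderOf (y : S)) := by
            rw [hi]; exact (hr.odd_of_ne_two hr2).pow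
          by_contra hyz
          have hc : (y : S) ∉ centralizer (E : Set S) := fun hh =>
            hyz (mem_centralizer_singleton_iff.mpr (mem_centralizer_iff.mp hh z hzE).symm)
          obtain ⟨s, hsT, hsE⟩ := h.lift E hE2 y (hME y y.2) hodd hc
          exact h.no_involution hsT (orderOf_eq_prime hsE.2 (h.ne_one s hsT))
      exact subgroupOf_eq_top.mp h1
    exact mem_centralizer_singleton_iff.mp (hKM hx).2
  -- every fusion step fixes `z`
  have hstep : ∀ (Q : Sylow 2 S) (x : S), AlperinTame.IsStep P Q x →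
      z ∈ (P : Subgroup S) ⊓ (Q : Subgroup S) → x * z = z * x := by
    intro Q x hx hzU
    set U := (P : Subgroup S) ⊓ (Q : Subgroup S) with hU
    set N := normalizer (U : Set S) with hN
    have hU1 : U ≠ ⊥ := fun e => hz1 (mem_bot.mp (e ▸ hzU))
    have hUtop : U ≠ ⊤ := fun e => hPtop (top_le_iff.mp (e ▸ inf_le_left))
    have hPN : IsPGroup 2 ↥(((P : Subgroup S) ⊓ N).subgroupOf N) :=
      IsPGroup.comap_of_injective (P.isPGroup'.to_le inf_le_left) N.subtype N.subtype_injective
    obtain ⟨R, hR⟩ := hPN.exists_le_sylow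
    have hReq : ((P : Subgroup S) ⊓ N).subgroupOf N = (R : Subgroup ↥N) := by
      refine AlperinTame.eq_of_not_dvd_relIndex hR R.isPGroup' fun hd => hx.1.1 ?_
      exact hd.trans (relIndex_dvd_index_of_le hR)
    by_cases hT : ∃ t ∈ T, t ∈ N
    · obtain ⟨t, ht, htN⟩ := hT
      have hNtop : N ≠ ⊤ := normalizer_ne_top hU1 hUtop
      have htR : (⟨t, htN⟩ : N) ∈ (R : Subgroup ↥N) :=
        IsPGroup.le_sylow_of_normal (isPGroup_pCore (G := ↥N) 2) R (h.core N hNtop t ht htN)
      rw [← hReq] at htR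
      obtain ⟨X, hX, hNX⟩ := (eq_top_or_exists_le_coatom N).resolve_left hNtop
      have hXM : X = M := h.maximal_unique hX hM ht (hNX htN) (hPM htR.1)
      exact hMz t ht htR.1 x (hXM ▸ hNX hx.2.1)
    · push Not at hT
      have htop : ((centralizer ({z} : Set S)).subgroupOf N) = ⊤ := by
        refine HallSchmidt.eq_top_of_sylow_le fun r hr => ?_
        haveI := Fact.mk hr
        by_cases hr2 : r = 2
        · subst hr2
          refine ⟨R, fun y hy => mem_centralizer_singleton_iff.mpr (hzZ y ?_)⟩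
          rw [← hReq] at hy
          exact hy.1
        · refine ⟨Classical.arbitrary _, fun y hy => ?_⟩
          obtain ⟨i, hi⟩ := IsPGroup.iff_orderOf.mp (Classical.arbitrary (Sylow r ↥N)).isPGroup' ⟨y, hy⟩
          rw [orderOf_mk, ← orderOf_coe] at hi
          have hodd : Odd (orderOf (y : S)) := by rw [hi]; exact (hr.odd_of_ne_two hr2).pow
          by_contra hyz
          have hc : (y : S) ∉ centralizer (U : Set S) := fun hh =>
            hyz (mem_centralizer_singleton_iff.mpr (mem_centralizer_iff.mp hh z hzU).symm)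
          obtain ⟨s, hsT, hsU⟩ := h.lift U (P.isPGroup'.to_le inf_le_left) y y.2 hodd hc
          exact hT s hsT (le_normalizer hsU)
      exact mem_centralizer_singleton_iff.mp
        (htop ▸ mem_top (⟨x, hx.2.1⟩ : N) : (⟨x, hx.2.1⟩ : N) ∈ (centralizer ({z} : Set S)).subgroupOf N)
  have hfix : ∀ (A : Subgroup S) (g : S), AlperinTame.Chain P A g → z ∈ A → g * z = z * g := by
    intro A g hc
    induction hc with
    | refl A => intro _; rw [one_mul, mul_one]
    | cons A Q x g hs hA _ ih =>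
      intro hzA
      have h1 := hstep Q x hs (hA hzA)
      have h2 : z ∈ AlperinTame.cmap A x := by
        rw [AlperinTame.mem_cmap, h1, mul_inv_cancel_right]; exact hzA
      rw [mul_assoc, ih h2, ← mul_assoc, h1, mul_assoc]
  have hiso : ∀ g : S, g * z * g⁻¹ ∈ P → g * z * g⁻¹ = z := by
    intro g hg
    have hc := AlperinTame.alperin P (zpowers z) (zpowers_le.mpr hzP) g⁻¹ (fun y hy => by
      obtain ⟨a, ha, rfl⟩ := hy
      obtain ⟨n, rfl⟩ := mem_zpowers_iff.mp ha
      show MulAut.conj g⁻¹⁻¹ (z ^ n) ∈ (P : Subgroup S)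
      rw [inv_inv, map_zpow, MulAut.conj_apply]
      exact zpow_mem hg n)
    have h1 := hfix _ _ hc (mem_zpowers z)
    calc g * z * g⁻¹ = g * (z * g⁻¹) := by group
      _ = g * (g⁻¹ * z) := by rw [h1]
      _ = z := by group
  have hO : pPrimeCore 2 S = ⊥ := by
    rcases (inferInstance : (pPrimeCore 2 S).Normal).eq_bot_or_eq_top with hb | hb
    · exact hb
    · have h1 := pPrimeCore_coprime (G := S) 2
      rw [hb, card_top] at h1
      exact absurd (h1 ▸ Nat.dvd_gcd heven dvd_rfl) Nat.prime_two.not_dvd_one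
  have hcen := ZStarTheorem.mem_center_of_isolated (ZStarBasic.isolated_of_sylow P z hz hzP hiso) hO
  rw [h.center_eq_bot, mem_bot] at hcen
  exact hz1 hcen

end Simple

theorem isSolvable_of_good
    (hFT : ∀ (X : Type u) [Group X] [Finite X], Odd (Nat.card X) → Group.IsSolvable X) :
    ∀ (n : ℕ) (G : Type u) [Group G] [Finite G] (k : ℕ) (V : G → Prop), Good k V → Nat.card G = n →
      Group.IsSolvable G := by
  intro n
  induction n using Nat.strong_induction_on with
  | _ n ih =>
  intro G _ _ k V hV hn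
  by_contra hns
  haveI : Nontrivial G := not_subsingleton_iff_nontrivial.mp fun _ => hns inferInstance
  have hsub : ∀ H : Subgroup G, H ≠ ⊤ → Group.IsSolvable H := fun H hH =>
    ih _ (hn ▸ (H.card_le_card_group).lt_of_ne (fun e => hH (eq_top_of_card_eq H e))) H k _
      (hV.restrict H) rfl
  obtain ⟨R, hRmax⟩ := Set.Finite.exists_maximal
    (Set.toFinite {N : Subgroup G | N.Normal ∧ N ≠ ⊤}) ⟨⊥, inferInstance, bot_ne_top⟩
  haveI hRn : R.Normal := hRmax.1.1
  have hR : R ≠ ⊤ := hRmax.1.2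
  set π := QuotientGroup.mk' R with hπ
  haveI : Nontrivial (G ⧸ R) := QuotientGroup.nontrivial_iff.mpr hR
  haveI : IsSimpleGroup (G ⧸ R) := ⟨fun N hN => by
    by_cases hNt : N = ⊤
    · exact Or.inr hNt
    · left
      have h1 : N.comap π ≤ R := hRmax.2 ⟨inferInstance, fun e => hNt (by
        rw [← map_comap_eq_self_of_surjective (QuotientGroup.mk'_surjective R) N, ← hπ, e,
          map_top_of_surjective _ (QuotientGroup.mk'_surjective R)])⟩
        (QuotientGroup.le_comap_mk' R N)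
      rw [← map_comap_eq_self_of_surjective (QuotientGroup.mk'_surjective R) N, eq_bot_iff,
        map_le_iff_le_comap, ← hπ]
      refine h1.trans ?_
      rw [MonoidHom.comap_bot, hπ, QuotientGroup.ker_mk']⟩
  haveI : Group.IsSolvable R := hsub R hR
  have hnsS : ¬ Group.IsSolvable (G ⧸ R) := fun hs => hns
    (Group.isSolvable_of_ker_le_range R.subtype π (by rw [QuotientGroup.ker_mk', range_subtype]))
  have hnc : ∃ a b : G ⧸ R, a * b ≠ b * a := by
    by_contra hc
    push Not at hc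
    exact hnsS (Group.isSolvable_of_comm hc)
  have heven : 2 ∣ Nat.card (G ⧸ R) := by
    by_contra hodd
    exact hnsS (hFT _ (Nat.not_even_iff_odd.mp fun he => hodd he.two_dvd))
  set T : Set (G ⧸ R) := {s | s ≠ 1 ∧ ∃ t : G, V t ∧ (∃ i, orderOf t = 2 ^ i) ∧ π t = s}
  have hcore : ∀ H : Subgroup (G ⧸ R), H ≠ ⊤ → ∀ s ∈ T, ∀ hs : s ∈ H,
      (⟨s, hs⟩ : H) ∈ pCore 2 ↥H := by
    rintro H hH _ ⟨-, t, htv, ⟨i, hi⟩, rfl⟩ hs
    have hW : H.comap π ≠ ⊤ := fun e => hH (by
      rw [← map_comap_eq_self_of_surjective (QuotientGroup.mk'_surjective R) H, ← hπ, e,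
        map_top_of_surjective _ (QuotientGroup.mk'_surjective R)])
    haveI := hsub _ hW
    have h1 := val_mem_pCore (hV.restrict (H.comap π)) Nat.prime_two (x := ⟨t, hs⟩) htv
      (by rw [← orderOf_coe]; exact hi)
    haveI := Fact.mk Nat.prime_two
    exact HallCore.map_pCore_le (π.subgroupComap_surjective_of_surjective H
      (QuotientGroup.mk'_surjective R)) (mem_map_of_mem _ h1)
  have hsolS : ∀ H : Subgroup (G ⧸ R), H ≠ ⊤ → Group.IsSolvable H := by
    intro H hH
    haveI := hsub (H.comap π) (fun e => hH (by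
      rw [← map_comap_eq_self_of_surjective (QuotientGroup.mk'_surjective R) H, ← hπ, e,
        map_top_of_surjective _ (QuotientGroup.mk'_surjective R)]))
    exact Group.isSolvable_of_surjective
      (π.subgroupComap_surjective_of_surjective H (QuotientGroup.mk'_surjective R))
  refine Hyp.false (S := G ⧸ R) (T := T)
    ⟨hnc, hsolS, hnsS, fun s hs => hs.1, ?_, hcore, ?_⟩ heven
  · rintro g _ ⟨h1, t, htv, ⟨i, hi⟩, rfl⟩
    obtain ⟨g, rfl⟩ := QuotientGroup.mk'_surjective R g
    refine ⟨fun e => h1 (conj_eq_one_iff.mp e), g * t * g⁻¹, hV.conj g t htv, ⟨i, ?_⟩, ?_⟩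
    · rw [← hi]; exact orderOf_injective (MulAut.conj g).toMonoidHom (MulAut.conj g).injective t
    · simp only [map_mul, map_inv]; rfl
  · intro U hU a ha hodd hne
    haveI := Fact.mk Nat.prime_two
    obtain ⟨m, hm⟩ := IsPGroup.iff_card.mp hU
    obtain ⟨t, htv, hto, htU, ht1⟩ := exists_val_lift k π (QuotientGroup.mk'_surjective R) hU ha
      (by rw [hm]; exact (Nat.coprime_two_right.mpr hodd).pow_right m) hne
    exact ⟨π t, ⟨ht1, t, hV.val t htv, hto, rfl⟩, htU⟩

end Cfsg.Agent.ValueCriterion67
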