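import Mathlib
import Cfsg.Agent.Lib.ValueSolvable67
import Cfsg.Agent.Lib.FittingHallBasic

/-! The nilpotency criterion for a term of the lower central series. -/

set_option autoImplicit false
set_option linter.unusedSectionVars false

open Subgroup
open scoped commutatorElement

namespace Cfsg.Agent.ValueCriterion67

universe u

variable {G : Type u} [Group G]

/-- The commutator used by the statement. -/
abbrev bracket (a b : G) : G := a * b * a⁻¹ * b⁻¹

theorem isVal_foldl : ∀ (l : List G) (a : G) (j : ℕ), IsVal j a → IsVal (j + l.length) (l.foldl bracket a)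
  | [], _, _, h => h
  | b :: l, a, j, h => by
    have := isVal_foldl l (bracket a b) (j + 1) ⟨a, b, h, rfl⟩
    rw [List.length_cons, show j + (l.length + 1) = j + 1 + l.length by omega]
    exact this

theorem exists_foldl_of_isVal : ∀ {k : ℕ} {x : G}, IsVal k x →
    ∃ (a : G) (l : List G), l.length = k ∧ x = l.foldl bracket a
  | 0, x, _ => ⟨x, [], rfl, rfl⟩
  | k + 1, x, ⟨a, b, ha, hx⟩ => by
    obtain ⟨c, l, hl, rfl⟩ := exists_foldl_of_isVal ha
    exact ⟨c, l ++ [b], by simp [hl], by rw [List.foldl_concat]; exact hx⟩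

theorem isVal_iff (k : ℕ) (x : G) : IsVal k x ↔
    ∃ f : Fin (k + 1) → G, x = ((List.ofFn f).tail).foldl (fun a b => a * b * a⁻¹ * b⁻¹) (f 0) := by
  constructor
  · intro h
    obtain ⟨a, l, hl, hx⟩ := exists_foldl_of_isVal h
    subst hl
    refine ⟨fun i => (a :: l).get i, ?_⟩
    have h1 : List.ofFn (fun i : Fin (l.length + 1) => (a :: l).get i) = a :: l := List.ofFn_get (a :: l)
    erw [h1]
    exact hx
  · rintro ⟨f, rfl⟩
    have := isVal_foldl (List.ofFn f).tail (f 0) 0 trivial
    rwa [List.length_tail, List.length_ofFn, Nat.add_sub_cancel, zero_add] at this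

theorem nilpotent_iff [Finite G]
    (hFT : ∀ (X : Type u) [Group X] [Finite X], Odd (Nat.card X) → Group.IsSolvable X) (k : ℕ) :
    Group.IsNilpotent ↥((⊤ : Subgroup G).lowerCentralSeries k) ↔
      ∀ x y : G, (∃ f : Fin (k + 1) → G, x = ((List.ofFn f).tail).foldl (fun a b => a * b * a⁻¹ * b⁻¹) (f 0)) →
        (∃ f : Fin (k + 1) → G, y = ((List.ofFn f).tail).foldl (fun a b => a * b * a⁻¹ * b⁻¹) (f 0)) →
        (orderOf x).Coprime (orderOf y) →
        (∀ r : ℕ, r.Prime → r ∣ orderOf x * orderOf y → r ∣ orderOf (x * y)) ∨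
          orderOf x * orderOf y ≤ orderOf (x * y) := by
  constructor
  · intro hnil x y hx hy hco
    have hxm := isVal_mem ((isVal_iff k x).mpr hx)
    have hym := isVal_mem ((isVal_iff k y).mpr hy)
    haveI := hnil
    have hc : Commute x y := congrArg Subtype.val (FittingHallBasic.commute_of_coprime_orderOf
      (a := (⟨x, hxm⟩ : ↥((⊤ : Subgroup G).lowerCentralSeries k))) (b := ⟨y, hym⟩)
      (by rwa [Subgroup.orderOf_mk, Subgroup.orderOf_mk])).eq
    exact Or.inr (hc.orderOf_mul_eq_mul_orderOf_of_coprime hco).ge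
  · intro h
    have hV : Good k (IsVal (G := G) k) := good_of_cond fun x y hx hy =>
      h x y ((isVal_iff k x).mp hx) ((isVal_iff k y).mp hy)
    haveI := isSolvable_of_good hFT _ G k _ hV rfl
    exact lcs_nilpotent hV

end Cfsg.Agent.ValueCriterion67
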