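/-
Groups whose vanishing elements all have prime-power order for one fixed prime.
-/
import Mathlib
import Cfsg.Prelude.Def_Blocks
import Cfsg.Prelude.Def_Solvable
import Cfsg.Agent.S0173
import Cfsg.Agent.S0191
import Cfsg.Agent.S4456
import Cfsg.Agent.S4558
import Cfsg.Agent.Lib.CharAverage
import Cfsg.Agent.Lib.CharInducedCorr
import Cfsg.Agent.Lib.CharInducedRep
import Cfsg.Agent.Lib.CharItoMichlerPSolvable

set_option autoImplicit false

open scoped Pointwise

namespace Cfsg.Agent.VanishingPElem56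

open Cfsg.Agent.CharBasic Cfsg.Agent.CharBasicOrth Cfsg.Agent.CharInduced

universe u

variable {G : Type u} [Group G] [Finite G]

/-- Some irreducible character separates a non-identity element from the identity. -/
theorem exists_apply_ne_one {z : G} (hz : z ≠ 1) :
    ∃ χ : Cfsg.IrrCharacter G, (χ : G → ℂ) z ≠ (χ : G → ℂ) 1 := by
  classical
  by_contra h
  push Not at h
  have h1 := sum_irr_mul_conj z (1 : G)
  rw [if_neg (fun hc => hz (isConj_one_left.1 hc))] at h1
  simp only [h] at h1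
  have h2 := sum_irr_mul_conj (1 : G) (1 : G)
  rw [if_pos (IsConj.refl _), h1] at h2
  exact Nat.cast_ne_zero.2 Nat.card_pos.ne' h2.symm

/-- An element whose commutator with some element is central and nontrivial has a zero. -/
theorem exists_zero_of_commutator_mem_center {u y : G}
    (hc : y * u * y⁻¹ * u⁻¹ ∈ Subgroup.center G) (hne : y * u * y⁻¹ * u⁻¹ ≠ 1) :
    ∃ χ : Cfsg.IrrCharacter G, (χ : G → ℂ) u = 0 := by
  set z := y * u * y⁻¹ * u⁻¹ with hz
  obtain ⟨χ, hχ⟩ := exists_apply_ne_one hne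
  refine ⟨χ, ?_⟩
  obtain ⟨n, ρ, hirr, hρ⟩ := χ.2
  haveI := hirr
  obtain ⟨c, hc'⟩ := CharBasic.exists_scalar_of_mem_center ρ hc
  have hmul : ∀ g : G, (χ : G → ℂ) (z * g) = c * (χ : G → ℂ) g := by
    intro g
    rw [← hρ]
    show LinearMap.trace ℂ _ (ρ (z * g)) = c * LinearMap.trace ℂ _ (ρ g)
    rw [map_mul, hc', smul_mul_assoc, map_smul, smul_eq_mul]
    rfl
  have h1 : z * u = y * u * y⁻¹ := by rw [hz]; group
  have h2 := hmul u
  rw [h1, isClassFunction_irr χ.2 u y] at h2
  by_contra h0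
  have hc1 : c = 1 := (mul_eq_right₀ h0).1 h2.symm
  apply hχ
  have h3 := hmul 1
  rwa [mul_one, hc1, one_mul] at h3

/-- A non-central element of a nilpotent group has a zero. -/
theorem exists_zero_of_not_mem_center {P : Type u} [Group P] [Group.IsNilpotent P] :
    Finite P → ∀ u : P, u ∉ Subgroup.center P →
      ∃ χ : Cfsg.IrrCharacter P, (χ : P → ℂ) u = 0 := by
  refine Group.nilpotent_center_quotient_ind
    (P := fun Q hQ _ => Finite Q → ∀ u : Q, u ∉ Subgroup.center Q →
      ∃ χ : Cfsg.IrrCharacter Q, (χ : Q → ℂ) u = 0) P ?_ ?_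
  · intro Q _ _ _ u hu
    exact absurd (by rw [Subsingleton.elim u 1]; exact one_mem _) hu
  · intro P _ _ ih hfin u hu
    haveI := hfin
    by_cases hq : (u : P ⧸ Subgroup.center P) ∈ Subgroup.center (P ⧸ Subgroup.center P)
    · obtain ⟨y, hy⟩ : ∃ y : P, y * u ≠ u * y := by
        by_contra h
        push Not at h
        exact hu (Subgroup.mem_center_iff.2 h)
      refine exists_zero_of_commutator_mem_center (y := y) ?_ ?_
      · rw [← QuotientGroup.eq_one_iff]
        have h1 := Subgroup.mem_center_iff.1 hq (y : P ⧸ Subgroup.center P)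
        simp only [QuotientGroup.mk_mul, QuotientGroup.mk_inv]
        rw [h1]; group
      · intro h
        rw [mul_inv_eq_one, mul_inv_eq_iff_eq_mul] at h
        exact hy h
    · obtain ⟨ψ, hψ⟩ := ih inferInstance _ hq
      exact ⟨⟨_, CharBasic.isIrrCharacter_comap (QuotientGroup.mk' _)
        (QuotientGroup.mk'_surjective _) ψ.2⟩, hψ⟩

/-- An element of prime-power order acting nontrivially on a normal subgroup of coprime order
moves an irreducible character. -/
theorem exists_moved {p : ℕ} [Fact p.Prime] (N : Subgroup G) [N.Normal]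
    (hN : (Nat.card N).Coprime p) {u : G} (hu : ∃ j, orderOf u = p ^ j)
    (hne : ∃ n ∈ N, u * n ≠ n * u) :
    ∃ θ : Cfsg.IrrCharacter N, conjFun N (θ : N → ℂ) u ≠ (θ : N → ℂ) := by
  classical
  by_contra h
  push Not at h
  set α : MulAut N := MulAut.conjNormal u with hα
  have hfix : ∀ θ : Cfsg.IrrCharacter N, (θ : N → ℂ) ∘ α = (θ : N → ℂ) := by
    intro θ
    have h1 := h θ
    rw [conjFun_eq_comp] at h1
    exact h1
  have hcard := Cfsg.Agent.S0173.result (G := N) α
  rw [Nat.card_congr (Equiv.subtypeUnivEquiv hfix)] at hcard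
  haveI := Fintype.ofFinite (ConjClasses N)
  have hall : ∀ C : ConjClasses N, ConjClasses.map α.toMonoidHom C = C := by
    intro C
    by_contra hC
    have hlt : Nat.card {C : ConjClasses N // ConjClasses.map α.toMonoidHom C = C} <
        Nat.card (ConjClasses N) := by
      rw [Nat.card_eq_fintype_card, Nat.card_eq_fintype_card]
      exact Fintype.card_subtype_lt hC
    have h2 : Nat.card (ConjClasses N) = Nat.card (Cfsg.IrrCharacter N) := by
      have h3 := Cfsg.Agent.S0173.result (G := N) (MulEquiv.refl N)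
      rw [Nat.card_congr (Equiv.subtypeUnivEquiv fun C => ?_),
        Nat.card_congr (Equiv.subtypeUnivEquiv fun θ => ?_)] at h3
      · exact h3
      · rfl
      · obtain ⟨x, rfl⟩ := ConjClasses.exists_rep C
        rfl
    omega
  let S : Subgroup (MulAut N) :=
    { carrier := {φ | ∀ m : N, IsConj (φ m) m}
      one_mem' := fun m => IsConj.refl m
      mul_mem' := fun {a b} ha hb m => (ha (b m)).trans (hb m)
      inv_mem' := fun {a} ha m => by
        have := ha (a⁻¹ m)
        rw [MulAut.apply_inv_self] at this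
        exact this.symm }
  have hαS : α ∈ S := fun m => ConjClasses.mk_eq_mk_iff_isConj.1 (hall (ConjClasses.mk m))
  have hAS : Subgroup.zpowers α ≤ S := Subgroup.zpowers_le.2 hαS
  have hA : IsPGroup p (Subgroup.zpowers α) := by
    obtain ⟨j, hj⟩ := hu
    have : orderOf α ∣ p ^ j := hj ▸ orderOf_map_dvd MulAut.conjNormal u
    obtain ⟨i, -, hi⟩ := (Nat.dvd_prime_pow (Fact.out : p.Prime)).1 this
    exact IsPGroup.of_card (n := i) (by rw [Nat.card_zpowers, hi])
  obtain ⟨n, hn, hun⟩ := hne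
  let C : Subgroup N := (Subgroup.centralizer ({u} : Set G)).subgroupOf N
  have htop : C = ⊤ := by
    refine Cfsg.Agent.CharItoMichler.eq_top_of_conj_meets C fun m => ?_
    letI : MulAction (Subgroup.zpowers α) {x : N // IsConj m x} :=
      { smul := fun φ x => ⟨(φ : MulAut N) x.1, x.2.trans (hAS φ.2 x.1).symm⟩
        one_smul := fun x => Subtype.ext rfl
        mul_smul := fun a b x => Subtype.ext rfl }
    have hp : ¬ p ∣ Nat.card {x : N // IsConj m x} := fun hd =>
      ((Fact.out : p.Prime).coprime_iff_not_dvd.1 hN.symm)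
        (hd.trans (Dvd.intro _ (CharBasicOrth.card_conj_mul_card_centralizer m)))
    obtain ⟨⟨x, hx⟩, hxf⟩ := hA.nonempty_fixed_point_of_prime_not_dvd_card _ hp
    have hxu : α x = x := congrArg Subtype.val (hxf ⟨α, Subgroup.mem_zpowers α⟩)
    obtain ⟨g, hg⟩ := isConj_iff.1 hx
    refine ⟨g⁻¹, ?_⟩
    rw [inv_inv, hg, Subgroup.mem_subgroupOf, Subgroup.mem_centralizer_singleton_iff]
    have h4 := congrArg Subtype.val hxu
    rw [hα, MulAut.conjNormal_apply, mul_inv_eq_iff_eq_mul] at h4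
    exact h4.symm
  have hmem : (⟨n, hn⟩ : N) ∈ C := htop ▸ Subgroup.mem_top _
  rw [Subgroup.mem_subgroupOf, Subgroup.mem_centralizer_singleton_iff] at hmem
  exact hun hmem.symm

/-- A character vanishes on the coset of an element which is central modulo a normal subgroup
and moves one of the characters of that subgroup. -/
theorem exists_zero_of_moved (N : Subgroup G) [N.Normal] {u : G}
    (hc : (u : G ⧸ N) ∈ Subgroup.center (G ⧸ N)) (θ : Cfsg.IrrCharacter N)
    (hu : conjFun N (θ : N → ℂ) u ≠ (θ : N → ℂ)) {g : G} (hg : (g : G ⧸ N) = (u : G ⧸ N)) :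
    ∃ χ : Cfsg.IrrCharacter G, (χ : G → ℂ) g = 0 := by
  classical
  haveI := Fintype.ofFinite G
  let T := inertia N (θ : N → ℂ)
  have hNT : N ≤ T := le_inertia N (isClassFunction_irr θ.2)
  have hθ' := isIrrCharacter_toSubgroupOf N T hNT θ.2
  have hind := isCharacter_ind (N.subgroupOf T) (CharBasic.isCharacter_of_isIrrCharacter hθ')
  obtain ⟨d, hd, hd1⟩ := isIrrCharacter_apply_one hθ'
  obtain ⟨ψ, hψ, hne⟩ := exists_constituent hind (isCharacter_ne_zero_of_apply_one
    (d := (N.subgroupOf T).index * d)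
    (Nat.mul_pos (Nat.pos_of_ne_zero Subgroup.index_ne_zero_of_finite) hd)
    (by rw [ind_one_apply, hd1, Nat.cast_mul]))
  have hres : Cfsg.IsCharacter N (fun n : N => ψ ⟨n, hNT n.2⟩) :=
    CharBasic.isCharacter_comap (Subgroup.inclusion hNT)
      (CharBasic.isCharacter_of_isIrrCharacter hψ)
  rw [inner_ind_subgroupOf N T hNT _ (isClassFunction_irr hψ),
    classInner_comm_of_isCharacter (CharBasic.isCharacter_of_isIrrCharacter θ.2) hres] at hne
  refine ⟨⟨_, ind_inertia_irr N T hNT θ.2 (fun _ => Iff.rfl) hψ hne⟩, ?_⟩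
  show indFun T ψ g = 0
  rw [indFun_apply, Finset.sum_eq_zero, mul_zero]
  intro x _
  refine ext_zero_of_not_mem ψ fun hx => hu ?_
  have h1 : ((x⁻¹ * g * x : G) : G ⧸ N) = (u : G ⧸ N) := by
    rw [QuotientGroup.mk_mul, QuotientGroup.mk_mul, hg, QuotientGroup.mk_inv, mul_assoc,
      ← Subgroup.mem_center_iff.1 hc, inv_mul_cancel_left]
  rw [QuotientGroup.eq] at h1
  have := T.mul_mem hx (hNT h1)
  rwa [mul_inv_cancel_left] at this

theorem main (hna : ¬ IsMulCommutative G) (p : ℕ) [hp : Fact p.Prime]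
    (hvan : ∀ g : G, (∃ χ : Cfsg.IrrCharacter G, (χ : G → ℂ) g = 0) →
      ∃ m : ℕ, 1 ≤ m ∧ orderOf g = p ^ m) :
    IsPGroup p G ∨ (Subgroup.center G = Cfsg.pCore p G ∧
      ∃ H : Subgroup (G ⧸ Subgroup.center G), Cfsg.IsFrobeniusComplement H ∧ IsPGroup p H) := by
  classical
  -- Burnside: zeros of nonlinear characters
  have hzero : ∀ χ : Cfsg.IrrCharacter G, Cfsg.charDegree (χ : G → ℂ) ≠ 1 →
      ∃ g : G, (χ : G → ℂ) g = 0 := by
    intro χ hd
    obtain ⟨n, ρ, hirr, hρ⟩ := χ.2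
    haveI := hirr
    have h1 : (χ : G → ℂ) 1 = (Cfsg.charDegree (χ : G → ℂ) : ℂ) := CharAverage.irr_apply_one χ
    have hn : Cfsg.charDegree (χ : G → ℂ) = n := by
      rw [← hρ, Representation.char_one, Module.finrank_fin_fun] at h1
      rw [← hρ]; exact_mod_cast h1.symm
    obtain ⟨g, hg⟩ := Cfsg.Agent.S0191.result ρ (by
      rw [Module.finrank_fin_fun]
      have := CharAverage.irr_degree_pos χ
      omega)
    exact ⟨g, by rw [← hρ]; exact hg⟩
  obtain ⟨N, hNn, hNp, k, hk⟩ := Cfsg.Agent.S4456.result p hp.out (fun χ hd => by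
    obtain ⟨g, hg⟩ := hzero χ hd
    obtain ⟨m, -, hm⟩ := hvan g ⟨χ, hg⟩
    exact Cfsg.Agent.S4558.result p _ (CharBasic.isCharacter_of_isIrrCharacter χ.2) g ⟨m, hm⟩ hg)
  haveI := hNn
  by_cases hN1 : N = ⊥
  · exact Or.inl (IsPGroup.of_card (n := k) (by rw [← hk, hN1, Subgroup.index_bot]))
  refine Or.inr ?_
  obtain ⟨P⟩ : Nonempty (Sylow p G) := inferInstance
  -- the Sylow subgroup is a complement
  have hPcard : Nat.card (P : Subgroup G) = p ^ k := by
    rw [P.card_eq_multiplicity, ← N.card_mul_index, hk,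
      Nat.factorization_mul (Nat.card_pos).ne' (pow_ne_zero _ hp.out.ne_zero), Finsupp.add_apply,
      Nat.factorization_eq_zero_of_not_dvd (hp.out.coprime_iff_not_dvd.1 hNp.symm),
      hp.out.factorization_pow, Finsupp.single_eq_same, zero_add]
  have hcompl : Subgroup.IsComplement' N (P : Subgroup G) :=
    Subgroup.isComplement'_of_coprime (by rw [hPcard, ← hk, Subgroup.card_mul_index])
      (by rw [hPcard]; exact hNp.pow_right k)
  have hNP : N ⊓ (P : Subgroup G) = ⊥ := disjoint_iff.1 hcompl.disjoint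
  have hNPone : ∀ x : G, x ∈ N → x ∈ (P : Subgroup G) → x = 1 := fun x h1 h2 =>
    Subgroup.mem_bot.1 (hNP ▸ ⟨h1, h2⟩)
  have hdec : ∀ g : G, ∃ a ∈ N, ∃ v ∈ (P : Subgroup G), g = a * v := by
    intro g
    obtain ⟨⟨a, v⟩, h⟩ := hcompl.2 g
    exact ⟨a.1, a.2, v.1, v.2, h.symm⟩
  have hQ : IsPGroup p (G ⧸ N) := IsPGroup.of_card (n := k) (by rw [← Subgroup.index_eq_card, hk])
  haveI : Group.IsNilpotent (G ⧸ N) := hQ.isNilpotent
  -- elements of the complement centralizing something nontrivial are central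
  have key : ∀ u ∈ (P : Subgroup G), ∀ a ∈ N, a ≠ 1 → u * a = a * u → u ∈ Subgroup.center G := by
    intro u hu a ha ha1 hua
    obtain ⟨j, hj⟩ := IsPGroup.iff_orderOf.1 P.isPGroup' ⟨u, hu⟩
    rw [Subgroup.orderOf_mk] at hj
    have hnv : ∀ χ : Cfsg.IrrCharacter G, (χ : G → ℂ) (a * u) ≠ 0 := by
      intro χ h0
      obtain ⟨m, -, hm⟩ := hvan _ ⟨χ, h0⟩
      have hda : orderOf a ∣ Nat.card N := Subgroup.orderOf_dvd_natCard N ha
      have hcop : (orderOf a).Coprime (orderOf u) :=
        hj ▸ (Nat.Coprime.coprime_dvd_left hda hNp).pow_right j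
      rw [Commute.orderOf_mul_eq_mul_orderOf_of_coprime hua.symm hcop] at hm
      have : orderOf a ∣ p ^ m := hm ▸ Dvd.intro _ rfl
      exact ha1 (orderOf_eq_one_iff.1 (Nat.eq_one_of_dvd_coprimes
        ((Nat.Coprime.coprime_dvd_left hda hNp).pow_right m) dvd_rfl this))
    have hau : ((a * u : G) : G ⧸ N) = (u : G ⧸ N) := by
      rw [QuotientGroup.mk_mul, (QuotientGroup.eq_one_iff a).2 ha, one_mul]
    have hc : (u : G ⧸ N) ∈ Subgroup.center (G ⧸ N) := by
      by_contra hc
      obtain ⟨ψ, hψ⟩ := exists_zero_of_not_mem_center inferInstance _ hc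
      refine hnv ⟨_, CharBasic.isIrrCharacter_comap (QuotientGroup.mk' N)
        (QuotientGroup.mk'_surjective N) ψ.2⟩ ?_
      show (ψ : G ⧸ N → ℂ) ((a * u : G) : G ⧸ N) = 0
      rw [hau]; exact hψ
    have hcN : ∀ n ∈ N, u * n = n * u := by
      by_contra h
      push Not at h
      obtain ⟨n, hn, hne⟩ := h
      obtain ⟨θ, hθ⟩ := exists_moved N hNp ⟨j, hj⟩ ⟨n, hn, hne⟩
      obtain ⟨χ, hχ⟩ := exists_zero_of_moved N hc θ hθ hau
      exact hnv χ hχ
    rw [Subgroup.mem_center_iff]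
    intro g
    obtain ⟨b, hb, v, hv, rfl⟩ := hdec g
    have hvu : v * u = u * v := by
      have h1 := Subgroup.mem_center_iff.1 hc (v : G ⧸ N)
      rw [← QuotientGroup.mk_mul, ← QuotientGroup.mk_mul, QuotientGroup.eq] at h1
      exact inv_mul_eq_one.1 (hNPone _ h1
        (mul_mem (inv_mem (mul_mem hv hu)) (mul_mem hu hv)))
    rw [mul_assoc, hvu, ← mul_assoc, ← hcN b hb, mul_assoc]
  -- the complement is not central
  have hPZ : ¬ (P : Subgroup G) ≤ Subgroup.center G := by
    intro hle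
    apply hna
    refine ⟨⟨CharBasicLinear.comm_of_forall_apply_one ?_⟩⟩
    rintro ⟨χ, hχ⟩
    show χ 1 = 1
    have h1 : χ 1 = (Cfsg.charDegree χ : ℂ) :=
      CharAverage.irr_apply_one (⟨χ, hχ⟩ : Cfsg.IrrCharacter G)
    by_contra hd
    obtain ⟨g, hg⟩ := hzero ⟨χ, hχ⟩ fun h => hd (by rw [h1]; exact_mod_cast h)
    obtain ⟨m, -, hm⟩ := hvan g ⟨⟨χ, hχ⟩, hg⟩
    obtain ⟨b, hb, v, hv, rfl⟩ := hdec g
    have hvz := hle hv
    have hb1 : b = 1 := by
      have h2 : (orderOf b).Coprime (orderOf v) := by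
        obtain ⟨j, hj⟩ := IsPGroup.iff_orderOf.1 P.isPGroup' ⟨v, hv⟩
        rw [Subgroup.orderOf_mk] at hj
        exact hj ▸ (Nat.Coprime.coprime_dvd_left (Subgroup.orderOf_dvd_natCard N hb) hNp).pow_right j
      rw [Commute.orderOf_mul_eq_mul_orderOf_of_coprime (Subgroup.mem_center_iff.1 hvz b) h2] at hm
      exact orderOf_eq_one_iff.1 (Nat.eq_one_of_dvd_coprimes
        ((Nat.Coprime.coprime_dvd_left (Subgroup.orderOf_dvd_natCard N hb) hNp).pow_right m) dvd_rfl
        (hm ▸ Dvd.intro _ rfl))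
    rw [hb1, one_mul] at hg
    obtain ⟨n, ρ, hirr, hρ⟩ := hχ
    haveI := hirr
    obtain ⟨c, hc⟩ := CharBasic.exists_scalar_of_mem_center ρ hvz
    have hc0 : c ≠ 0 := by
      intro h0
      have h3 : ρ v * ρ v⁻¹ = 1 := by rw [← map_mul, mul_inv_cancel, map_one]
      rw [hc, h0, zero_smul, zero_mul] at h3
      haveI := CharBasic.nontrivial_of_irreducible ρ
      exact zero_ne_one h3
    have hn := CharBasic.finrank_pos_of_irreducible ρ
    replace hg : ρ.character v = 0 := by rw [hρ]; exact hg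
    replace hg : LinearMap.trace ℂ _ (ρ v) = 0 := hg
    rw [hc, map_smul, LinearMap.trace_id, smul_eq_mul, mul_eq_zero] at hg
    exact hg.elim hc0 fun h => by
      have h4 : Module.finrank ℂ (Fin n → ℂ) = 0 := by exact_mod_cast h
      omega
  obtain ⟨u₀, hu₀, hu₀Z⟩ := SetLike.not_le_iff_exists.1 hPZ
  have hNZ : ∀ z ∈ N, z ∈ Subgroup.center G → z = 1 := fun z hz hzc =>
    by_contra fun h => hu₀Z (key u₀ hu₀ z hz h (Subgroup.mem_center_iff.1 hzc u₀))
  have hZP : Subgroup.center G ≤ (P : Subgroup G) := by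
    intro z hz
    obtain ⟨b, hb, v, hv, rfl⟩ := hdec z
    by_cases hb1 : b = 1
    · rw [hb1, one_mul]; exact hv
    exfalso
    have hcomm : v * b = b * v := by
      have h1 := Subgroup.mem_center_iff.1 hz b
      rw [mul_assoc] at h1
      exact (mul_left_cancel h1).symm
    have hvZ := key v hv b hb hb1 hcomm
    exact hb1 (hNZ b hb ((Subgroup.mul_mem_cancel_right _ hvZ).1 hz))
  have hcore : Subgroup.center G = Cfsg.pCore p G := by
    refine le_antisymm (le_sSup ⟨inferInstance, P.isPGroup'.to_le hZP⟩) (sSup_le ?_)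
    rintro M ⟨hMn, hMp⟩ x hx
    haveI := hMn
    obtain ⟨a, ha, ha1⟩ : ∃ a ∈ N, a ≠ 1 := by
      by_contra h
      push Not at h
      exact hN1 ((Subgroup.eq_bot_iff_forall N).2 h)
    refine key x (hMp.le_sylow_of_normal P hx) a ha ha1 ?_
    refine Subgroup.commute_of_normal_of_disjoint M N hMn hNn ?_ x a hx ha
    rw [disjoint_iff, Subgroup.eq_bot_iff_forall]
    rintro y ⟨hy1, hy2⟩
    exact hNPone y hy2 (hMp.le_sylow_of_normal P hy1)
  refine ⟨hcore, (P : Subgroup G).map (QuotientGroup.mk' _), ⟨?_, ?_, ?_⟩, P.isPGroup'.map _⟩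
  · rw [Ne, Subgroup.map_eq_bot_iff, QuotientGroup.ker_mk']
    exact hPZ
  · intro h
    have h1 := congrArg (Subgroup.comap (QuotientGroup.mk' (Subgroup.center G))) h
    rw [Subgroup.comap_map_eq, QuotientGroup.ker_mk', sup_eq_left.2 hZP, Subgroup.comap_top] at h1
    refine hN1 ?_
    rw [Subgroup.eq_bot_iff_forall]
    exact fun y hy => hNPone y hy (h1 ▸ Subgroup.mem_top y)
  · intro q hq
    obtain ⟨g, rfl⟩ := QuotientGroup.mk'_surjective _ q
    rw [Subgroup.eq_bot_iff_forall]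
    rintro y ⟨hy1, hy2⟩
    obtain ⟨x, hx, rfl⟩ := hy1
    replace hy2 := Subgroup.mem_pointwise_smul_iff_inv_smul_mem.1 hy2
    rw [MulAut.smul_def, MulAut.conj_inv_apply, ← map_inv, ← map_mul, ← map_mul] at hy2
    have h1 : g⁻¹ * x * g ∈ (P : Subgroup G) := by
      have h2 : g⁻¹ * x * g ∈ Subgroup.comap (QuotientGroup.mk' (Subgroup.center G))
          ((P : Subgroup G).map (QuotientGroup.mk' _)) := hy2
      rwa [Subgroup.comap_map_eq, QuotientGroup.ker_mk', sup_eq_left.2 hZP] at h2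
    obtain ⟨b, hb, v, hv, rfl⟩ := hdec g
    have hb1 : b ≠ 1 := fun h => hq ⟨v, hv, by rw [h, one_mul]⟩
    have h3 : b⁻¹ * x * b ∈ (P : Subgroup G) := by
      have := mul_mem (mul_mem hv h1) (inv_mem hv)
      convert this using 1
      group
    have h4 : b⁻¹ * x * b * x⁻¹ = 1 := by
      refine hNPone _ ?_ (mul_mem h3 (inv_mem hx))
      have := mul_mem (inv_mem hb) (hNn.conj_mem b hb x)
      convert this using 1
      group
    rw [mul_inv_eq_one, mul_assoc, inv_mul_eq_iff_eq_mul] at h4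
    exact (QuotientGroup.eq_one_iff x).2 (key x hx b hb hb1 h4)

end Cfsg.Agent.VanishingPElem56
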