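import Mathlib
import Cfsg.Agent.Lib.CharInducedCorr
import Cfsg.Agent.Lib.CharCliffordCorr
import Cfsg.Agent.Lib.CoprimeGen
import Cfsg.Agent.Lib.HallSolvable

/-!
Vanishing elements of order divisible by `p` in a finite solvable group: if no two of them are related as
`g`, `g ^ m` with `1 < m` dividing the order of `g` and `O_p = 1`, then the Sylow `p`-subgroups have order at most `p`.
-/

set_option autoImplicit false

namespace Cfsg.Agent.Vanish9

open scoped commutatorElement

open Cfsg Cfsg.Agent.CharBasic Cfsg.Agent.CharBasicDecomp Cfsg.Agent.CharInduced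

universe u

/-- `g` is a vanishing element. -/
def Van {G : Type u} [Group G] (g : G) : Prop := ∃ χ : IrrCharacter G, (χ : G → ℂ) g = 0

theorem van_of_map {G H : Type u} [Group G] [Group H] (f : G →* H) (hf : Function.Surjective f)
    {g : G} (h : Van (f g)) : Van g := by
  obtain ⟨χ, hχ⟩ := h
  exact ⟨⟨(χ : H → ℂ) ∘ f, isIrrCharacter_comap f hf χ.2⟩, hχ⟩

theorem van_of_mk {G : Type u} [Group G] {N : Subgroup G} [N.Normal] {g : G}
    (h : Van (g : G ⧸ N)) : Van g :=
  van_of_map (QuotientGroup.mk' N) (QuotientGroup.mk'_surjective N) h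

theorem eq_one_of_pow_coprime {M : Type*} [Monoid M] {x : M} {m n : ℕ} (h : m.Coprime n)
    (hm : x ^ m = 1) (hn : x ^ n = 1) : x = 1 := by
  have h1 : x ^ Nat.gcd m n = 1 := pow_gcd_eq_one.2 ⟨hm, hn⟩
  rwa [h.gcd_eq_one, pow_one] at h1

theorem pow_card_mem {M : Type*} [Group M] {H : Subgroup M} {x : M} (hx : x ∈ H) :
    x ^ Nat.card H = 1 := by
  have h1 : (⟨x, hx⟩ : H) ^ Nat.card H = 1 := pow_card_eq_one'
  exact congrArg Subtype.val h1

theorem aux_div {M : Type*} [CommGroup M] (w p1 p2 p3 : M) :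
    p1 / p2 = w / p3 * (p1 / w / (p2 / p3)) := by
  rw [div_div_div_eq]
  simp only [div_eq_mul_inv, mul_inv]
  rw [show w * p3⁻¹ * (p1 * p3 * (w⁻¹ * p2⁻¹)) = (w * w⁻¹) * (p3⁻¹ * p3) * (p1 * p2⁻¹) by ac_rfl,
    mul_inv_cancel, inv_mul_cancel, one_mul, one_mul]

theorem aux_div' {M : Type*} [CommGroup M] {a b c d : M} (h : a * b = c * d) : a / c = d / b := by
  rw [div_eq_div_iff_mul_eq_mul, h, mul_comm]

theorem aux_cancel {M : Type*} [CommGroup M] (a b : M) : a * (b / a) = b := mul_div_cancel a b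

variable {G : Type u} [Group G] [Finite G]

/-- An element no conjugate of which stabilises an irreducible character of a normal subgroup is
vanishing. -/
theorem van_of_inertia (U : Subgroup G) [U.Normal] {θ : U → ℂ} (hθ : IsIrrCharacter U θ) {g : G}
    (hg : ∀ x : G, x⁻¹ * g * x ∉ inertia U θ) : Van g := by
  classical
  have := Fintype.ofFinite G
  have := Fintype.ofFinite U
  have := Fintype.ofFinite (inertia U θ : Subgroup G)
  have hθc := isCharacter_of_isIrrCharacter hθ
  have hind := isCharacter_ind U hθc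
  have hne : indFun U θ ≠ 0 := fun h0 => by
    have h1 := ind_one_apply (G := G) U θ
    rw [h0, Pi.zero_apply] at h1
    rcases mul_eq_zero.1 h1.symm with h2 | h2
    · exact Subgroup.index_ne_zero_of_finite (Nat.cast_eq_zero.1 h2)
    · exact isIrrCharacter_apply_one_ne_zero hθ h2
  obtain ⟨χ, hχ, hc⟩ := exists_constituent hind hne
  rw [inner_ind_left U θ (isClassFunction_irr hχ),
    classInner_comm_of_isCharacter hθc (isCharacter_res U (isCharacter_of_isIrrCharacter hχ))] at hc
  obtain ⟨ψ, -, hψ, -⟩ := CharCliffordCorr.clifford_correspondence U hχ hθ hc (inertia U θ) rfl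
    (le_inertia U (isClassFunction_irr hθ))
  exact ⟨⟨χ, hχ⟩, (congrFun hψ g).symm.trans (ind_eq_zero_of_not_conj _ _ _ hg)⟩

/-- Regular orbit on linear characters for a coprime abelian action. -/
theorem exists_free_character (U L : Subgroup G) [U.Normal] (hU : IsMulCommutative U)
    (hab : ∀ a ∈ L, ∀ b ∈ L, a * b * a⁻¹ * b⁻¹ ∈ Subgroup.centralizer (U : Set G))
    (hexp : ∀ a ∈ L, ∃ k : ℕ, k.Coprime (Nat.card U) ∧ a ^ k ∈ Subgroup.centralizer (U : Set G)) :
    ∃ θ : U → ℂ, IsIrrCharacter U θ ∧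
      ∀ a ∈ L, a ∈ inertia U θ → a ∈ Subgroup.centralizer (U : Set G) := by
  classical
  let T : G → (U →* ℂˣ) → (U →* ℂˣ) := fun a l => l.comp (MulAut.conjNormal a).toMonoidHom
  have Tval : ∀ (a : G) (l : U →* ℂˣ) (x : U),
      T a l x = l ⟨a * x * a⁻¹, Subgroup.Normal.conj_mem ‹_› _ x.2 a⟩ := fun a l x =>
    congrArg l (Subtype.ext (MulAut.conjNormal_apply a x))
  have Tmul : ∀ a b l, T (a * b) l = T b (T a l) := fun a b l => by
    ext x
    rw [Tval, Tval, Tval]
    congr 2
    ext
    simp [mul_assoc]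
  have Tone : ∀ l, T 1 l = l := fun l => by
    ext x; rw [Tval]; simp
  have Tdiv : ∀ a l m, T a (l / m) = T a l / T a m := fun a l m => rfl
  have Tpm : ∀ a l m, T a (l * m) = T a l * T a m := fun a l m => rfl
  have Tcent : ∀ a ∈ Subgroup.centralizer (U : Set G), ∀ l, T a l = l := fun a ha l => by
    ext x
    rw [Tval]
    congr 2
    ext
    simp only
    rw [← Subgroup.mem_centralizer_iff.1 ha x x.2, mul_inv_cancel_right]
  have Tcomm : ∀ a ∈ L, ∀ b ∈ L, ∀ l, T a (T b l) = T b (T a l) := fun a ha b hb l => by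
    have : b * a = (b * a * b⁻¹ * a⁻¹) * (a * b) := by group
    rw [← Tmul, ← Tmul, this, Tmul _ (a * b), Tcent _ (hab b hb a ha)]
  let F : (U →* ℂˣ) → Set G := fun l => {a | a ∈ L ∧ T a l = l}
  obtain ⟨l, -, hmin⟩ := Set.exists_min_image (Set.univ : Set (U →* ℂˣ)) (fun l => (F l).ncard)
    (Set.toFinite _) ⟨1, trivial⟩
  refine ⟨fun x => (l x : ℂ), isIrrCharacter_linear l, fun d hd hdI => ?_⟩
  by_contra hdC
  have hdl : T d l = l := by
    ext x
    rw [Tval]
    exact (mem_inertia_iff U).1 hdI x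
  obtain ⟨k, hk, hkC⟩ := hexp d hd
  -- a fixed commutator is trivial
  have key : ∀ w u : U →* ℂˣ, T d u = u → T d w = w * u → u = 1 := by
    intro w u hu hw
    have hi : ∀ i : ℕ, T (d ^ i) w = w * u ^ i := by
      intro i
      induction i with
      | zero =>
        refine (Tone w).trans ?_ |> fun h => (congrArg (fun x => T x w) (pow_zero d)).trans h
        exact ((congrArg (w * ·) (pow_zero u)).trans (mul_one w)).symm
      | succ i ih =>
        rw [pow_succ, Tmul, ih, Tpm, hw]
        have : T d (u ^ i) = u ^ i := by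
          conv_rhs => rw [← hu]
          rfl
        rw [this]
        exact (mul_assoc w u (u ^ i)).trans (congrArg _ (pow_succ' u i).symm)
    have h1 : u ^ k = 1 := by
      have := hi k
      rw [Tcent _ hkC] at this
      exact left_eq_mul (a := w).1 this
    have h2 : u ^ Nat.card U = 1 := by
      ext x
      rw [MonoidHom.pow_apply, ← map_pow, pow_card_eq_one', map_one, MonoidHom.one_apply]
    exact eq_one_of_pow_coprime (M := U →* ℂˣ) hk h1 h2
  obtain ⟨w, hw⟩ : ∃ w, T d w ≠ w := by
    by_contra hno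
    push_neg at hno
    refine hdC (Subgroup.mem_centralizer_iff.2 fun x hx => ?_)
    letI : CommGroup U := { (inferInstance : Group U) with mul_comm := hU.is_comm.comm }
    by_contra hne
    have hne' : (⟨d * x * d⁻¹, Subgroup.Normal.conj_mem ‹_› _ hx d⟩ : U) / ⟨x, hx⟩ ≠ 1 := by
      rw [ne_eq, div_eq_one, Subtype.ext_iff]
      exact fun h => hne (mul_inv_eq_iff_eq_mul.1 h).symm
    obtain ⟨φ, hφ⟩ := CommGroup.exists_apply_ne_one_of_hasEnoughRootsOfUnity U ℂ hne'
    apply hφ
    rw [map_div, div_eq_one, ← Tval d φ ⟨x, hx⟩, hno φ]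
  set ν := T d w / w
  have hsub : F (l * ν) ⊂ F l := by
    refine ⟨fun a ha => ⟨ha.1, ?_⟩, fun hcon => ?_⟩
    · have h := ha.2
      rw [Tpm] at h
      set u := T a l / l with hu
      have hud : T d u = u := by
        rw [hu, Tdiv, Tcomm d hd a ha.1, hdl]
      have hu2 : u = ν / T a ν := by
        rw [hu]; exact aux_div' (M := U →* ℂˣ) h
      have hu3 : T d (w / T a w) = (w / T a w) * u := by
        rw [hu2, Tdiv, Tcomm d hd a ha.1]
        simp only [ν, Tdiv]
        exact aux_div w (T d w) (T a (T d w)) (T a w)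
      have := key _ u hud hu3
      exact div_eq_one.1 this
    · have h := (hcon ⟨hd, hdl⟩).2
      rw [Tpm, hdl, mul_right_inj] at h
      refine hw (div_eq_one.1 (key w ν h ?_))
      exact (aux_cancel w (T d w)).symm
  exact (Set.ncard_lt_ncard hsub (Set.toFinite _)).not_ge (hmin _ trivial)

/-- Everything in `K ∖ O_{p'}` vanishes when `K / O_{p'}` is an abelian normal `p`-subgroup. -/
theorem van_of_abelian [Group.IsSolvable G] {p : ℕ} [hp : Fact p.Prime]
    (hcore : Cfsg.pCore p G = ⊥) (K : Subgroup G) [K.Normal] (hNK : Cfsg.pPrimeCore p G ≤ K)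
    (hab : ∀ a ∈ K, ∀ b ∈ K, a * b * a⁻¹ * b⁻¹ ∈ Cfsg.pPrimeCore p G)
    (hpp : ∀ a ∈ K, ∃ c : ℕ, a ^ p ^ c ∈ Cfsg.pPrimeCore p G)
    {g : G} (hg : g ∈ K) (hgN : g ∉ Cfsg.pPrimeCore p G) : Van g := by
  classical
  induction hsz : Nat.card K using Nat.strong_induction_on generalizing K with
  | _ n ih =>
  subst hsz
  set N := Cfsg.pPrimeCore p G
  have hNcop : (Nat.card N).Coprime p := HallCore.coprime_card_pPrimeCore p G
  have hNpow : ∀ x ∈ N, ∀ c : ℕ, x ^ p ^ c = 1 → x = 1 := fun x hx c hc =>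
    eq_one_of_pow_coprime ((Nat.Coprime.pow_left c hNcop.symm)) hc
      (pow_card_mem hx)
  -- the part generated by `p`-elements
  let K0 := Subgroup.closure {x : G | x ∈ K ∧ ∃ c : ℕ, x ^ p ^ c = 1}
  have hK0K : K0 ≤ K := (Subgroup.closure_le K).2 fun x hx => hx.1
  have hK0n : K0.Normal := by
    refine ⟨fun x hx s => ?_⟩
    have hle : K0.map (MulAut.conj s).toMonoidHom ≤ K0 := by
      rw [MonoidHom.map_closure]
      refine Subgroup.closure_mono ?_
      rintro _ ⟨y, ⟨hy, c, hc⟩, rfl⟩
      refine ⟨by simpa using Subgroup.Normal.conj_mem ‹_› y hy s, c, ?_⟩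
      rw [← map_pow, hc, map_one]
    exact hle ⟨x, hx, rfl⟩
  -- the `p`-part of `g`
  obtain ⟨a, m, hm, ho⟩ := Nat.exists_eq_pow_mul_and_not_dvd (orderOf_pos g).ne' p hp.out.ne_one
  have hmp : m.Coprime p := ((hp.out.coprime_iff_not_dvd).2 hm).symm
  set y := g ^ m
  have hyp : y ^ p ^ a = 1 := by
    rw [← pow_mul, mul_comm, ← ho, pow_orderOf_eq_one]
  have hy0 : y ∈ K0 := Subgroup.subset_closure ⟨K.pow_mem hg m, a, hyp⟩
  have hy1 : y ≠ 1 := fun h1 => by
    obtain ⟨c, hc⟩ := hpp g hg
    apply hgN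
    have hq : ((g : G ⧸ N)) = 1 := eq_one_of_pow_coprime (Nat.Coprime.pow_right c hmp)
      (by rw [← QuotientGroup.mk_pow, show g ^ m = 1 from h1]; rfl)
      (by rw [← QuotientGroup.mk_pow, (QuotientGroup.eq_one_iff _).2 hc])
    exact (QuotientGroup.eq_one_iff _).1 hq
  have hgpN : g ^ p ^ a ∈ N := by
    have hh : ((g ^ p ^ a : G) : G ⧸ N) = 1 := by
      obtain ⟨c, hc⟩ := hpp _ (K.pow_mem hg (p ^ a))
      exact eq_one_of_pow_coprime (Nat.Coprime.pow_right c hmp)
        (by rw [← QuotientGroup.mk_pow, ← pow_mul, ← ho, pow_orderOf_eq_one]; rfl)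
        (by rw [← QuotientGroup.mk_pow, (QuotientGroup.eq_one_iff _).2 hc])
    exact (QuotientGroup.eq_one_iff _).1 hh
  set M := K0 ⊓ N
  have hM : M ≠ ⊥ := fun h0 => by
    have hK0p : IsPGroup p K0 := fun x => by
      obtain ⟨c, hc⟩ := hpp x (hK0K x.2)
      refine ⟨c, Subtype.ext ?_⟩
      have : (x : G) ^ p ^ c ∈ M := ⟨K0.pow_mem x.2 _, hc⟩
      rw [h0, Subgroup.mem_bot] at this
      simpa using this
    have := HallCore.le_pCore (p := p) hK0p hy0
    rw [hcore, Subgroup.mem_bot] at this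
    exact hy1 this
  -- a chief factor below
  obtain ⟨R, ⟨hRn, hRM⟩, hRmax⟩ := Set.exists_max_image {R : Subgroup G | R.Normal ∧ R < M}
    (fun R => Nat.card R) (Set.toFinite _) ⟨⊥, inferInstance, bot_lt_iff_ne_bot.2 hM⟩
  let q := QuotientGroup.mk' R
  have hq : Function.Surjective q := QuotientGroup.mk'_surjective R
  have : M.Normal := inferInstance
  set U := M.map q
  have hUn : U.Normal := Subgroup.Normal.map ‹_› q hq
  have hU1 : U ≠ ⊥ := fun h0 => by
    rw [Subgroup.map_eq_bot_iff, QuotientGroup.ker_mk'] at h0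
    exact hRM.not_ge h0
  have hmin : ∀ V : Subgroup (G ⧸ R), V.Normal → V < U → V = ⊥ := by
    intro V hV hVU
    by_contra hV0
    have h1 : R < V.comap q := by
      refine lt_of_le_of_ne ?_ fun e => hV0 ?_
      · exact (QuotientGroup.ker_mk' R).symm.le.trans (q.ker_le_comap V)
      · rw [← Subgroup.map_comap_eq_self_of_surjective hq V, ← e, QuotientGroup.map_mk'_self]
    have h2 : V.comap q < M := by
      have h3 : M = U.comap q := by
        rw [Subgroup.comap_map_eq_self (by rw [QuotientGroup.ker_mk']; exact hRM.le)]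
      rw [h3]
      exact (Subgroup.comap_lt_comap_of_surjective hq).2 hVU
    have := hRmax (V.comap q) ⟨inferInstance, h2⟩
    exact absurd this (not_le.2 ((Set.ncard_lt_ncard h1 (Set.toFinite _))))
  have : Group.IsSolvable (G ⧸ R) := solvable_of_surjective hq
  have hUab : IsMulCommutative U := by
    have hlt : (⁅U, U⁆ : Subgroup (G ⧸ R)) < U := Group.IsSolvable.commutator_lt_of_ne_bot hU1
    have h0 := hmin (⁅U, U⁆ : Subgroup (G ⧸ R)) inferInstance hlt
    refine ⟨⟨fun x z => Subtype.ext ?_⟩⟩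
    have h1 : ⁅(x : G ⧸ R), (z : G ⧸ R)⁆ ∈ (⁅U, U⁆ : Subgroup (G ⧸ R)) :=
      Subgroup.commutator_mem_commutator x.2 z.2
    rw [h0, Subgroup.mem_bot, commutatorElement_eq_one_iff_mul_comm] at h1
    exact h1
  have hUcop : (Nat.card U).Coprime p := by
    refine hNcop.coprime_dvd_left ?_
    exact (Subgroup.card_map_dvd M q).trans (Subgroup.card_dvd_of_le inf_le_right)
  have hCU : (Subgroup.centralizer (U : Set (G ⧸ R))).Normal := inferInstance
  set C := K0 ⊓ (Subgroup.centralizer (U : Set (G ⧸ R))).comap q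
  by_cases hyC : y ∈ C
  · -- pass to a smaller subgroup
    have hC : C.Normal := inferInstance
    have hlt : N ⊔ C < K := by
      refine lt_of_le_of_ne (sup_le hNK (inf_le_left.trans hK0K)) fun e => ?_
      -- then `K0` centralises `U`, which is absurd
      have hK0C : K0 ≤ (Subgroup.centralizer (U : Set (G ⧸ R))).comap q := by
        intro x hx
        have hxK : x ∈ ((N ⊔ C : Subgroup G) : Set G) := e.symm ▸ hK0K hx
        rw [Subgroup.normal_mul N C] at hxK
        obtain ⟨s, hs, c, hc, rfl⟩ := Set.mem_mul.1 hxK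
        have hsM : s ∈ M := ⟨by simpa using K0.mul_mem hx (K0.inv_mem hc.1), hs⟩
        refine Subgroup.mul_mem _ ?_ hc.2
        rw [Subgroup.mem_comap, Subgroup.mem_centralizer_iff]
        intro v hv
        exact congrArg Subtype.val (hUab.is_comm.comm ⟨v, hv⟩ ⟨q s, s, hsM, rfl⟩)
      -- so the images of the `p`-elements commute
      have hgen : ∀ x1 ∈ {x : G | x ∈ K ∧ ∃ c : ℕ, x ^ p ^ c = 1},
          ∀ x2 ∈ {x : G | x ∈ K ∧ ∃ c : ℕ, x ^ p ^ c = 1}, Commute (q x1) (q x2) := by
        intro x1 hx1 x2 hx2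
        obtain ⟨c, hc⟩ := hx1.2
        set z := q x1 * q x2 * (q x1)⁻¹ * (q x2)⁻¹
        have hzU : z ∈ U := by
          refine ⟨x1 * x2 * x1⁻¹ * x2⁻¹, ⟨?_, hab _ hx1.1 _ hx2.1⟩, by simp [z]⟩
          have h1 := Subgroup.subset_closure (k := {x : G | x ∈ K ∧ ∃ c : ℕ, x ^ p ^ c = 1}) hx1
          have h2 := Subgroup.subset_closure (k := {x : G | x ∈ K ∧ ∃ c : ℕ, x ^ p ^ c = 1}) hx2
          exact K0.mul_mem (K0.mul_mem (K0.mul_mem h1 h2) (K0.inv_mem h1)) (K0.inv_mem h2)
        have hz1 : Commute z (q x1) :=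
          Subgroup.mem_centralizer_iff.1 (hK0C (Subgroup.subset_closure hx1)) z hzU
        have hz2 : Commute z (q x2) :=
          Subgroup.mem_centralizer_iff.1 (hK0C (Subgroup.subset_closure hx2)) z hzU
        have hconj : q x1 * q x2 * (q x1)⁻¹ = z * q x2 := by simp [z]
        have hi : ∀ i : ℕ, q x1 ^ i * q x2 * (q x1 ^ i)⁻¹ = z ^ i * q x2 := by
          intro i
          induction i with
          | zero => simp
          | succ i ih =>
            calc q x1 ^ (i + 1) * q x2 * (q x1 ^ (i + 1))⁻¹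
                = q x1 * (q x1 ^ i * q x2 * (q x1 ^ i)⁻¹) * (q x1)⁻¹ := by
                  rw [pow_succ']; group
              _ = (q x1 * z ^ i * (q x1)⁻¹) * (q x1 * q x2 * (q x1)⁻¹) := by rw [ih]; group
              _ = z ^ i * (z * q x2) := by
                  rw [((hz1.pow_left i).symm).eq, mul_inv_cancel_right, hconj]
              _ = z ^ (i + 1) * q x2 := by rw [pow_succ]; exact (mul_assoc _ _ _).symm
        have h1 := hi (p ^ c)
        rw [← map_pow, hc, map_one] at h1
        have hz : z = 1 := eq_one_of_pow_coprime (Nat.Coprime.pow_left c hUcop.symm)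
          (by simpa using h1.symm)
          (pow_card_mem hzU)
        rw [hz, one_mul] at hconj
        exact (mul_inv_eq_iff_eq_mul.1 hconj)
      -- hence the image of `K0` is a `p`-group
      let P0 : Subgroup (G ⧸ R) := K0.map q
      have hP0 : P0 = Subgroup.closure (q '' {x : G | x ∈ K ∧ ∃ c : ℕ, x ^ p ^ c = 1}) :=
        MonoidHom.map_closure q _
      have hall : ∀ x ∈ P0, ∃ c : ℕ, x ^ p ^ c = 1 := by
        intro x hx
        have hx' := hx
        rw [hP0] at hx'
        have hcomm : IsMulCommutative P0 := by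
          rw [hP0]
          exact Subgroup.isMulCommutative_closure (by
            rintro _ ⟨x1, hx1, rfl⟩ _ ⟨x2, hx2, rfl⟩
            exact hgen x1 hx1 x2 hx2)
        induction hx' using Subgroup.closure_induction with
        | mem x h =>
          obtain ⟨x1, ⟨_, c, hc⟩, rfl⟩ := h
          exact ⟨c, by rw [← map_pow, hc, map_one]⟩
        | one => exact ⟨0, one_pow _⟩
        | mul x1 x2 h1 h2 ih1 ih2 =>
          rw [← hP0] at h1 h2
          obtain ⟨c1, hc1⟩ := ih1 h1
          obtain ⟨c2, hc2⟩ := ih2 h2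
          refine ⟨c1 + c2, ?_⟩
          have hc : Commute x1 x2 := congrArg Subtype.val (hcomm.is_comm.comm ⟨x1, h1⟩ ⟨x2, h2⟩)
          rw [hc.mul_pow, pow_add, pow_mul, hc1, one_pow, mul_comm (p ^ c1), pow_mul, hc2,
            one_pow, one_mul]
        | inv x1 h1 ih1 =>
          rw [← hP0] at h1
          obtain ⟨c1, hc1⟩ := ih1 h1
          exact ⟨c1, by rw [inv_pow, hc1, inv_one]⟩
      refine hU1 ((Subgroup.eq_bot_iff_forall _).2 fun v hv => ?_)
      obtain ⟨c, hc⟩ := hall v (Subgroup.map_mono inf_le_left hv)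
      exact eq_one_of_pow_coprime (Nat.Coprime.pow_left c hUcop.symm) hc
        (pow_card_mem hv)
    have : (N ⊔ C).Normal := inferInstance
    refine ih _ (Set.ncard_lt_ncard hlt (Set.toFinite _)) (N ⊔ C) le_sup_left
      (fun x hx z hz => hab x (hlt.le hx) z (hlt.le hz)) (fun x hx => hpp x (hlt.le hx)) ?_ rfl
    obtain ⟨i, j, hij⟩ : ∃ i j : ℤ, i * (m : ℤ) + j * ((p ^ a : ℕ) : ℤ) = 1 :=
      ((Nat.Coprime.pow_right a hmp).isCoprime)
    have hg' : g = y ^ i * (g ^ p ^ a) ^ j := by
      rw [show y = g ^ (m : ℤ) from (zpow_natCast g m).symm, ← zpow_natCast g (p ^ a), ← zpow_mul,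
        ← zpow_mul, ← zpow_add, mul_comm (m : ℤ), mul_comm ((p ^ a : ℕ) : ℤ), hij, zpow_one]
    rw [hg']
    exact Subgroup.mul_mem _ (Subgroup.zpow_mem _ (Subgroup.mem_sup_right hyC) i)
      (Subgroup.zpow_mem _ (Subgroup.mem_sup_left hgpN) j)
  · -- a character of `U` not stabilised by any conjugate of `y`
    refine van_of_mk (N := R) ?_
    have hL : (K0.map q).Normal := Subgroup.Normal.map hK0n q hq
    have hUC : U ≤ Subgroup.centralizer (U : Set (G ⧸ R)) := fun v hv =>
      Subgroup.mem_centralizer_iff.2 fun w hw =>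
        congrArg Subtype.val (hUab.is_comm.comm ⟨w, hw⟩ ⟨v, hv⟩)
    obtain ⟨θ, hθ, hfree⟩ := exists_free_character U (K0.map q) hUab
      (by
        rintro _ ⟨x1, hx1, rfl⟩ _ ⟨x2, hx2, rfl⟩
        refine hUC ⟨x1 * x2 * x1⁻¹ * x2⁻¹, ⟨?_, hab _ (hK0K hx1) _ (hK0K hx2)⟩, by simp⟩
        exact K0.mul_mem (K0.mul_mem (K0.mul_mem hx1 hx2) (K0.inv_mem hx1)) (K0.inv_mem hx2))
      (by
        rintro _ ⟨x1, hx1, rfl⟩
        obtain ⟨c, hc⟩ := hpp x1 (hK0K hx1)
        refine ⟨p ^ c, Nat.Coprime.pow_left c hUcop.symm, hUC ?_⟩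
        rw [← map_pow]
        exact ⟨_, ⟨K0.pow_mem hx1 _, hc⟩, rfl⟩)
    refine van_of_inertia U hθ fun s hs => hyC ⟨hy0, ?_⟩
    have hs' : s⁻¹ * q y * s ∈ inertia U θ := by
      have h1 : (s⁻¹ * q g * s) ^ m ∈ inertia U θ := Subgroup.pow_mem _ hs m
      have h2 : (s⁻¹ * q g * s) ^ m = s⁻¹ * q y * s := by
        rw [show y = g ^ m from rfl, map_pow]
        have := conj_pow (i := m) (a := s⁻¹) (b := q g)
        rwa [inv_inv] at this
      rwa [h2] at h1
    have h3 := hfree _ (by simpa using hL.conj_mem _ ⟨y, hy0, rfl⟩ s⁻¹) hs'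
    show q y ∈ Subgroup.centralizer (U : Set (G ⧸ R))
    simpa [mul_assoc] using hCU.conj_mem _ h3 s

/-- An element moved by a conjugation into a non-trivial coset multiple vanishes. -/
theorem van_of_commutator {p : ℕ} [hp : Fact p.Prime] {z y a : G} (hz : orderOf z = p)
    (hZ : (Subgroup.zpowers z).Normal) (haz : Commute a z) (hay : a * y * a⁻¹ = y * z) :
    Van y := by
  classical
  have := Fintype.ofFinite G
  have hz1 : z ≠ 1 := fun h => by rw [h, orderOf_one] at hz; exact hp.out.ne_one hz.symm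
  obtain ⟨χ, hχ⟩ : ∃ χ : IrrCharacter G, (χ : G → ℂ) z ≠ (χ : G → ℂ) 1 := by
    by_contra h
    push_neg at h
    obtain ⟨c, hc⟩ := isConj_iff.1 ((CharBasicOrth.isConj_iff_forall_irr z 1).2 h)
    exact hz1 (conj_eq_one_iff.1 hc)
  obtain ⟨n, ρ, hirr, hρ⟩ := χ.2
  refine ⟨χ, ?_⟩
  rw [← hρ] at hχ ⊢
  have hi : ∀ i : ℕ, a ^ i * y * (a ^ i)⁻¹ = y * z ^ i := by
    intro i
    induction i with
    | zero => simp
    | succ i ih =>
      calc a ^ (i + 1) * y * (a ^ (i + 1))⁻¹ = a * (a ^ i * y * (a ^ i)⁻¹) * a⁻¹ := by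
            rw [pow_succ']; group
        _ = (a * y * a⁻¹) * (a * z ^ i * a⁻¹) := by rw [ih]; group
        _ = y * z * z ^ i := by rw [hay, (haz.pow_right i).eq, mul_inv_cancel_right]
        _ = y * z ^ (i + 1) := by rw [pow_succ', mul_assoc]
  have hc : ∀ i : ℕ, ρ.character (y * z ^ i) = ρ.character y := fun i => by
    rw [← hi, Representation.char_conj]
  let S : Module.End ℂ (Fin n → ℂ) := ∑ i ∈ Finset.range p, ρ (z ^ i)
  have hS : ρ z * S = S := by
    have h1 : ρ z * S = ∑ i ∈ Finset.range p, ρ (z ^ (i + 1)) := by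
      rw [Finset.mul_sum]
      refine Finset.sum_congr rfl fun i _ => ?_
      rw [← map_mul, ← pow_succ']
    have h2 := Finset.sum_range_succ' (fun i => ρ (z ^ i)) p
    have h3 := Finset.sum_range_succ (fun i => ρ (z ^ i)) p
    have hzp : z ^ p = 1 := hz ▸ pow_orderOf_eq_one z
    simp only [hzp, pow_zero] at h2 h3
    rw [h1]
    exact add_right_cancel (h2.symm.trans h3)
  -- the fixed space of `z` is invariant, hence trivial
  let W : Subrepresentation ρ :=
    { toSubmodule := LinearMap.eqLocus (ρ z) (LinearMap.id)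
      apply_mem_toSubmodule := by
        intro g v hv
        have hv' : ρ z v = v := hv
        obtain ⟨k, hk⟩ := mem_powers_iff_mem_zpowers.2 (by
          simpa using hZ.conj_mem z (Subgroup.mem_zpowers z) g⁻¹ : g⁻¹ * z * g ∈ Subgroup.zpowers z)
        have hfix : ∀ j : ℕ, ρ (z ^ j) v = v := by
          intro j
          induction j with
          | zero => simp
          | succ j ih => rw [pow_succ, map_mul, Module.End.mul_apply, hv', ih]
        show ρ z (ρ g v) = ρ g v
        have : z * g = g * z ^ k := by simp only at hk; rw [hk]; group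
        rw [← Module.End.mul_apply, ← map_mul, this, map_mul, Module.End.mul_apply, hfix] }
  have hW : W = ⊥ := by
    refine (hirr.eq_bot_or_eq_top W).resolve_right fun hT => hχ ?_
    have hid : ρ z = 1 := by
      refine LinearMap.ext fun v => ?_
      have : v ∈ W.toSubmodule := by rw [hT]; trivial
      exact this
    simp [Representation.character, hid]
  have hS0 : S = 0 := by
    refine LinearMap.ext fun v => ?_
    have : S v ∈ W.toSubmodule := by
      show ρ z (S v) = S v
      rw [← Module.End.mul_apply, hS]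
    rw [hW] at this
    exact (Submodule.mem_bot ℂ).1 this
  have hsum : ∑ i ∈ Finset.range p, ρ.character (y * z ^ i) = 0 := by
    simp only [Representation.character, map_mul]
    rw [← map_sum, ← Finset.mul_sum]
    show LinearMap.trace ℂ _ (ρ y * S) = 0
    rw [hS0, mul_zero, map_zero]
  rw [Finset.sum_congr rfl fun i _ => hc i, Finset.sum_const, Finset.card_range, nsmul_eq_mul]
    at hsum
  exact (mul_eq_zero.1 hsum).resolve_left (Nat.cast_ne_zero.2 hp.out.ne_zero)

/-- In the situation of the file header, `|P| ≤ p`. -/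
theorem sylow_card_le [Group.IsSolvable G] {p : ℕ} [hp : Fact p.Prime]
    (hcore : Cfsg.pCore p G = ⊥)
    (hC : ∀ g : G, p ∣ orderOf g → Van g → ∀ m : ℕ, 1 < m → m ∣ orderOf g →
      p ∣ orderOf (g ^ m) → ¬ Van (g ^ m))
    (P : Sylow p G) : Nat.card (P : Subgroup G) ≤ p := by
  classical
  set N := Cfsg.pPrimeCore p G
  have hNcop : (Nat.card N).Coprime p := HallCore.coprime_card_pPrimeCore p G
  have hQcore : Cfsg.pPrimeCore p (G ⧸ N) = ⊥ := HallCore.pPrimeCore_quotient_self p G
  have : Group.IsSolvable (G ⧸ N) := solvable_of_surjective (QuotientGroup.mk'_surjective N)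
  set A := Cfsg.pCore p (G ⧸ N)
  have hAp : IsPGroup p A := HallCore.isPGroup_pCore p _
  have hCA : Subgroup.centralizer (A : Set (G ⧸ N)) ≤ A :=
    HallSolvable.centralizer_pCore_le (HallSolvable.isPSolvable_of_solvable p) hQcore
  obtain ⟨e, he⟩ := IsPGroup.iff_card.1 P.2
  have hPdvd : p ^ e ∣ Nat.card (G ⧸ N) := by
    have h1 : p ^ e ∣ Nat.card G := he ▸ Subgroup.card_subgroup_dvd_card _
    rw [Subgroup.card_eq_card_quotient_mul_card_subgroup N] at h1
    exact (Nat.Coprime.pow_left e hNcop.symm).dvd_of_dvd_mul_right h1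
  by_cases hA : Nat.card A ≤ p
  · -- the quotient embeds in the automorphisms of a group of order at most `p`
    obtain ⟨j, hj⟩ := IsPGroup.iff_card.1 hAp
    have hj1 : j ≤ 1 := by
      rw [hj] at hA
      exact (Nat.pow_le_pow_iff_right hp.out.one_lt).1 (hA.trans (pow_one p).ge)
    have : IsCyclic A := by
      interval_cases j
      · rw [pow_zero] at hj
        have : Subsingleton A := (Nat.card_eq_one_iff_unique.1 hj).1
        infer_instance
      · exact isCyclic_of_prime_card (hj.trans (pow_one p))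
    let φ : G ⧸ N →* MulAut A := MulAut.conjNormal
    have hker : φ.ker ≤ A := fun x hx => hCA (Subgroup.mem_centralizer_iff.2 fun v hv => by
      have := congrArg Subtype.val (DFunLike.congr_fun (MonoidHom.mem_ker.1 hx) ⟨v, hv⟩)
      rw [MulAut.conjNormal_apply] at this
      exact (mul_inv_eq_iff_eq_mul.1 this).symm)
    have hd : Nat.card (G ⧸ N) ∣ p ^ j * Nat.totient (p ^ j) := by
      rw [Subgroup.card_eq_card_quotient_mul_card_subgroup φ.ker, mul_comm, ← hj,
        ← IsCyclic.card_mulAut A]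
      refine mul_dvd_mul (Subgroup.card_dvd_of_le hker) ?_
      rw [Nat.card_congr (QuotientGroup.quotientKerEquivRange φ).toEquiv]
      exact Subgroup.card_subgroup_dvd_card _
    have h2 : p ^ e ∣ p ^ j * Nat.totient (p ^ j) := hPdvd.trans hd
    rw [he]
    interval_cases j
    · simp only [pow_zero, Nat.totient_one, mul_one, Nat.dvd_one] at h2
      rw [h2]; exact hp.out.one_lt.le
    · rw [pow_one, Nat.totient_prime hp.out] at h2
      have hcop : (p ^ e).Coprime (p - 1) := Nat.Coprime.pow_left e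
        ((hp.out.coprime_iff_not_dvd).2 (Nat.not_dvd_of_pos_of_lt
          (Nat.sub_pos_of_lt hp.out.one_lt) (Nat.sub_lt hp.out.pos one_pos)))
      exact Nat.le_of_dvd hp.out.pos (hcop.dvd_of_dvd_mul_right h2)
  · exfalso
    push_neg at hA
    have hA1 : Nontrivial A := Finite.one_lt_card_iff_nontrivial.1 (hp.out.one_lt.trans hA)
    -- abelian normal subgroups give vanishing elements
    have habel : ∀ V : Subgroup (G ⧸ N), V.Normal → V ≤ A →
        (∀ a ∈ V, ∀ b ∈ V, a * b = b * a) → ∀ g : G, (g : G ⧸ N) ∈ V → (g : G ⧸ N) ≠ 1 → Van g := by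
      intro V hV hVA hcomm g hg hg1
      refine van_of_abelian hcore (V.comap (QuotientGroup.mk' N)) ?_ ?_ ?_ hg
        (fun h => hg1 ((QuotientGroup.eq_one_iff _).2 h))
      · exact (QuotientGroup.ker_mk' N).symm.le.trans ((QuotientGroup.mk' N).ker_le_comap V)
      · intro a ha b hb
        rw [← QuotientGroup.eq_one_iff]
        have := hcomm _ ha _ hb
        simp only [QuotientGroup.mk_mul, QuotientGroup.mk_inv, QuotientGroup.mk'_apply] at this ⊢
        calc (a : G ⧸ N) * b * (a : G ⧸ N)⁻¹ * (b : G ⧸ N)⁻¹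
            = (b : G ⧸ N) * a * (a : G ⧸ N)⁻¹ * (b : G ⧸ N)⁻¹ := by rw [this]
          _ = 1 := by rw [mul_inv_cancel_right, mul_inv_cancel]
      · intro a ha
        obtain ⟨c, hc⟩ := hAp ⟨_, hVA ha⟩
        refine ⟨c, (QuotientGroup.eq_one_iff _).1 ?_⟩
        simpa using congrArg Subtype.val hc
    obtain ⟨L, hLA, hLcard, hLvan⟩ : ∃ L : Subgroup (G ⧸ N), L ≤ A ∧ p < Nat.card L ∧
        ∀ g : G, (g : G ⧸ N) ∈ L → (g : G ⧸ N) ≠ 1 → Van g := by
      have := hAp.center_nontrivial
      set Z := (Subgroup.center A).map A.subtype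
      have hZn : Z.Normal := ConjAct.normal_of_characteristic_of_normal
      have hZc : ∀ a ∈ Z, ∀ b ∈ A, a * b = b * a := by
        rintro _ ⟨a, ha, rfl⟩ b hb
        exact congrArg Subtype.val ((Subgroup.mem_center_iff.1 ha ⟨b, hb⟩)).symm
      have hZA : Z ≤ A := Subgroup.map_subtype_le _
      have hZvan := habel Z hZn hZA fun a ha b hb => hZc a ha b (hZA hb)
      by_cases hZbig : p < Nat.card Z
      · exact ⟨Z, hZA, hZbig, hZvan⟩
      push_neg at hZbig
      have hZp : Nat.card Z = p := by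
        obtain ⟨j, hj⟩ := IsPGroup.iff_card.1 (hAp.to_le hZA)
        have h1 : 1 < Nat.card Z := by
          rw [Subgroup.card_map_of_injective A.subtype_injective]
          exact Finite.one_lt_card
        rw [hj] at hZbig h1 ⊢
        have : j ≤ 1 := (Nat.pow_le_pow_iff_right hp.out.one_lt).1 (hZbig.trans (pow_one p).ge)
        interval_cases j
        · simp at h1
        · exact pow_one p
      set W := (Subgroup.upperCentralSeries A 2).map A.subtype
      have hWA : W ≤ A := Subgroup.map_subtype_le _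
      have : Group.IsNilpotent A := hAp.isNilpotent
      have hZW : Z < W := by
        refine (Subgroup.map_lt_map_iff_of_injective A.subtype_injective).2 ?_
        have hne : Subgroup.center A ≠ ⊤ := fun h => by
          have : Nat.card Z = Nat.card A := by
            rw [Subgroup.card_map_of_injective A.subtype_injective, h, Subgroup.card_top]
          omega
        have hnon : Nontrivial (A ⧸ Subgroup.center A) := QuotientGroup.nontrivial_iff.2 hne
        have := (hAp.to_quotient (Subgroup.center A)).center_nontrivial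
        rw [← Subgroup.comap_upperCentralSeries_quotient_center 1,
          Subgroup.upperCentralSeries_one]
        refine lt_of_le_of_ne ?_ fun e => ?_
        · exact (QuotientGroup.ker_mk' _).symm.le.trans (MonoidHom.ker_le_comap _ _)
        · have h := congrArg (Subgroup.map (QuotientGroup.mk' (Subgroup.center A))) e
          rw [QuotientGroup.map_mk'_self,
            Subgroup.map_comap_eq_self_of_surjective (QuotientGroup.mk'_surjective _)] at h
          exact Subgroup.nontrivial_iff_ne_bot _ |>.1 this h.symm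
      refine ⟨W, hWA, hZp.symm.trans_lt (Set.ncard_lt_ncard hZW (Set.toFinite _)), ?_⟩
      intro g hg hg1
      by_cases hgZ : (g : G ⧸ N) ∈ Z
      · exact hZvan g hgZ hg1
      obtain ⟨⟨y, hyA⟩, hy, hyg⟩ := hg
      change y = (g : G ⧸ N) at hyg
      subst hyg
      obtain ⟨b, hb⟩ : ∃ b : A, b * ⟨_, hyA⟩ ≠ ⟨_, hyA⟩ * b := by
        by_contra h
        push_neg at h
        exact hgZ ⟨⟨_, hyA⟩, Subgroup.mem_center_iff.2 h, rfl⟩
      set y' : A := ⟨_, hyA⟩
      set z : A := y'⁻¹ * b * y' * b⁻¹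
      have hzc : z ∈ Subgroup.center A := by
        have h := (Subgroup.mem_upperCentralSeries_succ_iff.1 hy) b
        rw [Subgroup.upperCentralSeries_one, commutatorElement_def] at h
        have h2 := Subgroup.Normal.conj_mem inferInstance _ h y'⁻¹
        have h3 : y'⁻¹ * (y' * b * y'⁻¹ * b⁻¹)⁻¹ * y'⁻¹⁻¹ = z := by simp only [z]; group
        have h4 := Subgroup.Normal.conj_mem inferInstance _ (Subgroup.inv_mem _ h) y'⁻¹
        rwa [h3] at h4
      have hz1 : z ≠ 1 := fun h => hb (by
        have h5 : y' * z = 1 * y' := by rw [h]; group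
        simp only [z] at h5
        calc b * y' = (y' * (y'⁻¹ * b * y' * b⁻¹)) * b := by group
          _ = y' * b := by rw [h5, one_mul])
      have hzZ : (z : G ⧸ N) ∈ Z := ⟨z, hzc, rfl⟩
      have hz1' : (z : G ⧸ N) ≠ 1 := fun h => hz1 (Subtype.ext h)
      have hzo : orderOf (z : G ⧸ N) = p := by
        have h1 : orderOf (z : G ⧸ N) ∣ p := (Subgroup.orderOf_dvd_natCard Z hzZ).trans hZp.dvd
        exact ((Nat.dvd_prime hp.out).1 h1).resolve_left (mt orderOf_eq_one_iff.1 hz1')
      refine van_of_mk (N := N) (van_of_commutator (a := (b : G ⧸ N)) hzo ?_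
        (hZc _ hzZ _ b.2).symm ?_)
      · have : Subgroup.zpowers (z : G ⧸ N) = Z :=
          Subgroup.eq_of_le_of_card_ge (by simpa using hzZ) (by rw [Nat.card_zpowers, hzo, hZp])
        rw [this]; exact hZn
      · show (b : G ⧸ N) * (y' : G ⧸ N) * (b : G ⧸ N)⁻¹ = (y' : G ⧸ N) * (z : G ⧸ N)
        simp only [z, Subgroup.coe_mul, Subgroup.coe_inv]
        group
    -- every element over `L` outside `N` has order `p`
    set L1 := L.comap (QuotientGroup.mk' N)
    have horder : ∀ g ∈ L1, g ∉ N → g ^ p = 1 := by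
      intro g hg hgN
      have hg1 : (g : G ⧸ N) ≠ 1 := fun h => hgN ((QuotientGroup.eq_one_iff _).1 h)
      have hpord : ∀ x : G ⧸ N, x ∈ L → x ≠ 1 → p ∣ orderOf x := by
        intro x hx hx1
        obtain ⟨c, hc⟩ := (hAp.to_le hLA) ⟨x, hx⟩
        have hc' : x ^ p ^ c = 1 := by simpa using congrArg Subtype.val hc
        obtain ⟨i, -, hi⟩ := (Nat.dvd_prime_pow hp.out).1 (orderOf_dvd_of_pow_eq_one hc')
        rcases i with _ | i
        · exact absurd (orderOf_eq_one_iff.1 (hi.trans (pow_zero p))) hx1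
        · exact hi ▸ dvd_pow_self p i.succ_ne_zero
      have hdown : ∀ x : G, (x : G ⧸ N) ∈ L → (x : G ⧸ N) ≠ 1 → p ∣ orderOf x := fun x hx hx1 =>
        (hpord _ hx hx1).trans (orderOf_map_dvd (QuotientGroup.mk' N) x)
      have hp1 := hdown g hg hg1
      have hvg := hLvan g hg hg1
      have hgp : g ^ p ∈ N := by
        by_contra h
        have hm : ((g ^ p : G) : G ⧸ N) ∈ L := by rw [QuotientGroup.mk_pow]; exact L.pow_mem hg p
        have h1 : ((g ^ p : G) : G ⧸ N) ≠ 1 := fun e => h ((QuotientGroup.eq_one_iff _).1 e)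
        exact hC g hp1 hvg p hp.out.one_lt hp1 (hdown _ hm h1) (hLvan _ hm h1)
      have hop : orderOf (g ^ p) = orderOf g / p := by
        rw [orderOf_pow' _ hp.out.ne_zero, Nat.gcd_eq_right hp1]
      set m := orderOf (g ^ p)
      have hmp : m.Coprime p := hNcop.coprime_dvd_left (Subgroup.orderOf_dvd_natCard N hgp)
      by_contra hne
      have hm1 : 1 < m := by
        have h0 : 0 < m := orderOf_pos _
        have : m ≠ 1 := fun e => hne (orderOf_eq_one_iff.1 e)
        omega
      have hmg : m ∣ orderOf g := hop ▸ Nat.div_dvd_of_dvd hp1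
      have hmL : ((g ^ m : G) : G ⧸ N) ∈ L := by rw [QuotientGroup.mk_pow]; exact L.pow_mem hg m
      have hm1' : ((g ^ m : G) : G ⧸ N) ≠ 1 := fun e => hg1 (eq_one_of_pow_coprime hmp
        (by rw [← QuotientGroup.mk_pow, e]) (by rw [← QuotientGroup.mk_pow,
          (QuotientGroup.eq_one_iff _).2 hgp]))
      exact hC g hp1 hvg m hm1 hmg (hdown _ hmL hm1') (hLvan _ hmL hm1')
    -- two commuting elements of order `p`
    let S : Sylow p L1 := default
    set S1 := (S : Subgroup L1).map L1.subtype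
    have hS1 : IsPGroup p S1 := S.2.map _
    have hS1N : ∀ x ∈ S1, x ∈ N → x = 1 := fun x hx hxN => by
      obtain ⟨c, hc⟩ := hS1 ⟨x, hx⟩
      exact eq_one_of_pow_coprime (Nat.Coprime.pow_left c hNcop.symm)
        (by simpa using congrArg Subtype.val hc)
        (pow_card_mem hxN)
    have hS1L : S1 ≤ L1 := Subgroup.map_subtype_le _
    have hexp : ∀ x ∈ S1, x ^ p = 1 := fun x hx => by
      by_cases hxN : x ∈ N
      · rw [hS1N x hx hxN, one_pow]
      · exact horder x (hS1L hx) hxN
    have hcard : p < Nat.card S1 := by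
      rw [Subgroup.card_map_of_injective L1.subtype_injective]
      obtain ⟨j, hj⟩ := IsPGroup.iff_card.1 (hAp.to_le hLA)
      obtain ⟨i, hi⟩ := IsPGroup.iff_card.1 S.2
      rw [hi]
      refine lt_of_lt_of_le hLcard (Nat.le_of_dvd (pow_pos hp.out.pos _) ?_)
      rw [hj, ← hi]
      refine Sylow.pow_dvd_card_of_pow_dvd_card S ?_
      rw [← hj, show Nat.card L1 = Nat.card L * Nat.card N from by rw [HallCore.card_comap_mk']]
      exact dvd_mul_right _ _
    have hS1nt : Nontrivial S1 := Finite.one_lt_card_iff_nontrivial.1 (hp.out.one_lt.trans hcard)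
    have := hS1.center_nontrivial
    obtain ⟨⟨z, hzc⟩, hz1⟩ := exists_ne (1 : Subgroup.center S1)
    obtain ⟨y, hy⟩ : ∃ y : S1, y ∉ Subgroup.zpowers z := by
      by_contra h
      push_neg at h
      have h1 : Subgroup.zpowers z = ⊤ := eq_top_iff.2 fun y _ => h y
      have h2 := congrArg (fun H : Subgroup S1 => Nat.card H) h1
      simp only [Nat.card_zpowers, Subgroup.card_top] at h2
      have h3 : orderOf z ∣ p := orderOf_dvd_of_pow_eq_one (Subtype.ext (by simpa using hexp z z.2))
      have := Nat.le_of_dvd hp.out.pos h3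
      omega
    have hzy : Commute (z : G) (y : G) :=
      congrArg Subtype.val ((Subgroup.mem_center_iff.1 hzc y).symm)
    let E := Subgroup.closure ({(z : G), (y : G)} : Set G)
    have hES : E ≤ S1 := (Subgroup.closure_le _).2 (by
      rintro x (rfl | rfl)
      · exact z.2
      · exact y.2)
    have hEcomm : IsMulCommutative E := Subgroup.isMulCommutative_closure (by
      rintro x (rfl | rfl) x' (rfl | rfl) <;>
        first | rfl | exact hzy.eq | exact hzy.eq.symm)
    have hEcyc : ¬ IsCyclic E := fun hcyc => by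
      obtain ⟨⟨w, hw⟩, hgen⟩ := hcyc.exists_generator
      have hwp : orderOf w ∣ p := orderOf_dvd_of_pow_eq_one (hexp w (hES hw))
      have hzne : (z : G) ≠ 1 := fun e => hz1 (Subtype.ext (Subtype.ext e))
      obtain ⟨i, hi⟩ := hgen ⟨z, Subgroup.subset_closure (Or.inl rfl)⟩
      obtain ⟨j, hj⟩ := hgen ⟨y, Subgroup.subset_closure (Or.inr rfl)⟩
      have hi' : w ^ i = (z : G) := by simpa using congrArg Subtype.val hi
      have hj' : w ^ j = (y : G) := by simpa using congrArg Subtype.val hj
      have hzle : Subgroup.zpowers (z : G) = Subgroup.zpowers w := by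
        have hw' : orderOf w = p := ((Nat.dvd_prime hp.out).1 hwp).resolve_left fun e => by
          rw [orderOf_eq_one_iff.1 e, one_zpow] at hi'
          exact hzne hi'.symm
        refine Subgroup.eq_of_le_of_card_ge (Subgroup.zpowers_le.2 ⟨i, hi'⟩) ?_
        rw [Nat.card_zpowers, Nat.card_zpowers, hw']
        exact ((orderOf_eq_prime (hexp z z.2) hzne)).ge
      obtain ⟨k, hk⟩ : (y : G) ∈ Subgroup.zpowers (z : G) := hzle ▸ ⟨j, hj'⟩
      exact hy ⟨k, Subtype.ext (by simpa using hk)⟩
    have hN : N ≤ ⊥ := by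
      refine CoprimeGen.le_of_centralizers hEcyc
        (Subgroup.normalizer_eq_top N ▸ le_top) ?_ ?_
      · obtain ⟨i, hi⟩ := IsPGroup.iff_card.1 (hS1.to_le hES)
        rw [hi]
        exact Nat.Coprime.pow_left i hNcop.symm
      · rintro a ha ha1 v ⟨hvN, hva⟩
        rw [Subgroup.mem_bot]
        have hva' : Commute a v := Subgroup.mem_centralizer_iff.1 hva a rfl
        have haN : a ∉ N := fun h => ha1 (hS1N a (hES ha) h)
        have havN : a * v ∉ N := fun h => haN ((Subgroup.mul_mem_cancel_right N hvN).1 h)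
        have havL : a * v ∈ L1 := L1.mul_mem (hS1L (hES ha)) (show (v : G ⧸ N) ∈ L by
          rw [(QuotientGroup.eq_one_iff v).2 hvN]; exact L.one_mem)
        have h1 := horder _ havL havN
        rw [hva'.mul_pow, hexp a (hES ha), one_mul] at h1
        exact eq_one_of_pow_coprime (by exact hNcop.symm) h1
          (pow_card_mem hvN)
    -- then `L` lifts to a normal `p`-subgroup
    have hAbot : IsPGroup p (A.comap (QuotientGroup.mk' N)) :=
      hAp.comap_of_ker_isPGroup _ (by
        rw [QuotientGroup.ker_mk', le_bot_iff.1 hN]; exact IsPGroup.of_bot)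
    have h1 := HallCore.le_pCore hAbot
    rw [hcore, le_bot_iff] at h1
    have h2 : A = ⊥ := by
      rw [← Subgroup.map_comap_eq_self_of_surjective (QuotientGroup.mk'_surjective N) A, h1,
        Subgroup.map_bot]
    rw [h2, Subgroup.card_bot] at hA
    exact absurd hA (not_lt.2 hp.out.one_lt.le)

end Cfsg.Agent.Vanish9
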