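import Mathlib
import Cfsg.Agent.Lib.PGroupsBasic

/-!
# Vaughan-Lee's breadth theorem

If every conjugacy class of a finite `p`-group has at most `p ^ b` elements, then the derived
subgroup has order at most `p ^ (b * (b + 1) / 2)`.  The induction carries a maximal subgroup `H`
and only bounds the classes of the elements outside `H`.
-/

set_option autoImplicit false
set_option linter.unusedSectionVars false
set_option linter.style.haveILetI false

namespace Cfsg.Agent.VaughanLee

open Subgroup Cfsg.Agent.PGroupsBasic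
open scoped commutatorElement

universe u

/-- `1 + 2 + ... + b`. -/
def tri : ℕ → ℕ
  | 0 => 0
  | b + 1 => tri b + (b + 1)

theorem two_mul_tri (b : ℕ) : 2 * tri b = b * (b + 1) := by
  induction b with
  | zero => rfl
  | succ b ih => rw [tri, mul_add, ih]; ring

theorem tri_eq (b : ℕ) : tri b = b * (b + 1) / 2 := by
  rw [← two_mul_tri b, Nat.mul_div_cancel_left _ two_pos]

theorem tri_mono : Monotone tri :=
  monotone_nat_of_le_succ fun b => by simp [tri]

section Basic

variable {G : Type u} [Group G]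

theorem relIndex_ne_zero_fin [Finite G] (A B : Subgroup G) : A.relIndex B ≠ 0 :=
  index_ne_zero_of_finite

/-- The elements `x` with `⁅x, y⁆ ∈ N`. -/
def commPre (N : Subgroup G) [N.Normal] (y : G) : Subgroup G :=
  (centralizer ({(QuotientGroup.mk' N) y} : Set (G ⧸ N))).comap (QuotientGroup.mk' N)

theorem mem_commPre {N : Subgroup G} [N.Normal] {x y : G} :
    x ∈ commPre N y ↔ ⁅x, y⁆ ∈ N := by
  rw [commPre, mem_comap, mem_centralizer_singleton_iff, ← commutatorElement_eq_one_iff_mul_comm,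
    ← map_commutatorElement, QuotientGroup.mk'_apply, QuotientGroup.eq_one_iff]

theorem centralizer_le_commPre (N : Subgroup G) [N.Normal] (y : G) :
    centralizer ({y} : Set G) ≤ commPre N y := fun x hx => by
  rw [mem_centralizer_singleton_iff, ← commutatorElement_eq_one_iff_mul_comm] at hx
  rw [mem_commPre, hx]
  exact one_mem N

/-- If `M` is normal with abelian image modulo `N` and `M, y` generate `G`, then every element of
`G'` is congruent to some `⁅x, y⁆` with `x ∈ M`. -/
theorem exists_comm_congr {M : Subgroup G} [M.Normal] {y : G} (hMy : M ⊔ zpowers y = ⊤)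
    {N : Subgroup G} [N.Normal] (hN : ⁅M, M⁆ ≤ N) {t : G} (ht : t ∈ commutator G) :
    ∃ x ∈ M, (QuotientGroup.mk' N) ⁅x, y⁆ = (QuotientGroup.mk' N) t := by
  let π := QuotientGroup.mk' N
  have hsurj : Function.Surjective π := QuotientGroup.mk'_surjective N
  let u := π y
  let A := M.map π
  haveI hAn : A.Normal := Subgroup.Normal.map ‹_› π hsurj
  have hcomm : ∀ a ∈ A, ∀ b ∈ A, a * b = b * a := by
    rintro _ ⟨a, ha, rfl⟩ _ ⟨b, hb, rfl⟩
    rw [← commutatorElement_eq_one_iff_mul_comm, ← map_commutatorElement]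
    exact (QuotientGroup.eq_one_iff _).mpr (hN (Subgroup.commutator_mem_commutator ha hb))
  have hcA : ∀ a ∈ A, ⁅a, u⁆ ∈ A := fun a ha => by
    rw [commutatorElement_def, mul_assoc, mul_assoc]
    exact A.mul_mem ha (by simpa [mul_assoc] using hAn.conj_mem _ (A.inv_mem ha) u)
  have hmul : ∀ a ∈ A, ∀ b ∈ A, ⁅a * b, u⁆ = ⁅a, u⁆ * ⁅b, u⁆ := by
    intro a ha b hb
    have e : ⁅a * b, u⁆ = a * ⁅b, u⁆ * a⁻¹ * ⁅a, u⁆ := by
      simp [commutatorElement_def, mul_assoc]
    rw [e, hcomm a ha _ (hcA b hb), mul_inv_cancel_right]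
    exact hcomm _ (hcA b hb) _ (hcA a ha)
  let S : Subgroup (G ⧸ N) :=
    { carrier := {s | ∃ a ∈ A, ⁅a, u⁆ = s}
      one_mem' := ⟨1, one_mem A, commutatorElement_one_left u⟩
      mul_mem' := by
        rintro _ _ ⟨a, ha, rfl⟩ ⟨b, hb, rfl⟩
        exact ⟨a * b, mul_mem ha hb, hmul a ha b hb⟩
      inv_mem' := by
        rintro _ ⟨a, ha, rfl⟩
        refine ⟨a⁻¹, inv_mem ha, eq_inv_of_mul_eq_one_left ?_⟩
        rw [← hmul _ (inv_mem ha) _ ha, inv_mul_cancel, commutatorElement_one_left] }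
  have hgen : A ⊔ zpowers u = ⊤ := by
    have := congrArg (Subgroup.map π) hMy
    rwa [Subgroup.map_sup, MonoidHom.map_zpowers, Subgroup.map_top_of_surjective π hsurj] at this
  have hSA : S ≤ A := by rintro _ ⟨a, ha, rfl⟩; exact hcA a ha
  haveI hSn : S.Normal := by
    refine ⟨fun s hs g => ?_⟩
    have hg : g ∈ A ⊔ zpowers u := hgen ▸ mem_top g
    rw [Subgroup.mem_sup_of_normal_left] at hg
    obtain ⟨a, ha, z, hz, rfl⟩ := hg
    obtain ⟨k, rfl⟩ := Subgroup.mem_zpowers_iff.mp hz
    obtain ⟨b, hb, rfl⟩ := hs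
    refine ⟨u ^ k * b * (u ^ k)⁻¹, hAn.conj_mem b hb _, ?_⟩
    have h1 : u ^ k * u * (u ^ k)⁻¹ = u := by
      rw [(Commute.self_zpow u k).eq.symm, mul_inv_cancel_right]
    have h2 : ⁅u ^ k * b * (u ^ k)⁻¹, u⁆ = u ^ k * ⁅b, u⁆ * (u ^ k)⁻¹ := by
      have h3 := (map_commutatorElement (MulAut.conj (u ^ k)).toMonoidHom b u).symm
      simp only [MulEquiv.coe_toMonoidHom, MulAut.conj_apply, h1] at h3
      exact h3
    have h4 : a * (u ^ k * ⁅b, u⁆ * (u ^ k)⁻¹) * a⁻¹ = u ^ k * ⁅b, u⁆ * (u ^ k)⁻¹ := by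
      rw [hcomm a ha _ (hAn.conj_mem _ (hcA b hb) _), mul_inv_cancel_right]
    rw [h2, mul_inv_rev, ← h4]
    simp only [mul_assoc]
  have hle : ∀ g₁ g₂ : G ⧸ N, ⁅g₁, g₂⁆ ∈ S := by
    intro g₁ g₂
    rw [← QuotientGroup.eq_one_iff, ← QuotientGroup.mk'_apply, map_commutatorElement,
      commutatorElement_eq_one_iff_mul_comm]
    have key : ∀ g : G ⧸ N, ∃ a ∈ A, ∃ k : ℤ, g = a * u ^ k := by
      intro g
      have hg : g ∈ A ⊔ zpowers u := hgen ▸ mem_top g
      rw [Subgroup.mem_sup_of_normal_left] at hg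
      obtain ⟨a, ha, z, hz, rfl⟩ := hg
      obtain ⟨k, rfl⟩ := Subgroup.mem_zpowers_iff.mp hz
      exact ⟨a, ha, k, rfl⟩
    obtain ⟨a, ha, i, rfl⟩ := key g₁
    obtain ⟨b, hb, j, rfl⟩ := key g₂
    let ρ := QuotientGroup.mk' S
    have hab : Commute (ρ a) (ρ b) := by
      rw [Commute, SemiconjBy, ← map_mul, ← map_mul, hcomm a ha b hb]
    have hau : ∀ c ∈ A, Commute (ρ c) (ρ u) := fun c hc => by
      rw [Commute, SemiconjBy, ← commutatorElement_eq_one_iff_mul_comm, ← map_commutatorElement]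
      exact (QuotientGroup.eq_one_iff _).mpr ⟨c, hc, rfl⟩
    show ρ (a * u ^ i) * ρ (b * u ^ j) = ρ (b * u ^ j) * ρ (a * u ^ i)
    rw [map_mul, map_mul, map_zpow, map_zpow]
    exact ((hab.mul_right ((hau a ha).zpow_right j)).mul_left
      (((hau b hb).zpow_right i).symm.mul_right ((Commute.refl (ρ u)).zpow_zpow i j))).eq
  have htS : π t ∈ S := by
    have h1 : (commutator G).map π ≤ S := by
      rw [_root_.commutator_def, Subgroup.map_commutator, Subgroup.commutator_le]
      exact fun _ _ _ _ => hle _ _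
    exact h1 (Subgroup.mem_map_of_mem π ht)
  obtain ⟨_, ⟨x, hx, rfl⟩, hs⟩ := htS
  exact ⟨x, hx, by rw [map_commutatorElement]; exact hs⟩

/-- If `M` is normal with abelian image modulo `N` and `M, y` generate `G`, then
`|G' : N| ≤ |G : {x | ⁅x, y⁆ ∈ N}|`. -/
theorem relIndex_le_index_commPre [Finite G] {M : Subgroup G} [M.Normal] {y : G}
    (hMy : M ⊔ zpowers y = ⊤) (N : Subgroup G) [N.Normal] (hN : ⁅M, M⁆ ≤ N) :
    N.relIndex (commutator G) ≤ (commPre N y).index := by
  let π := QuotientGroup.mk' N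
  let φ : G ⧸ commPre N y → G ⧸ N := fun q => Quotient.liftOn' q (fun x => π ⁅x, y⁆) (by
    intro a b hab
    rw [QuotientGroup.leftRel_apply, mem_commPre] at hab
    have e : ⁅b, y⁆ = a * ⁅a⁻¹ * b, y⁆ * a⁻¹ * ⁅a, y⁆ := by
      simp [commutatorElement_def, mul_assoc]
    have h1 : π ⁅a⁻¹ * b, y⁆ = 1 := (QuotientGroup.eq_one_iff _).mpr hab
    show π ⁅a, y⁆ = π ⁅b, y⁆
    rw [e, map_mul π, map_mul π, map_mul π, h1, mul_one, ← map_mul π, mul_inv_cancel, map_one,
      one_mul])
  have hsub : (((commutator G).map π : Subgroup (G ⧸ N)) : Set (G ⧸ N)) ⊆ Set.range φ := by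
    rintro _ ⟨t, ht, rfl⟩
    obtain ⟨x, -, hx⟩ := exists_comm_congr hMy hN ht
    exact ⟨QuotientGroup.mk x, hx⟩
  have h1 : N.relIndex (commutator G) = Nat.card ((commutator G).map π) := by
    conv_lhs => arg 1; rw [← QuotientGroup.ker_mk' N, ← MonoidHom.comap_bot]
    rw [relIndex_comap, relIndex_bot_left]
  rw [h1, Subgroup.index_eq_card]
  exact (Nat.card_mono (Set.toFinite _) hsub).trans (Finite.card_range_le φ)

theorem card_commutator_le [Finite G] {M : Subgroup G} [M.Normal] {y : G}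
    (hMy : M ⊔ zpowers y = ⊤) :
    Nat.card (commutator G) ≤ (centralizer ({y} : Set G)).index * Nat.card (⁅M, M⁆ : Subgroup G) := by
  have hle : ⁅M, M⁆ ≤ commutator G :=
    Subgroup.commutator_mono le_top le_top
  have h1 := Subgroup.relIndex_mul_relIndex ⊥ ⁅M, M⁆ (commutator G) bot_le hle
  rw [relIndex_bot_left, relIndex_bot_left, mul_comm] at h1
  rw [← h1]
  refine Nat.mul_le_mul_right _ ((relIndex_le_index_commPre hMy _ le_rfl).trans ?_)
  exact Nat.le_of_dvd (Nat.pos_of_ne_zero index_ne_zero_of_finite)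
    (Subgroup.index_dvd_of_le (centralizer_le_commPre _ y))

theorem relIndex_mul_relIndex_le [Finite G] {M : Subgroup G} [M.Normal] {x : G}
    (hMx : M ⊔ zpowers x = ⊤) {L : Subgroup G} [L.Normal] (hx : x ∈ L) (hML : ⁅M, M⁆ ≤ ⁅L, L⁆) :
    (⁅L, L⁆ : Subgroup G).relIndex (commutator G) * (centralizer ({x} : Set G)).relIndex L
      ≤ (centralizer ({x} : Set G)).index := by
  rw [← relIndex_mul_index (centralizer_le_commPre ⁅L, L⁆ x), mul_comm]
  refine Nat.mul_le_mul ?_ (relIndex_le_index_commPre hMx _ hML)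
  exact Subgroup.relIndex_le_of_le_right (fun l hl => mem_commPre.mpr
    (Subgroup.commutator_mem_commutator hl hx)) (relIndex_ne_zero_fin _ _)

theorem relIndex_le_index [Finite G] (A M : Subgroup G) : A.relIndex M ≤ A.index := by
  rw [← relIndex_top_right A]
  exact Subgroup.relIndex_le_of_le_right le_top (relIndex_ne_zero_fin _ _)

theorem exists_notMem_both {A B : Subgroup G} (hA : A ≠ ⊤) (hB : B ≠ ⊤) :
    ∃ y, y ∉ A ∧ y ∉ B := by
  by_contra h
  push Not at h
  obtain ⟨a, ha⟩ : ∃ a, a ∉ A := by simpa [eq_top_iff'] using hA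
  obtain ⟨b, hb⟩ : ∃ b, b ∉ B := by simpa [eq_top_iff'] using hB
  have haB : a ∈ B := h a ha
  have hbA : b ∈ A := by by_contra hbA; exact hb (h b hbA)
  by_cases hab : a * b ∈ A
  · exact ha ((A.mul_mem_cancel_right hbA).mp hab)
  · exact hb ((B.mul_mem_cancel_left haB).mp (h _ hab))

theorem sup_zpowers_eq_top {M : Subgroup G} (hM : IsCoatom M) {y : G} (hy : y ∉ M) :
    M ⊔ zpowers y = ⊤ :=
  hM.2 _ (lt_of_le_not_ge le_sup_left fun h => hy (h (mem_sup_right (mem_zpowers y))))

section PGroup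

variable [Finite G] {p : ℕ} [hp : Fact p.Prime]

theorem mem_of_zpow_mem (hG : IsPGroup p G) {A : Subgroup G} {y : G} {k : ℤ} (hk : ¬ (p : ℤ) ∣ k)
    (h : y ^ k ∈ A) : y ∈ A := by
  obtain ⟨n, hn⟩ := hG y
  obtain ⟨a, b, hab⟩ : IsCoprime k ((p : ℤ) ^ n) :=
    ((Nat.prime_iff_prime_int.mp hp.out).coprime_iff_not_dvd.mpr hk).symm.pow_right
  have e : y = (y ^ k) ^ a := by
    conv_lhs => rw [← zpow_one y, ← hab, zpow_add, mul_comm a k, zpow_mul, mul_comm b,
      zpow_mul y ((p : ℤ) ^ n) b, ← Nat.cast_pow, zpow_natCast, hn, one_zpow, mul_one]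
  rw [e]
  exact zpow_mem h a

/-- A third maximal subgroup through `A ⊓ B` and `y` meets `A` inside `B`. -/
theorem sup_zpowers_inf_le (hG : IsPGroup p G) {A B R : Subgroup G} [R.Normal] {y : G}
    (hRA : R ≤ A) (hRB : R ≤ B) (hyA : y ∉ A) (hyB : y ^ p ∈ B) :
    (R ⊔ zpowers y) ⊓ A ≤ B := by
  rintro x ⟨hx, hxA⟩
  obtain ⟨r, hr, z, hz, rfl⟩ := Subgroup.mem_sup_of_normal_left.mp hx
  obtain ⟨k, rfl⟩ := Subgroup.mem_zpowers_iff.mp hz
  have hkA : y ^ k ∈ A := (A.mul_mem_cancel_left (hRA hr)).mp hxA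
  by_cases hk : (p : ℤ) ∣ k
  · obtain ⟨j, rfl⟩ := hk
    rw [zpow_mul, zpow_natCast]
    exact B.mul_mem (hRB hr) (zpow_mem hyB j)
  · exact absurd (mem_of_zpow_mem hG hk hkA) hyA

theorem relIndex_eq_of_not_le (hG : IsPGroup p G) {H L : Subgroup G} (hH : H.index = p)
    (hL : ¬ L ≤ H) : H.relIndex L = p := by
  haveI := normal_of_index_eq hG hH
  have htop : L ⊔ H = ⊤ := (isCoatom_of_index_eq hH).2 _ (by
    exact lt_of_le_not_ge le_sup_right fun h => hL (le_sup_left.trans h))
  rw [← hH, ← relIndex_top_right, ← htop, Subgroup.relIndex_sup_right]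

theorem commutator_le_of_index_eq (hG : IsPGroup p G) {H : Subgroup G} (hH : H.index = p) :
    commutator G ≤ H := by
  haveI := normal_of_index_eq hG hH
  exact commutator_le_of_index_le_sq hG (by rw [hH]; exact Nat.le_self_pow two_ne_zero p)

/-- Where the induction descends: the third maximal subgroup. -/
theorem third_step (hG : IsPGroup p G) {b : ℕ} {H M : Subgroup G} (hH : H.index = p)
    (hM : M.index = p) (hMH : M ≠ H)
    (hb : ∀ x, x ∉ H → (centralizer ({x} : Set G)).index ≤ p ^ b)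
    (hder : ⁅M, M⁆ = ⁅M ⊓ H, M ⊓ H⁆) :
    ∃ (L : Subgroup G) (r : ℕ), L ≠ ⊤ ∧ r ≤ b ∧ (L ⊓ H).relIndex L = p ∧
      (∀ x ∈ L, x ∉ L ⊓ H → (centralizer ({x} : Set G)).relIndex L ≤ p ^ (b - r)) ∧
      (⁅L, L⁆ : Subgroup G) ≤ commutator G ∧
      Nat.card (commutator G) = Nat.card (⁅L, L⁆ : Subgroup G) * p ^ r := by
  have hHc := isCoatom_of_index_eq hH
  have hMc := isCoatom_of_index_eq hM
  haveI := normal_of_index_eq hG hM
  haveI := normal_of_index_eq hG hH
  obtain ⟨y, hyM, hyH⟩ := exists_notMem_both hMc.1 hHc.1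
  let L := (M ⊓ H) ⊔ zpowers y
  have hR : commutator G ≤ M ⊓ H :=
    le_inf (commutator_le_of_index_eq hG hM) (commutator_le_of_index_eq hG hH)
  haveI hLn : L.Normal := normal_of_commutator_le (hR.trans le_sup_left)
  have hypH : y ^ p ∈ H := hH ▸ H.pow_index_mem y
  have hLM : L ⊓ M ≤ H := sup_zpowers_inf_le hG inf_le_left inf_le_right hyM hypH
  have hLtop : L ≠ ⊤ := by
    intro h
    rw [h, top_inf_eq] at hLM
    exact hMH ((eq_of_le_of_not_lt hLM fun hlt => hHc.1 (hMc.2 H hlt)))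
  have hyL : y ∈ L := mem_sup_right (mem_zpowers y)
  have hder' : ⁅M, M⁆ ≤ ⁅L, L⁆ := hder ▸ Subgroup.commutator_mono le_sup_left le_sup_left
  have hLle : (⁅L, L⁆ : Subgroup G) ≤ commutator G := Subgroup.commutator_mono le_top le_top
  have hcard := Subgroup.relIndex_mul_relIndex ⊥ ⁅L, L⁆ (commutator G) bot_le hLle
  rw [relIndex_bot_left, relIndex_bot_left] at hcard
  obtain ⟨r, hr⟩ : ∃ r, (⁅L, L⁆ : Subgroup G).relIndex (commutator G) = p ^ r := by
    obtain ⟨m, hm⟩ := IsPGroup.iff_card.mp (hG.to_subgroup (commutator G))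
    have hd : (⁅L, L⁆ : Subgroup G).relIndex (commutator G) ∣ p ^ m := by
      rw [← hm]; exact relIndex_dvd_card _ _
    obtain ⟨r, -, hr⟩ := (Nat.dvd_prime_pow hp.out).mp hd
    exact ⟨r, hr⟩
  have key : ∀ x ∈ L, x ∉ H → p ^ r * (centralizer ({x} : Set G)).relIndex L ≤ p ^ b := by
    intro x hxL hxH
    have hxM : x ∉ M := fun h => hxH (hLM ⟨hxL, h⟩)
    exact hr ▸ (relIndex_mul_relIndex_le (sup_zpowers_eq_top hMc hxM) hxL hder').trans (hb x hxH)
  have hrb : r ≤ b := by
    refine (Nat.pow_le_pow_iff_right hp.out.one_lt).mp (le_trans ?_ (key y hyL hyH))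
    exact Nat.le_mul_of_pos_right _ (Nat.pos_of_ne_zero (relIndex_ne_zero_fin _ _))
  refine ⟨L, r, hLtop, hrb, ?_, fun x hxL hxH => ?_, hLle, ?_⟩
  · rw [Subgroup.inf_relIndex_left]
    exact relIndex_eq_of_not_le hG hH fun h => hyH (h hyL)
  · have h1 := key x hxL fun h => hxH ⟨hxL, h⟩
    rw [← Nat.sub_add_cancel hrb, pow_add, mul_comm _ (p ^ r)] at h1
    exact Nat.le_of_mul_le_mul_left h1 (pow_pos hp.out.pos r)
  · rw [← hcard, hr]

/-- Where the induction starts: if `H' ≠ G'` some maximal subgroup has smaller breadth outside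
`H`. -/
theorem exists_smaller_breadth (hG : IsPGroup p G) {b : ℕ} {H : Subgroup G} (hH : H.index = p)
    (hne : ⁅H, H⁆ ≠ commutator G)
    (hb : ∀ x, x ∉ H → (centralizer ({x} : Set G)).index ≤ p ^ b) :
    ∃ M : Subgroup G, M.index = p ∧ M ≠ H ∧ 1 ≤ b ∧
      (∀ x ∈ M, x ∉ H → (centralizer ({x} : Set G)).relIndex M ≤ p ^ (b - 1)) := by
  have hHc := isCoatom_of_index_eq hH
  haveI hHn := normal_of_index_eq hG hH
  haveI hD : (commutator G).Normal := inferInstance
  have hHD : ⁅H, H⁆ ≤ commutator G := Subgroup.commutator_mono le_top le_top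
  set K₀ := ⁅H, H⁆ ⊔ ⁅commutator G, ⊤⁆ with hK₀
  have hK₀D : K₀ ≤ commutator G := sup_le hHD (Subgroup.commutator_le_left _ _)
  have hK₀ne : K₀ ≠ commutator G := by
    intro he
    apply hne
    refine le_antisymm hHD ?_
    let π := QuotientGroup.mk' ⁅H, H⁆
    have hsurj : Function.Surjective π := QuotientGroup.mk'_surjective _
    have h1 : (commutator G).map π = commutator (G ⧸ ⁅H, H⁆) := by
      rw [_root_.commutator_def, Subgroup.map_commutator, Subgroup.map_top_of_surjective π hsurj,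
        _root_.commutator_def]
    have h2 : commutator (G ⧸ ⁅H, H⁆) = ⁅commutator (G ⧸ ⁅H, H⁆), ⊤⁆ := by
      have h3 := congrArg (Subgroup.map π) he
      rw [hK₀, Subgroup.map_sup, QuotientGroup.map_mk'_self, bot_sup_eq, Subgroup.map_commutator,
        Subgroup.map_top_of_surjective π hsurj, h1] at h3
      exact h3.symm
    have h4 : ∀ n, (⊤ : Subgroup (G ⧸ ⁅H, H⁆)).lowerCentralSeries (n + 1)
        = commutator (G ⧸ ⁅H, H⁆) := by
      intro n
      induction n with
      | zero => rw [Subgroup.lowerCentralSeries_succ, Subgroup.lowerCentralSeries_zero, _root_.commutator_def]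
      | succ n ih => rw [Subgroup.lowerCentralSeries_succ, ih]; exact h2.symm
    haveI := (hG.to_quotient ⁅H, H⁆).isNilpotent
    obtain ⟨n, hn⟩ := Subgroup.nilpotent_iff_lowerCentralSeries.mp
      (this : Group.IsNilpotent (G ⧸ ⁅H, H⁆))
    have h5 : (commutator G).map π = ⊥ := by
      rw [h1, ← h4 n, eq_bot_iff, ← hn]
      exact Subgroup.lowerCentralSeries_antitone _ (Nat.le_succ n)
    rwa [Subgroup.map_eq_bot_iff, QuotientGroup.ker_mk'] at h5
  obtain ⟨K, hK⟩ := (Set.toFinite {K : Subgroup G | K₀ ≤ K ∧ K < commutator G}).exists_maximal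
    ⟨K₀, le_rfl, lt_of_le_of_ne hK₀D hK₀ne⟩
  obtain ⟨hK₀K, hKD⟩ := hK.prop
  haveI hKn : K.Normal := ⟨fun k hk g => by
    have h1 : ⁅k, g⁆ ∈ K := hK₀K (mem_sup_right
      (Subgroup.commutator_mem_commutator (hKD.le hk) (mem_top g)))
    have e : g * k * g⁻¹ = ⁅k, g⁆⁻¹ * k := by simp [commutatorElement_def, mul_assoc]
    rw [e]
    exact mul_mem (inv_mem h1) hk⟩
  have hHK : ⁅H, H⁆ ≤ K := le_sup_left.trans hK₀K
  have hDK : ∀ t ∈ commutator G, ∀ g : G, ⁅t, g⁆ ∈ K := fun t ht g =>
    hK₀K (mem_sup_right (Subgroup.commutator_mem_commutator ht (mem_top g)))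
  have hrelK : K.relIndex (commutator G) = p := by
    obtain ⟨K', hK'n, h1, h2, h3⟩ := exists_normal_succ hG hKD
    have hlt : K < K' := lt_of_le_of_ne h1 fun h => by
      have hpos : 0 < Nat.card K := Nat.card_pos
      rw [← h] at h3
      nlinarith [hp.out.one_lt]
    have hK' : K' = commutator G := by
      by_contra hne'
      exact hlt.not_ge (hK.le_of_ge ⟨hK₀K.trans h1, lt_of_le_of_ne h2 hne'⟩ h1)
    have h4 := Subgroup.relIndex_mul_relIndex ⊥ K (commutator G) bot_le hKD.le
    rw [relIndex_bot_left, relIndex_bot_left, ← hK', h3] at h4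
    rw [← hK']
    exact Nat.eq_of_mul_eq_mul_left Nat.card_pos h4
  obtain ⟨g, hg⟩ : ∃ g, g ∉ H := by simpa [eq_top_iff'] using hHc.1
  have hgen := sup_zpowers_eq_top hHc hg
  let π := QuotientGroup.mk' K
  have hcent : ∀ t ∈ commutator G, ∀ q, Commute (π t) q := fun t ht q => by
    obtain ⟨a, rfl⟩ := QuotientGroup.mk'_surjective K q
    rw [Commute, SemiconjBy, ← commutatorElement_eq_one_iff_mul_comm, ← map_commutatorElement]
    exact (QuotientGroup.eq_one_iff _).mpr (hDK t ht a)
  have hmemD : ∀ a c : G, ⁅a, c⁆ ∈ commutator G := fun a c =>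
    Subgroup.commutator_mem_commutator (mem_top a) (mem_top c)
  let φ : H →* G ⧸ K :=
    MonoidHom.mk' (fun h => π ⁅(h : G), g⁆) fun a c => by
      have e : ⁅((a * c : H) : G), g⁆ = (a : G) * ⁅(c : G), g⁆ * (a : G)⁻¹ * ⁅(a : G), g⁆ := by
        simp [commutatorElement_def, mul_assoc]
      show π _ = π _ * π _
      rw [e, map_mul π, map_mul π, map_mul π, ← (hcent _ (hmemD _ _) (π a)).eq, map_inv,
        mul_inv_cancel_right]
      exact (hcent _ (hmemD _ _) _).eq
  have hrange : φ.range = (commutator G).map π := by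
    refine le_antisymm ?_ ?_
    · rintro _ ⟨h, rfl⟩
      exact Subgroup.mem_map_of_mem π (hmemD _ _)
    · rintro _ ⟨t, ht, rfl⟩
      obtain ⟨x, hx, he⟩ := exists_comm_congr hgen hHK ht
      exact ⟨⟨x, hx⟩, he⟩
  let R := H ⊓ commPre K g
  have hker : φ.ker = R.subgroupOf H := by
    ext h
    rw [MonoidHom.mem_ker, mem_subgroupOf]
    show π _ = 1 ↔ _
    rw [QuotientGroup.mk'_apply, QuotientGroup.eq_one_iff]
    exact ⟨fun hh => ⟨h.2, mem_commPre.mpr hh⟩, fun hh => mem_commPre.mp hh.2⟩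
  have hRH : R.relIndex H = p := by
    rw [Subgroup.relIndex, ← hker, Subgroup.index_ker, hrange, ← hrelK]
    conv_rhs => arg 1; rw [← QuotientGroup.ker_mk' K, ← MonoidHom.comap_bot]
    rw [relIndex_comap, relIndex_bot_left]
  have hDR : commutator G ≤ R := fun t ht =>
    ⟨commutator_le_of_index_eq hG hH ht, mem_commPre.mpr (hDK t ht g)⟩
  haveI hRn : R.Normal := normal_of_commutator_le hDR
  have hgpH : g ^ p ∈ H := hH ▸ H.pow_index_mem g
  have hgpR : g ^ p ∈ R := ⟨hgpH, mem_commPre.mpr (by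
    rw [commutatorElement_eq_one_iff_commute.mpr (Commute.pow_self g p)]; exact one_mem K)⟩
  let M := R ⊔ zpowers g
  have hMHR : M ⊓ H ≤ R := sup_zpowers_inf_le hG inf_le_left le_rfl hg hgpR
  have hgM : g ∈ M := mem_sup_right (mem_zpowers g)
  have hRindex : R.index = p * p := by
    rw [← relIndex_mul_index (inf_le_left : R ≤ H), hRH, hH]
  have hM : M.index = p := by
    have h1 : M.index ∣ p ^ 2 := by
      rw [sq, ← hRindex]; exact Subgroup.index_dvd_of_le le_sup_left
    obtain ⟨i, hi, he⟩ := (Nat.dvd_prime_pow hp.out).mp h1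
    interval_cases i
    · exfalso
      rw [pow_zero, index_eq_one] at he
      rw [he, top_inf_eq] at hMHR
      rw [relIndex_eq_one.mpr hMHR] at hRH
      exact hp.out.one_lt.ne hRH
    · rwa [pow_one] at he
    · exfalso
      have h2 := relIndex_mul_index (le_sup_left : R ≤ M)
      rw [he, hRindex, sq] at h2
      have h3 : R.relIndex M = 1 :=
        Nat.eq_of_mul_eq_mul_right (Nat.mul_pos hp.out.pos hp.out.pos) (by rw [one_mul]; exact h2)
      exact hg ((inf_le_left : R ≤ H) (relIndex_eq_one.mp h3 hgM))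
  have hMc := isCoatom_of_index_eq hM
  haveI := normal_of_index_eq hG hM
  have hMH : M ≠ H := fun h => hg (h ▸ hgM)
  have hMcomm : ∀ a ∈ M, ∀ c ∈ M, Commute (π a) (π c) := by
    have hR : ∀ a ∈ R, Commute (π a) (π g) := fun a ha => by
      rw [Commute, SemiconjBy, ← commutatorElement_eq_one_iff_mul_comm, ← map_commutatorElement]
      exact (QuotientGroup.eq_one_iff _).mpr (mem_commPre.mp ha.2)
    intro a ha c hc
    obtain ⟨r, hr, z, hz, rfl⟩ := Subgroup.mem_sup_of_normal_left.mp ha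
    obtain ⟨i, rfl⟩ := Subgroup.mem_zpowers_iff.mp hz
    obtain ⟨s, hs, w, hw, rfl⟩ := Subgroup.mem_sup_of_normal_left.mp hc
    obtain ⟨j, rfl⟩ := Subgroup.mem_zpowers_iff.mp hw
    have hrs : Commute (π r) (π s) := by
      rw [Commute, SemiconjBy, ← commutatorElement_eq_one_iff_mul_comm, ← map_commutatorElement]
      exact (QuotientGroup.eq_one_iff _).mpr
        (hHK (Subgroup.commutator_mem_commutator hr.1 hs.1))
    rw [map_mul π, map_mul π, map_zpow π, map_zpow π]
    exact (hrs.mul_right ((hR r hr).zpow_right j)).mul_left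
      (((hR s hs).zpow_right i).symm.mul_right ((Commute.refl (π g)).zpow_zpow i j))
  have hCM : ∀ x ∈ M, x ∉ H → centralizer ({x} : Set G) ≤ M := by
    intro x hxM hxH c hc
    by_contra hcM
    have hx : ∀ q, Commute (π x) q := by
      intro q
      obtain ⟨a, rfl⟩ := QuotientGroup.mk'_surjective K q
      have ha : a ∈ M ⊔ zpowers c := (sup_zpowers_eq_top hMc hcM) ▸ mem_top a
      obtain ⟨m, hm, z, hz, rfl⟩ := Subgroup.mem_sup_of_normal_left.mp ha
      obtain ⟨i, rfl⟩ := Subgroup.mem_zpowers_iff.mp hz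
      have hxc : Commute x c := (mem_centralizer_singleton_iff.mp hc).symm
      rw [map_mul π, map_zpow π]
      exact (hMcomm x hxM m hm).mul_right ((hxc.map π).zpow_right i)
    have htop : commPre K x = ⊤ := by
      rw [eq_top_iff']
      intro a
      rw [mem_commPre, ← QuotientGroup.eq_one_iff, ← QuotientGroup.mk'_apply,
        map_commutatorElement, commutatorElement_eq_one_iff_mul_comm]
      exact (hx (π a)).symm.eq
    have h1 := relIndex_le_index_commPre (sup_zpowers_eq_top hHc hxH) K hHK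
    rw [htop, index_top, hrelK] at h1
    exact hp.out.one_lt.not_ge h1
  have hle : ∀ x ∈ M, x ∉ H → (centralizer ({x} : Set G)).relIndex M * p ≤ p ^ b := by
    intro x hxM hxH
    have := hb x hxH
    rw [← relIndex_mul_index (hCM x hxM hxH), hM] at this
    exact this
  have hb1 : 1 ≤ b := by
    rcases Nat.eq_zero_or_pos b with h0 | h0
    · exfalso
      have h1 := hle g hgM hg
      rw [h0, pow_zero] at h1
      have h2 : 0 < (centralizer ({g} : Set G)).relIndex M :=
        Nat.pos_of_ne_zero (relIndex_ne_zero_fin _ _)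
      nlinarith [hp.out.one_lt]
    · exact h0
  refine ⟨M, hM, hMH, hb1, fun x hxM hxH => ?_⟩
  have h1 := hle x hxM hxH
  rw [← Nat.sub_add_cancel hb1, pow_succ] at h1
  exact Nat.le_of_mul_le_mul_right h1 hp.out.pos

end PGroup

end Basic

section Induction

variable {p : ℕ} [hp : Fact p.Prime]

/-- The statement carried by the induction, for one group. -/
def Claim (p : ℕ) (G : Type u) [Group G] : Prop :=
  ∀ (H : Subgroup G) (b : ℕ), H.index = p →
    (∀ x, x ∉ H → (centralizer ({x} : Set G)).index ≤ p ^ b) →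
    (⁅H, H⁆ ≠ commutator G → Nat.card (commutator G) ≤ p ^ tri b) ∧
      Nat.card (commutator G) ≤ p ^ (tri b + b)

theorem index_centralizer_subtype {G : Type u} [Group G] (M : Subgroup G) (x : M) :
    (centralizer ({x} : Set M)).index = (centralizer ({(x : G)} : Set G)).relIndex M := by
  rw [Subgroup.relIndex]
  congr 1
  ext y
  rw [mem_subgroupOf, mem_centralizer_singleton_iff, mem_centralizer_singleton_iff, Subtype.ext_iff]
  rfl

theorem card_commutator_subtype {G : Type u} [Group G] (M : Subgroup G) :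
    Nat.card (commutator M) = Nat.card (⁅M, M⁆ : Subgroup G) := by
  rw [← Subgroup.map_subtype_commutator, Subgroup.card_subtype]

theorem claim_subgroup {G : Type u} [Group G] {M : Subgroup G} (hM : Claim p M) (H : Subgroup G)
    (b : ℕ) (hHM : H ≤ M) (hH : H.relIndex M = p)
    (hb : ∀ x ∈ M, x ∉ H → (centralizer ({x} : Set G)).relIndex M ≤ p ^ b) :
    (⁅H, H⁆ ≠ ⁅M, M⁆ → Nat.card (⁅M, M⁆ : Subgroup G) ≤ p ^ tri b) ∧
      Nat.card (⁅M, M⁆ : Subgroup G) ≤ p ^ (tri b + b) := by
  have h := hM (H.subgroupOf M) b hH fun x hx => by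
    rw [index_centralizer_subtype]
    exact hb x x.2 hx
  rw [card_commutator_subtype] at h
  refine ⟨fun hne => h.1 fun he => hne ?_, h.2⟩
  have := congrArg (Subgroup.map M.subtype) he
  rwa [Subgroup.map_commutator, Subgroup.map_subgroupOf_eq_of_le hHM,
    Subgroup.map_subtype_commutator] at this

theorem claim_all : ∀ (n : ℕ) (G : Type u) [Group G] [Finite G], Nat.card G = n → IsPGroup p G →
    Claim p G := by
  intro n
  induction n using Nat.strong_induction_on with
  | _ n ih =>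
    intro G _ _ hn hG
    have recM : ∀ M : Subgroup G, M ≠ ⊤ → Claim p M := fun M hM => by
      refine ih _ ?_ M rfl (hG.to_subgroup M)
      rw [← hn]
      exact lt_of_le_of_ne (Subgroup.card_le_card_group M) fun h => hM (Subgroup.eq_top_of_card_eq M h)
    intro H b hH hb
    have hHc := isCoatom_of_index_eq hH
    have hHD : ⁅H, H⁆ ≤ commutator G := Subgroup.commutator_mono le_top le_top
    have P0 : ⁅H, H⁆ ≠ commutator G → Nat.card (commutator G) ≤ p ^ tri b := by
      intro hne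
      obtain ⟨M, hM, hMH, hb1, hbM⟩ := exists_smaller_breadth hG hH hne hb
      have hMc := isCoatom_of_index_eq hM
      haveI := normal_of_index_eq hG hM
      obtain ⟨c, rfl⟩ : ∃ c, b = c + 1 := ⟨b - 1, by omega⟩
      rw [Nat.add_sub_cancel] at hbM
      by_cases hder : ⁅M, M⁆ = ⁅M ⊓ H, M ⊓ H⁆
      · obtain ⟨L, r, hL, hrb, hLH, hbL, hLle, hcard⟩ := third_step hG hH hM hMH hb hder
        obtain ⟨h1, h2⟩ := claim_subgroup (recM L hL) (L ⊓ H) (c + 1 - r) inf_le_left hLH hbL
        rcases Nat.eq_zero_or_pos r with rfl | hr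
        · rw [pow_zero, mul_one] at hcard
          rw [Nat.sub_zero] at h1
          rw [hcard]
          refine h1 fun he => hne (le_antisymm hHD ?_)
          rw [← Subgroup.eq_of_le_of_card_ge hLle hcard.le, ← he]
          exact Subgroup.commutator_mono inf_le_right inf_le_right
        · rw [hcard]
          refine (Nat.mul_le_mul_right _ h2).trans ?_
          rw [← pow_add, tri]
          refine Nat.pow_le_pow_right hp.out.pos ?_
          have := tri_mono (show c + 1 - r ≤ c by omega)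
          omega
      · obtain ⟨y, hyM, hyH⟩ := exists_notMem_both hMc.1 hHc.1
        obtain ⟨h1, -⟩ := claim_subgroup (recM M hMc.1) (M ⊓ H) c inf_le_left
          (by rw [Subgroup.inf_relIndex_left]
              exact relIndex_eq_of_not_le hG hH fun h => hMH
                (eq_of_le_of_not_lt h fun hlt => hHc.1 (hMc.2 H hlt)))
          (fun x hxM hx => hbM x hxM fun h => hx ⟨hxM, h⟩)
        refine (card_commutator_le (sup_zpowers_eq_top hMc hyM)).trans ?_
        rw [tri, pow_add, mul_comm (p ^ tri c)]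
        exact Nat.mul_le_mul (hb y hyH) (h1 fun he => hder he.symm)
    refine ⟨P0, ?_⟩
    by_cases hne : ⁅H, H⁆ = commutator G
    swap
    · exact (P0 hne).trans (Nat.pow_le_pow_right hp.out.pos (Nat.le_add_right _ _))
    by_cases hbot : commutator G = ⊥
    · rw [hbot, card_bot]
      exact Nat.one_le_pow _ _ hp.out.pos
    obtain ⟨z, hz⟩ : ∃ z, z ∉ H := by simpa [eq_top_iff'] using hHc.1
    have hzt : zpowers z ≠ ⊤ := fun h => hbot (by
      rw [_root_.commutator_def, ← h, eq_bot_iff, Subgroup.commutator_le]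
      intro a ha c hc
      rw [Subgroup.mem_bot, commutatorElement_eq_one_iff_mul_comm]
      exact comm_of_isMulCommutative (isMulCommutative_zpowers z) ha hc)
    obtain ⟨M, hMc, hzM⟩ := exists_isCoatom_ge hzt
    have hM := index_of_isCoatom hG hMc
    haveI := normal_of_isCoatom hG hMc
    have hMH : M ≠ H := fun h => hz (h ▸ hzM (mem_zpowers z))
    by_cases hder : ⁅M, M⁆ = ⁅M ⊓ H, M ⊓ H⁆
    · obtain ⟨L, r, hL, hrb, hLH, hbL, hLle, hcard⟩ := third_step hG hH hM hMH hb hder
      obtain ⟨-, h2⟩ := claim_subgroup (recM L hL) (L ⊓ H) (b - r) inf_le_left hLH hbL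
      rw [hcard]
      refine (Nat.mul_le_mul_right _ h2).trans ?_
      rw [← pow_add]
      refine Nat.pow_le_pow_right hp.out.pos ?_
      have := tri_mono (show b - r ≤ b by omega)
      omega
    · obtain ⟨y, hyM, hyH⟩ := exists_notMem_both hMc.1 hHc.1
      obtain ⟨h1, -⟩ := claim_subgroup (recM M hMc.1) (M ⊓ H) b inf_le_left
        (by rw [Subgroup.inf_relIndex_left]
            exact relIndex_eq_of_not_le hG hH fun h => hMH
              (eq_of_le_of_not_lt h fun hlt => hHc.1 (hMc.2 H hlt)))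
        (fun x hxM hx => le_trans (relIndex_le_index _ M) (hb x fun h => hx ⟨hxM, h⟩))
      refine (card_commutator_le (sup_zpowers_eq_top hMc hyM)).trans ?_
      rw [pow_add, mul_comm (p ^ tri b)]
      exact Nat.mul_le_mul (hb y hyH) (h1 fun he => hder he.symm)

/-- Vaughan-Lee's theorem. -/
theorem card_commutator_le_pow : ∀ (n : ℕ) (G : Type u) [Group G] [Finite G], Nat.card G = n →
    IsPGroup p G → ∀ b : ℕ, (∀ x : G, (centralizer ({x} : Set G)).index ≤ p ^ b) →
    Nat.card (commutator G) ≤ p ^ tri b := by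
  intro n
  induction n using Nat.strong_induction_on with
  | _ n ih =>
    intro G _ _ hn hG b hb
    by_cases hbot : commutator G = ⊥
    · rw [hbot, card_bot]
      exact Nat.one_le_pow _ _ hp.out.pos
    obtain ⟨H, hHc, -⟩ := exists_isCoatom_ge (H := (⊥ : Subgroup G)) fun h => hbot
      (eq_bot_iff.mpr (h ▸ le_top))
    have hH := index_of_isCoatom hG hHc
    by_cases hne : ⁅H, H⁆ = commutator G
    · rw [← hne, ← card_commutator_subtype]
      refine ih _ ?_ H rfl (hG.to_subgroup H) b fun x => ?_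
      · rw [← hn]
        exact lt_of_le_of_ne (Subgroup.card_le_card_group H)
          fun h => hHc.1 (Subgroup.eq_top_of_card_eq H h)
      · rw [index_centralizer_subtype]
        exact (relIndex_le_index _ H).trans (hb x)
    · exact ((claim_all n G hn hG) H b hH fun x _ => hb x).1 hne

end Induction

end Cfsg.Agent.VaughanLee
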