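import Cfsg.Agent.Lib.FusionSysBasic

/-!
Leary–Stancu: every fusion system over a finite group `S` is realized by a virtually free group.

Let `Γ = Sym(S)`, with `S` acting regularly. A map `φ` of the system on `P` is conjugation by some
`σ ∈ Γ`; the edges are the pairs of `φ` and a coset of the image of `φ` in `Γ`. The group is the
subgroup of `FreeGroup(edges) ⋊ Γ` of the pairs `(w, γ)` with `w` a path from the base coset to
its translate by `γ`.
-/

set_option autoImplicit false

namespace Cfsg.Agent.VirtuallyFreeRealization9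

open Cfsg Cfsg.FusionSystem Cfsg.Agent.FusionSysBasic

universe u

variable {Ω : Type u} [Group Ω] {S : Subgroup Ω}

/-- The regular embedding. -/
noncomputable def L (S : Subgroup Ω) : S →* Equiv.Perm S := MulAction.toPermHom S S

theorem L_apply (s t : S) : L S s t = s * t := rfl

theorem L_injective (S : Subgroup Ω) : Function.Injective (L S) := fun a b e => by
  simpa [L_apply] using congrArg (fun f : Equiv.Perm S => f 1) e

/-- A bijection of `S` intertwining two isomorphic subgroups. -/
theorem exists_intertwine [Finite S] (A B : Subgroup S) (θ : A ≃* B) :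
    ∃ σ : Equiv.Perm S, ∀ a : A, σ * L S a = L S (θ a) * σ := by
  obtain ⟨e⟩ : Nonempty (S ⧸ A ≃ S ⧸ B) := by
    refine ⟨Finite.equivFinOfCardEq ?_ |>.trans (Finite.equivFinOfCardEq rfl).symm⟩
    have h1 := A.card_eq_card_quotient_mul_card_subgroup
    have h2 := B.card_eq_card_quotient_mul_card_subgroup
    rw [Nat.card_congr θ.toEquiv] at h1
    exact Nat.eq_of_mul_eq_mul_right Nat.card_pos (h1.symm.trans h2)
  have hmem : ∀ g : S, (QuotientGroup.mk g : S ⧸ A).out⁻¹ * g ∈ A := fun g =>
    QuotientGroup.eq.mp (Quotient.out_eq _)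
  let τ : S → S := fun g => (e (QuotientGroup.mk g)).out * (θ ⟨_, hmem g⟩ : S)
  have hτ : ∀ (g : S) (a : A), τ (g * a) = τ g * θ a := by
    intro g a
    have e1 : (QuotientGroup.mk (g * a) : S ⧸ A) = QuotientGroup.mk g :=
      QuotientGroup.mk_mul_of_mem g a.2
    show (e _).out * _ = (e _).out * _ * _
    rw [mul_assoc, ← Subgroup.coe_mul, ← map_mul]
    have e2 : (⟨_, hmem (g * a)⟩ : A) = ⟨_, hmem g⟩ * a :=
      Subtype.ext (by simp [e1, mul_assoc])
    rw [e2, e1]
  have hinj : Function.Injective τ := by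
    intro g h hgh
    have e1 := congrArg (QuotientGroup.mk (s := B)) hgh
    simp only [τ, QuotientGroup.mk_mul_of_mem _ (θ _).2, QuotientGroup.out_eq'] at e1
    have e1' := e.injective e1
    simp only [τ, e1', mul_right_inj, SetLike.coe_eq_coe, θ.injective.eq_iff, Subtype.mk.injEq,
      mul_right_inj] at hgh
    exact hgh
  let τe : Equiv.Perm S := Equiv.ofBijective τ ((Finite.injective_iff_bijective).mp hinj)
  refine ⟨(Equiv.inv S).trans (τe.trans (Equiv.inv S)), fun a => Equiv.ext fun s => ?_⟩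
  show (τ (a * s)⁻¹)⁻¹ = θ a * (τ s⁻¹)⁻¹
  rw [show ((a : S) * s)⁻¹ = s⁻¹ * ((a⁻¹ : A) : S) by simp, hτ, map_inv]
  simp

variable (F : FusionSystem S)

/-- The maps of the system. -/
abbrev Idx : Type u := Σ P : Subgroup Ω, {φ : P →* Ω // φ ∈ F.Hom P}

variable {F}

/-- The image of a map, in `Sym(S)`. -/
noncomputable def K (i : Idx F) : Subgroup (Equiv.Perm S) :=
  (i.2.1.range.subgroupOf S).map (L S)

theorem exists_sigma [Finite S] (i : Idx F) : ∃ σ : Equiv.Perm S, ∀ (x : S) (hx : (x : Ω) ∈ i.1),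
    σ * L S x = L S ⟨i.2.1 ⟨x, hx⟩, (F.le_of_mem i.2.2).2 _⟩ * σ := by
  obtain ⟨P, φ, hφ⟩ := i
  obtain ⟨hPS, hmem⟩ := F.le_of_mem hφ
  have hrS : φ.range ≤ S := by rintro _ ⟨x, rfl⟩; exact hmem x
  obtain ⟨σ, hσ⟩ := exists_intertwine _ _ ((Subgroup.subgroupOfEquivOfLe hPS).trans
    ((MonoidHom.ofInjective (F.injective_of_mem hφ)).trans
      (Subgroup.subgroupOfEquivOfLe hrS).symm))
  exact ⟨σ, fun x hx => hσ ⟨x, hx⟩⟩

variable [Finite S]

/-- The permutation inducing a map. -/
noncomputable def sigma (i : Idx F) : Equiv.Perm S := (exists_sigma i).choose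

theorem sigma_spec (i : Idx F) (x : S) (hx : (x : Ω) ∈ i.1) :
    sigma i * L S x = L S ⟨i.2.1 ⟨x, hx⟩, (F.le_of_mem i.2.2).2 _⟩ * sigma i :=
  (exists_sigma i).choose_spec x hx

theorem exists_of_mem_K {i : Idx F} {k : Equiv.Perm S} (hk : k ∈ K i) :
    ∃ (x : S) (hx : (x : Ω) ∈ i.1),
      k = L S ⟨i.2.1 ⟨x, hx⟩, (F.le_of_mem i.2.2).2 _⟩ ∧ k * sigma i = sigma i * L S x := by
  obtain ⟨y, ⟨z, hz⟩, rfl⟩ := hk
  have hzS := (F.le_of_mem i.2.2).1 z.2
  have e : y = ⟨i.2.1 z, (F.le_of_mem i.2.2).2 z⟩ := Subtype.ext hz.symm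
  refine ⟨⟨z, hzS⟩, z.2, by rw [e], ?_⟩
  rw [sigma_spec i ⟨z, hzS⟩ z.2, e]

/-- Vertices. -/
abbrev V (S : Subgroup Ω) : Type u := Equiv.Perm S ⧸ (L S).range

/-- The base vertex. -/
noncomputable def v₀ (S : Subgroup Ω) : V S := QuotientGroup.mk 1

theorem smul_v₀ (γ : Equiv.Perm S) : γ • v₀ S = QuotientGroup.mk γ := by
  show QuotientGroup.mk (γ * 1) = _
  rw [mul_one]

theorem smul_v₀_eq_iff {γ δ : Equiv.Perm S} : γ • v₀ S = δ • v₀ S ↔ γ⁻¹ * δ ∈ (L S).range := by
  rw [smul_v₀, smul_v₀, QuotientGroup.eq]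

theorem exists_smul_v₀ (v : V S) : ∃ δ : Equiv.Perm S, δ • v₀ S = v := by
  induction v using QuotientGroup.induction_on with
  | H δ => exact ⟨δ, smul_v₀ δ⟩

variable (F)

/-- Edges. -/
abbrev Edge : Type u := Σ i : Idx F, Equiv.Perm S ⧸ K i

variable {F}

/-- The source of an edge. -/
noncomputable def src : Edge F → V S
  | ⟨_, q⟩ => Quotient.liftOn' q (fun δ => δ • v₀ S) fun a b h => by
    rw [smul_v₀_eq_iff]
    obtain ⟨y, -, hy⟩ := QuotientGroup.leftRel_apply.mp h
    exact ⟨y, hy⟩

/-- The target of an edge. -/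
noncomputable def tgt : Edge F → V S
  | ⟨i, q⟩ => Quotient.liftOn' q (fun δ => (δ * sigma i) • v₀ S) fun a b h => by
    rw [smul_v₀_eq_iff]
    obtain ⟨x, -, -, hx⟩ := exists_of_mem_K (QuotientGroup.leftRel_apply.mp h)
    refine ⟨x, ?_⟩
    rw [mul_inv_rev, mul_assoc, ← mul_assoc a⁻¹, hx, ← mul_assoc, inv_mul_cancel, one_mul]

theorem src_mk (i : Idx F) (δ : Equiv.Perm S) :
    src (⟨i, QuotientGroup.mk δ⟩ : Edge F) = δ • v₀ S := rfl

theorem tgt_mk (i : Idx F) (δ : Equiv.Perm S) :
    tgt (⟨i, QuotientGroup.mk δ⟩ : Edge F) = (δ * sigma i) • v₀ S := rfl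

theorem src_smul (γ : Equiv.Perm S) (e : Edge F) : src (γ • e) = γ • src e := by
  obtain ⟨i, q⟩ := e
  induction q using QuotientGroup.induction_on with
  | H δ => exact mul_smul γ δ (v₀ S)

theorem tgt_smul (γ : Equiv.Perm S) (e : Edge F) : tgt (γ • e) = γ • tgt e := by
  obtain ⟨i, q⟩ := e
  induction q using QuotientGroup.induction_on with
  | H δ =>
    show (γ * δ * sigma i) • v₀ S = _
    rw [mul_assoc, mul_smul]
    rfl

/-- The start of a letter. -/
noncomputable def hd : Edge F × Bool → V S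
  | (e, true) => src e
  | (e, false) => tgt e

/-- The end of a letter. -/
noncomputable def tl : Edge F × Bool → V S
  | (e, true) => tgt e
  | (e, false) => src e

theorem hd_not (e : Edge F) (b : Bool) : hd (e, !b) = tl (e, b) := by cases b <;> rfl

theorem tl_not (e : Edge F) (b : Bool) : tl (e, !b) = hd (e, b) := by cases b <;> rfl

/-- Translation of letters. -/
noncomputable def shift (γ : Equiv.Perm S) (l : Edge F × Bool) : Edge F × Bool := (γ • l.1, l.2)

theorem hd_shift (γ : Equiv.Perm S) (l : Edge F × Bool) : hd (shift γ l) = γ • hd l := by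
  obtain ⟨e, b⟩ := l
  cases b <;> [exact tgt_smul γ e; exact src_smul γ e]

theorem tl_shift (γ : Equiv.Perm S) (l : Edge F × Bool) : tl (shift γ l) = γ • tl l := by
  obtain ⟨e, b⟩ := l
  cases b <;> [exact src_smul γ e; exact tgt_smul γ e]

/-- Paths. -/
def Path : V S → List (Edge F × Bool) → V S → Prop
  | a, [], b => a = b
  | a, l :: w, b => hd l = a ∧ Path (tl l) w b

theorem path_append {a b : V S} {w₁ w₂ : List (Edge F × Bool)} :
    Path a (w₁ ++ w₂) b ↔ ∃ c, Path a w₁ c ∧ Path c w₂ b := by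
  induction w₁ generalizing a with
  | nil => simp [Path]
  | cons l w ih =>
    simp only [List.cons_append, Path, ih]
    constructor
    · rintro ⟨h, c, h1, h2⟩; exact ⟨c, ⟨h, h1⟩, h2⟩
    · rintro ⟨c, ⟨h, h1⟩, h2⟩; exact ⟨h, c, h1, h2⟩

theorem path_map (γ : Equiv.Perm S) {a b : V S} {w : List (Edge F × Bool)} (h : Path a w b) :
    Path (γ • a) (w.map (shift γ)) (γ • b) := by
  induction w generalizing a with
  | nil => exact congrArg (γ • ·) (show a = b from h)
  | cons l w ih =>
    exact ⟨(hd_shift γ l).trans (congrArg (γ • ·) h.1), tl_shift γ l ▸ ih h.2⟩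

theorem path_invRev {a b : V S} {w : List (Edge F × Bool)} (h : Path a w b) :
    Path b (FreeGroup.invRev w) a := by
  induction w generalizing a with
  | nil => exact (show a = b from h).symm
  | cons l w ih =>
    rw [FreeGroup.invRev_cons, path_append]
    refine ⟨tl l, ih h.2, ?_, ?_⟩
    · exact hd_not l.1 l.2
    · exact (tl_not l.1 l.2).trans h.1

theorem path_red {a b : V S} {w w' : List (Edge F × Bool)} (hr : FreeGroup.Red w w')
    (h : Path a w b) : Path a w' b := by
  induction hr with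
  | refl => exact h
  | tail _ hs ih =>
    cases hs with
    | @not w₁ w₂ e c =>
      obtain ⟨m, h1, h2, h3, h4⟩ := path_append.mp ih
      rw [tl_not, h2] at h4
      exact path_append.mpr ⟨m, h1, h4⟩

variable (F)

/-- The action on the free group on the edges. -/
noncomputable def act : Equiv.Perm S →* MulAut (FreeGroup (Edge F)) where
  toFun γ := FreeGroup.freeGroupCongr (MulAction.toPerm γ)
  map_one' := MulEquiv.ext fun w => by
    show FreeGroup.map (fun e => (1 : Equiv.Perm S) • e) w = w
    simp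
  map_mul' γ δ := MulEquiv.ext fun w => by
    show FreeGroup.map (fun e => (γ * δ) • e) w =
      FreeGroup.map (fun e => γ • e) (FreeGroup.map (fun e => δ • e) w)
    rw [FreeGroup.map.comp]
    congr 2
    funext e
    exact mul_smul γ δ e

variable {F}

open Classical in
theorem toWord_act (γ : Equiv.Perm S) (w : FreeGroup (Edge F)) :
    (act F γ w).toWord = w.toWord.map (shift γ) := by
  have e : act F γ w = FreeGroup.mk (w.toWord.map (shift γ)) := by
    conv_lhs => rw [← FreeGroup.mk_toWord (x := w)]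
    rfl
  rw [e, FreeGroup.toWord_mk]
  refine FreeGroup.IsReduced.reduce_eq ?_
  unfold FreeGroup.IsReduced
  rw [List.isChain_map]
  exact List.IsChain.imp (fun a b h hab => h (MulAction.injective γ hab))
    FreeGroup.isReduced_toWord

theorem act_mk (γ : Equiv.Perm S) (w : List (Edge F × Bool)) :
    act F γ (FreeGroup.mk w) = FreeGroup.mk (w.map (shift γ)) := rfl

variable (F)

open Classical in
/-- The realizing group. -/
noncomputable def group : Subgroup (FreeGroup (Edge F) ⋊[act F] Equiv.Perm S) where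
  carrier := {g | Path (v₀ S) g.left.toWord (g.right • v₀ S)}
  one_mem' := by
    show Path (v₀ S) (1 : FreeGroup (Edge F)).toWord ((1 : Equiv.Perm S) • v₀ S)
    rw [FreeGroup.toWord_one, one_smul]
    rfl
  mul_mem' {g h} hg hh := by
    show Path (v₀ S) (g.left * act F g.right h.left).toWord ((g.right * h.right) • v₀ S)
    rw [FreeGroup.toWord_mul, toWord_act, mul_smul]
    exact path_red FreeGroup.reduce.red (path_append.mpr ⟨_, hg, path_map g.right hh⟩)
  inv_mem' {g} hg := by
    show Path (v₀ S) (act F g.right⁻¹ g.left⁻¹).toWord (g.right⁻¹ • v₀ S)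
    rw [toWord_act, FreeGroup.toWord_inv]
    have := path_map g.right⁻¹ (path_invRev hg)
    rwa [inv_smul_smul] at this

open Classical in
theorem mem_group {g : FreeGroup (Edge F) ⋊[act F] Equiv.Perm S} :
    g ∈ group F ↔ Path (v₀ S) g.left.toWord (g.right • v₀ S) := Iff.rfl

open Classical in
theorem inr_mem (s : S) : SemidirectProduct.inr (φ := act F) (L S s) ∈ group F := by
  rw [mem_group, SemidirectProduct.left_inr, SemidirectProduct.right_inr, FreeGroup.toWord_one]
  show v₀ S = L S s • v₀ S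
  conv_lhs => rw [← one_smul (Equiv.Perm S) (v₀ S)]
  exact smul_v₀_eq_iff.mpr ⟨s, by simp⟩

/-- The embedding of `S`. -/
noncomputable def iota : S →* group F :=
  ((SemidirectProduct.inr (φ := act F)).comp (L S)).codRestrict _ (inr_mem F)

theorem coe_iota (s : S) :
    (iota F s : FreeGroup (Edge F) ⋊[act F] Equiv.Perm S) = SemidirectProduct.inr (L S s) := rfl

theorem iota_injective : Function.Injective (iota F) := fun _ _ e =>
  L_injective S (SemidirectProduct.inr_injective (congrArg Subtype.val e))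

variable {F}

open Classical in
/-- The element of a letter leaving the base vertex. -/
theorem exists_letter_elt {l : Edge F × Bool} (hl : hd l = v₀ S) :
    ∃ g : group F, g.1.left = FreeGroup.mk [l] ∧ g.1.right • v₀ S = tl l := by
  obtain ⟨δ, hδ⟩ := exists_smul_v₀ (tl l)
  refine ⟨⟨⟨FreeGroup.mk [l], δ⟩, ?_⟩, rfl, hδ⟩
  show Path (v₀ S) (FreeGroup.mk [l]).toWord (δ • v₀ S)
  rw [FreeGroup.toWord_mk, FreeGroup.reduce_singleton, hδ]
  exact ⟨hl, rfl⟩

/-! ### Fusion -/

open Classical in
/-- Conjugation by `γ`, read in `S`. -/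
noncomputable def cmap (γ : Equiv.Perm S) (x : Ω) : Ω :=
  if h : ∃ (hx : x ∈ S) (s : S), L S s * γ = γ * L S ⟨x, hx⟩ then (h.choose_spec.choose : S) else 1

omit [Finite S] in
theorem cmap_eq {γ : Equiv.Perm S} {x s : S} (h : L S s * γ = γ * L S x) : cmap γ x = s := by
  have hh : ∃ (hx : (x : Ω) ∈ S) (t : S), L S t * γ = γ * L S ⟨x, hx⟩ := ⟨x.2, s, h⟩
  rw [cmap, dif_pos hh]
  exact congrArg Subtype.val (L_injective S (mul_right_cancel (hh.choose_spec.choose_spec.trans h.symm)))

/-- The map crossed by a letter at the base vertex. -/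
theorem mor_letter {l : Edge F × Bool} (hl : hd l = v₀ S) {δ : Equiv.Perm S}
    (hδ : δ • v₀ S = tl l) {R : Subgroup Ω} (hR : R ≤ S)
    (h : ∀ y ∈ R, ∃ (hy : y ∈ S) (s : S), L S s * δ = δ * L S ⟨y, hy⟩ ∧ L S s • l.1 = l.1) :
    Mor F R (cmap δ) := by
  obtain ⟨⟨i, q⟩, b⟩ := l
  induction q using QuotientGroup.induction_on with
  | H ε =>
  obtain ⟨P, φ, hφ⟩ := i
  set i : Idx F := ⟨P, φ, hφ⟩
  have hm := mor_toFun hφ
  have hfix : ∀ s : S, L S s • (⟨i, QuotientGroup.mk ε⟩ : Edge F) = ⟨i, QuotientGroup.mk ε⟩ →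
      ε⁻¹ * L S s * ε ∈ K i := by
    intro s hs
    have := eq_of_heq (Sigma.mk.inj_iff.mp hs).2
    change QuotientGroup.mk (L S s * ε) = QuotientGroup.mk ε at this
    have := (K i).inv_mem (QuotientGroup.eq.mp this)
    simpa [mul_assoc] using this
  cases b
  · -- backwards
    change (ε * sigma i) • v₀ S = v₀ S at hl
    change δ • v₀ S = ε • v₀ S at hδ
    obtain ⟨a, ha⟩ : ε * sigma i ∈ (L S).range := by
      have := (L S).range.inv_mem (smul_v₀_eq_iff.mp (hl.trans (one_smul _ _).symm))
      simpa using this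
    obtain ⟨c, hc⟩ := (L S).range.inv_mem (smul_v₀_eq_iff.mp hδ.symm)
    obtain ⟨g, hg, hgf, -, -⟩ := hm.exists_inv
    have key : ∀ y ∈ R, cj ((c : S) : Ω)⁻¹ y ∈ im P (toFun φ) ∧
        cmap δ y = cj ((a : S) : Ω) (g (cj ((c : S) : Ω)⁻¹ y)) := by
      intro y hy
      obtain ⟨hyS, s, hs, hfs⟩ := h y hy
      obtain ⟨z, hz, hk, hkσ⟩ := exists_of_mem_K (hfix s hfs)
      have h1 : s = a * z * a⁻¹ := L_injective S <| by
        rw [map_mul, map_mul, map_inv, ha]
        calc L S s = ε * (ε⁻¹ * L S s * ε * sigma i) * (sigma i)⁻¹ * ε⁻¹ := by group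
          _ = ε * (sigma i * L S z) * (sigma i)⁻¹ * ε⁻¹ := by rw [hkσ]
          _ = _ := by group
      have h2 : (⟨φ ⟨z, hz⟩, (F.le_of_mem hφ).2 _⟩ : S) = c⁻¹ * ⟨y, hyS⟩ * c := L_injective S <| by
        rw [map_mul, map_mul, map_inv, hc]
        refine hk.symm.trans ?_
        rw [show L S s = δ * L S ⟨y, hyS⟩ * δ⁻¹ by rw [← hs]; group]
        group
      have h2' : cj ((c : S) : Ω)⁻¹ y = toFun φ z := by
        rw [toFun_apply _ hz]
        have := congrArg Subtype.val h2
        simpa [cj_apply, i] using this.symm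
      refine ⟨h2' ▸ apply_mem_im hz, ?_⟩
      rw [cmap_eq (x := ⟨y, hyS⟩) hs, h2', hgf _ hz, h1]
      rfl
    exact ((((mor_cj hR (S.inv_mem c.2)).comp hg fun y hy => (key y hy).1).comp
      (mor_cj le_rfl a.2) fun y hy => hg.apply_mem (key y hy).1).congr fun y hy => (key y hy).2.symm)
  · -- forwards
    change ε • v₀ S = v₀ S at hl
    change δ • v₀ S = (ε * sigma i) • v₀ S at hδ
    obtain ⟨a, ha⟩ : ε ∈ (L S).range := by
      have := (L S).range.inv_mem (smul_v₀_eq_iff.mp (hl.trans (one_smul _ _).symm))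
      simpa using this
    obtain ⟨c, hc⟩ := smul_v₀_eq_iff.mp hδ
    have key : ∀ y ∈ R, cj ((c : S) : Ω)⁻¹ y ∈ P ∧
        cmap δ y = cj ((a : S) : Ω) (toFun φ (cj ((c : S) : Ω)⁻¹ y)) := by
      intro y hy
      obtain ⟨hyS, s, hs, hfs⟩ := h y hy
      obtain ⟨z, hz, hk, hkσ⟩ := exists_of_mem_K (hfix s hfs)
      have h1 : s = a * ⟨φ ⟨z, hz⟩, (F.le_of_mem hφ).2 _⟩ * a⁻¹ := L_injective S <| by
        rw [map_mul, map_mul, map_inv, ha]
        calc L S s = ε * (ε⁻¹ * L S s * ε) * ε⁻¹ := by group
          _ = _ := by rw [hk]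
      have h2 : z = c⁻¹ * ⟨y, hyS⟩ * c := L_injective S <| by
        rw [map_mul, map_mul, map_inv, hc]
        calc L S z = (sigma i)⁻¹ * (ε⁻¹ * L S s * ε * sigma i) := by rw [hkσ]; group
          _ = _ := by rw [show L S s = δ * L S ⟨y, hyS⟩ * δ⁻¹ by rw [← hs]; group]; group
      have h2' : cj ((c : S) : Ω)⁻¹ y = z := by
        have := congrArg Subtype.val h2
        simpa [cj_apply] using this.symm
      refine ⟨h2' ▸ hz, ?_⟩
      rw [cmap_eq (x := ⟨y, hyS⟩) hs, h2', toFun_apply _ hz, h1]
      rfl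
    exact ((((mor_cj hR (S.inv_mem c.2)).comp hm fun y hy => (key y hy).1).comp
      (mor_cj le_rfl a.2) fun y hy => hm.apply_mem (key y hy).1).congr fun y hy => (key y hy).2.symm)

open Classical in
theorem mor_of_conj (n : ℕ) : ∀ g : group F, g.1.left.toWord.length = n → ∀ P : Subgroup Ω,
    P ≤ S → (∀ x ∈ P, ∃ (hx : x ∈ S) (s : S), iota F s * g = g * iota F ⟨x, hx⟩) →
    Mor F P (cmap g.1.right) := by
  induction n with
  | zero =>
    intro g hn P hP h
    have hw := mem_group F |>.mp g.2
    rw [List.length_eq_zero_iff.mp hn] at hw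
    obtain ⟨c, hc⟩ : g.1.right ∈ (L S).range := by
      simpa using smul_v₀_eq_iff.mp ((one_smul _ _).trans hw)
    refine (mor_cj hP c.2).congr fun x hx => ?_
    obtain ⟨hxS, -⟩ := h x hx
    rw [cmap_eq (x := ⟨x, hxS⟩) (s := c * ⟨x, hxS⟩ * c⁻¹) (by rw [← hc]; simp)]
    rfl
  | succ n ih =>
    intro g hn P hP h
    obtain ⟨l, rest, hlr⟩ := List.exists_cons_of_length_eq_add_one hn
    have hw := mem_group F |>.mp g.2
    rw [hlr] at hw
    obtain ⟨t, htl, htv⟩ := exists_letter_elt hw.1
    have hrest : (FreeGroup.mk rest).toWord = rest := by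
      rw [FreeGroup.toWord_mk]
      refine ((FreeGroup.isReduced_toWord (x := g.1.left)).infix ?_).reduce_eq
      rw [hlr]
      exact (List.suffix_cons l rest).isInfix
    have hleft : (t⁻¹ * g).1.left = act F t.1.right⁻¹ (FreeGroup.mk rest) := by
      show act F t.1.right⁻¹ t.1.left⁻¹ * act F t.1.right⁻¹ g.1.left = _
      rw [← map_mul, htl]
      congr 1
      conv_lhs => rw [← FreeGroup.mk_toWord (x := g.1.left), hlr]
      rw [show l :: rest = [l] ++ rest from rfl, ← FreeGroup.mul_mk, inv_mul_cancel_left]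
    have hlen : (t⁻¹ * g).1.left.toWord.length = n := by
      rw [hleft, toWord_act, hrest, List.length_map]
      rw [hlr, List.length_cons] at hn
      omega
    have hx' : ∀ x ∈ P, ∃ (hx : x ∈ S) (s y : S), L S s * g.1.right = g.1.right * L S ⟨x, hx⟩ ∧
        L S s * t.1.right = t.1.right * L S y ∧ L S s • l.1 = l.1 ∧
        iota F y * (t⁻¹ * g) = t⁻¹ * g * iota F ⟨x, hx⟩ := by
      intro x hx
      obtain ⟨hxS, s, hs⟩ := h x hx
      have hl := congrArg (fun a : group F => a.1.left) hs
      have hr := congrArg (fun a : group F => a.1.right) hs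
      simp only [Subgroup.coe_mul, coe_iota, SemidirectProduct.mul_left, SemidirectProduct.left_inr,
        SemidirectProduct.right_inr, SemidirectProduct.mul_right, map_one, one_mul, mul_one] at hl hr
      have hl' := congrArg FreeGroup.toWord hl
      rw [toWord_act, hlr, List.map_cons, List.cons.injEq] at hl'
      have hfix : L S s • l.1 = l.1 := congrArg Prod.fst hl'.1
      have hv : (L S s * t.1.right) • v₀ S = t.1.right • v₀ S := by
        rw [mul_smul, htv, ← tl_shift, hl'.1]
      obtain ⟨y, hy⟩ := smul_v₀_eq_iff.mp hv.symm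
      have hy' : L S s * t.1.right = t.1.right * L S y := by rw [hy]; group
      have ht : iota F s * t = t * iota F y := by
        apply Subtype.ext
        apply SemidirectProduct.ext
        · simp only [Subgroup.coe_mul, coe_iota, SemidirectProduct.mul_left,
            SemidirectProduct.left_inr, SemidirectProduct.right_inr, map_one, one_mul, mul_one]
          rw [htl, act_mk]
          exact congrArg FreeGroup.mk (by rw [List.map_cons, List.map_nil, hl'.1])
        · exact hy'
      refine ⟨hxS, s, y, hr, hy', hfix, ?_⟩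
      calc iota F y * (t⁻¹ * g) = t⁻¹ * (t * iota F y) * t⁻¹ * g := by group
        _ = t⁻¹ * (iota F s * g) := by rw [← ht]; group
        _ = _ := by rw [hs]; group
    have h' := ih (t⁻¹ * g) hlen P hP fun x hx => by
      obtain ⟨hxS, s, y, -, -, -, hy⟩ := hx' x hx
      exact ⟨hxS, y, hy⟩
    have hval : ∀ x ∈ P, ∀ (hxS : x ∈ S) (y : S),
        iota F y * (t⁻¹ * g) = t⁻¹ * g * iota F ⟨x, hxS⟩ → cmap (t⁻¹ * g).1.right x = y :=
      fun x hx hxS y hy => cmap_eq (x := ⟨x, hxS⟩) (congrArg (fun a : group F => a.1.right) hy)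
    have h2 : Mor F (im P (cmap (t⁻¹ * g).1.right)) (cmap t.1.right) := by
      refine mor_letter hw.1 htv h'.im_le fun y hy => ?_
      obtain ⟨x, hx, rfl⟩ := h'.mem_im.mp hy
      obtain ⟨hxS, s, y, -, hy', hfix, hy2⟩ := hx' x hx
      rw [hval x hx hxS y hy2]
      exact ⟨y.2, s, hy', hfix⟩
    refine (h'.comp_im h2).congr fun x hx => ?_
    obtain ⟨hxS, s, y, hr, hy', -, hy2⟩ := hx' x hx
    show cmap t.1.right (cmap (t⁻¹ * g).1.right x) = cmap g.1.right x
    rw [hval x hx hxS y hy2, cmap_eq hy', cmap_eq (x := ⟨x, hxS⟩) hr]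

open Classical in
theorem realized : F.IsRealizedBy (iota F) := by
  refine ⟨iota_injective F, fun P hP φ hφS => ⟨fun hφ => ?_, fun ⟨g, hg⟩ => ?_⟩⟩
  · set i : Idx F := ⟨P, φ, hφ⟩
    have hl : hd ((⟨i, QuotientGroup.mk 1⟩ : Edge F), true) = v₀ S := one_smul _ _
    refine ⟨⟨⟨FreeGroup.mk [(⟨i, QuotientGroup.mk 1⟩, true)], sigma i⟩, ?_⟩, fun x => ?_⟩
    · show Path (v₀ S) (FreeGroup.mk [_]).toWord (sigma i • v₀ S)
      rw [FreeGroup.toWord_mk, FreeGroup.reduce_singleton]
      exact ⟨hl, show (1 * sigma i) • v₀ S = _ by rw [one_mul]⟩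
    · rw [eq_mul_inv_iff_mul_eq]
      apply Subtype.ext
      apply SemidirectProduct.ext
      · simp only [Subgroup.coe_mul, coe_iota, SemidirectProduct.mul_left,
          SemidirectProduct.left_inr, SemidirectProduct.right_inr, map_one, one_mul, mul_one]
        rw [act_mk]
        refine congrArg FreeGroup.mk ?_
        simp only [List.map_cons, List.map_nil, List.cons.injEq, and_true]
        refine Prod.ext ?_ rfl
        show (⟨i, QuotientGroup.mk (L S ⟨φ x, hφS x⟩ * 1)⟩ : Edge F) = ⟨i, QuotientGroup.mk 1⟩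
        congr 1
        refine QuotientGroup.eq.mpr ?_
        rw [mul_one, mul_one]
        exact (K i).inv_mem ⟨_, ⟨x, rfl⟩, rfl⟩
      · exact (sigma_spec i ⟨x, hP x.2⟩ x.2).symm
  · have h := mor_of_conj _ g rfl P hP fun x hx =>
      ⟨hP hx, ⟨φ ⟨x, hx⟩, hφS _⟩, by rw [hg ⟨x, hx⟩, inv_mul_cancel_right]⟩
    refine (mor_iff_hom fun x => ?_).mp h
    have := congrArg (fun a : group F => a.1.right)
      (show iota F ⟨φ x, hφS x⟩ * g = g * iota F ⟨x, hP x.2⟩ by rw [hg x, inv_mul_cancel_right])
    exact (cmap_eq (x := ⟨x, hP x.2⟩) (s := ⟨φ x, hφS x⟩) (γ := g.1.right) this).symm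

/-! ### Finite subgroups -/

open Classical in
theorem finite_conj (n : ℕ) : ∀ H : Subgroup (group F), Finite H →
    (∀ h ∈ H, h.1.left.toWord.length ≤ n) →
    ∃ g : group F, ∀ h ∈ H, g * h * g⁻¹ ∈ (iota F).range := by
  induction n with
  | zero =>
    intro H _ hb
    refine ⟨1, fun h hh => ?_⟩
    rw [one_mul, inv_one, mul_one]
    have h0 := List.length_eq_zero_iff.mp (Nat.le_zero.mp (hb h hh))
    have hw := mem_group F |>.mp h.2
    rw [h0] at hw
    obtain ⟨c, hc⟩ : h.1.right ∈ (L S).range := by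
      simpa using smul_v₀_eq_iff.mp ((one_smul _ _).trans hw)
    exact ⟨c, Subtype.ext (SemidirectProduct.ext (FreeGroup.toWord_eq_nil_iff.mp h0).symm hc)⟩
  | succ n ih =>
    intro H hH hb
    by_cases hsmall : ∀ h ∈ H, h.1.left.toWord.length ≤ n
    · exact ih H hH hsmall
    push Not at hsmall
    obtain ⟨m, hm, hmn⟩ := hsmall
    obtain ⟨l, rest, hlr⟩ :=
      List.exists_cons_of_length_eq_add_one (le_antisymm (hb m hm) hmn)
    have hstart : ∀ k ∈ H, ∀ l' r', k.1.left.toWord = l' :: r' → l' = l := by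
      intro k hk l' r' hk'
      by_contra hne
      have hd' := hb _ (H.mul_mem (H.inv_mem hm) hk)
      have e : (m⁻¹ * k).1.left = act F m.1.right⁻¹ (m.1.left⁻¹ * k.1.left) := by
        rw [map_mul]; rfl
      have hred : FreeGroup.IsReduced (FreeGroup.invRev m.1.left.toWord ++ k.1.left.toWord) := by
        unfold FreeGroup.IsReduced
        rw [List.isChain_append]
        refine ⟨(FreeGroup.toWord_inv m.1.left) ▸ FreeGroup.isReduced_toWord,
          FreeGroup.isReduced_toWord, ?_⟩
        intro a ha b hb' hab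
        rw [hlr, FreeGroup.invRev_cons] at ha
        rw [hk'] at hb'
        simp [FreeGroup.invRev] at ha hb'
        subst ha hb'
        obtain ⟨l₁, l₂⟩ := l
        obtain ⟨k₁, k₂⟩ := l'
        simp only at hab
        subst hab
        cases l₂ <;> cases k₂ <;> simp_all
      rw [e, toWord_act, List.length_map, FreeGroup.toWord_mul, FreeGroup.toWord_inv,
        hred.reduce_eq, List.length_append, FreeGroup.invRev_length, hk', hlr,
        List.length_cons, List.length_cons] at hd'
      have := hb m hm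
      rw [hlr, List.length_cons] at this
      rw [hlr, List.length_cons] at hmn
      omega
    have hhd : hd l = v₀ S := by
      have hw := mem_group F |>.mp m.2
      rw [hlr] at hw
      exact hw.1
    obtain ⟨t, htl, -⟩ := exists_letter_elt hhd
    have hconj : ∀ k ∈ H, (t⁻¹ * k * t).1.left.toWord.length ≤ n := by
      intro k hk
      have e : (t⁻¹ * k * t).1.left = act F t.1.right⁻¹
          (t.1.left⁻¹ * k.1.left * act F k.1.right t.1.left) := by
        rw [map_mul, map_mul]
        show _ * act F (t.1.right⁻¹ * k.1.right) _ = _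
        rw [map_mul]
        rfl
      rw [e, toWord_act, List.length_map, htl, act_mk]
      simp only [List.map_cons, List.map_nil]
      rcases hk' : k.1.left.toWord with - | ⟨l', r'⟩
      · have hkl : shift k.1.right l = l := by
          have hw : (k * m).1.left.toWord = shift k.1.right l :: rest.map (shift k.1.right) := by
            show (k.1.left * act F k.1.right m.1.left).toWord = _
            rw [FreeGroup.toWord_eq_nil_iff.mp hk', one_mul, toWord_act, hlr, List.map_cons]
          exact hstart _ (H.mul_mem hk hm) _ _ hw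
        rw [hkl, FreeGroup.toWord_eq_nil_iff.mp hk', mul_one, inv_mul_cancel,
          FreeGroup.toWord_one]
        exact Nat.zero_le _
      · obtain rfl := hstart k hk l' r' hk'
        have hinv : (k⁻¹).1.left.toWord =
            (FreeGroup.invRev (l' :: r')).map (shift k.1.right⁻¹) := by
          show (act F k.1.right⁻¹ k.1.left⁻¹).toWord = _
          rw [toWord_act, FreeGroup.toWord_inv, hk']
        rcases List.eq_nil_or_concat r' with rfl | ⟨mid, last, rfl⟩
        · obtain ⟨e₁, b⟩ := l'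
          have := hstart _ (H.inv_mem hk) _ [] (hinv.trans rfl)
          simp [shift] at this
        · obtain ⟨e₂, b₂⟩ := last
          have hlast : shift k.1.right⁻¹ (e₂, !b₂) = l' := by
            refine hstart _ (H.inv_mem hk)
              _ ((FreeGroup.invRev mid ++ FreeGroup.invRev [l']).map (shift k.1.right⁻¹))
              (hinv.trans ?_)
            rw [FreeGroup.invRev_cons, List.concat_eq_append, FreeGroup.invRev_append]
            simp [FreeGroup.invRev]
          have hmid : (FreeGroup.mk mid).toWord.length ≤ n := by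
            have h1 := hb k hk
            rw [hk', List.length_cons, List.length_concat] at h1
            exact le_trans (FreeGroup.toWord_mk (L₁ := mid) ▸ FreeGroup.reduce.red.length_le)
              (by omega)
          refine le_of_eq_of_le ?_ hmid
          congr 2
          conv_lhs => rw [← FreeGroup.mk_toWord (x := k.1.left), hk', List.concat_eq_append,
            show l' :: (mid ++ [(e₂, b₂)]) = [l'] ++ mid ++ [(e₂, b₂)] from rfl,
            ← FreeGroup.mul_mk, ← FreeGroup.mul_mk]
          rw [← hlast]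
          simp only [shift, smul_inv_smul]
          rw [show FreeGroup.mk [(e₂, !b₂)] = (FreeGroup.mk [(e₂, b₂)])⁻¹ by
            simp [FreeGroup.inv_mk, FreeGroup.invRev]]
          group
    let c : group F →* group F := (MulAut.conj t⁻¹).toMonoidHom
    have hH' : Finite (H.map c) := Finite.of_equiv H
      (Subgroup.equivMapOfInjective H c (MulAut.conj t⁻¹).injective).toEquiv
    obtain ⟨g, hg⟩ := ih (H.map c) hH' (by
      rintro _ ⟨k, hk, rfl⟩
      simpa [c] using hconj k hk)
    refine ⟨g * t⁻¹, fun h hh => ?_⟩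
    have := hg _ ⟨h, hh, rfl⟩
    simpa [c, mul_assoc] using this

open Classical in
theorem finite_conj' (H : Subgroup (group F)) [Finite H] :
    ∃ g : group F, ∀ h ∈ H, g * h * g⁻¹ ∈ (iota F).range := by
  have : Fintype H := Fintype.ofFinite H
  exact finite_conj (Finset.univ.sup fun h : H => h.1.1.left.toWord.length) H ‹_› fun h hh =>
    Finset.le_sup (f := fun h : H => h.1.1.left.toWord.length) (Finset.mem_univ ⟨h, hh⟩)

/-- The projection to the symmetric group. -/
noncomputable def proj (F : FusionSystem S) : group F →* Equiv.Perm S :=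
  SemidirectProduct.rightHom.comp (group F).subtype

theorem index_dvd : (proj F).ker.index ∣ (Nat.card S).factorial := by
  rw [Subgroup.index_ker, ← Nat.card_perm]
  exact Subgroup.card_subgroup_dvd_card _

theorem isFreeGroup_ker : IsFreeGroup (proj F).ker := by
  let f : (proj F).ker →* FreeGroup (Edge F) :=
    { toFun := fun g => g.1.1.left
      map_one' := rfl
      map_mul' := fun a b => by
        show a.1.1.left * act F a.1.1.right b.1.1.left = _
        rw [show a.1.1.right = 1 from a.2, map_one]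
        rfl }
  have hf : Function.Injective f := fun a b e => Subtype.ext (Subtype.ext
    (SemidirectProduct.ext e ((show a.1.1.right = 1 from a.2).trans b.2.symm)))
  exact IsFreeGroup.ofMulEquiv (MonoidHom.ofInjective hf).symm

end Cfsg.Agent.VirtuallyFreeRealization9
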