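import Cfsg.Agent.Lib.SplitVoltage

/-!
The voltage bound with relations killed by fusion: squares of lifts of conjugate involutions
have the same value under a character with values of exponent two.
-/

set_option autoImplicit false

namespace Cfsg.Agent.VoltageFus76

open Cfsg.Agent.SplitVoltage Subgroup
open scoped commutatorElement

universe u w u'

/-- The word of the inverse. -/
def winv (l : List (ℕ × Bool)) : List (ℕ × Bool) := l.reverse.map fun t => (t.1, !t.2)

theorem wprod_app {Γ : Type*} [Group Γ] (y : ℕ → Γ) (b : List (ℕ × Bool)) :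
    ∀ a : List (ℕ × Bool), wprod y (a ++ b) = wprod y b * wprod y a
  | [] => by simp [wprod]
  | (i, f) :: a => by
    rw [List.cons_append, wprod, wprod, wprod_app y b a, mul_assoc]

theorem wprod_winv {Γ : Type*} [Group Γ] (y : ℕ → Γ) :
    ∀ l : List (ℕ × Bool), wprod y (winv l) = (wprod y l)⁻¹
  | [] => by simp [winv, wprod]
  | (i, f) :: l => by
    have h : winv ((i, f) :: l) = winv l ++ [(i, !f)] := by simp [winv]
    rw [h, wprod_app, wprod_winv y l]
    cases f <;> simp [wprod, mul_inv_rev]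

/-- Squares of lifts of conjugate involutions have the same value. -/
theorem fus_value {Γ G A : Type*} [Group Γ] [Group G] [CommGroup A] (hA : ∀ a : A, a ^ 2 = 1)
    (σ : Γ →* G) (hs : Function.Surjective σ) (hc : σ.ker ≤ center Γ) (χ : σ.ker →* A)
    (y : ℕ → Γ) (w w' : List (ℕ × Bool)) (g : G) (hT2 : σ (wprod y w) * σ (wprod y w) = 1)
    (hconj : g * σ (wprod y w) * g⁻¹ = σ (wprod y w'))
    (hy : σ (wprod y (w ++ w ++ winv (w' ++ w'))) = 1) :
    χ ⟨wprod y (w ++ w ++ winv (w' ++ w')), hy⟩ = 1 := by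
  obtain ⟨g', rfl⟩ := hs g
  set T := wprod y w with hT
  set T' := wprod y w' with hT'
  have hzk : T'⁻¹ * (g' * T * g'⁻¹) ∈ σ.ker := by
    rw [MonoidHom.mem_ker, map_mul, map_inv, map_mul, map_mul, map_inv, hconj, inv_mul_cancel]
  set z : Γ := T'⁻¹ * (g' * T * g'⁻¹) with hz
  have hzc : ∀ x : Γ, x * z = z * x := mem_center_iff.1 (hc hzk)
  have hTc : ∀ x : Γ, x * (T * T) = T * T * x :=
    mem_center_iff.1 (hc (by rw [MonoidHom.mem_ker, map_mul, hT2]))
  have h1 : g' * T * g'⁻¹ = T' * z := by rw [hz]; group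
  have h2 : T * T = T' * T' * (z * z) := by
    calc T * T = (g' * (T * T)) * g'⁻¹ := by rw [hTc g', mul_inv_cancel_right]
      _ = (g' * T * g'⁻¹) * (g' * T * g'⁻¹) := by group
      _ = T' * (z * T') * z := by rw [h1]; group
      _ = T' * T' * (z * z) := by rw [← hzc T']; group
  have hval : wprod y (w ++ w ++ winv (w' ++ w')) = z * z := by
    rw [wprod_app, wprod_winv, wprod_app, wprod_app, ← hT, ← hT', h2]
    group
  have e : (⟨wprod y (w ++ w ++ winv (w' ++ w')), hy⟩ : σ.ker) = ⟨z, hzk⟩ ^ 2 :=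
    Subtype.ext (by rw [SubgroupClass.coe_pow, sq]; exact hval)
  rw [e, map_pow, hA]

variable {m : ℕ} [NeZero m] {G : Type u} [Group G] {α : Type w} [MulAction G α]

/-- The general voltage bound, where a relation may also be killed because its lifts have trivial value. -/
theorem voltage_fus [Finite G] (n N : ℕ) (hN : 0 < N) (x : ℕ → G) (nx pv : ℕ → ℕ → ℕ)
    (obj : ℕ → α) (par : ℕ → ℕ × ℕ) (rels : List (List (ℕ × Bool))) (npow : ℕ)
    (hgen : Subgroup.closure (x '' Set.Iio n) = ⊤)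
    (hinj : ∀ c < N, ∀ d < N, obj c = obj d → c = d)
    (hnx : ∀ i < n, ∀ c < N, nx i c < N ∧ x i • obj c = obj (nx i c))
    (hpv : ∀ i < n, ∀ c < N, pv i c < N ∧ nx i (pv i c) = c)
    (hpar : ∀ c < N, 0 < c → (par c).2 < c ∧ (par c).1 < n ∧ nx (par c).1 (par c).2 = c)
    (hrel : ∀ l ∈ rels, (∀ t ∈ l, t.1 < n) ∧ wprod x l = 1)
    (hcop : ∀ i < n, Nat.Coprime (orderOf (x i)) m)
    {Γ : Type u} [Group Γ] [Finite Γ] (σ : Γ →* G) (hs : Function.Surjective σ)
    (hc : σ.ker ≤ center Γ) {A : Type u'} [CommGroup A] (hA : ∀ a : A, a ^ m = 1)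
    (χ : σ.ker →* A)
    (hpow : ∀ r < npow, (∃ o i : ℕ, rels.getD r [] = List.replicate o (i, true) ∧
      x i ^ o = 1 ∧ orderOf (x i) = o) ∨
      ∀ y : ℕ → Γ, (∀ i < n, σ (y i) = x i) → ∀ hy : σ (wprod y (rels.getD r [])) = 1,
        χ ⟨wprod y (rels.getD r []), hy⟩ = 1)
    (hH : ∀ σH : (MulAction.stabilizer G (obj 0)).comap σ →* MulAction.stabilizer G (obj 0),
      Function.Surjective σH → σH.ker ≤ center _ → ∀ χH : σH.ker →* A,
      ∃ ψ : (MulAction.stabilizer G (obj 0)).comap σ →* A, ∀ z : σH.ker, ψ z = χH z)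
    (t : ℕ)
    (hzero : ∀ (v : ℕ → ℕ → Additive A) (e : ℕ → Additive A),
      (∀ c < N, 0 < c → v (par c).1 (par c).2 = 0) →
      (∀ r < rels.length, ∀ c < N, wsum nx pv v c (rels.getD r []) = e r) →
      (∀ r < npow, e r = 0) →
      ∃ u : Additive A, t • u = 0 ∧ ∀ i < n, ∀ c < N, v i c ∈ AddSubgroup.zmultiples u) :
    ∃ u : A, u ^ t = 1 ∧ ∃ U : Subgroup Γ, (∀ g : Γ, ∃ z : σ.ker, g * (z : Γ)⁻¹ ∈ U) ∧
      ∀ z : σ.ker, (z : Γ) ∈ U → χ z ∈ Subgroup.zpowers u := by
  classical
  have hend : ∀ l : List (ℕ × Bool), (∀ t ∈ l, t.1 < n) → ∀ c < N,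
      wend nx pv c l < N ∧ obj (wend nx pv c l) = wprod x l • obj c := by
    intro l
    induction l with
    | nil => intro _ c hcN; exact ⟨hcN, (one_smul G _).symm⟩
    | cons t l ih =>
      intro hl c hcN
      obtain ⟨i, b⟩ := t
      have hi : i < n := hl (i, b) List.mem_cons_self
      have hl' : ∀ t ∈ l, t.1 < n := fun t ht => hl t (List.mem_cons_of_mem _ ht)
      cases b with
      | true =>
        obtain ⟨h1, h2⟩ := ih hl' (nx i c) (hnx i hi c hcN).1
        simp only [wend, wprod, if_pos]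
        exact ⟨h1, by rw [mul_smul, (hnx i hi c hcN).2, h2]⟩
      | false =>
        obtain ⟨hd, hd'⟩ := hpv i hi c hcN
        obtain ⟨h1, h2⟩ := ih hl' (pv i c) hd
        simp only [wend, wprod, Bool.false_eq_true, if_false]
        refine ⟨h1, ?_⟩
        have h3 := (hnx i hi _ hd).2
        rw [hd'] at h3
        rw [mul_smul, ← h3, inv_smul_smul, h2]
  -- lifts whose power character vanishes
  have hlift : ∀ i, ∃ y : Γ, σ y = x i ∧ (i < n → ∀ hy : σ (y ^ orderOf (x i)) = 1,
      χ ⟨y ^ orderOf (x i), hy⟩ = 1) := by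
    intro i
    obtain ⟨g, hg⟩ := hs (x i)
    by_cases hi : i < n
    swap
    · exact ⟨g, hg, fun h => absurd h hi⟩
    obtain ⟨k, hk⟩ := exists_mul_mod_one (hcop i hi)
    set o := orderOf (x i)
    have hgo : σ (g ^ o) = 1 := by rw [map_pow, hg, pow_orderOf_eq_one]
    refine ⟨g * (g ^ o) ^ k, ?_, fun _ hy => ?_⟩
    · rw [map_mul, map_pow σ (g ^ o), hgo, one_pow, mul_one, hg]
    · have he : (g * (g ^ o) ^ k) ^ o = (g ^ o) ^ (1 + o * k) := by
        rw [← pow_mul, ← pow_succ', ← pow_mul, ← pow_mul]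
        congr 1
        ring
      have : (⟨_, hy⟩ : σ.ker) = (⟨g ^ o, hgo⟩ : σ.ker) ^ (1 + o * k) := Subtype.ext (by simpa using he)
      rw [this, map_pow]
      obtain ⟨j, hj⟩ : m ∣ 1 + o * k := (ZMod.natCast_eq_zero_iff _ _).1 (by
        rw [Nat.cast_add, Nat.cast_one, hk, add_neg_cancel])
      rw [hj, pow_mul, hA, one_pow]
  choose L hLσ hLpow using hlift
  -- the section along the tree
  let s : ℕ → Γ := sec L par
  have hs0 : s 0 = 1 := by
    show sec L par 0 = 1
    rw [sec, dif_neg (Nat.not_lt_zero _)]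
  have hsucc : ∀ c < N, 0 < c → s c = L (par c).1 * s (par c).2 := by
    intro c hcN hc0
    show sec L par c = L (par c).1 * sec L par (par c).2
    rw [sec, dif_pos (hpar c hcN hc0).1]
  have hobj : ∀ c, c < N → σ (s c) • obj 0 = obj c := by
    intro c
    induction c using Nat.strong_induction_on with
    | _ c ih =>
      intro hcN
      rcases Nat.eq_zero_or_pos c with rfl | hc0
      · rw [hs0, map_one, one_smul]
      · obtain ⟨h1, h2, h3⟩ := hpar c hcN hc0
        rw [hsucc c hcN hc0, map_mul, hLσ, mul_smul, ih _ h1 (h1.trans hcN),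
          (hnx _ h2 _ (h1.trans hcN)).2, h3]
  -- characters on the preimage of the stabiliser
  set H := MulAction.stabilizer G (obj 0)
  let σH : H.comap σ →* H := (σ.comp (H.comap σ).subtype).codRestrict H fun w => w.2
  have hσHs : Function.Surjective σH := fun h => by
    obtain ⟨g, hg⟩ := hs h
    exact ⟨⟨g, by rw [Subgroup.mem_comap, hg]; exact h.2⟩, Subtype.ext hg⟩
  have hkH : ∀ w : H.comap σ, w ∈ σH.ker ↔ σ w = 1 := fun w => by
    rw [MonoidHom.mem_ker, Subtype.ext_iff]; rfl
  let χH : σH.ker →* A :=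
    χ.comp
      { toFun := fun w => ⟨(w : H.comap σ), (hkH _).1 w.2⟩
        map_one' := rfl
        map_mul' := fun _ _ => rfl }
  obtain ⟨ψH, hψH⟩ := hH σH hσHs (fun w hw => mem_center_iff.2 fun g => Subtype.ext
    (mem_center_iff.1 (hc (MonoidHom.mem_ker.2 ((hkH w).1 hw))) g)) χH
  let φ : Γ → Additive A := fun g =>
    if h : g ∈ H.comap σ then Additive.ofMul (ψH ⟨g, h⟩) else 0
  have hφmul : ∀ a ∈ H.comap σ, ∀ b ∈ H.comap σ, φ (a * b) = φ a + φ b := by
    intro a ha b hb
    simp only [φ, dif_pos (mul_mem ha hb), dif_pos ha, dif_pos hb]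
    rw [show (⟨a * b, mul_mem ha hb⟩ : H.comap σ) = ⟨a, ha⟩ * ⟨b, hb⟩ from rfl, map_mul, ofMul_mul]
  have hφinv : ∀ a ∈ H.comap σ, φ a⁻¹ = -φ a := by
    intro a ha
    simp only [φ, dif_pos (inv_mem ha), dif_pos ha]
    rw [show (⟨a⁻¹, inv_mem ha⟩ : H.comap σ) = (⟨a, ha⟩)⁻¹ from rfl, map_inv, ofMul_inv]
  have hφker : ∀ z : σ.ker, φ z = Additive.ofMul (χ z) := by
    intro z
    have hzH : (z : Γ) ∈ H.comap σ := by
      rw [Subgroup.mem_comap, MonoidHom.mem_ker.1 z.2]; exact one_mem _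
    have hk : (⟨z, hzH⟩ : H.comap σ) ∈ σH.ker := (hkH _).2 (MonoidHom.mem_ker.1 z.2)
    simp only [φ, dif_pos hzH]
    exact congrArg Additive.ofMul (hψH ⟨_, hk⟩)
  let v : ℕ → ℕ → Additive A := fun i c => φ ((s (nx i c))⁻¹ * L i * s c)
  have hmem : ∀ i < n, ∀ c < N, (s (nx i c))⁻¹ * L i * s c ∈ H.comap σ := by
    intro i hi c hcN
    rw [Subgroup.mem_comap, MulAction.mem_stabilizer_iff, map_mul, map_mul, map_inv, hLσ, mul_smul,
      mul_smul, hobj c hcN, (hnx i hi c hcN).2, inv_smul_eq_iff, hobj _ (hnx i hi c hcN).1]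
  have hwalk : ∀ l : List (ℕ × Bool), (∀ t ∈ l, t.1 < n) → ∀ c < N,
      wend nx pv c l < N ∧ (s (wend nx pv c l))⁻¹ * wprod L l * s c ∈ H.comap σ ∧
        φ ((s (wend nx pv c l))⁻¹ * wprod L l * s c) = wsum nx pv v c l := by
    intro l
    induction l with
    | nil =>
      intro _ c hcN
      refine ⟨hcN, ?_⟩
      simp only [wend, wprod, wsum, mul_one, inv_mul_cancel]
      refine ⟨one_mem _, ?_⟩
      have := hφker 1
      simpa using this
    | cons t l ih =>
      intro hl c hcN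
      obtain ⟨i, b⟩ := t
      have hi : i < n := hl (i, b) List.mem_cons_self
      have hl' : ∀ t ∈ l, t.1 < n := fun t ht => hl t (List.mem_cons_of_mem _ ht)
      cases b with
      | true =>
        obtain ⟨h1, h2, h3⟩ := ih hl' (nx i c) (hnx i hi c hcN).1
        simp only [wend, wprod, wsum, if_pos]
        have e : (s (wend nx pv (nx i c) l))⁻¹ * (wprod L l * L i) * s c =
            ((s (wend nx pv (nx i c) l))⁻¹ * wprod L l * s (nx i c)) *
              ((s (nx i c))⁻¹ * L i * s c) := by group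
        rw [e]
        exact ⟨h1, mul_mem h2 (hmem i hi c hcN),
          by rw [hφmul _ h2 _ (hmem i hi c hcN), h3, add_comm]⟩
      | false =>
        obtain ⟨hd, hd'⟩ := hpv i hi c hcN
        obtain ⟨h1, h2, h3⟩ := ih hl' (pv i c) hd
        simp only [wend, wprod, wsum, Bool.false_eq_true, if_false]
        have hm := hmem i hi _ hd
        have hv : v i (pv i c) = φ ((s c)⁻¹ * L i * s (pv i c)) := by simp only [v, hd']
        rw [hd'] at hm
        have e : (s (wend nx pv (pv i c) l))⁻¹ * (wprod L l * (L i)⁻¹) * s c =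
            ((s (wend nx pv (pv i c) l))⁻¹ * wprod L l * s (pv i c)) *
              ((s c)⁻¹ * L i * s (pv i c))⁻¹ := by group
        rw [e]
        exact ⟨h1, mul_mem h2 (inv_mem hm),
          by rw [hφmul _ h2 _ (inv_mem hm), h3, hφinv _ hm, hv, add_comm]⟩
  let e : ℕ → Additive A := fun r => φ (wprod L (rels.getD r []))
  obtain ⟨u, hu, hv0⟩ : ∃ u : Additive A, t • u = 0 ∧
      ∀ i < n, ∀ c < N, v i c ∈ AddSubgroup.zmultiples u := by
    refine hzero v e ?_ ?_ ?_
    · intro c hcN hc0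
      obtain ⟨_, _, h3⟩ := hpar c hcN hc0
      simp only [v, h3, hsucc c hcN hc0, mul_inv_rev, mul_assoc, inv_mul_cancel_left, inv_mul_cancel]
      simpa using hφker 1
    · intro r hr c hcN
      have hl : rels.getD r [] ∈ rels := by
        rw [List.getD_eq_getElem (hn := hr)]; exact List.getElem_mem hr
      obtain ⟨hln, hl1⟩ := hrel _ hl
      obtain ⟨hlt, hle⟩ := hend _ hln c hcN
      rw [hl1, one_smul] at hle
      have hlc := hinj _ hlt c hcN hle
      obtain ⟨-, -, h3⟩ := hwalk _ hln c hcN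
      rw [hlc] at h3
      have hz : σ (wprod L (rels.getD r [])) = 1 := by
        rw [map_wprod σ L x (fun i _ => hLσ i) _ hln, hl1]
      rw [← h3, mul_assoc, ← mem_center_iff.1 (hc hz) (s c), inv_mul_cancel_left]
    · intro r hr
      rcases hpow r hr with ⟨o, i, hl, ho, horder⟩ | hfus
      swap
      · show φ (wprod L (rels.getD r [])) = 0
        by_cases hlen : r < rels.length
        · have hl' : rels.getD r [] ∈ rels := by
            rw [List.getD_eq_getElem (hn := hlen)]; exact List.getElem_mem hlen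
          obtain ⟨hln, hl1⟩ := hrel _ hl'
          have hz : σ (wprod L (rels.getD r [])) = 1 := by
            rw [map_wprod σ L x (fun i _ => hLσ i) _ hln, hl1]
          rw [hφker ⟨_, hz⟩, hfus L (fun i _ => hLσ i) hz, ofMul_one]
        · rw [List.getD_eq_default _ _ (not_lt.1 hlen)]
          simpa [wprod] using hφker 1
      show φ (wprod L (rels.getD r [])) = 0
      rw [hl, wprod_replicate]
      rcases Nat.eq_zero_or_pos o with rfl | hopos
      · rw [pow_zero]; simpa using hφker 1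
      · have hz : σ (L i ^ o) = 1 := by rw [map_pow, hLσ, ho]
        have hi : i < n := by
          have hlen : r < rels.length := by
            by_contra hlt
            rw [List.getD_eq_default _ _ (not_lt.1 hlt)] at hl
            have := congrArg List.length hl
            simp at this; omega
          have hl' : rels.getD r [] ∈ rels := by
            rw [List.getD_eq_getElem (hn := hlen)]; exact List.getElem_mem hlen
          exact (hrel _ hl').1 (i, true) (by rw [hl]; exact List.mem_replicate.2 ⟨hopos.ne', rfl⟩)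
        subst horder
        rw [hφker ⟨_, hz⟩, hLpow i hi hz, ofMul_one]
  -- elements of vanishing voltage
  let US : Submonoid Γ :=
    { carrier := {g | ∀ c < N, ∃ c' < N, (s c')⁻¹ * g * s c ∈ H.comap σ ∧
        φ ((s c')⁻¹ * g * s c) ∈ AddSubgroup.zmultiples u}
      one_mem' := fun c hcN => ⟨c, hcN, by simp, by
        have h1 : φ 1 = 0 := by simpa using hφker 1
        simp [h1]⟩
      mul_mem' := by
        intro a b ha hb c hcN
        obtain ⟨c1, hc1, hb1, hb2⟩ := hb c hcN
        obtain ⟨c2, hc2, ha1, ha2⟩ := ha c1 hc1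
        have e : (s c2)⁻¹ * (a * b) * s c =
            ((s c2)⁻¹ * a * s c1) * ((s c1)⁻¹ * b * s c) := by group
        exact ⟨c2, hc2, by rw [e]; exact mul_mem ha1 hb1,
          by rw [e, hφmul _ ha1 _ hb1]; exact add_mem ha2 hb2⟩ }
  let U : Subgroup Γ :=
    { US with
      inv_mem' := fun {a} ha => by
        obtain ⟨k, hk⟩ : ∃ k : ℕ, a⁻¹ = a ^ k := ⟨orderOf a - 1, by
          rw [inv_eq_iff_mul_eq_one, ← pow_succ', Nat.sub_add_cancel (orderOf_pos a),
            pow_orderOf_eq_one]⟩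
        exact hk ▸ US.pow_mem ha k }
  have hUL : ∀ i < n, L i ∈ U := fun i hi c hcN =>
    ⟨nx i c, (hnx i hi c hcN).1, hmem i hi c hcN, hv0 i hi c hcN⟩
  refine ⟨u.toMul, by rw [← toMul_nsmul, hu, toMul_zero], U, ?_, ?_⟩
  · intro g
    have : σ g ∈ U.map σ := by
      refine (Subgroup.closure_le _).2 ?_ (hgen ▸ Subgroup.mem_top (σ g))
      rintro _ ⟨i, hi, rfl⟩
      exact ⟨L i, hUL i hi, hLσ i⟩
    obtain ⟨g0, hg0, hg0e⟩ := this
    refine ⟨⟨g0⁻¹ * g, by rw [MonoidHom.mem_ker, map_mul, map_inv, hg0e, inv_mul_cancel]⟩, ?_⟩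
    simpa [mul_assoc] using hg0
  · intro z hz
    obtain ⟨c', hc', h1, h2⟩ := hz 0 hN
    have hc0 : c' = 0 := by
      rw [Subgroup.mem_comap, hs0, mul_one, map_mul, map_inv, MonoidHom.mem_ker.1 z.2, mul_one,
        MulAction.mem_stabilizer_iff, inv_smul_eq_iff, hobj c' hc'] at h1
      exact (hinj 0 hN c' hc' h1).symm
    subst hc0
    rw [hs0, inv_one, one_mul, mul_one, hφker] at h2
    obtain ⟨j, hj⟩ := AddSubgroup.mem_zmultiples_iff.1 h2
    exact ⟨j, by simpa using congrArg Additive.toMul hj⟩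

end Cfsg.Agent.VoltageFus76
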