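import Mathlib
import Cfsg.Agent.Lib.TransferFixed
import Cfsg.Agent.Lib.TransferTate
import Cfsg.Agent.Lib.TransferPow
import Cfsg.Agent.Lib.PGroupsBasic
import Cfsg.Agent.Lib.LocGroup56

/-! Transfer failure at the normaliser of a weakly closed subgroup: a norm-nontrivial configuration. -/

set_option autoImplicit false
set_option linter.all false

namespace Cfsg.Agent.WeakTransfer56

open Subgroup MulAction
open scoped commutatorElement
open Cfsg.Agent.TransferFixed Cfsg.Agent.TransferPResidual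

variable {G : Type*} [Group G] [Finite G] {p : ℕ} [hp : Fact p.Prime]

/-- The target of all homomorphisms below. -/
abbrev Zp (p : ℕ) := Multiplicative (ZMod p)

theorem hom_of_index_prime {S : Type*} [Group S] {M : Subgroup S} [M.Normal] (hM : M.index = p) {z : S}
    (hz : z ∉ M) : ∃ π : S →* Zp p, π.ker = M ∧ π z = Multiplicative.ofAdd 1 := by
  have hcard : Nat.card (S ⧸ M) = p := hM
  have hgen : ∀ y : S ⧸ M, y ∈ Subgroup.zpowers (QuotientGroup.mk' M z) := fun y => by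
    have h1 : QuotientGroup.mk' M z ≠ 1 := fun h => hz ((QuotientGroup.eq_one_iff z).mp h)
    exact mem_zpowers_of_prime_card hcard h1
  let e := zmodMulEquivOfGenerator hgen hcard
  refine ⟨e.symm.toMonoidHom.comp (QuotientGroup.mk' M), ?_, ?_⟩
  · rw [MonoidHom.ker_comp_of_injective _ (e.symm.toMonoidHom) e.symm.injective, QuotientGroup.ker_mk']
  · exact zmodMulEquivOfGenerator_symm_apply_generator hgen hcard

/-- Tate: a focal failure is detected by a homomorphism to a group of order `p`. -/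
theorem exists_hom (P : Sylow p G) {H : Subgroup G} (hPH : (P : Subgroup G) ≤ H)
    (hne : (P : Subgroup G) ⊓ commutator G ≠ (P : Subgroup G) ⊓ ⁅H, H⁆) :
    ∃ (φ : ↥H →* Zp p) (x : ↥H), (x : G) ∈ (P : Subgroup G) ⊓ commutator G ∧ φ x ≠ 1 := by
  classical
  set S := (P : Subgroup G) with hS
  set Φ := (frattini ↥S).map S.subtype with hΦ
  have hSp : IsPGroup p ↥S := P.2
  have hHle : S ⊓ ⁅H, H⁆ ≤ S ⊓ commutator G :=
    inf_le_inf_left _ (Subgroup.commutator_mono le_top le_top)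
  have hnotle : ¬ S ⊓ commutator G ≤ (S ⊓ ⁅H, H⁆) ⊔ Φ := by
    intro hcov
    apply hne
    refine le_antisymm ?_ hHle
    set R := S ⊓ (Cfsg.pResidual p ↥H).map H.subtype with hR
    have hHH : ⁅H, H⁆ = (commutator ↥H).map H.subtype := (map_subtype_commutator H).symm
    let PH : Sylow p ↥H := P.subtype hPH
    have hmapS : (S.subgroupOf H).map H.subtype = S := map_subgroupOf_eq_of_le hPH
    have hdec : S ⊓ ⁅H, H⁆ ≤ R ⊔ ⁅S, S⁆ := by
      intro h hh
      obtain ⟨⟨h', hh'H⟩, hh', rfl⟩ : h ∈ (commutator ↥H).map H.subtype := hHH ▸ hh.2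
      have h1 : commutator ↥H ≤ ⁅(PH : Subgroup ↥H), (PH : Subgroup ↥H)⁆ ⊔ Cfsg.pResidual p ↥H := by
        have hsup := sylow_sup_pResidual PH
        have hk : (QuotientGroup.mk' (Cfsg.pResidual p ↥H)).ker ≤
            ⁅(PH : Subgroup ↥H), (PH : Subgroup ↥H)⁆ ⊔ Cfsg.pResidual p ↥H := by
          rw [QuotientGroup.ker_mk']; exact le_sup_right
        rw [← Subgroup.comap_map_eq_self hk, ← Subgroup.map_le_iff_le_comap, Subgroup.map_sup,
          _root_.commutator_def, map_commutator, map_commutator, ← hsup, Subgroup.map_sup,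
          (Subgroup.map_eq_bot_iff (Cfsg.pResidual p ↥H)).mpr (by rw [QuotientGroup.ker_mk']), sup_bot_eq,
          sup_bot_eq]
      obtain ⟨a, ha, b, hb, hab⟩ := Subgroup.mem_sup_of_normal_right.mp (h1 hh')
      have haS : (a : G) ∈ ⁅S, S⁆ := by
        have := Subgroup.mem_map_of_mem H.subtype ha
        rw [map_commutator, Sylow.coe_subtype, hmapS] at this
        exact this
      have hbS : (b : G) ∈ S := by
        have e : (b : G) = (a : G)⁻¹ * h' := by
          rw [eq_inv_mul_iff_mul_eq]; exact congrArg Subtype.val hab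
        rw [e]
        exact S.mul_mem (S.inv_mem (Subgroup.commutator_le_self S haS)) hh.1
      have e : (⟨h', hh'H⟩ : ↥H).1 = (a : G) * (b : G) := (congrArg Subtype.val hab).symm
      show (⟨h', hh'H⟩ : ↥H).1 ∈ R ⊔ ⁅S, S⁆
      rw [e]
      exact mul_mem (mem_sup_right haS) (mem_sup_left ⟨hbS, b, hb, rfl⟩)
    have hSS : ⁅S, S⁆ ≤ Φ := by
      rw [hΦ, ← map_subtype_commutator]
      exact map_mono (PGroupsBasic.commutator_le_frattini hSp)
    have hRle : R ≤ S ⊓ Cfsg.pResidual p G := inf_le_inf_left _ (map_pResidual_subtype_le H)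
    have hfocal : S ⊓ Cfsg.pResidual p G ≤ S ⊓ commutator G :=
      le_inf inf_le_left ((inf_pResidual_le_focal P).trans (S.focalSubgroup_le_commutator))
    have hRn : S ≤ normalizer (R : Set G) := by
      refine Cfsg.Agent.LocGroup56.le_normalizer_of_conj fun g hg y hy => ⟨?_, ?_⟩
      · exact S.mul_mem (S.mul_mem hg hy.1) (S.inv_mem hg)
      · obtain ⟨y', hy', hye⟩ := hy.2
        exact ⟨⟨g, hPH hg⟩ * y' * ⟨g, hPH hg⟩⁻¹, (inferInstance : (Cfsg.pResidual p ↥H).Normal).conj_mem _ hy' _,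
          by simp [← hye]⟩
    have hReq : R = S ⊓ Cfsg.pResidual p G :=
      TransferTate.eq_inf_pResidual_of_le_sup_frattini P hRn hRle
        ((hfocal.trans hcov).trans (sup_le (hdec.trans (sup_le le_sup_left (hSS.trans le_sup_right))) le_sup_right))
    -- `S ∩ G' ≤ [S,S] (S ∩ O^p(G))`
    intro h hh
    have h1 : commutator G ≤ ⁅S, S⁆ ⊔ Cfsg.pResidual p G := by
      have hk : (QuotientGroup.mk' (Cfsg.pResidual p G)).ker ≤ ⁅S, S⁆ ⊔ Cfsg.pResidual p G := by
        rw [QuotientGroup.ker_mk']; exact le_sup_right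
      rw [← Subgroup.comap_map_eq_self hk, ← Subgroup.map_le_iff_le_comap, Subgroup.map_sup,
        _root_.commutator_def, map_commutator, map_commutator, ← sylow_sup_pResidual P, Subgroup.map_sup,
        (Subgroup.map_eq_bot_iff (Cfsg.pResidual p G)).mpr (by rw [QuotientGroup.ker_mk']), sup_bot_eq,
        sup_bot_eq]
    obtain ⟨a, ha, b, hb, rfl⟩ := Subgroup.mem_sup_of_normal_right.mp (h1 hh.2)
    have haS : a ∈ S := Subgroup.commutator_le_self S ha
    have hbS : b ∈ S := by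
      have := mul_mem (inv_mem haS) hh.1
      rwa [inv_mul_cancel_left] at this
    have hbR : b ∈ R := hReq ▸ ⟨hbS, hb⟩
    have hR' : R ≤ ⁅H, H⁆ := by
      rintro y ⟨hy, y', hy', rfl⟩
      rw [hHH]
      refine mem_map_of_mem _ ?_
      have := inf_pResidual_le_focal PH (show y' ∈ (PH : Subgroup ↥H) ⊓ Cfsg.pResidual p ↥H from ⟨hy, hy'⟩)
      exact (PH : Subgroup ↥H).focalSubgroup_le_commutator this
    exact ⟨hh.1, mul_mem (Subgroup.commutator_mono hPH hPH ha) (hR' hbR)⟩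
  obtain ⟨h, hh, hhB⟩ := SetLike.not_le_iff_exists.mp hnotle
  set B := ((S ⊓ ⁅H, H⁆) ⊔ Φ).subgroupOf S with hB
  have hfB : frattini ↥S ≤ B := fun y hy => mem_sup_right (mem_map_of_mem _ hy)
  haveI : B.Normal := by
    refine ⟨fun y hy g => ?_⟩
    have h1 : ⁅g, y⁆ ∈ B := hfB (PGroupsBasic.commutator_le_frattini hSp
      (commutator_mem_commutator (mem_top g) (mem_top y)))
    have h2 := mul_mem h1 hy
    rwa [commutatorElement_def, inv_mul_cancel_right] at h2
  obtain ⟨M, hM, hBM, hhM⟩ : ∃ M : Subgroup ↥S, IsCoatom M ∧ B ≤ M ∧ (⟨h, hh.1⟩ : ↥S) ∉ M := by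
    by_contra hcon
    push Not at hcon
    have hbot : frattini (↥S ⧸ B) = ⊥ := by
      refine PGroupsBasic.frattini_eq_bot_of_elementary (p := p) ?_ ?_
      · intro a b
        obtain ⟨a, rfl⟩ := QuotientGroup.mk'_surjective B a
        obtain ⟨b, rfl⟩ := QuotientGroup.mk'_surjective B b
        rw [← commutatorElement_eq_one_iff_mul_comm, ← map_commutatorElement]
        exact (QuotientGroup.eq_one_iff _).mpr (hfB (PGroupsBasic.commutator_le_frattini hSp
          (commutator_mem_commutator (mem_top a) (mem_top b))))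
      · intro a
        obtain ⟨a, rfl⟩ := QuotientGroup.mk'_surjective B a
        rw [← map_pow]
        exact (QuotientGroup.eq_one_iff _).mpr (hfB (PGroupsBasic.pow_mem_frattini hSp a))
    apply hhB
    have h2 : QuotientGroup.mk' B (⟨h, hh.1⟩ : ↥S) ∈ frattini (↥S ⧸ B) := by
      rw [frattini, Order.radical, Subgroup.mem_iInf]
      intro K
      rw [Subgroup.mem_iInf]
      intro hK
      have := hcon (K.comap (QuotientGroup.mk' B)) (Subgroup.isCoatom_comap_of_surjective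
        (QuotientGroup.mk'_surjective B) hK) (QuotientGroup.le_comap_mk' B K)
      exact this
    rw [hbot, Subgroup.mem_bot] at h2
    exact mem_subgroupOf.mp ((QuotientGroup.eq_one_iff (⟨h, hh.1⟩ : ↥S)).mp h2)
  haveI := PGroupsBasic.normal_of_isCoatom hSp hM
  obtain ⟨π, hker, hπh⟩ := hom_of_index_prime (PGroupsBasic.index_of_isCoatom hSp hM) hhM
  let e : ↥(S.subgroupOf H) ≃* ↥S := Subgroup.subgroupOfEquivOfLe hPH
  let π' : ↥(S.subgroupOf H) →* Zp p := π.comp e.toMonoidHom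
  refine ⟨MonoidHom.transfer π', ⟨h, hPH hh.1⟩, hh, ?_⟩
  have hval := TransferPow.transfer_eq_pow_index π' ⟨⟨h, hPH hh.1⟩, hh.1⟩ (fun k g hg => by
    rw [← map_pow π', ← mul_inv_eq_one, ← map_inv π', ← map_mul π']
    show π (e _) = 1
    rw [← MonoidHom.mem_ker, hker]
    refine hBM (mem_subgroupOf.mpr (mem_sup_left (mem_inf.mpr ⟨SetLike.coe_mem _, ?_⟩)))
    rw [← map_subtype_commutator]
    refine ⟨⁅g⁻¹, (⟨h, hPH hh.1⟩ : ↥H) ^ k⁆, commutator_mem_commutator (mem_top _) (mem_top _), ?_⟩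
    simp [e, commutatorElement_def])
  show MonoidHom.transfer π' (((⟨⟨h, hPH hh.1⟩, hh.1⟩ : ↥(S.subgroupOf H)) : ↥H)) ≠ 1
  rw [hval]
  show π ⟨h, hh.1⟩ ^ (S.subgroupOf H).index ≠ 1
  rw [hπh]
  intro h1
  have hndvd : ¬ p ∣ (S.subgroupOf H).index := (P.subtype hPH).not_dvd_index
  apply hndvd
  rw [← ofAdd_nsmul] at h1
  have h2 : (((S.subgroupOf H).index : ℕ) : ZMod p) = 0 := by simpa using h1
  exact (ZMod.natCast_eq_zero_iff _ _).mp h2

/-- A `p`-subgroup of `G` contained in `H`, with `S ≤ H` Sylow, is conjugate in `H` into `S`. -/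
theorem exists_conj_le (P : Sylow p G) {H : Subgroup G} (hPH : (P : Subgroup G) ≤ H)
    {K : Subgroup G} (hK : IsPGroup p ↥K) (hKH : K ≤ H) :
    ∃ a ∈ H, ∀ k ∈ K, a⁻¹ * k * a ∈ (P : Subgroup G) := by
  obtain ⟨Q, hQ⟩ := (hK.comap_subtype (K := H)).exists_le_sylow
  obtain ⟨a, ha⟩ := MulAction.exists_smul_eq ↥H (P.subtype hPH) Q
  refine ⟨a, a.2, fun k hk => ?_⟩
  have h1 : (⟨k, hKH hk⟩ : ↥H) ∈ (Q : Subgroup ↥H) := hQ hk
  rw [← ha, Sylow.coe_subgroup_smul, Subgroup.mem_pointwise_smul_iff_inv_smul_mem] at h1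
  simpa [← map_inv, MulAut.conj_apply, mem_subgroupOf] using h1

/-- The product of a function over an orbit, with respect to an index-`p` normal subgroup containing
a stabiliser. -/
theorem prod_orbit_eq {S α A : Type*} [Group S] [Finite S] [MulAction S α] [Fintype α] [DecidableEq α]
    [CommMonoid A] (f : α → A) (π : S →* Zp p) {z : S} (hz : π z = Multiplicative.ofAdd 1) (q0 : α)
    (hst : stabilizer S q0 ≤ π.ker) [Fintype (↥π.ker ⧸ (stabilizer S q0).subgroupOf π.ker)]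
    (O : Finset α) (hO : ∀ q, q ∈ O ↔ q ∈ orbit S q0) :
    ∏ q ∈ O, f q = ∏ i : Fin p, ∏ r : ↥π.ker ⧸ (stabilizer S q0).subgroupOf π.ker,
      f ((z ^ (i : ℕ) * (r.out : S)) • q0) := by
  haveI := hp.out.pos
  haveI : NeZero p := ⟨hp.out.ne_zero⟩
  have hπ : ∀ (i : ℕ) (m : ↥π.ker), π (z ^ i * (m : S)) = Multiplicative.ofAdd (i : ZMod p) := by
    intro i m
    rw [map_mul, map_pow, hz, MonoidHom.mem_ker.mp m.2, mul_one, ← ofAdd_nsmul, nsmul_one]
  rw [← Fintype.prod_prod_type']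
  refine (Finset.prod_nbij (fun x : Fin p × (↥π.ker ⧸ (stabilizer S q0).subgroupOf π.ker) =>
    (z ^ (x.1 : ℕ) * (x.2.out : S)) • q0) (fun x _ => (hO _).mpr (mem_orbit _ _)) ?_ ?_
    (fun _ _ => rfl)).symm
  · rintro ⟨i, r⟩ - ⟨j, r'⟩ - he
    simp only at he
    have h1 : (z ^ (j : ℕ) * (r'.out : S))⁻¹ * (z ^ (i : ℕ) * (r.out : S)) ∈ stabilizer S q0 := by
      rw [mem_stabilizer_iff, mul_smul, he, inv_smul_smul]
    have h2 := MonoidHom.mem_ker.mp (hst h1)
    rw [map_mul, map_inv, hπ, hπ, inv_mul_eq_one] at h2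
    have hij : i = j := by
      have h3 := congrArg (fun t => (Multiplicative.toAdd t).val) h2
      simp only [toAdd_ofAdd, ZMod.val_natCast, Nat.mod_eq_of_lt i.2, Nat.mod_eq_of_lt j.2] at h3
      exact Fin.ext h3.symm
    subst hij
    have h3 : (r'.out : S)⁻¹ * (r.out : S) ∈ stabilizer S q0 := by
      simpa [mul_assoc] using h1
    refine Prod.ext rfl ?_
    show r = r'
    rw [← QuotientGroup.out_eq' r, ← QuotientGroup.out_eq' r']
    exact (QuotientGroup.eq.mpr (mem_subgroupOf.mpr h3)).symm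
  · intro q hq
    obtain ⟨s, rfl⟩ := (hO q).mp hq
    set i : Fin p := ⟨(Multiplicative.toAdd (π s)).val, ZMod.val_lt _⟩ with hi
    have hm : (z ^ (i : ℕ))⁻¹ * s ∈ π.ker := by
      rw [MonoidHom.mem_ker, map_mul, map_inv, map_pow, hz, ← ofAdd_nsmul, nsmul_one, hi,
        ZMod.natCast_zmod_val, ofAdd_toAdd, inv_mul_cancel]
    set r : ↥π.ker ⧸ (stabilizer S q0).subgroupOf π.ker := QuotientGroup.mk ⟨_, hm⟩ with hr
    refine ⟨(i, r), Finset.mem_coe.mpr (Finset.mem_univ _), ?_⟩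
    have h1 : r.out⁻¹ * ⟨_, hm⟩ ∈ (stabilizer S q0).subgroupOf π.ker :=
      QuotientGroup.eq.mp (QuotientGroup.out_eq' r)
    have h2 : (r.out : S)⁻¹ * ((z ^ (i : ℕ))⁻¹ * s) ∈ stabilizer S q0 := mem_subgroupOf.mp h1
    rw [mem_stabilizer_iff, mul_smul, inv_smul_eq_iff] at h2
    show (z ^ (i : ℕ) * (r.out : S)) • q0 = s • q0
    rw [mul_smul, ← h2, ← mul_smul, mul_inv_cancel_left]

/-- The configuration: an element whose `λ`-norm along an index-`p` subgroup is non-trivial. -/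
theorem exists_config (P : Sylow p G) {W : Subgroup G} (hW : Cfsg.IsWeaklyClosed W (P : Subgroup G))
    (hne : (P : Subgroup G) ⊓ commutator G ≠
      (P : Subgroup G) ⊓ ⁅normalizer (W : Set G), normalizer (W : Set G)⁆) :
    ∃ (S' : Subgroup G) (π : ↥S' →* Zp p) (z : ↥S') (x : ↥π.ker) (χ : ↥π.ker →* Zp p),
      S' ≤ (P : Subgroup G) ∧ W ≤ S' ∧ (z : G) ∈ W ∧ π z = Multiplicative.ofAdd 1 ∧
      ∏ i : Fin p, χ (MulAut.conjNormal (z ^ (i : ℕ))⁻¹ x) ≠ 1 := by
  classical
  set H := normalizer (W : Set G) with hH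
  have hWP : W ≤ (P : Subgroup G) := hW.1
  have hPH : (P : Subgroup G) ≤ H := by
    refine Cfsg.Agent.LocGroup56.le_normalizer_of_conj fun g hg y hy => ?_
    have e := hW.2 g (by
      rintro _ ⟨w, hw, rfl⟩
      simpa [MulAut.conj_apply] using
        (P : Subgroup G).mul_mem ((P : Subgroup G).mul_mem hg (hWP hw)) ((P : Subgroup G).inv_mem hg))
    have h1 : (MulAut.conj g).toMonoidHom y ∈ W.map (MulAut.conj g).toMonoidHom := mem_map_of_mem _ hy
    rw [e] at h1
    simpa [MulAut.conj_apply] using h1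
  obtain ⟨φ, x0, hx0, hφ0⟩ := exists_hom P hPH hne
  have hexn : ∃ n, ∃ x : ↥H, (x : G) ∈ (P : Subgroup G) ⊓ commutator G ∧ φ x ≠ 1 ∧ orderOf (x : G) = n :=
    ⟨_, x0, hx0, hφ0, rfl⟩
  obtain ⟨x, hx, hφx, hord⟩ := Nat.find_spec hexn
  have hxP : (x : G) ∈ (P : Subgroup G) := hx.1
  have hxG : (x : G) ∈ commutator G := hx.2
  have hx1 : (x : G) ≠ 1 := fun h => hφx (by rw [show x = 1 from Subtype.ext h, map_one])
  obtain ⟨e, he⟩ : ∃ e, orderOf (x : G) = p ^ e := by
    obtain ⟨e, he⟩ := IsPGroup.iff_orderOf.mp P.2 ⟨x, hxP⟩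
    exact ⟨e, by rwa [Subgroup.orderOf_mk] at he⟩
  have small : ∀ (g : G) (k : ℕ), p ∣ k → ∀ h : g⁻¹ * (x : G) ^ k * g ∈ H, φ ⟨_, h⟩ = 1 := by
    intro g k hk h
    by_contra hne'
    have hK : IsPGroup p ↥(zpowers (g⁻¹ * (x : G) ^ k * g)) := by
      refine ((P.2.to_le (zpowers_le.mpr hxP)).map (MulAut.conj g⁻¹).toMonoidHom).to_le (zpowers_le.mpr ?_)
      exact ⟨(x : G) ^ k, npow_mem_zpowers _ _, by simp⟩
    obtain ⟨a, haH, ha⟩ := exists_conj_le P hPH hK ((zpowers_le).mpr h)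
    have hw := ha _ (mem_zpowers _)
    have hw' : a⁻¹ * (g⁻¹ * (x : G) ^ k * g) * a ∈ H := hPH hw
    refine Nat.find_min hexn (m := orderOf (a⁻¹ * (g⁻¹ * (x : G) ^ k * g) * a)) ?_
      ⟨⟨_, hw'⟩, ⟨hw, ?_⟩, ?_, rfl⟩
    · rw [← hord]
      have e1 : a⁻¹ * (g⁻¹ * (x : G) ^ k * g) * a = MulAut.conj (g * a)⁻¹ ((x : G) ^ k) := by
        simp [mul_assoc]
      rw [e1, MulEquiv.orderOf_eq]
      rw [orderOf_pow' _ (by rintro rfl; simp at hne'; exact hne' (map_one φ))]
      refine Nat.div_lt_self (orderOf_pos _) ?_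
      refine lt_of_lt_of_le hp.out.one_lt (Nat.le_of_dvd (Nat.gcd_pos_of_pos_left _ (orderOf_pos _)) ?_)
      refine Nat.dvd_gcd ?_ hk
      rw [he]
      refine dvd_pow_self p fun h0 => hx1 ?_
      rw [← orderOf_eq_one_iff, he, h0, pow_zero]
    · have := (inferInstance : (commutator G).Normal).conj_mem _ ((commutator G).pow_mem hxG k) (g * a)⁻¹
      simpa [mul_assoc] using this
    · have e2 : (⟨_, hw'⟩ : ↥H) = (⟨a, haH⟩ : ↥H)⁻¹ * ⟨_, h⟩ * ⟨a, haH⟩ := Subtype.ext rfl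
      rw [e2, map_mul, map_mul, map_inv, mul_right_comm, inv_mul_cancel, one_mul]
      exact hne'
  haveI : Fintype (G ⧸ H) := Fintype.ofFinite _
  have hV : ∏ q : G ⧸ H, fixedValue φ (x : G) q = 1 := by
    rw [← transfer_eq_prod_fixedValue φ he small]
    exact MonoidHom.mem_ker.mp (Abelianization.commutator_subset_ker _ hxG)
  set S' := W ⊔ zpowers (x : G) with hS'
  have hS'P : S' ≤ (P : Subgroup G) := sup_le hWP (zpowers_le.mpr hxP)
  have hfix : ∀ q : G ⧸ H, q ∈ fixedPoints ↥S' (G ⧸ H) ↔ q = ((1 : G) : G ⧸ H) := by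
    intro q
    obtain ⟨g, rfl⟩ := QuotientGroup.mk_surjective q
    constructor
    · intro hq
      have hWg : ∀ w ∈ W, g⁻¹ * w * g ∈ H := by
        intro w hw
        have h1 := hq ⟨w, mem_sup_left hw⟩
        change ((w * g : G) : G ⧸ H) = ((g : G) : G ⧸ H) at h1
        simpa [mul_assoc] using QuotientGroup.eq.mp h1.symm
      have hK : IsPGroup p ↥(W.map (MulAut.conj g⁻¹).toMonoidHom) :=
        ((P.2.to_le hWP)).map _
      obtain ⟨a, haH, ha⟩ := exists_conj_le P hPH hK (by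
        rintro _ ⟨w, hw, rfl⟩
        simpa using hWg w hw)
      have hga : W.map (MulAut.conj (g * a)⁻¹).toMonoidHom = W := by
        refine hW.2 _ ?_
        rintro _ ⟨w, hw, rfl⟩
        have := ha _ (mem_map_of_mem _ hw)
        simpa [mul_assoc] using this
      have hgaH : g * a ∈ H := by
        rw [← inv_mem_iff]
        refine mem_normalizer_iff.mpr fun y => ⟨fun hy => ?_, fun hy => ?_⟩
        · rw [← hga]; exact mem_map_of_mem _ hy
        · rw [← hga] at hy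
          obtain ⟨y', hy', hye⟩ := hy
          exact (MulAut.conj (g * a)⁻¹).injective hye ▸ hy'
      refine QuotientGroup.eq.mpr ?_
      rw [mul_one, inv_mem_iff]
      simpa using H.mul_mem hgaH (H.inv_mem haH)
    · intro hq s
      rw [hq]
      refine smul_eq_of_mem (H := H) ?_
      simpa using hPH (hS'P s.2)
  have hfix1 : fixedValue φ (x : G) ((1 : G) : G ⧸ H) = φ x := by
    rw [fixedValue_mk φ (g := 1) (by simp)]
    congr 1
    exact Subtype.ext (by simp)
  have horb : ∃ a : G ⧸ H, a ∉ fixedPoints ↥S' (G ⧸ H) ∧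
      ∏ b ∈ Finset.univ.filter (· ∈ orbit ↥S' a), fixedValue φ (x : G) b ≠ 1 := by
    by_contra hc
    push Not at hc
    apply hφx
    rw [← hfix1, ← hV, prod_eq_prod_fixed (S := ↥S') _ hc]
    symm
    refine Finset.prod_eq_single_of_mem _ (Finset.mem_filter.mpr ⟨Finset.mem_univ _, (hfix _).mpr rfl⟩) ?_
    intro b hb hbne
    exact absurd ((hfix b).mp (Finset.mem_filter.mp hb).2) hbne
  obtain ⟨a, hanf, hprod⟩ := horb
  obtain ⟨q0, hq0, hq0f⟩ := Finset.exists_ne_one_of_prod_ne_one hprod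
  have hq0o : q0 ∈ orbit ↥S' a := (Finset.mem_filter.mp hq0).2
  have hxq0 : (x : G) • q0 = q0 := by
    by_contra hc
    exact hq0f (fixedValue_of_ne φ hc)
  have hKtop : stabilizer ↥S' q0 ≠ ⊤ := by
    intro ht
    apply hanf
    obtain ⟨t, ht'⟩ := mem_orbit_symm.mp hq0o
    intro s
    rw [← ht', ← mul_smul]
    exact (mem_stabilizer_iff.mp (ht ▸ mem_top (s * t) : s * t ∈ stabilizer ↥S' q0)).trans
      (mem_stabilizer_iff.mp (ht ▸ mem_top t : t ∈ stabilizer ↥S' q0)).symm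
  obtain ⟨M, hM, hKM⟩ := PGroupsBasic.exists_isCoatom_ge hKtop
  have hS'p : IsPGroup p ↥S' := P.2.to_le hS'P
  haveI := PGroupsBasic.normal_of_isCoatom hS'p hM
  obtain ⟨z, hzW, hzM⟩ : ∃ z : ↥S', (z : G) ∈ W ∧ z ∉ M := by
    by_contra hc
    push Not at hc
    apply hM.1
    rw [eq_top_iff]
    have h1 : S' ≤ M.map S'.subtype := by
      refine sup_le (fun w hw => ⟨⟨w, mem_sup_left hw⟩, hc _ hw, rfl⟩) (zpowers_le.mpr ?_)
      exact ⟨⟨x, mem_sup_right (mem_zpowers _)⟩, hKM hxq0, rfl⟩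
    intro s _
    obtain ⟨s', hs', hse⟩ := h1 s.2
    exact Subtype.ext hse ▸ hs'
  obtain ⟨π, hker, hπz⟩ := hom_of_index_prime (PGroupsBasic.index_of_isCoatom hS'p hM) hzM
  have hst : stabilizer ↥S' q0 ≤ π.ker := hker.symm ▸ hKM
  have hxker : (⟨(x : G), mem_sup_right (mem_zpowers _)⟩ : ↥S') ∈ π.ker := hst hxq0
  set K' := (stabilizer ↥S' q0).subgroupOf π.ker with hK'
  have hconjH : ∀ u : ↥π.ker, u ∈ K' → q0.out⁻¹ * ((u : ↥S') : G) * q0.out ∈ H := fun u hu =>
    mem_of_smul_eq (x := ((u : ↥S') : G)) (mem_subgroupOf.mp hu)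
  let ψ : ↥K' →* Zp p :=
    { toFun := fun u => φ ⟨_, hconjH u.1 u.2⟩
      map_one' := by
        rw [← map_one φ]; congr 1; exact Subtype.ext (by simp)
      map_mul' := fun u v => by
        rw [← map_mul φ]; congr 1; exact Subtype.ext (by simp [mul_assoc]) }
  haveI : Fintype (↥π.ker ⧸ K') := Fintype.ofFinite _
  refine ⟨S', π, z, ⟨_, hxker⟩, MonoidHom.transfer ψ, hS'P, le_sup_left, hzW, hπz, ?_⟩
  have hO : orbit ↥S' a = orbit ↥S' q0 := (orbit_eq_iff.mpr hq0o).symm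
  rw [prod_orbit_eq (fixedValue φ (x : G)) π hπz q0 hst (Finset.univ.filter (· ∈ orbit ↥S' a))
    (fun q => by simp [hO])] at hprod
  convert hprod using 1
  refine Finset.prod_congr rfl fun i _ => ?_
  set w := MulAut.conjNormal (z ^ (i : ℕ))⁻¹ (⟨_, hxker⟩ : ↥π.ker) with hw
  have hwv : ((w : ↥S') : G) = ((z : G) ^ (i : ℕ))⁻¹ * (x : G) * (z : G) ^ (i : ℕ) := by
    rw [hw, MulAut.conjNormal_apply]
    simp
  obtain ⟨ew, hew⟩ := IsPGroup.iff_orderOf.mp (hS'p.to_subgroup π.ker) w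
  rw [transfer_eq_prod_fixedValue ψ hew (fun g k hk h => ?_)]
  · refine Finset.prod_congr rfl fun r _ => ?_
    set u : ↥S' := z ^ (i : ℕ) * (r.out : ↥S') with hu
    have key : (r.out : ↥π.ker)⁻¹ * w * r.out ∈ K' ↔
        ((u : G) * q0.out)⁻¹ * (x : G) * ((u : G) * q0.out) ∈ H := by
      constructor
      · intro h
        have := hconjH _ h
        simpa [hu, hwv, mul_assoc] using this
      · intro h
        refine mem_subgroupOf.mpr (mem_stabilizer_iff.mpr ?_)
        show ((((r.out : ↥π.ker)⁻¹ * w * r.out : ↥π.ker) : ↥S') : G) • q0 = q0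
        rw [← QuotientGroup.out_eq' q0]
        refine smul_eq_of_mem (H := H) ?_
        simpa [hu, hwv, mul_assoc] using h
    have hq : u • q0 = (((u : G) * q0.out : G) : G ⧸ H) := by
      conv_lhs => rw [← QuotientGroup.out_eq' q0]
      rfl
    by_cases hm : ((u : G) * q0.out)⁻¹ * (x : G) * ((u : G) * q0.out) ∈ H
    · rw [hq, fixedValue_mk φ hm]
      have h' := key.mpr hm
      conv_lhs => rw [← QuotientGroup.out_eq' r]
      rw [fixedValue_mk ψ h']
      show φ _ = φ _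
      congr 1
      exact Subtype.ext (by simp [hu, hwv, mul_assoc])
    · rw [hq, fixedValue_of_ne φ, fixedValue_of_ne ψ]
      · intro hc
        exact hm (key.mp (mem_of_smul_eq hc))
      · intro hc
        have := mem_of_smul_eq hc
        set c := (((u : G) * q0.out : G) : G ⧸ H) with hcdef
        have h2 : ((u : G) * q0.out)⁻¹ * c.out ∈ H := QuotientGroup.eq.mp (QuotientGroup.out_eq' c).symm
        have h3 := H.mul_mem (H.mul_mem h2 this) (H.inv_mem h2)
        apply hm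
        simpa [mul_assoc] using h3
  · show φ _ = 1
    have e1 : q0.out⁻¹ * (((g⁻¹ * w ^ k * g : ↥π.ker) : ↥S') : G) * q0.out =
        ((z : G) ^ (i : ℕ) * ((g : ↥S') : G) * q0.out)⁻¹ * (x : G) ^ k *
          ((z : G) ^ (i : ℕ) * ((g : ↥S') : G) * q0.out) := by
      push_cast
      have e0 : (((z : G) ^ (i : ℕ))⁻¹ * (x : G) * (z : G) ^ (i : ℕ)) ^ k =
          ((z : G) ^ (i : ℕ))⁻¹ * (x : G) ^ k * (z : G) ^ (i : ℕ) := by
        simpa using conj_pow (a := ((z : G) ^ (i : ℕ))⁻¹) (b := (x : G)) (i := k)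
      rw [hwv, e0]
      simp [mul_assoc]
    have hmem : ((z : G) ^ (i : ℕ) * ((g : ↥S') : G) * q0.out)⁻¹ * (x : G) ^ k *
        ((z : G) ^ (i : ℕ) * ((g : ↥S') : G) * q0.out) ∈ H := e1 ▸ hconjH _ h
    rw [← small _ k hk hmem]
    congr 1
    exact Subtype.ext e1

end Cfsg.Agent.WeakTransfer56
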