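import Mathlib
import Cfsg.Agent.Lib.ZStarTheorem

/-!
# A weighted form of the Z*-argument

Let `X` be a nonempty finite set of involutions and `w` an involution such that for every `x ∈ X`
and every conjugate `v` of `w` the characters of the principal block take on `x * v` the value
that they take on some element of `X`.  Then some nontrivial character of the principal block has
`w` in its kernel.
-/

set_option autoImplicit false

open scoped ComplexConjugate

namespace Cfsg.Agent.WeightedZStar38

open Cfsg Cfsg.Agent.BlockTheoryCentre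

attribute [local instance] Classical.propDecidable

universe u

variable {G : Type u} [Group G] [Fintype G] {M : Ideal AlgInt}

theorem apply_real {x : G} (hx : x * x = 1) (χ : IrrCharacter G) :
    (χ : G → ℂ) x = (((χ : G → ℂ) x).re : ℂ) := by
  refine (Complex.conj_eq_iff_re.1 ?_).symm
  rw [← irr_inv, IsolatedInv.inv_eq_self_of_sq hx]

/-- The bilinear form given by the values of the real parts on the principal block. -/
noncomputable def form (M : Ideal AlgInt) (x z : G) : ℝ :=
  ∑ χ : IrrCharacter G,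
    if χ ∈ principalBlock M G then ((χ : G → ℂ) x).re * ((χ : G → ℂ) z).re else 0

theorem form_eq_zero (hM : IsPModular 2 M) {x z : G} (hx : orderOf x = 2) (hz : orderOf z = 2)
    (hne : ¬ IsConj x z) : form M x z = 0 := by
  have hx2 := IsolatedInv.sq_of_orderOf_two hx
  have hz2 := IsolatedInv.sq_of_orderOf_two hz
  have h0 := BlockTheoryIdem.sum_block_mul_conj_eq_zero hM BlockPrincipal81.isPBlock_principal
    x 1 z ⟨1, by rw [hx, pow_one]⟩ (Commute.one_right x) (by simp) ?_
  · apply Complex.ofReal_injective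
    rw [Complex.ofReal_zero, ← h0, form, Complex.ofReal_sum]
    refine Finset.sum_congr rfl fun χ _ => ?_
    by_cases hχ : χ ∈ principalBlock M G
    · rw [if_pos hχ, if_pos hχ, mul_one, Complex.ofReal_mul, ← apply_real hx2, ← apply_real hz2,
        ← irr_inv, IsolatedInv.inv_eq_self_of_sq hz2]
    · rw [if_neg hχ, if_neg hχ, Complex.ofReal_zero]
  intro g hg hgp
  have hgo : orderOf g = 2 := by
    obtain ⟨c, rfl⟩ := isConj_iff.1 hg
    rw [ZStarBasic.orderOf_conj_eq, hz]
  have : IsPPart 2 g g := ⟨1, mul_one g, Commute.one_right g, ⟨1, by rw [hgo, pow_one]⟩, by simp⟩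
  rw [← BlockTheoryIdem.pPart_unique Nat.prime_two this hgp] at hne
  exact hne hg.symm

theorem form_self_pos (hM : IsPModular 2 M) (x : G) : 0 < form M x x := by
  refine lt_of_lt_of_le one_pos ?_
  refine le_trans ?_ (Finset.single_le_sum (fun χ _ => ?_) (Finset.mem_univ (BlockPrincipal81.oneChar G)))
  · rw [if_pos (BlockPrincipal81.oneChar_mem hM)]
    simp [BlockPrincipal81.oneChar]
  · split_ifs
    · exact mul_self_nonneg _
    · exact le_rfl

theorem form_conj {x z : G} (h : IsConj x z) (y : G) : form M x y = form M z y := by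
  obtain ⟨c, rfl⟩ := isConj_iff.1 h
  refine Finset.sum_congr rfl fun χ _ => ?_
  rw [irr_classFun χ x c]

theorem exists_kernel (hM : IsPModular 2 M) (w : G) (hw : w * w = 1) (X : Finset G)
    (hX : X.Nonempty) (hXo : ∀ x ∈ X, orderOf x = 2)
    (hmul : ∀ x ∈ X, ∀ v : G, IsConj w v → ∃ z ∈ X, ∀ χ : IrrCharacter G,
      χ ∈ principalBlock M G → (χ : G → ℂ) (v * x) = (χ : G → ℂ) z) :
    ∃ χ : IrrCharacter G, χ ∈ principalBlock M G ∧ (χ : G → ℂ) ≠ (fun _ => 1) ∧
      (χ : G → ℂ) w = (χ : G → ℂ) 1 := by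
  by_contra hcon
  push Not at hcon
  set r : IrrCharacter G → G → ℝ := fun χ g => ((χ : G → ℂ) g).re with hr
  -- the weights
  set c : G → ℝ := fun x => ((X.filter fun y => IsConj x y).card * form M x x)⁻¹ with hc
  have hone : ∀ z ∈ X, ∑ x ∈ X, c x * form M x z = 1 := by
    intro z hz
    rw [← Finset.sum_filter_add_sum_filter_not X (fun x => IsConj z x)]
    rw [Finset.sum_eq_zero (s := X.filter fun x => ¬ IsConj z x) (fun x hx => ?_), add_zero]
    swap
    · obtain ⟨hxX, hxz⟩ := Finset.mem_filter.1 hx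
      rw [form_eq_zero hM (hXo x hxX) (hXo z hz) (fun h => hxz h.symm), mul_zero]
    have hconst : ∀ x ∈ X.filter (fun x => IsConj z x),
        c x * form M x z = ((X.filter fun x => IsConj z x).card : ℝ)⁻¹ := by
      intro x hx
      obtain ⟨hxX, hxz⟩ := Finset.mem_filter.1 hx
      have e1 : form M x z = form M z z := form_conj hxz.symm z
      have e2 : form M x x = form M z z := by
        rw [form_conj hxz.symm x, ← e1, form, form]
        exact Finset.sum_congr rfl fun χ _ => by rw [mul_comm]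
      have e3 : (X.filter fun y => IsConj x y) = X.filter fun y => IsConj z y :=
        Finset.filter_congr fun y _ => ⟨fun h => hxz.trans h, fun h => hxz.symm.trans h⟩
      rw [hc]
      dsimp only
      rw [e3, e2, e1, mul_inv, mul_assoc, inv_mul_cancel₀ (form_self_pos hM z).ne', mul_one]
    rw [Finset.sum_congr rfl hconst, Finset.sum_const, nsmul_eq_mul, mul_inv_cancel₀]
    exact Nat.cast_ne_zero.2 (Finset.card_ne_zero.2 ⟨z, Finset.mem_filter.2 ⟨hz, IsConj.refl z⟩⟩)
  set m : IrrCharacter G → ℝ := fun χ => ∑ x ∈ X, c x * r χ x with hm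
  set S : ℝ := ∑ x ∈ X, c x with hS
  set B : Finset (IrrCharacter G) := Finset.univ.filter (fun χ => χ ∈ principalBlock M G) with hB
  have hexp : ∀ z ∈ X, ∑ χ ∈ B, m χ * r χ z = 1 := by
    intro z hz
    rw [← hone z hz]
    simp only [form, hm, hB, hr, Finset.sum_mul, Finset.mul_sum, Finset.sum_filter]
    rw [Finset.sum_comm (s := X)]
    refine Finset.sum_congr rfl fun χ _ => ?_
    by_cases hχ : χ ∈ principalBlock M G
    · simp only [if_pos hχ]
      exact Finset.sum_congr rfl fun x _ => mul_assoc _ _ _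
    · simp [if_neg hχ]
  -- the two evaluations
  set i : ℝ := ((Subgroup.centralizer ({w} : Set G)).index : ℝ) with hi
  set lam : IrrCharacter G → ℝ := fun χ => r χ w / r χ 1 with hlam
  have hdeg : ∀ χ : IrrCharacter G, ((χ : G → ℂ) 1 = (r χ 1 : ℂ)) ∧ 0 < r χ 1 := by
    intro χ
    have h1 := CharAverage.irr_apply_one χ
    have h2 := irr_one_ne_zero χ
    simp only [hr]
    rw [h1] at h2 ⊢
    simp only [Complex.natCast_re, Nat.cast_pos, Complex.ofReal_natCast, true_and]
    exact Nat.pos_of_ne_zero fun h => h2 (by rw [h, Nat.cast_zero])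
  have hlam_le : ∀ χ ∈ B, lam χ ≤ 1 ∧ (lam χ = 1 → (χ : G → ℂ) = fun _ => 1) := by
    intro χ hχ
    have hle : r χ w ≤ r χ 1 := by
      have h1 := CharAverage.irr_norm_le χ w
      have h2 := (Complex.re_le_norm _).trans h1
      refine h2.trans_eq ?_
      simp only [hr]
      rw [CharAverage.irr_apply_one χ, Complex.natCast_re]
    refine ⟨(div_le_one (hdeg χ).2).2 hle, fun h => ?_⟩
    by_contra hne
    rw [hlam] at h
    have h' : r χ w = r χ 1 := (div_eq_one_iff_eq (hdeg χ).2.ne').1 h
    exact hcon χ (Finset.mem_filter.1 hχ).2 hne (by rw [apply_real hw χ, (hdeg χ).1]; exact congrArg _ h')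
  have hkey : ∀ x ∈ X, ∑ χ ∈ B, m χ * (lam χ * r χ x) = 1 := by
    intro x hx
    set V : Finset G := Finset.univ.filter (fun v => IsConj w v) with hV
    have hV0 : (V.card : ℝ) ≠ 0 :=
      Nat.cast_ne_zero.2 (Finset.card_ne_zero.2 ⟨w, Finset.mem_filter.2 ⟨Finset.mem_univ _, IsConj.refl w⟩⟩)
    have hval : ∀ χ : IrrCharacter G,
        (V.card : ℝ) * (lam χ * r χ x) = ∑ v ∈ V, r χ (v * x) := by
      intro χ
      have hx2 := IsolatedInv.sq_of_orderOf_two (hXo x hx)
      have h1 : omega (χ : G → ℂ) (classSum w) = (V.card : ℂ) * ((χ : G → ℂ) w / (χ : G → ℂ) 1) := by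
        rw [omega_apply, chiSum_classSum (irr_classFun χ),
          index_centralizer_eq, Nat.card_eq_fintype_card, Fintype.card_subtype, hV,
          div_eq_mul_inv]
        ring
      have h2 : chiSum (χ : G → ℂ) (classSum w * MonoidAlgebra.single x 1) = ∑ v ∈ V, (χ : G → ℂ) (v * x) := by
        rw [eq_sum_single (classSum w), Finset.sum_mul, map_sum, hV, Finset.sum_filter]
        refine Finset.sum_congr rfl fun v _ => ?_
        rw [MonoidAlgebra.single_mul_single, chiSum_single, mul_one]
        by_cases hv : IsConj w v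
        · simp only [classSum, coeff_ofFun, if_pos hv, one_mul]
        · simp only [classSum, coeff_ofFun, if_neg hv, zero_mul]
      have h3 := chiSum_mul χ (isCen_classSum w) (MonoidAlgebra.single x 1)
      rw [h1, h2, chiSum_single, one_mul, apply_real hw χ, (hdeg χ).1, apply_real hx2 χ] at h3
      have h4 := congrArg Complex.re h3
      rw [Complex.re_sum, ← Complex.ofReal_div, ← Complex.ofReal_natCast, ← Complex.ofReal_mul,
        ← Complex.ofReal_mul, Complex.ofReal_re] at h4
      simp only [hlam, hr] at h4 ⊢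
      rw [h4]
      ring
    refine mul_left_cancel₀ hV0 ?_
    rw [mul_one, Finset.mul_sum]
    calc ∑ χ ∈ B, (V.card : ℝ) * (m χ * (lam χ * r χ x))
        = ∑ χ ∈ B, ∑ v ∈ V, m χ * r χ (v * x) := Finset.sum_congr rfl fun χ _ => by
          rw [mul_left_comm, hval, Finset.mul_sum]
      _ = ∑ v ∈ V, ∑ χ ∈ B, m χ * r χ (v * x) := Finset.sum_comm
      _ = ∑ v ∈ V, (1 : ℝ) := Finset.sum_congr rfl fun v hv => by
          obtain ⟨z, hz, hzv⟩ := hmul x hx v (Finset.mem_filter.1 hv).2
          rw [← hexp z hz]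
          refine Finset.sum_congr rfl fun χ hχ => ?_
          simp only [hr]
          rw [hzv χ (Finset.mem_filter.1 hχ).2]
      _ = (V.card : ℝ) := by simp
  have hsq : ∀ f : IrrCharacter G → ℝ, ∑ x ∈ X, c x * ∑ χ ∈ B, m χ * (f χ * r χ x) =
      ∑ χ ∈ B, f χ * m χ ^ 2 := by
    intro f
    simp only [Finset.mul_sum]
    rw [Finset.sum_comm]
    refine Finset.sum_congr rfl fun χ _ => ?_
    rw [pow_two, show f χ * (m χ * m χ) = m χ * f χ * m χ by ring]
    conv_rhs => rw [hm]; dsimp only; rw [Finset.mul_sum]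
    exact Finset.sum_congr rfl fun x _ => by simp only [hm]; ring
  have e1 : ∑ χ ∈ B, lam χ * m χ ^ 2 = S := by
    rw [← hsq, hS]
    exact Finset.sum_congr rfl fun x hx => by rw [hkey x hx, mul_one]
  have e2 : ∑ χ ∈ B, (1 : ℝ) * m χ ^ 2 = S := by
    rw [← hsq, hS]
    refine Finset.sum_congr rfl fun x hx => ?_
    simp only [one_mul]
    rw [hexp x hx, mul_one]
  have h0 : ∑ χ ∈ B, (1 - lam χ) * m χ ^ 2 = 0 := by
    simp only [sub_mul, Finset.sum_sub_distrib, e1, e2, sub_self]
  have hzero : ∀ χ ∈ B, (χ : G → ℂ) ≠ (fun _ => 1) → m χ = 0 := by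
    intro χ hχ hne
    have h1 := (Finset.sum_eq_zero_iff_of_nonneg (fun χ hχ =>
      mul_nonneg (sub_nonneg.2 (hlam_le χ hχ).1) (sq_nonneg _))).1 h0 χ hχ
    rcases mul_eq_zero.1 h1 with h | h
    · exact absurd ((hlam_le χ hχ).2 (by linarith)) hne
    · exact pow_eq_zero_iff two_ne_zero |>.1 h
  set o := BlockPrincipal81.oneChar G with ho
  have hoB : o ∈ B := Finset.mem_filter.2 ⟨Finset.mem_univ _, BlockPrincipal81.oneChar_mem hM⟩
  have hro : ∀ g : G, r o g = 1 := fun g => by simp [hr, ho, BlockPrincipal81.oneChar]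
  have hmo : m o = S := by simp [hm, hS, hro]
  have hsingle : ∀ f : IrrCharacter G → ℝ, ∑ χ ∈ B, m χ * f χ = m o * f o := by
    intro f
    refine Finset.sum_eq_single o (fun χ hχ hne => ?_) (fun h => absurd hoB h)
    rw [hzero χ hχ (fun e => hne (Subtype.ext e)), zero_mul]
  obtain ⟨z, hz⟩ := hX
  have hS1 : S = 1 := by
    have := hexp z hz
    rwa [hsingle, hro, mul_one, hmo] at this
  have hS0 : ∑ χ ∈ B, m χ * r χ 1 = 0 := by
    simp only [hm, Finset.sum_mul]
    rw [Finset.sum_comm]
    refine Finset.sum_eq_zero fun x hx => ?_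
    simp only [mul_assoc]
    rw [← Finset.mul_sum]
    have hw0 := BlockTheoryIdem.weak_orthogonality hM BlockPrincipal81.isPBlock_principal
      (x := (1 : G)) (y := x) (by simp) (by rw [hXo x hx])
    have : ∑ χ ∈ B, r χ x * r χ 1 = 0 := by
      apply Complex.ofReal_injective
      rw [Complex.ofReal_zero, ← hw0, Complex.ofReal_sum, hB, Finset.sum_filter]
      refine Finset.sum_congr rfl fun χ _ => ?_
      have hx2 := IsolatedInv.sq_of_orderOf_two (hXo x hx)
      by_cases hχ : χ ∈ principalBlock M G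
      · rw [if_pos hχ, if_pos hχ, ← irr_inv, IsolatedInv.inv_eq_self_of_sq hx2,
          Complex.ofReal_mul, ← (hdeg χ).1]
        simp only [hr]
        rw [← apply_real hx2 χ, mul_comm]
      · rw [if_neg hχ, if_neg hχ]
    rw [this, mul_zero]
  rw [hsingle, hro, mul_one, hmo, hS1] at hS0
  exact one_ne_zero hS0

end Cfsg.Agent.WeightedZStar38
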