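import Mathlib

/-!
Groundwork for four-generated sets of involutions all whose products have order dividing three:
words in the reflections acting on the set, and the two sources of relations used by the
generated certificate in `WidthOneTable`.
-/

set_option autoImplicit false

namespace Cfsg.Agent.WidthOne

variable {G : Type*} [Group G]

/-- A conjugation-closed set of elements squaring to one, all products cubing to one. -/
structure Hyp (S : Set G) : Prop where
  sq : ∀ s ∈ S, s * s = 1
  cube : ∀ s ∈ S, ∀ t ∈ S, (s * t) ^ 3 = 1
  conj : ∀ s ∈ S, ∀ t ∈ S, s * t * s ∈ S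

/-- The reflection of `g`. -/
def act (g p : G) : G := g * p * g

/-- Apply reflections, first letter first. -/
def run (x : Fin 4 → G) : List (Fin 4) → G → G
  | [], p => p
  | g :: l, p => run x l (act (x g) p)

/-- The point named by a word. -/
def pnt (x : Fin 4 → G) (l : List (Fin 4)) : G := run x l (x 0)

variable {S : Set G}

theorem act_act (h : Hyp S) {s : G} (hs : s ∈ S) (p : G) : act s (act s p) = p := by
  simp only [act]
  calc s * (s * p * s) * s = (s * s) * p * (s * s) := by group
    _ = p := by rw [h.sq s hs, one_mul, mul_one]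

theorem flip (h : Hyp S) {s p q : G} (hs : s ∈ S) (e : act s p = q) : act s q = p := by
  rw [← e, act_act h hs]

theorem act_self (h : Hyp S) {s : G} (hs : s ∈ S) : act s s = s := by
  simp only [act, h.sq s hs, one_mul]

theorem braid (h : Hyp S) {s t : G} (hs : s ∈ S) (ht : t ∈ S) : act s (act t s) = t := by
  have h3 := h.cube s hs t ht
  rw [pow_succ, pow_two] at h3
  have h4 : s * t * (s * t) * (s * t) * t⁻¹ = t⁻¹ := by rw [h3, one_mul]
  have h5 : t⁻¹ = t := inv_eq_of_mul_eq_one_right (h.sq t ht)
  rw [h5] at h4
  calc act s (act t s) = s * t * (s * t) * (s * t) * t⁻¹ := by simp only [act]; group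
    _ = t := by rw [h5]; exact h4

theorem run_append (x : Fin 4 → G) (l m : List (Fin 4)) (p : G) :
    run x (l ++ m) p = run x m (run x l p) := by
  induction l generalizing p with
  | nil => rfl
  | cons g l ih => exact ih _

theorem run_cons {x : Fin 4 → G} {g : Fin 4} {l : List (Fin 4)} {p q r : G}
    (e : act (x g) p = q) (e' : run x l q = r) : run x (g :: l) p = r := by
  rw [run, e, e']

theorem run_injective (h : Hyp S) {x : Fin 4 → G} (hx : ∀ g, x g ∈ S) (l : List (Fin 4)) {p q : G}
    (e : run x l p = run x l q) : p = q := by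
  induction l generalizing p q with
  | nil => exact e
  | cons g l ih =>
    have := ih e
    rw [← act_act h (hx g) p, this, act_act h (hx g)]

theorem pnt_mem (h : Hyp S) {x : Fin 4 → G} (hx : ∀ g, x g ∈ S) (l : List (Fin 4)) {p : G}
    (hp : p ∈ S) : run x l p ∈ S := by
  induction l generalizing p with
  | nil => exact hp
  | cons g l ih => exact ih (h.conj _ (hx g) _ hp)

theorem run_reverse (h : Hyp S) {x : Fin 4 → G} (hx : ∀ g, x g ∈ S) (l : List (Fin 4)) (p : G) :
    run x l.reverse (run x l p) = p := by
  induction l generalizing p with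
  | nil => rfl
  | cons g l ih =>
    rw [List.reverse_cons, run_append]
    simp only [run]
    rw [ih]
    exact act_act h (hx g) p

theorem run_conj (h : Hyp S) {x : Fin 4 → G} (hx : ∀ g, x g ∈ S) (l : List (Fin 4)) (s p : G) :
    act (run x l s) p = run x l (act s (run x l.reverse p)) := by
  induction l generalizing s p with
  | nil => rfl
  | cons g l ih =>
    rw [run, ih, List.reverse_cons, run_append]
    show run x l (act (act (x g) s) (run x l.reverse p)) =
      run x l (act (x g) (act s (act (x g) (run x l.reverse p))))
    congr 1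
    simp only [act]; group

/-- The cube relation between two reflected generators, as a word. -/
theorem cube_rel (h : Hyp S) {x : Fin 4 → G} (hx : ∀ g, x g ∈ S) (p q : List (Fin 4))
    (g k : Fin 4) (y : G) :
    run x ((p.reverse ++ g :: p) ++ (q.reverse ++ k :: q) ++ ((p.reverse ++ g :: p) ++
      (q.reverse ++ k :: q)) ++ ((p.reverse ++ g :: p) ++ (q.reverse ++ k :: q))) y = y := by
  have hw : ∀ (l : List (Fin 4)) (j : Fin 4) (z : G),
      run x (l.reverse ++ j :: l) z = act (run x l (x j)) z := by
    intro l j z
    rw [run_append, run, run_conj h hx]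
  have hp' := hw p g
  have hq' := hw q k
  generalize p.reverse ++ g :: p = a at hp' ⊢
  generalize q.reverse ++ k :: q = b at hq' ⊢
  simp only [run_append, hp', hq']
  have ht := pnt_mem h hx p (hx g)
  have hu := pnt_mem h hx q (hx k)
  generalize run x p (x g) = s at ht ⊢
  generalize run x q (x k) = t at hu ⊢
  have h3 := h.cube _ hu _ ht
  rw [pow_succ, pow_two] at h3
  have h3' := h.cube _ ht _ hu
  rw [pow_succ, pow_two] at h3'
  simp only [act]
  calc _ = (t * s * (t * s) * (t * s)) * y * (s * t * (s * t) * (s * t)) := by group
    _ = y := by rw [h3, h3', one_mul, mul_one]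

/-- A reflected generator exchanges a generator with its image. -/
theorem fix_rel (h : Hyp S) {x : Fin 4 → G} (hx : ∀ g, x g ∈ S) (p q : List (Fin 4)) (g : Fin 4)
    (hq : run x q (x 0) = x g) :
    run x (p ++ [g] ++ (p.reverse ++ 0 :: p) ++ q.reverse) (x 0) = x 0 := by
  have hw : ∀ z, run x (p.reverse ++ 0 :: p) z = act (run x p (x 0)) z := by
    intro z
    rw [run_append, run, run_conj h hx]
  generalize p.reverse ++ 0 :: p = w at hw ⊢
  rw [run_append, run_append, run_append, hw]
  show run x q.reverse (act (run x p (x 0)) (act (x g) (run x p (x 0)))) = _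
  rw [braid h (pnt_mem h hx p (hx 0)) (hx g), ← hq, run_reverse h hx]

/-- Deduce the unknown edge of a closed word. -/
theorem ded (h : Hyp S) {x : Fin 4 → G} (hx : ∀ g, x g ∈ S) {α β : List (Fin 4)} {g : Fin 4}
    {p f b : G} (hr : run x (α ++ g :: β) p = p) (hα : run x α p = f) (hβ : run x β b = p) :
    act (x g) f = b := by
  rw [run_append, hα, run] at hr
  exact run_injective h hx β (hr.trans hβ.symm)

end Cfsg.Agent.WidthOne
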