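import Cfsg.Agent.Lib.WidthOneBase

/-!
The table of the reflections of four points on the 81 points they generate (a coset
enumeration certificate: every entry is deduced from the cube relations).
-/

set_option autoImplicit false

namespace Cfsg.Agent.WidthOne

variable {G : Type*} [Group G] {S : Set G}

theorem e0_0 (h : Hyp S) (x : Fin 4 → G) (hx : ∀ g, x g ∈ S) :
    act (x 0) (pnt x []) = (pnt x []) :=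
  act_self h (hx 0)

theorem e1_0 (h : Hyp S) (x : Fin 4 → G) (hx : ∀ g, x g ∈ S) :
    act (x 1) (pnt x []) = (pnt x [1]) :=
  by simp only [pnt, run]

theorem e1_54 (h : Hyp S) (x : Fin 4 → G) (hx : ∀ g, x g ∈ S) :
    act (x 1) (pnt x [1]) = (pnt x []) :=
  flip h (hx 1) (e1_0 h x hx)

theorem e2_0 (h : Hyp S) (x : Fin 4 → G) (hx : ∀ g, x g ∈ S) :
    act (x 2) (pnt x []) = (pnt x [2]) :=
  by simp only [pnt, run]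

theorem e2_18 (h : Hyp S) (x : Fin 4 → G) (hx : ∀ g, x g ∈ S) :
    act (x 2) (pnt x [2]) = (pnt x []) :=
  flip h (hx 2) (e2_0 h x hx)

theorem e3_0 (h : Hyp S) (x : Fin 4 → G) (hx : ∀ g, x g ∈ S) :
    act (x 3) (pnt x []) = (pnt x [3]) :=
  by simp only [pnt, run]

theorem e3_6 (h : Hyp S) (x : Fin 4 → G) (hx : ∀ g, x g ∈ S) :
    act (x 3) (pnt x [3]) = (pnt x []) :=
  flip h (hx 3) (e3_0 h x hx)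

theorem e0_54 (h : Hyp S) (x : Fin 4 → G) (hx : ∀ g, x g ∈ S) :
    act (x 0) (pnt x [1]) = (pnt x [1, 0]) :=
  by simp only [pnt, run]

theorem e0_27 (h : Hyp S) (x : Fin 4 → G) (hx : ∀ g, x g ∈ S) :
    act (x 0) (pnt x [1, 0]) = (pnt x [1]) :=
  flip h (hx 0) (e0_54 h x hx)

theorem e2_54 (h : Hyp S) (x : Fin 4 → G) (hx : ∀ g, x g ∈ S) :
    act (x 2) (pnt x [1]) = (pnt x [1, 2]) :=
  by simp only [pnt, run]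

theorem e2_45 (h : Hyp S) (x : Fin 4 → G) (hx : ∀ g, x g ∈ S) :
    act (x 2) (pnt x [1, 2]) = (pnt x [1]) :=
  flip h (hx 2) (e2_54 h x hx)

theorem e3_54 (h : Hyp S) (x : Fin 4 → G) (hx : ∀ g, x g ∈ S) :
    act (x 3) (pnt x [1]) = (pnt x [1, 3]) :=
  by simp only [pnt, run]

theorem e3_33 (h : Hyp S) (x : Fin 4 → G) (hx : ∀ g, x g ∈ S) :
    act (x 3) (pnt x [1, 3]) = (pnt x [1]) :=
  flip h (hx 3) (e3_54 h x hx)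

theorem e0_18 (h : Hyp S) (x : Fin 4 → G) (hx : ∀ g, x g ∈ S) :
    act (x 0) (pnt x [2]) = (pnt x [2, 0]) :=
  by simp only [pnt, run]

theorem e0_9 (h : Hyp S) (x : Fin 4 → G) (hx : ∀ g, x g ∈ S) :
    act (x 0) (pnt x [2, 0]) = (pnt x [2]) :=
  flip h (hx 0) (e0_18 h x hx)

theorem e1_18 (h : Hyp S) (x : Fin 4 → G) (hx : ∀ g, x g ∈ S) :
    act (x 1) (pnt x [2]) = (pnt x [2, 1]) :=
  by simp only [pnt, run]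

theorem e1_63 (h : Hyp S) (x : Fin 4 → G) (hx : ∀ g, x g ∈ S) :
    act (x 1) (pnt x [2, 1]) = (pnt x [2]) :=
  flip h (hx 1) (e1_18 h x hx)

theorem e3_18 (h : Hyp S) (x : Fin 4 → G) (hx : ∀ g, x g ∈ S) :
    act (x 3) (pnt x [2]) = (pnt x [2, 3]) :=
  by simp only [pnt, run]

theorem e3_15 (h : Hyp S) (x : Fin 4 → G) (hx : ∀ g, x g ∈ S) :
    act (x 3) (pnt x [2, 3]) = (pnt x [2]) :=
  flip h (hx 3) (e3_18 h x hx)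

theorem e0_6 (h : Hyp S) (x : Fin 4 → G) (hx : ∀ g, x g ∈ S) :
    act (x 0) (pnt x [3]) = (pnt x [3, 0]) :=
  by simp only [pnt, run]

theorem e0_3 (h : Hyp S) (x : Fin 4 → G) (hx : ∀ g, x g ∈ S) :
    act (x 0) (pnt x [3, 0]) = (pnt x [3]) :=
  flip h (hx 0) (e0_6 h x hx)

theorem e1_6 (h : Hyp S) (x : Fin 4 → G) (hx : ∀ g, x g ∈ S) :
    act (x 1) (pnt x [3]) = (pnt x [3, 1]) :=
  by simp only [pnt, run]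

theorem e1_57 (h : Hyp S) (x : Fin 4 → G) (hx : ∀ g, x g ∈ S) :
    act (x 1) (pnt x [3, 1]) = (pnt x [3]) :=
  flip h (hx 1) (e1_6 h x hx)

theorem e2_6 (h : Hyp S) (x : Fin 4 → G) (hx : ∀ g, x g ∈ S) :
    act (x 2) (pnt x [3]) = (pnt x [3, 2]) :=
  by simp only [pnt, run]

theorem e2_21 (h : Hyp S) (x : Fin 4 → G) (hx : ∀ g, x g ∈ S) :
    act (x 2) (pnt x [3, 2]) = (pnt x [3]) :=
  flip h (hx 2) (e2_6 h x hx)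

theorem e2_27 (h : Hyp S) (x : Fin 4 → G) (hx : ∀ g, x g ∈ S) :
    act (x 2) (pnt x [1, 0]) = (pnt x [1, 0, 2]) :=
  by simp only [pnt, run]

theorem e2_72 (h : Hyp S) (x : Fin 4 → G) (hx : ∀ g, x g ∈ S) :
    act (x 2) (pnt x [1, 0, 2]) = (pnt x [1, 0]) :=
  flip h (hx 2) (e2_27 h x hx)

theorem e3_27 (h : Hyp S) (x : Fin 4 → G) (hx : ∀ g, x g ∈ S) :
    act (x 3) (pnt x [1, 0]) = (pnt x [1, 0, 3]) :=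
  by simp only [pnt, run]

theorem e3_60 (h : Hyp S) (x : Fin 4 → G) (hx : ∀ g, x g ∈ S) :
    act (x 3) (pnt x [1, 0, 3]) = (pnt x [1, 0]) :=
  flip h (hx 3) (e3_27 h x hx)

theorem e1_45 (h : Hyp S) (x : Fin 4 → G) (hx : ∀ g, x g ∈ S) :
    act (x 1) (pnt x [1, 2]) = (pnt x [1, 2, 1]) :=
  by simp only [pnt, run]

theorem e1_36 (h : Hyp S) (x : Fin 4 → G) (hx : ∀ g, x g ∈ S) :
    act (x 1) (pnt x [1, 2, 1]) = (pnt x [1, 2]) :=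
  flip h (hx 1) (e1_45 h x hx)

theorem e3_45 (h : Hyp S) (x : Fin 4 → G) (hx : ∀ g, x g ∈ S) :
    act (x 3) (pnt x [1, 2]) = (pnt x [1, 2, 3]) :=
  by simp only [pnt, run]

theorem e3_69 (h : Hyp S) (x : Fin 4 → G) (hx : ∀ g, x g ∈ S) :
    act (x 3) (pnt x [1, 2, 3]) = (pnt x [1, 2]) :=
  flip h (hx 3) (e3_45 h x hx)

theorem e1_33 (h : Hyp S) (x : Fin 4 → G) (hx : ∀ g, x g ∈ S) :
    act (x 1) (pnt x [1, 3]) = (pnt x [1, 3, 1]) :=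
  by simp only [pnt, run]

theorem e1_30 (h : Hyp S) (x : Fin 4 → G) (hx : ∀ g, x g ∈ S) :
    act (x 1) (pnt x [1, 3, 1]) = (pnt x [1, 3]) :=
  flip h (hx 1) (e1_33 h x hx)

theorem e2_33 (h : Hyp S) (x : Fin 4 → G) (hx : ∀ g, x g ∈ S) :
    act (x 2) (pnt x [1, 3]) = (pnt x [1, 3, 2]) :=
  by simp only [pnt, run]

theorem e2_75 (h : Hyp S) (x : Fin 4 → G) (hx : ∀ g, x g ∈ S) :
    act (x 2) (pnt x [1, 3, 2]) = (pnt x [1, 3]) :=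
  flip h (hx 2) (e2_33 h x hx)

theorem e3_9 (h : Hyp S) (x : Fin 4 → G) (hx : ∀ g, x g ∈ S) :
    act (x 3) (pnt x [2, 0]) = (pnt x [2, 0, 3]) :=
  by simp only [pnt, run]

theorem e3_24 (h : Hyp S) (x : Fin 4 → G) (hx : ∀ g, x g ∈ S) :
    act (x 3) (pnt x [2, 0, 3]) = (pnt x [2, 0]) :=
  flip h (hx 3) (e3_9 h x hx)

theorem e3_63 (h : Hyp S) (x : Fin 4 → G) (hx : ∀ g, x g ∈ S) :
    act (x 3) (pnt x [2, 1]) = (pnt x [2, 1, 3]) :=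
  by simp only [pnt, run]

theorem e3_51 (h : Hyp S) (x : Fin 4 → G) (hx : ∀ g, x g ∈ S) :
    act (x 3) (pnt x [2, 1, 3]) = (pnt x [2, 1]) :=
  flip h (hx 3) (e3_63 h x hx)

theorem e1_15 (h : Hyp S) (x : Fin 4 → G) (hx : ∀ g, x g ∈ S) :
    act (x 1) (pnt x [2, 3]) = (pnt x [2, 3, 1]) :=
  by simp only [pnt, run]

theorem e1_77 (h : Hyp S) (x : Fin 4 → G) (hx : ∀ g, x g ∈ S) :
    act (x 1) (pnt x [2, 3, 1]) = (pnt x [2, 3]) :=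
  flip h (hx 1) (e1_15 h x hx)

theorem e2_15 (h : Hyp S) (x : Fin 4 → G) (hx : ∀ g, x g ∈ S) :
    act (x 2) (pnt x [2, 3]) = (pnt x [2, 3, 2]) :=
  by simp only [pnt, run]

theorem e2_12 (h : Hyp S) (x : Fin 4 → G) (hx : ∀ g, x g ∈ S) :
    act (x 2) (pnt x [2, 3, 2]) = (pnt x [2, 3]) :=
  flip h (hx 2) (e2_15 h x hx)

theorem e2_57 (h : Hyp S) (x : Fin 4 → G) (hx : ∀ g, x g ∈ S) :
    act (x 2) (pnt x [3, 1]) = (pnt x [3, 1, 2]) :=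
  by simp only [pnt, run]

theorem e2_53 (h : Hyp S) (x : Fin 4 → G) (hx : ∀ g, x g ∈ S) :
    act (x 2) (pnt x [3, 1, 2]) = (pnt x [3, 1]) :=
  flip h (hx 2) (e2_57 h x hx)

theorem e1_21 (h : Hyp S) (x : Fin 4 → G) (hx : ∀ g, x g ∈ S) :
    act (x 1) (pnt x [3, 2]) = (pnt x [3, 2, 1]) :=
  by simp only [pnt, run]

theorem e1_70 (h : Hyp S) (x : Fin 4 → G) (hx : ∀ g, x g ∈ S) :
    act (x 1) (pnt x [3, 2, 1]) = (pnt x [3, 2]) :=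
  flip h (hx 1) (e1_21 h x hx)

theorem e3_72 (h : Hyp S) (x : Fin 4 → G) (hx : ∀ g, x g ∈ S) :
    act (x 3) (pnt x [1, 0, 2]) = (pnt x [1, 0, 2, 3]) :=
  by simp only [pnt, run]

theorem e3_42 (h : Hyp S) (x : Fin 4 → G) (hx : ∀ g, x g ∈ S) :
    act (x 3) (pnt x [1, 0, 2, 3]) = (pnt x [1, 0, 2]) :=
  flip h (hx 3) (e3_72 h x hx)

theorem e2_60 (h : Hyp S) (x : Fin 4 → G) (hx : ∀ g, x g ∈ S) :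
    act (x 2) (pnt x [1, 0, 3]) = (pnt x [1, 0, 3, 2]) :=
  by simp only [pnt, run]

theorem e2_48 (h : Hyp S) (x : Fin 4 → G) (hx : ∀ g, x g ∈ S) :
    act (x 2) (pnt x [1, 0, 3, 2]) = (pnt x [1, 0, 3]) :=
  flip h (hx 2) (e2_60 h x hx)

theorem e3_36 (h : Hyp S) (x : Fin 4 → G) (hx : ∀ g, x g ∈ S) :
    act (x 3) (pnt x [1, 2, 1]) = (pnt x [1, 2, 1, 3]) :=
  by simp only [pnt, run]

theorem e3_78 (h : Hyp S) (x : Fin 4 → G) (hx : ∀ g, x g ∈ S) :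
    act (x 3) (pnt x [1, 2, 1, 3]) = (pnt x [1, 2, 1]) :=
  flip h (hx 3) (e3_36 h x hx)

theorem e0_69 (h : Hyp S) (x : Fin 4 → G) (hx : ∀ g, x g ∈ S) :
    act (x 0) (pnt x [1, 2, 3]) = (pnt x [1, 2, 3, 0]) :=
  by simp only [pnt, run]

theorem e0_50 (h : Hyp S) (x : Fin 4 → G) (hx : ∀ g, x g ∈ S) :
    act (x 0) (pnt x [1, 2, 3, 0]) = (pnt x [1, 2, 3]) :=
  flip h (hx 0) (e0_69 h x hx)

theorem e1_69 (h : Hyp S) (x : Fin 4 → G) (hx : ∀ g, x g ∈ S) :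
    act (x 1) (pnt x [1, 2, 3]) = (pnt x [1, 2, 3, 1]) :=
  by simp only [pnt, run]

theorem e1_22 (h : Hyp S) (x : Fin 4 → G) (hx : ∀ g, x g ∈ S) :
    act (x 1) (pnt x [1, 2, 3, 1]) = (pnt x [1, 2, 3]) :=
  flip h (hx 1) (e1_69 h x hx)

theorem e2_69 (h : Hyp S) (x : Fin 4 → G) (hx : ∀ g, x g ∈ S) :
    act (x 2) (pnt x [1, 2, 3]) = (pnt x [1, 2, 3, 2]) :=
  by simp only [pnt, run]

theorem e2_39 (h : Hyp S) (x : Fin 4 → G) (hx : ∀ g, x g ∈ S) :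
    act (x 2) (pnt x [1, 2, 3, 2]) = (pnt x [1, 2, 3]) :=
  flip h (hx 2) (e2_69 h x hx)

theorem e2_30 (h : Hyp S) (x : Fin 4 → G) (hx : ∀ g, x g ∈ S) :
    act (x 2) (pnt x [1, 3, 1]) = (pnt x [1, 3, 1, 2]) :=
  by simp only [pnt, run]

theorem e2_79 (h : Hyp S) (x : Fin 4 → G) (hx : ∀ g, x g ∈ S) :
    act (x 2) (pnt x [1, 3, 1, 2]) = (pnt x [1, 3, 1]) :=
  flip h (hx 2) (e2_30 h x hx)

theorem e0_75 (h : Hyp S) (x : Fin 4 → G) (hx : ∀ g, x g ∈ S) :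
    act (x 0) (pnt x [1, 3, 2]) = (pnt x [1, 3, 2, 0]) :=
  by simp only [pnt, run]

theorem e0_43 (h : Hyp S) (x : Fin 4 → G) (hx : ∀ g, x g ∈ S) :
    act (x 0) (pnt x [1, 3, 2, 0]) = (pnt x [1, 3, 2]) :=
  flip h (hx 0) (e0_75 h x hx)

theorem e1_75 (h : Hyp S) (x : Fin 4 → G) (hx : ∀ g, x g ∈ S) :
    act (x 1) (pnt x [1, 3, 2]) = (pnt x [1, 3, 2, 1]) :=
  by simp only [pnt, run]

theorem e1_17 (h : Hyp S) (x : Fin 4 → G) (hx : ∀ g, x g ∈ S) :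
    act (x 1) (pnt x [1, 3, 2, 1]) = (pnt x [1, 3, 2]) :=
  flip h (hx 1) (e1_75 h x hx)

theorem e1_24 (h : Hyp S) (x : Fin 4 → G) (hx : ∀ g, x g ∈ S) :
    act (x 1) (pnt x [2, 0, 3]) = (pnt x [2, 0, 3, 1]) :=
  by simp only [pnt, run]

theorem e1_66 (h : Hyp S) (x : Fin 4 → G) (hx : ∀ g, x g ∈ S) :
    act (x 1) (pnt x [2, 0, 3, 1]) = (pnt x [2, 0, 3]) :=
  flip h (hx 1) (e1_24 h x hx)

theorem e0_51 (h : Hyp S) (x : Fin 4 → G) (hx : ∀ g, x g ∈ S) :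
    act (x 0) (pnt x [2, 1, 3]) = (pnt x [2, 1, 3, 0]) :=
  by simp only [pnt, run]

theorem e0_67 (h : Hyp S) (x : Fin 4 → G) (hx : ∀ g, x g ∈ S) :
    act (x 0) (pnt x [2, 1, 3, 0]) = (pnt x [2, 1, 3]) :=
  flip h (hx 0) (e0_51 h x hx)

theorem e1_51 (h : Hyp S) (x : Fin 4 → G) (hx : ∀ g, x g ∈ S) :
    act (x 1) (pnt x [2, 1, 3]) = (pnt x [2, 1, 3, 1]) :=
  by simp only [pnt, run]

theorem e1_40 (h : Hyp S) (x : Fin 4 → G) (hx : ∀ g, x g ∈ S) :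
    act (x 1) (pnt x [2, 1, 3, 1]) = (pnt x [2, 1, 3]) :=
  flip h (hx 1) (e1_51 h x hx)

theorem e2_51 (h : Hyp S) (x : Fin 4 → G) (hx : ∀ g, x g ∈ S) :
    act (x 2) (pnt x [2, 1, 3]) = (pnt x [2, 1, 3, 2]) :=
  by simp only [pnt, run]

theorem e2_59 (h : Hyp S) (x : Fin 4 → G) (hx : ∀ g, x g ∈ S) :
    act (x 2) (pnt x [2, 1, 3, 2]) = (pnt x [2, 1, 3]) :=
  flip h (hx 2) (e2_51 h x hx)

theorem e0_77 (h : Hyp S) (x : Fin 4 → G) (hx : ∀ g, x g ∈ S) :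
    act (x 0) (pnt x [2, 3, 1]) = (pnt x [2, 3, 1, 0]) :=
  by simp only [pnt, run]

theorem e0_44 (h : Hyp S) (x : Fin 4 → G) (hx : ∀ g, x g ∈ S) :
    act (x 0) (pnt x [2, 3, 1, 0]) = (pnt x [2, 3, 1]) :=
  flip h (hx 0) (e0_77 h x hx)

theorem e2_77 (h : Hyp S) (x : Fin 4 → G) (hx : ∀ g, x g ∈ S) :
    act (x 2) (pnt x [2, 3, 1]) = (pnt x [2, 3, 1, 2]) :=
  by simp only [pnt, run]

theorem e2_34 (h : Hyp S) (x : Fin 4 → G) (hx : ∀ g, x g ∈ S) :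
    act (x 2) (pnt x [2, 3, 1, 2]) = (pnt x [2, 3, 1]) :=
  flip h (hx 2) (e2_77 h x hx)

theorem e1_12 (h : Hyp S) (x : Fin 4 → G) (hx : ∀ g, x g ∈ S) :
    act (x 1) (pnt x [2, 3, 2]) = (pnt x [2, 3, 2, 1]) :=
  by simp only [pnt, run]

theorem e1_80 (h : Hyp S) (x : Fin 4 → G) (hx : ∀ g, x g ∈ S) :
    act (x 1) (pnt x [2, 3, 2, 1]) = (pnt x [2, 3, 2]) :=
  flip h (hx 1) (e1_12 h x hx)

theorem e0_53 (h : Hyp S) (x : Fin 4 → G) (hx : ∀ g, x g ∈ S) :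
    act (x 0) (pnt x [3, 1, 2]) = (pnt x [3, 1, 2, 0]) :=
  by simp only [pnt, run]

theorem e0_68 (h : Hyp S) (x : Fin 4 → G) (hx : ∀ g, x g ∈ S) :
    act (x 0) (pnt x [3, 1, 2, 0]) = (pnt x [3, 1, 2]) :=
  flip h (hx 0) (e0_53 h x hx)

theorem e1_53 (h : Hyp S) (x : Fin 4 → G) (hx : ∀ g, x g ∈ S) :
    act (x 1) (pnt x [3, 1, 2]) = (pnt x [3, 1, 2, 1]) :=
  by simp only [pnt, run]

theorem e1_41 (h : Hyp S) (x : Fin 4 → G) (hx : ∀ g, x g ∈ S) :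
    act (x 1) (pnt x [3, 1, 2, 1]) = (pnt x [3, 1, 2]) :=
  flip h (hx 1) (e1_53 h x hx)

theorem e3_53 (h : Hyp S) (x : Fin 4 → G) (hx : ∀ g, x g ∈ S) :
    act (x 3) (pnt x [3, 1, 2]) = (pnt x [3, 1, 2, 3]) :=
  by simp only [pnt, run]

theorem e3_64 (h : Hyp S) (x : Fin 4 → G) (hx : ∀ g, x g ∈ S) :
    act (x 3) (pnt x [3, 1, 2, 3]) = (pnt x [3, 1, 2]) :=
  flip h (hx 3) (e3_53 h x hx)

theorem e0_70 (h : Hyp S) (x : Fin 4 → G) (hx : ∀ g, x g ∈ S) :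
    act (x 0) (pnt x [3, 2, 1]) = (pnt x [3, 2, 1, 0]) :=
  by simp only [pnt, run]

theorem e0_49 (h : Hyp S) (x : Fin 4 → G) (hx : ∀ g, x g ∈ S) :
    act (x 0) (pnt x [3, 2, 1, 0]) = (pnt x [3, 2, 1]) :=
  flip h (hx 0) (e0_70 h x hx)

theorem e3_70 (h : Hyp S) (x : Fin 4 → G) (hx : ∀ g, x g ∈ S) :
    act (x 3) (pnt x [3, 2, 1]) = (pnt x [3, 2, 1, 3]) :=
  by simp only [pnt, run]

theorem e3_47 (h : Hyp S) (x : Fin 4 → G) (hx : ∀ g, x g ∈ S) :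
    act (x 3) (pnt x [3, 2, 1, 3]) = (pnt x [3, 2, 1]) :=
  flip h (hx 3) (e3_70 h x hx)

theorem e0_42 (h : Hyp S) (x : Fin 4 → G) (hx : ∀ g, x g ∈ S) :
    act (x 0) (pnt x [1, 0, 2, 3]) = (pnt x [1, 0, 2, 3, 0]) :=
  by simp only [pnt, run]

theorem e0_76 (h : Hyp S) (x : Fin 4 → G) (hx : ∀ g, x g ∈ S) :
    act (x 0) (pnt x [1, 0, 2, 3, 0]) = (pnt x [1, 0, 2, 3]) :=
  flip h (hx 0) (e0_42 h x hx)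

theorem e0_48 (h : Hyp S) (x : Fin 4 → G) (hx : ∀ g, x g ∈ S) :
    act (x 0) (pnt x [1, 0, 3, 2]) = (pnt x [1, 0, 3, 2, 0]) :=
  by simp only [pnt, run]

theorem e0_71 (h : Hyp S) (x : Fin 4 → G) (hx : ∀ g, x g ∈ S) :
    act (x 0) (pnt x [1, 0, 3, 2, 0]) = (pnt x [1, 0, 3, 2]) :=
  flip h (hx 0) (e0_48 h x hx)

theorem e1_78 (h : Hyp S) (x : Fin 4 → G) (hx : ∀ g, x g ∈ S) :
    act (x 1) (pnt x [1, 2, 1, 3]) = (pnt x [1, 2, 1, 3, 1]) :=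
  by simp only [pnt, run]

theorem e1_14 (h : Hyp S) (x : Fin 4 → G) (hx : ∀ g, x g ∈ S) :
    act (x 1) (pnt x [1, 2, 1, 3, 1]) = (pnt x [1, 2, 1, 3]) :=
  flip h (hx 1) (e1_78 h x hx)

theorem e2_78 (h : Hyp S) (x : Fin 4 → G) (hx : ∀ g, x g ∈ S) :
    act (x 2) (pnt x [1, 2, 1, 3]) = (pnt x [1, 2, 1, 3, 2]) :=
  by simp only [pnt, run]

theorem e2_31 (h : Hyp S) (x : Fin 4 → G) (hx : ∀ g, x g ∈ S) :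
    act (x 2) (pnt x [1, 2, 1, 3, 2]) = (pnt x [1, 2, 1, 3]) :=
  flip h (hx 2) (e2_78 h x hx)

theorem e2_50 (h : Hyp S) (x : Fin 4 → G) (hx : ∀ g, x g ∈ S) :
    act (x 2) (pnt x [1, 2, 3, 0]) = (pnt x [1, 2, 3, 0, 2]) :=
  by simp only [pnt, run]

theorem e2_61 (h : Hyp S) (x : Fin 4 → G) (hx : ∀ g, x g ∈ S) :
    act (x 2) (pnt x [1, 2, 3, 0, 2]) = (pnt x [1, 2, 3, 0]) :=
  flip h (hx 2) (e2_50 h x hx)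

theorem e2_22 (h : Hyp S) (x : Fin 4 → G) (hx : ∀ g, x g ∈ S) :
    act (x 2) (pnt x [1, 2, 3, 1]) = (pnt x [1, 2, 3, 1, 2]) :=
  by simp only [pnt, run]

theorem e2_8 (h : Hyp S) (x : Fin 4 → G) (hx : ∀ g, x g ∈ S) :
    act (x 2) (pnt x [1, 2, 3, 1, 2]) = (pnt x [1, 2, 3, 1]) :=
  flip h (hx 2) (e2_22 h x hx)

theorem e1_39 (h : Hyp S) (x : Fin 4 → G) (hx : ∀ g, x g ∈ S) :
    act (x 1) (pnt x [1, 2, 3, 2]) = (pnt x [1, 2, 3, 2, 1]) :=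
  by simp only [pnt, run]

theorem e1_52 (h : Hyp S) (x : Fin 4 → G) (hx : ∀ g, x g ∈ S) :
    act (x 1) (pnt x [1, 2, 3, 2, 1]) = (pnt x [1, 2, 3, 2]) :=
  flip h (hx 1) (e1_39 h x hx)

theorem e1_79 (h : Hyp S) (x : Fin 4 → G) (hx : ∀ g, x g ∈ S) :
    act (x 1) (pnt x [1, 3, 1, 2]) = (pnt x [1, 3, 1, 2, 1]) :=
  by simp only [pnt, run]

theorem e1_13 (h : Hyp S) (x : Fin 4 → G) (hx : ∀ g, x g ∈ S) :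
    act (x 1) (pnt x [1, 3, 1, 2, 1]) = (pnt x [1, 3, 1, 2]) :=
  flip h (hx 1) (e1_79 h x hx)

theorem e3_79 (h : Hyp S) (x : Fin 4 → G) (hx : ∀ g, x g ∈ S) :
    act (x 3) (pnt x [1, 3, 1, 2]) = (pnt x [1, 3, 1, 2, 3]) :=
  by simp only [pnt, run]

theorem e3_38 (h : Hyp S) (x : Fin 4 → G) (hx : ∀ g, x g ∈ S) :
    act (x 3) (pnt x [1, 3, 1, 2, 3]) = (pnt x [1, 3, 1, 2]) :=
  flip h (hx 3) (e3_79 h x hx)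

theorem e3_43 (h : Hyp S) (x : Fin 4 → G) (hx : ∀ g, x g ∈ S) :
    act (x 3) (pnt x [1, 3, 2, 0]) = (pnt x [1, 3, 2, 0, 3]) :=
  by simp only [pnt, run]

theorem e3_74 (h : Hyp S) (x : Fin 4 → G) (hx : ∀ g, x g ∈ S) :
    act (x 3) (pnt x [1, 3, 2, 0, 3]) = (pnt x [1, 3, 2, 0]) :=
  flip h (hx 3) (e3_43 h x hx)

theorem e3_17 (h : Hyp S) (x : Fin 4 → G) (hx : ∀ g, x g ∈ S) :
    act (x 3) (pnt x [1, 3, 2, 1]) = (pnt x [1, 3, 2, 1, 3]) :=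
  by simp only [pnt, run]

theorem e3_19 (h : Hyp S) (x : Fin 4 → G) (hx : ∀ g, x g ∈ S) :
    act (x 3) (pnt x [1, 3, 2, 1, 3]) = (pnt x [1, 3, 2, 1]) :=
  flip h (hx 3) (e3_17 h x hx)

theorem e1_67 (h : Hyp S) (x : Fin 4 → G) (hx : ∀ g, x g ∈ S) :
    act (x 1) (pnt x [2, 1, 3, 0]) = (pnt x [2, 1, 3, 0, 1]) :=
  by simp only [pnt, run]

theorem e1_26 (h : Hyp S) (x : Fin 4 → G) (hx : ∀ g, x g ∈ S) :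
    act (x 1) (pnt x [2, 1, 3, 0, 1]) = (pnt x [2, 1, 3, 0]) :=
  flip h (hx 1) (e1_67 h x hx)

theorem e1_59 (h : Hyp S) (x : Fin 4 → G) (hx : ∀ g, x g ∈ S) :
    act (x 1) (pnt x [2, 1, 3, 2]) = (pnt x [2, 1, 3, 2, 1]) :=
  by simp only [pnt, run]

theorem e1_7 (h : Hyp S) (x : Fin 4 → G) (hx : ∀ g, x g ∈ S) :
    act (x 1) (pnt x [2, 1, 3, 2, 1]) = (pnt x [2, 1, 3, 2]) :=
  flip h (hx 1) (e1_59 h x hx)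

theorem e3_44 (h : Hyp S) (x : Fin 4 → G) (hx : ∀ g, x g ∈ S) :
    act (x 3) (pnt x [2, 3, 1, 0]) = (pnt x [2, 3, 1, 0, 3]) :=
  by simp only [pnt, run]

theorem e3_73 (h : Hyp S) (x : Fin 4 → G) (hx : ∀ g, x g ∈ S) :
    act (x 3) (pnt x [2, 3, 1, 0, 3]) = (pnt x [2, 3, 1, 0]) :=
  flip h (hx 3) (e3_44 h x hx)

theorem e1_34 (h : Hyp S) (x : Fin 4 → G) (hx : ∀ g, x g ∈ S) :
    act (x 1) (pnt x [2, 3, 1, 2]) = (pnt x [2, 3, 1, 2, 1]) :=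
  by simp only [pnt, run]

theorem e1_32 (h : Hyp S) (x : Fin 4 → G) (hx : ∀ g, x g ∈ S) :
    act (x 1) (pnt x [2, 3, 1, 2, 1]) = (pnt x [2, 3, 1, 2]) :=
  flip h (hx 1) (e1_34 h x hx)

theorem e3_34 (h : Hyp S) (x : Fin 4 → G) (hx : ∀ g, x g ∈ S) :
    act (x 3) (pnt x [2, 3, 1, 2]) = (pnt x [2, 3, 1, 2, 3]) :=
  by simp only [pnt, run]

theorem e3_56 (h : Hyp S) (x : Fin 4 → G) (hx : ∀ g, x g ∈ S) :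
    act (x 3) (pnt x [2, 3, 1, 2, 3]) = (pnt x [2, 3, 1, 2]) :=
  flip h (hx 3) (e3_34 h x hx)

theorem e3_80 (h : Hyp S) (x : Fin 4 → G) (hx : ∀ g, x g ∈ S) :
    act (x 3) (pnt x [2, 3, 2, 1]) = (pnt x [2, 3, 2, 1, 3]) :=
  by simp only [pnt, run]

theorem e3_37 (h : Hyp S) (x : Fin 4 → G) (hx : ∀ g, x g ∈ S) :
    act (x 3) (pnt x [2, 3, 2, 1, 3]) = (pnt x [2, 3, 2, 1]) :=
  flip h (hx 3) (e3_80 h x hx)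

theorem e1_68 (h : Hyp S) (x : Fin 4 → G) (hx : ∀ g, x g ∈ S) :
    act (x 1) (pnt x [3, 1, 2, 0]) = (pnt x [3, 1, 2, 0, 1]) :=
  by simp only [pnt, run]

theorem e1_25 (h : Hyp S) (x : Fin 4 → G) (hx : ∀ g, x g ∈ S) :
    act (x 1) (pnt x [3, 1, 2, 0, 1]) = (pnt x [3, 1, 2, 0]) :=
  flip h (hx 1) (e1_68 h x hx)

theorem e1_64 (h : Hyp S) (x : Fin 4 → G) (hx : ∀ g, x g ∈ S) :
    act (x 1) (pnt x [3, 1, 2, 3]) = (pnt x [3, 1, 2, 3, 1]) :=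
  by simp only [pnt, run]

theorem e1_20 (h : Hyp S) (x : Fin 4 → G) (hx : ∀ g, x g ∈ S) :
    act (x 1) (pnt x [3, 1, 2, 3, 1]) = (pnt x [3, 1, 2, 3]) :=
  flip h (hx 1) (e1_64 h x hx)

theorem e2_49 (h : Hyp S) (x : Fin 4 → G) (hx : ∀ g, x g ∈ S) :
    act (x 2) (pnt x [3, 2, 1, 0]) = (pnt x [3, 2, 1, 0, 2]) :=
  by simp only [pnt, run]

theorem e2_62 (h : Hyp S) (x : Fin 4 → G) (hx : ∀ g, x g ∈ S) :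
    act (x 2) (pnt x [3, 2, 1, 0, 2]) = (pnt x [3, 2, 1, 0]) :=
  flip h (hx 2) (e2_49 h x hx)

theorem e2_47 (h : Hyp S) (x : Fin 4 → G) (hx : ∀ g, x g ∈ S) :
    act (x 2) (pnt x [3, 2, 1, 3]) = (pnt x [3, 2, 1, 3, 2]) :=
  by simp only [pnt, run]

theorem e2_55 (h : Hyp S) (x : Fin 4 → G) (hx : ∀ g, x g ∈ S) :
    act (x 2) (pnt x [3, 2, 1, 3, 2]) = (pnt x [3, 2, 1, 3]) :=
  flip h (hx 2) (e2_47 h x hx)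

theorem e1_76 (h : Hyp S) (x : Fin 4 → G) (hx : ∀ g, x g ∈ S) :
    act (x 1) (pnt x [1, 0, 2, 3, 0]) = (pnt x [1, 0, 2, 3, 0, 1]) :=
  by simp only [pnt, run]

theorem e1_16 (h : Hyp S) (x : Fin 4 → G) (hx : ∀ g, x g ∈ S) :
    act (x 1) (pnt x [1, 0, 2, 3, 0, 1]) = (pnt x [1, 0, 2, 3, 0]) :=
  flip h (hx 1) (e1_76 h x hx)

theorem e2_76 (h : Hyp S) (x : Fin 4 → G) (hx : ∀ g, x g ∈ S) :
    act (x 2) (pnt x [1, 0, 2, 3, 0]) = (pnt x [1, 0, 2, 3, 0, 2]) :=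
  by simp only [pnt, run]

theorem e2_35 (h : Hyp S) (x : Fin 4 → G) (hx : ∀ g, x g ∈ S) :
    act (x 2) (pnt x [1, 0, 2, 3, 0, 2]) = (pnt x [1, 0, 2, 3, 0]) :=
  flip h (hx 2) (e2_76 h x hx)

theorem e1_71 (h : Hyp S) (x : Fin 4 → G) (hx : ∀ g, x g ∈ S) :
    act (x 1) (pnt x [1, 0, 3, 2, 0]) = (pnt x [1, 0, 3, 2, 0, 1]) :=
  by simp only [pnt, run]

theorem e1_23 (h : Hyp S) (x : Fin 4 → G) (hx : ∀ g, x g ∈ S) :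
    act (x 1) (pnt x [1, 0, 3, 2, 0, 1]) = (pnt x [1, 0, 3, 2, 0]) :=
  flip h (hx 1) (e1_71 h x hx)

theorem e3_71 (h : Hyp S) (x : Fin 4 → G) (hx : ∀ g, x g ∈ S) :
    act (x 3) (pnt x [1, 0, 3, 2, 0]) = (pnt x [1, 0, 3, 2, 0, 3]) :=
  by simp only [pnt, run]

theorem e3_46 (h : Hyp S) (x : Fin 4 → G) (hx : ∀ g, x g ∈ S) :
    act (x 3) (pnt x [1, 0, 3, 2, 0, 3]) = (pnt x [1, 0, 3, 2, 0]) :=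
  flip h (hx 3) (e3_71 h x hx)

theorem e1_61 (h : Hyp S) (x : Fin 4 → G) (hx : ∀ g, x g ∈ S) :
    act (x 1) (pnt x [1, 2, 3, 0, 2]) = (pnt x [1, 2, 3, 0, 2, 1]) :=
  by simp only [pnt, run]

theorem e1_5 (h : Hyp S) (x : Fin 4 → G) (hx : ∀ g, x g ∈ S) :
    act (x 1) (pnt x [1, 2, 3, 0, 2, 1]) = (pnt x [1, 2, 3, 0, 2]) :=
  flip h (hx 1) (e1_61 h x hx)

theorem e3_61 (h : Hyp S) (x : Fin 4 → G) (hx : ∀ g, x g ∈ S) :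
    act (x 3) (pnt x [1, 2, 3, 0, 2]) = (pnt x [1, 2, 3, 0, 2, 3]) :=
  by simp only [pnt, run]

theorem e3_29 (h : Hyp S) (x : Fin 4 → G) (hx : ∀ g, x g ∈ S) :
    act (x 3) (pnt x [1, 2, 3, 0, 2, 3]) = (pnt x [1, 2, 3, 0, 2]) :=
  flip h (hx 3) (e3_61 h x hx)

theorem e0_8 (h : Hyp S) (x : Fin 4 → G) (hx : ∀ g, x g ∈ S) :
    act (x 0) (pnt x [1, 2, 3, 1, 2]) = (pnt x [1, 2, 3, 1, 2, 0]) :=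
  by simp only [pnt, run]

theorem e0_4 (h : Hyp S) (x : Fin 4 → G) (hx : ∀ g, x g ∈ S) :
    act (x 0) (pnt x [1, 2, 3, 1, 2, 0]) = (pnt x [1, 2, 3, 1, 2]) :=
  flip h (hx 0) (e0_8 h x hx)

theorem e1_8 (h : Hyp S) (x : Fin 4 → G) (hx : ∀ g, x g ∈ S) :
    act (x 1) (pnt x [1, 2, 3, 1, 2]) = (pnt x [1, 2, 3, 1, 2, 1]) :=
  by simp only [pnt, run]

theorem e1_58 (h : Hyp S) (x : Fin 4 → G) (hx : ∀ g, x g ∈ S) :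
    act (x 1) (pnt x [1, 2, 3, 1, 2, 1]) = (pnt x [1, 2, 3, 1, 2]) :=
  flip h (hx 1) (e1_8 h x hx)

theorem e3_8 (h : Hyp S) (x : Fin 4 → G) (hx : ∀ g, x g ∈ S) :
    act (x 3) (pnt x [1, 2, 3, 1, 2]) = (pnt x [1, 2, 3, 1, 2, 3]) :=
  by simp only [pnt, run]

theorem e3_1 (h : Hyp S) (x : Fin 4 → G) (hx : ∀ g, x g ∈ S) :
    act (x 3) (pnt x [1, 2, 3, 1, 2, 3]) = (pnt x [1, 2, 3, 1, 2]) :=
  flip h (hx 3) (e3_8 h x hx)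

theorem e3_52 (h : Hyp S) (x : Fin 4 → G) (hx : ∀ g, x g ∈ S) :
    act (x 3) (pnt x [1, 2, 3, 2, 1]) = (pnt x [1, 2, 3, 2, 1, 3]) :=
  by simp only [pnt, run]

theorem e3_65 (h : Hyp S) (x : Fin 4 → G) (hx : ∀ g, x g ∈ S) :
    act (x 3) (pnt x [1, 2, 3, 2, 1, 3]) = (pnt x [1, 2, 3, 2, 1]) :=
  flip h (hx 3) (e3_52 h x hx)

theorem e1_74 (h : Hyp S) (x : Fin 4 → G) (hx : ∀ g, x g ∈ S) :
    act (x 1) (pnt x [1, 3, 2, 0, 3]) = (pnt x [1, 3, 2, 0, 3, 1]) :=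
  by simp only [pnt, run]

theorem e1_10 (h : Hyp S) (x : Fin 4 → G) (hx : ∀ g, x g ∈ S) :
    act (x 1) (pnt x [1, 3, 2, 0, 3, 1]) = (pnt x [1, 3, 2, 0, 3]) :=
  flip h (hx 1) (e1_74 h x hx)

theorem e2_74 (h : Hyp S) (x : Fin 4 → G) (hx : ∀ g, x g ∈ S) :
    act (x 2) (pnt x [1, 3, 2, 0, 3]) = (pnt x [1, 3, 2, 0, 3, 2]) :=
  by simp only [pnt, run]

theorem e2_28 (h : Hyp S) (x : Fin 4 → G) (hx : ∀ g, x g ∈ S) :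
    act (x 2) (pnt x [1, 3, 2, 0, 3, 2]) = (pnt x [1, 3, 2, 0, 3]) :=
  flip h (hx 2) (e2_74 h x hx)

theorem e0_19 (h : Hyp S) (x : Fin 4 → G) (hx : ∀ g, x g ∈ S) :
    act (x 0) (pnt x [1, 3, 2, 1, 3]) = (pnt x [1, 3, 2, 1, 3, 0]) :=
  by simp only [pnt, run]

theorem e0_11 (h : Hyp S) (x : Fin 4 → G) (hx : ∀ g, x g ∈ S) :
    act (x 0) (pnt x [1, 3, 2, 1, 3, 0]) = (pnt x [1, 3, 2, 1, 3]) :=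
  flip h (hx 0) (e0_19 h x hx)

theorem e2_19 (h : Hyp S) (x : Fin 4 → G) (hx : ∀ g, x g ∈ S) :
    act (x 2) (pnt x [1, 3, 2, 1, 3]) = (pnt x [1, 3, 2, 1, 3, 2]) :=
  by simp only [pnt, run]

theorem e2_2 (h : Hyp S) (x : Fin 4 → G) (hx : ∀ g, x g ∈ S) :
    act (x 2) (pnt x [1, 3, 2, 1, 3, 2]) = (pnt x [1, 3, 2, 1, 3]) :=
  flip h (hx 2) (e2_19 h x hx)

theorem e1_27 (h : Hyp S) (x : Fin 4 → G) (hx : ∀ g, x g ∈ S) :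
    act (x 1) (pnt x [1, 0]) = (pnt x [1, 0]) :=
  ded h hx (α := [1, 0]) (β := [0, 1]) (p := (pnt x []))
    (fix_rel h hx [1] [] 0 rfl)
    (run_cons (e1_0 h x hx) (run_cons (e0_54 h x hx) rfl))
    (run_cons (e0_27 h x hx) (run_cons (e1_54 h x hx) rfl))

theorem e2_9 (h : Hyp S) (x : Fin 4 → G) (hx : ∀ g, x g ∈ S) :
    act (x 2) (pnt x [2, 0]) = (pnt x [2, 0]) :=
  ded h hx (α := [2, 0]) (β := [0, 2]) (p := (pnt x []))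
    (fix_rel h hx [2] [] 0 rfl)
    (run_cons (e2_0 h x hx) (run_cons (e0_18 h x hx) rfl))
    (run_cons (e0_9 h x hx) (run_cons (e2_18 h x hx) rfl))

theorem e3_3 (h : Hyp S) (x : Fin 4 → G) (hx : ∀ g, x g ∈ S) :
    act (x 3) (pnt x [3, 0]) = (pnt x [3, 0]) :=
  ded h hx (α := [3, 0]) (β := [0, 3]) (p := (pnt x []))
    (fix_rel h hx [3] [] 0 rfl)
    (run_cons (e3_0 h x hx) (run_cons (e0_6 h x hx) rfl))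
    (run_cons (e0_3 h x hx) (run_cons (e3_6 h x hx) rfl))

theorem e2_36 (h : Hyp S) (x : Fin 4 → G) (hx : ∀ g, x g ∈ S) :
    act (x 2) (pnt x [1, 2, 1]) = (pnt x [2, 1]) :=
  ded h hx (α := [1, 2, 1]) (β := [1, 2]) (p := (pnt x []))
    (cube_rel h hx [] [] 1 2 _)
    (run_cons (e1_0 h x hx) (run_cons (e2_54 h x hx) (run_cons (e1_45 h x hx) rfl)))
    (run_cons (e1_63 h x hx) (run_cons (e2_18 h x hx) rfl))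

theorem e2_63 (h : Hyp S) (x : Fin 4 → G) (hx : ∀ g, x g ∈ S) :
    act (x 2) (pnt x [2, 1]) = (pnt x [1, 2, 1]) :=
  flip h (hx 2) (e2_36 h x hx)

theorem e2_80 (h : Hyp S) (x : Fin 4 → G) (hx : ∀ g, x g ∈ S) :
    act (x 2) (pnt x [2, 3, 2, 1]) = (pnt x [2, 3, 1, 2, 1]) :=
  ded h hx (α := [1]) (β := [1, 2, 1, 2]) (p := (pnt x [2, 3, 2]))
    (cube_rel h hx [] [] 1 2 _)
    (run_cons (e1_12 h x hx) rfl)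
    (run_cons (e1_32 h x hx) (run_cons (e2_34 h x hx) (run_cons (e1_77 h x hx) (run_cons (e2_15 h x hx) rfl))))

theorem e2_32 (h : Hyp S) (x : Fin 4 → G) (hx : ∀ g, x g ∈ S) :
    act (x 2) (pnt x [2, 3, 1, 2, 1]) = (pnt x [2, 3, 2, 1]) :=
  flip h (hx 2) (e2_80 h x hx)

theorem e2_41 (h : Hyp S) (x : Fin 4 → G) (hx : ∀ g, x g ∈ S) :
    act (x 2) (pnt x [3, 1, 2, 1]) = (pnt x [3, 2, 1]) :=
  ded h hx (α := [1, 2, 1]) (β := [1, 2]) (p := (pnt x [3]))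
    (cube_rel h hx [] [] 1 2 _)
    (run_cons (e1_6 h x hx) (run_cons (e2_57 h x hx) (run_cons (e1_53 h x hx) rfl)))
    (run_cons (e1_70 h x hx) (run_cons (e2_21 h x hx) rfl))

theorem e2_70 (h : Hyp S) (x : Fin 4 → G) (hx : ∀ g, x g ∈ S) :
    act (x 2) (pnt x [3, 2, 1]) = (pnt x [3, 1, 2, 1]) :=
  flip h (hx 2) (e2_41 h x hx)

theorem e2_17 (h : Hyp S) (x : Fin 4 → G) (hx : ∀ g, x g ∈ S) :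
    act (x 2) (pnt x [1, 3, 2, 1]) = (pnt x [1, 3, 1, 2, 1]) :=
  ded h hx (α := [1, 2, 1]) (β := [1, 2]) (p := (pnt x [1, 3, 1]))
    (cube_rel h hx [] [] 1 2 _)
    (run_cons (e1_30 h x hx) (run_cons (e2_33 h x hx) (run_cons (e1_75 h x hx) rfl)))
    (run_cons (e1_13 h x hx) (run_cons (e2_79 h x hx) rfl))

theorem e2_13 (h : Hyp S) (x : Fin 4 → G) (hx : ∀ g, x g ∈ S) :
    act (x 2) (pnt x [1, 3, 1, 2, 1]) = (pnt x [1, 3, 2, 1]) :=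
  flip h (hx 2) (e2_17 h x hx)

theorem e2_52 (h : Hyp S) (x : Fin 4 → G) (hx : ∀ g, x g ∈ S) :
    act (x 2) (pnt x [1, 2, 3, 2, 1]) = (pnt x [1, 2, 3, 1, 2, 1]) :=
  ded h hx (α := [1]) (β := [1, 2, 1, 2]) (p := (pnt x [1, 2, 3, 2]))
    (cube_rel h hx [] [] 1 2 _)
    (run_cons (e1_39 h x hx) rfl)
    (run_cons (e1_58 h x hx) (run_cons (e2_8 h x hx) (run_cons (e1_22 h x hx) (run_cons (e2_69 h x hx) rfl))))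

theorem e2_58 (h : Hyp S) (x : Fin 4 → G) (hx : ∀ g, x g ∈ S) :
    act (x 2) (pnt x [1, 2, 3, 1, 2, 1]) = (pnt x [1, 2, 3, 2, 1]) :=
  flip h (hx 2) (e2_52 h x hx)

theorem e3_30 (h : Hyp S) (x : Fin 4 → G) (hx : ∀ g, x g ∈ S) :
    act (x 3) (pnt x [1, 3, 1]) = (pnt x [3, 1]) :=
  ded h hx (α := [1, 3, 1]) (β := [1, 3]) (p := (pnt x []))
    (cube_rel h hx [] [] 1 3 _)
    (run_cons (e1_0 h x hx) (run_cons (e3_54 h x hx) (run_cons (e1_33 h x hx) rfl)))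
    (run_cons (e1_57 h x hx) (run_cons (e3_6 h x hx) rfl))

theorem e3_57 (h : Hyp S) (x : Fin 4 → G) (hx : ∀ g, x g ∈ S) :
    act (x 3) (pnt x [3, 1]) = (pnt x [1, 3, 1]) :=
  flip h (hx 3) (e3_30 h x hx)

theorem e3_22 (h : Hyp S) (x : Fin 4 → G) (hx : ∀ g, x g ∈ S) :
    act (x 3) (pnt x [1, 2, 3, 1]) = (pnt x [1, 2, 1, 3, 1]) :=
  ded h hx (α := [1, 3, 1]) (β := [1, 3]) (p := (pnt x [1, 2, 1]))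
    (cube_rel h hx [] [] 1 3 _)
    (run_cons (e1_36 h x hx) (run_cons (e3_45 h x hx) (run_cons (e1_69 h x hx) rfl)))
    (run_cons (e1_14 h x hx) (run_cons (e3_78 h x hx) rfl))

theorem e3_14 (h : Hyp S) (x : Fin 4 → G) (hx : ∀ g, x g ∈ S) :
    act (x 3) (pnt x [1, 2, 1, 3, 1]) = (pnt x [1, 2, 3, 1]) :=
  flip h (hx 3) (e3_22 h x hx)

theorem e3_40 (h : Hyp S) (x : Fin 4 → G) (hx : ∀ g, x g ∈ S) :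
    act (x 3) (pnt x [2, 1, 3, 1]) = (pnt x [2, 3, 1]) :=
  ded h hx (α := [1, 3, 1]) (β := [1, 3]) (p := (pnt x [2]))
    (cube_rel h hx [] [] 1 3 _)
    (run_cons (e1_18 h x hx) (run_cons (e3_63 h x hx) (run_cons (e1_51 h x hx) rfl)))
    (run_cons (e1_77 h x hx) (run_cons (e3_15 h x hx) rfl))

theorem e3_77 (h : Hyp S) (x : Fin 4 → G) (hx : ∀ g, x g ∈ S) :
    act (x 3) (pnt x [2, 3, 1]) = (pnt x [2, 1, 3, 1]) :=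
  flip h (hx 3) (e3_40 h x hx)

theorem e3_12 (h : Hyp S) (x : Fin 4 → G) (hx : ∀ g, x g ∈ S) :
    act (x 3) (pnt x [2, 3, 2]) = (pnt x [3, 2]) :=
  ded h hx (α := [2, 3, 2]) (β := [2, 3]) (p := (pnt x []))
    (cube_rel h hx [] [] 2 3 _)
    (run_cons (e2_0 h x hx) (run_cons (e3_18 h x hx) (run_cons (e2_15 h x hx) rfl)))
    (run_cons (e2_21 h x hx) (run_cons (e3_6 h x hx) rfl))

theorem e3_21 (h : Hyp S) (x : Fin 4 → G) (hx : ∀ g, x g ∈ S) :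
    act (x 3) (pnt x [3, 2]) = (pnt x [2, 3, 2]) :=
  flip h (hx 3) (e3_12 h x hx)

theorem e1_37 (h : Hyp S) (x : Fin 4 → G) (hx : ∀ g, x g ∈ S) :
    act (x 1) (pnt x [2, 3, 2, 1, 3]) = (pnt x [3, 2, 1, 3]) :=
  ded h hx (α := [1, 3]) (β := [3, 1, 3]) (p := (pnt x [2, 3, 2]))
    (cube_rel h hx [] [] 1 3 _)
    (run_cons (e1_12 h x hx) (run_cons (e3_80 h x hx) rfl))
    (run_cons (e3_47 h x hx) (run_cons (e1_70 h x hx) (run_cons (e3_21 h x hx) rfl)))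

theorem e1_47 (h : Hyp S) (x : Fin 4 → G) (hx : ∀ g, x g ∈ S) :
    act (x 1) (pnt x [3, 2, 1, 3]) = (pnt x [2, 3, 2, 1, 3]) :=
  flip h (hx 1) (e1_37 h x hx)

theorem e3_39 (h : Hyp S) (x : Fin 4 → G) (hx : ∀ g, x g ∈ S) :
    act (x 3) (pnt x [1, 2, 3, 2]) = (pnt x [1, 3, 2]) :=
  ded h hx (α := [2, 3, 2]) (β := [2, 3]) (p := (pnt x [1]))
    (cube_rel h hx [] [] 2 3 _)
    (run_cons (e2_54 h x hx) (run_cons (e3_45 h x hx) (run_cons (e2_69 h x hx) rfl)))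
    (run_cons (e2_75 h x hx) (run_cons (e3_33 h x hx) rfl))

theorem e3_75 (h : Hyp S) (x : Fin 4 → G) (hx : ∀ g, x g ∈ S) :
    act (x 3) (pnt x [1, 3, 2]) = (pnt x [1, 2, 3, 2]) :=
  flip h (hx 3) (e3_39 h x hx)

theorem e1_19 (h : Hyp S) (x : Fin 4 → G) (hx : ∀ g, x g ∈ S) :
    act (x 1) (pnt x [1, 3, 2, 1, 3]) = (pnt x [1, 2, 3, 2, 1, 3]) :=
  ded h hx (α := [1, 3]) (β := [3, 1, 3]) (p := (pnt x [1, 3, 2]))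
    (cube_rel h hx [] [] 1 3 _)
    (run_cons (e1_75 h x hx) (run_cons (e3_17 h x hx) rfl))
    (run_cons (e3_65 h x hx) (run_cons (e1_52 h x hx) (run_cons (e3_39 h x hx) rfl)))

theorem e1_65 (h : Hyp S) (x : Fin 4 → G) (hx : ∀ g, x g ∈ S) :
    act (x 1) (pnt x [1, 2, 3, 2, 1, 3]) = (pnt x [1, 3, 2, 1, 3]) :=
  flip h (hx 1) (e1_19 h x hx)

theorem e3_59 (h : Hyp S) (x : Fin 4 → G) (hx : ∀ g, x g ∈ S) :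
    act (x 3) (pnt x [2, 1, 3, 2]) = (pnt x [1, 2, 1, 3, 2]) :=
  ded h hx (α := [2, 3, 2]) (β := [2, 3]) (p := (pnt x [1, 2, 1]))
    (cube_rel h hx [] [] 2 3 _)
    (run_cons (e2_36 h x hx) (run_cons (e3_63 h x hx) (run_cons (e2_51 h x hx) rfl)))
    (run_cons (e2_31 h x hx) (run_cons (e3_78 h x hx) rfl))

theorem e3_31 (h : Hyp S) (x : Fin 4 → G) (hx : ∀ g, x g ∈ S) :
    act (x 3) (pnt x [1, 2, 1, 3, 2]) = (pnt x [2, 1, 3, 2]) :=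
  flip h (hx 3) (e3_59 h x hx)

theorem e2_38 (h : Hyp S) (x : Fin 4 → G) (hx : ∀ g, x g ∈ S) :
    act (x 2) (pnt x [1, 3, 1, 2, 3]) = (pnt x [3, 1, 2, 3]) :=
  ded h hx (α := [2, 3]) (β := [3, 2, 3]) (p := (pnt x [1, 3, 1]))
    (cube_rel h hx [] [] 2 3 _)
    (run_cons (e2_30 h x hx) (run_cons (e3_79 h x hx) rfl))
    (run_cons (e3_64 h x hx) (run_cons (e2_53 h x hx) (run_cons (e3_57 h x hx) rfl)))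

theorem e2_64 (h : Hyp S) (x : Fin 4 → G) (hx : ∀ g, x g ∈ S) :
    act (x 2) (pnt x [3, 1, 2, 3]) = (pnt x [1, 3, 1, 2, 3]) :=
  flip h (hx 2) (e2_38 h x hx)

theorem e0_36 (h : Hyp S) (x : Fin 4 → G) (hx : ∀ g, x g ∈ S) :
    act (x 0) (pnt x [1, 2, 1]) = (pnt x [1, 0, 2]) :=
  ded h hx (α := [2, 1, 2]) (β := [2, 0, 1]) (p := (pnt x []))
    (fix_rel h hx [2] [1, 0] 1 (braid h (hx 0) (hx 1)))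
    (run_cons (e2_0 h x hx) (run_cons (e1_18 h x hx) (run_cons (e2_63 h x hx) rfl)))
    (run_cons (e2_72 h x hx) (run_cons (e0_27 h x hx) (run_cons (e1_54 h x hx) rfl)))

theorem e0_72 (h : Hyp S) (x : Fin 4 → G) (hx : ∀ g, x g ∈ S) :
    act (x 0) (pnt x [1, 0, 2]) = (pnt x [1, 2, 1]) :=
  flip h (hx 0) (e0_36 h x hx)

theorem e0_63 (h : Hyp S) (x : Fin 4 → G) (hx : ∀ g, x g ∈ S) :
    act (x 0) (pnt x [2, 1]) = (pnt x [1, 2]) :=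
  ded h hx (α := [0, 2, 0, 2]) (β := [2]) (p := (pnt x [1]))
    (cube_rel h hx [] [] 0 2 _)
    (run_cons (e0_54 h x hx) (run_cons (e2_27 h x hx) (run_cons (e0_72 h x hx) (run_cons (e2_36 h x hx) rfl))))
    (run_cons (e2_45 h x hx) rfl)

theorem e0_45 (h : Hyp S) (x : Fin 4 → G) (hx : ∀ g, x g ∈ S) :
    act (x 0) (pnt x [1, 2]) = (pnt x [2, 1]) :=
  flip h (hx 0) (e0_63 h x hx)

theorem e1_9 (h : Hyp S) (x : Fin 4 → G) (hx : ∀ g, x g ∈ S) :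
    act (x 1) (pnt x [2, 0]) = (pnt x [1, 0, 2]) :=
  ded h hx (α := [0, 1, 0, 1, 0]) (β := []) (p := (pnt x [1, 0, 2]))
    (cube_rel h hx [] [] 0 1 _)
    (run_cons (e0_72 h x hx) (run_cons (e1_36 h x hx) (run_cons (e0_45 h x hx) (run_cons (e1_63 h x hx) (run_cons (e0_18 h x hx) rfl)))))
    rfl

theorem e1_72 (h : Hyp S) (x : Fin 4 → G) (hx : ∀ g, x g ∈ S) :
    act (x 1) (pnt x [1, 0, 2]) = (pnt x [2, 0]) :=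
  flip h (hx 1) (e1_9 h x hx)

theorem e3_67 (h : Hyp S) (x : Fin 4 → G) (hx : ∀ g, x g ∈ S) :
    act (x 3) (pnt x [2, 1, 3, 0]) = (pnt x [1, 2, 3, 0]) :=
  ded h hx (α := [0, 3, 0]) (β := [0, 3]) (p := (pnt x [1, 2]))
    (cube_rel h hx [] [] 0 3 _)
    (run_cons (e0_45 h x hx) (run_cons (e3_63 h x hx) (run_cons (e0_51 h x hx) rfl)))
    (run_cons (e0_50 h x hx) (run_cons (e3_69 h x hx) rfl))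

theorem e3_50 (h : Hyp S) (x : Fin 4 → G) (hx : ∀ g, x g ∈ S) :
    act (x 3) (pnt x [1, 2, 3, 0]) = (pnt x [2, 1, 3, 0]) :=
  flip h (hx 3) (e3_67 h x hx)

theorem e0_30 (h : Hyp S) (x : Fin 4 → G) (hx : ∀ g, x g ∈ S) :
    act (x 0) (pnt x [1, 3, 1]) = (pnt x [1, 0, 3]) :=
  ded h hx (α := [3, 1, 3]) (β := [3, 0, 1]) (p := (pnt x []))
    (fix_rel h hx [3] [1, 0] 1 (braid h (hx 0) (hx 1)))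
    (run_cons (e3_0 h x hx) (run_cons (e1_6 h x hx) (run_cons (e3_57 h x hx) rfl)))
    (run_cons (e3_60 h x hx) (run_cons (e0_27 h x hx) (run_cons (e1_54 h x hx) rfl)))

theorem e0_60 (h : Hyp S) (x : Fin 4 → G) (hx : ∀ g, x g ∈ S) :
    act (x 0) (pnt x [1, 0, 3]) = (pnt x [1, 3, 1]) :=
  flip h (hx 0) (e0_30 h x hx)

theorem e0_57 (h : Hyp S) (x : Fin 4 → G) (hx : ∀ g, x g ∈ S) :
    act (x 0) (pnt x [3, 1]) = (pnt x [1, 3]) :=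
  ded h hx (α := [0, 3, 0, 3]) (β := [3]) (p := (pnt x [1]))
    (cube_rel h hx [] [] 0 3 _)
    (run_cons (e0_54 h x hx) (run_cons (e3_27 h x hx) (run_cons (e0_60 h x hx) (run_cons (e3_30 h x hx) rfl))))
    (run_cons (e3_33 h x hx) rfl)

theorem e0_33 (h : Hyp S) (x : Fin 4 → G) (hx : ∀ g, x g ∈ S) :
    act (x 0) (pnt x [1, 3]) = (pnt x [3, 1]) :=
  flip h (hx 0) (e0_57 h x hx)

theorem e1_60 (h : Hyp S) (x : Fin 4 → G) (hx : ∀ g, x g ∈ S) :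
    act (x 1) (pnt x [1, 0, 3]) = (pnt x [3, 0]) :=
  ded h hx (α := [0, 1, 0, 1, 0]) (β := []) (p := (pnt x [3, 0]))
    (cube_rel h hx [] [] 0 1 _)
    (run_cons (e0_3 h x hx) (run_cons (e1_6 h x hx) (run_cons (e0_57 h x hx) (run_cons (e1_33 h x hx) (run_cons (e0_30 h x hx) rfl)))))
    rfl

theorem e1_3 (h : Hyp S) (x : Fin 4 → G) (hx : ∀ g, x g ∈ S) :
    act (x 1) (pnt x [3, 0]) = (pnt x [1, 0, 3]) :=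
  flip h (hx 1) (e1_60 h x hx)

theorem e2_68 (h : Hyp S) (x : Fin 4 → G) (hx : ∀ g, x g ∈ S) :
    act (x 2) (pnt x [3, 1, 2, 0]) = (pnt x [1, 3, 2, 0]) :=
  ded h hx (α := [0, 2, 0]) (β := [0, 2]) (p := (pnt x [1, 3]))
    (cube_rel h hx [] [] 0 2 _)
    (run_cons (e0_33 h x hx) (run_cons (e2_57 h x hx) (run_cons (e0_53 h x hx) rfl)))
    (run_cons (e0_43 h x hx) (run_cons (e2_75 h x hx) rfl))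

theorem e2_43 (h : Hyp S) (x : Fin 4 → G) (hx : ∀ g, x g ∈ S) :
    act (x 2) (pnt x [1, 3, 2, 0]) = (pnt x [3, 1, 2, 0]) :=
  flip h (hx 2) (e2_68 h x hx)

theorem e0_12 (h : Hyp S) (x : Fin 4 → G) (hx : ∀ g, x g ∈ S) :
    act (x 0) (pnt x [2, 3, 2]) = (pnt x [2, 0, 3]) :=
  ded h hx (α := [3, 2, 3]) (β := [3, 0, 2]) (p := (pnt x []))
    (fix_rel h hx [3] [2, 0] 2 (braid h (hx 0) (hx 2)))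
    (run_cons (e3_0 h x hx) (run_cons (e2_6 h x hx) (run_cons (e3_21 h x hx) rfl)))
    (run_cons (e3_24 h x hx) (run_cons (e0_9 h x hx) (run_cons (e2_18 h x hx) rfl)))

theorem e0_24 (h : Hyp S) (x : Fin 4 → G) (hx : ∀ g, x g ∈ S) :
    act (x 0) (pnt x [2, 0, 3]) = (pnt x [2, 3, 2]) :=
  flip h (hx 0) (e0_12 h x hx)

theorem e0_15 (h : Hyp S) (x : Fin 4 → G) (hx : ∀ g, x g ∈ S) :
    act (x 0) (pnt x [2, 3]) = (pnt x [3, 2]) :=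
  ded h hx (α := [0, 3]) (β := [3, 0, 3]) (p := (pnt x [2, 0]))
    (cube_rel h hx [] [] 0 3 _)
    (run_cons (e0_9 h x hx) (run_cons (e3_18 h x hx) rfl))
    (run_cons (e3_21 h x hx) (run_cons (e0_12 h x hx) (run_cons (e3_24 h x hx) rfl)))

theorem e0_21 (h : Hyp S) (x : Fin 4 → G) (hx : ∀ g, x g ∈ S) :
    act (x 0) (pnt x [3, 2]) = (pnt x [2, 3]) :=
  flip h (hx 0) (e0_15 h x hx)

theorem e1_49 (h : Hyp S) (x : Fin 4 → G) (hx : ∀ g, x g ∈ S) :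
    act (x 1) (pnt x [3, 2, 1, 0]) = (pnt x [2, 3, 1, 0]) :=
  ded h hx (α := [0, 1, 0]) (β := [0, 1]) (p := (pnt x [2, 3]))
    (cube_rel h hx [] [] 0 1 _)
    (run_cons (e0_15 h x hx) (run_cons (e1_21 h x hx) (run_cons (e0_70 h x hx) rfl)))
    (run_cons (e0_44 h x hx) (run_cons (e1_77 h x hx) rfl))

theorem e1_44 (h : Hyp S) (x : Fin 4 → G) (hx : ∀ g, x g ∈ S) :
    act (x 1) (pnt x [2, 3, 1, 0]) = (pnt x [3, 2, 1, 0]) :=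
  flip h (hx 1) (e1_49 h x hx)

theorem e2_3 (h : Hyp S) (x : Fin 4 → G) (hx : ∀ g, x g ∈ S) :
    act (x 2) (pnt x [3, 0]) = (pnt x [2, 0, 3]) :=
  ded h hx (α := [0, 2, 0, 2, 0]) (β := []) (p := (pnt x [2, 0, 3]))
    (cube_rel h hx [] [] 0 2 _)
    (run_cons (e0_24 h x hx) (run_cons (e2_12 h x hx) (run_cons (e0_15 h x hx) (run_cons (e2_21 h x hx) (run_cons (e0_6 h x hx) rfl)))))
    rfl

theorem e2_24 (h : Hyp S) (x : Fin 4 → G) (hx : ∀ g, x g ∈ S) :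
    act (x 2) (pnt x [2, 0, 3]) = (pnt x [3, 0]) :=
  flip h (hx 2) (e2_3 h x hx)

theorem e0_52 (h : Hyp S) (x : Fin 4 → G) (hx : ∀ g, x g ∈ S) :
    act (x 0) (pnt x [1, 2, 3, 2, 1]) = (pnt x [2, 0, 3, 1]) :=
  ded h hx (α := [1, 2, 3, 2, 1]) (β := [1, 2, 0, 3]) (p := (pnt x []))
    (fix_rel h hx [1, 2] [3, 0] 3 (braid h (hx 0) (hx 3)))
    (run_cons (e1_0 h x hx) (run_cons (e2_54 h x hx) (run_cons (e3_45 h x hx) (run_cons (e2_69 h x hx) (run_cons (e1_39 h x hx) rfl)))))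
    (run_cons (e1_66 h x hx) (run_cons (e2_24 h x hx) (run_cons (e0_3 h x hx) (run_cons (e3_6 h x hx) rfl))))

theorem e0_66 (h : Hyp S) (x : Fin 4 → G) (hx : ∀ g, x g ∈ S) :
    act (x 0) (pnt x [2, 0, 3, 1]) = (pnt x [1, 2, 3, 2, 1]) :=
  flip h (hx 0) (e0_52 h x hx)

theorem e0_80 (h : Hyp S) (x : Fin 4 → G) (hx : ∀ g, x g ∈ S) :
    act (x 0) (pnt x [2, 3, 2, 1]) = (pnt x [1, 2, 3, 2]) :=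
  ded h hx (α := [0, 1]) (β := [1, 0, 1]) (p := (pnt x [2, 0, 3]))
    (cube_rel h hx [] [] 0 1 _)
    (run_cons (e0_24 h x hx) (run_cons (e1_12 h x hx) rfl))
    (run_cons (e1_39 h x hx) (run_cons (e0_52 h x hx) (run_cons (e1_66 h x hx) rfl)))

theorem e0_39 (h : Hyp S) (x : Fin 4 → G) (hx : ∀ g, x g ∈ S) :
    act (x 0) (pnt x [1, 2, 3, 2]) = (pnt x [2, 3, 2, 1]) :=
  flip h (hx 0) (e0_80 h x hx)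

theorem e0_32 (h : Hyp S) (x : Fin 4 → G) (hx : ∀ g, x g ∈ S) :
    act (x 0) (pnt x [2, 3, 1, 2, 1]) = (pnt x [1, 2, 3, 0, 2]) :=
  ded h hx (α := [0, 2]) (β := [2, 0, 2]) (p := (pnt x [1, 2, 3, 2]))
    (cube_rel h hx [] [] 0 2 _)
    (run_cons (e0_39 h x hx) (run_cons (e2_80 h x hx) rfl))
    (run_cons (e2_61 h x hx) (run_cons (e0_50 h x hx) (run_cons (e2_69 h x hx) rfl)))

theorem e0_61 (h : Hyp S) (x : Fin 4 → G) (hx : ∀ g, x g ∈ S) :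
    act (x 0) (pnt x [1, 2, 3, 0, 2]) = (pnt x [2, 3, 1, 2, 1]) :=
  flip h (hx 0) (e0_32 h x hx)

theorem e0_74 (h : Hyp S) (x : Fin 4 → G) (hx : ∀ g, x g ∈ S) :
    act (x 0) (pnt x [1, 3, 2, 0, 3]) = (pnt x [2, 3, 2, 1, 3]) :=
  ded h hx (α := [0, 3]) (β := [3, 0, 3]) (p := (pnt x [1, 3, 2]))
    (cube_rel h hx [] [] 0 3 _)
    (run_cons (e0_75 h x hx) (run_cons (e3_43 h x hx) rfl))
    (run_cons (e3_37 h x hx) (run_cons (e0_80 h x hx) (run_cons (e3_39 h x hx) rfl)))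

theorem e0_37 (h : Hyp S) (x : Fin 4 → G) (hx : ∀ g, x g ∈ S) :
    act (x 0) (pnt x [2, 3, 2, 1, 3]) = (pnt x [1, 3, 2, 0, 3]) :=
  flip h (hx 0) (e0_74 h x hx)

theorem e2_40 (h : Hyp S) (x : Fin 4 → G) (hx : ∀ g, x g ∈ S) :
    act (x 2) (pnt x [2, 1, 3, 1]) = (pnt x [1, 0, 3, 2, 0]) :=
  ded h hx (α := [2, 1, 3, 1]) (β := [0, 2, 1, 0, 3]) (p := (pnt x []))
    (fix_rel h hx [2, 1] [3, 0] 3 (braid h (hx 0) (hx 3)))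
    (run_cons (e2_0 h x hx) (run_cons (e1_18 h x hx) (run_cons (e3_63 h x hx) (run_cons (e1_51 h x hx) rfl))))
    (run_cons (e0_71 h x hx) (run_cons (e2_48 h x hx) (run_cons (e1_60 h x hx) (run_cons (e0_3 h x hx) (run_cons (e3_6 h x hx) rfl)))))

theorem e2_71 (h : Hyp S) (x : Fin 4 → G) (hx : ∀ g, x g ∈ S) :
    act (x 2) (pnt x [1, 0, 3, 2, 0]) = (pnt x [2, 1, 3, 1]) :=
  flip h (hx 2) (e2_40 h x hx)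

theorem e0_79 (h : Hyp S) (x : Fin 4 → G) (hx : ∀ g, x g ∈ S) :
    act (x 0) (pnt x [1, 3, 1, 2]) = (pnt x [2, 1, 3, 1]) :=
  ded h hx (α := [0, 2]) (β := [2, 0, 2]) (p := (pnt x [1, 0, 3]))
    (cube_rel h hx [] [] 0 2 _)
    (run_cons (e0_60 h x hx) (run_cons (e2_30 h x hx) rfl))
    (run_cons (e2_40 h x hx) (run_cons (e0_71 h x hx) (run_cons (e2_48 h x hx) rfl)))

theorem e0_40 (h : Hyp S) (x : Fin 4 → G) (hx : ∀ g, x g ∈ S) :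
    act (x 0) (pnt x [2, 1, 3, 1]) = (pnt x [1, 3, 1, 2]) :=
  flip h (hx 0) (e0_79 h x hx)

theorem e0_13 (h : Hyp S) (x : Fin 4 → G) (hx : ∀ g, x g ∈ S) :
    act (x 0) (pnt x [1, 3, 1, 2, 1]) = (pnt x [2, 1, 3, 0, 1]) :=
  ded h hx (α := [0, 1]) (β := [1, 0, 1]) (p := (pnt x [2, 1, 3, 1]))
    (cube_rel h hx [] [] 0 1 _)
    (run_cons (e0_40 h x hx) (run_cons (e1_79 h x hx) rfl))
    (run_cons (e1_26 h x hx) (run_cons (e0_67 h x hx) (run_cons (e1_51 h x hx) rfl)))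

theorem e0_26 (h : Hyp S) (x : Fin 4 → G) (hx : ∀ g, x g ∈ S) :
    act (x 0) (pnt x [2, 1, 3, 0, 1]) = (pnt x [1, 3, 1, 2, 1]) :=
  flip h (hx 0) (e0_13 h x hx)

theorem e0_73 (h : Hyp S) (x : Fin 4 → G) (hx : ∀ g, x g ∈ S) :
    act (x 0) (pnt x [2, 3, 1, 0, 3]) = (pnt x [1, 3, 1, 2, 3]) :=
  ded h hx (α := [0, 3]) (β := [3, 0, 3]) (p := (pnt x [2, 3, 1]))
    (cube_rel h hx [] [] 0 3 _)
    (run_cons (e0_77 h x hx) (run_cons (e3_44 h x hx) rfl))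
    (run_cons (e3_38 h x hx) (run_cons (e0_79 h x hx) (run_cons (e3_40 h x hx) rfl)))

theorem e0_38 (h : Hyp S) (x : Fin 4 → G) (hx : ∀ g, x g ∈ S) :
    act (x 0) (pnt x [1, 3, 1, 2, 3]) = (pnt x [2, 3, 1, 0, 3]) :=
  flip h (hx 0) (e0_73 h x hx)

theorem e2_7 (h : Hyp S) (x : Fin 4 → G) (hx : ∀ g, x g ∈ S) :
    act (x 2) (pnt x [2, 1, 3, 2, 1]) = (pnt x [1, 0, 3, 2, 0, 1]) :=
  ded h hx (α := [1, 2, 1]) (β := [1, 2]) (p := (pnt x [2, 1, 3, 1]))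
    (cube_rel h hx [] [] 1 2 _)
    (run_cons (e1_40 h x hx) (run_cons (e2_51 h x hx) (run_cons (e1_59 h x hx) rfl)))
    (run_cons (e1_23 h x hx) (run_cons (e2_71 h x hx) rfl))

theorem e2_23 (h : Hyp S) (x : Fin 4 → G) (hx : ∀ g, x g ∈ S) :
    act (x 2) (pnt x [1, 0, 3, 2, 0, 1]) = (pnt x [2, 1, 3, 2, 1]) :=
  flip h (hx 2) (e2_7 h x hx)

theorem e2_56 (h : Hyp S) (x : Fin 4 → G) (hx : ∀ g, x g ∈ S) :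
    act (x 2) (pnt x [2, 3, 1, 2, 3]) = (pnt x [1, 0, 3, 2, 0, 3]) :=
  ded h hx (α := [2, 3]) (β := [3, 2, 3]) (p := (pnt x [2, 3, 1]))
    (cube_rel h hx [] [] 2 3 _)
    (run_cons (e2_77 h x hx) (run_cons (e3_34 h x hx) rfl))
    (run_cons (e3_46 h x hx) (run_cons (e2_71 h x hx) (run_cons (e3_40 h x hx) rfl)))

theorem e2_46 (h : Hyp S) (x : Fin 4 → G) (hx : ∀ g, x g ∈ S) :
    act (x 2) (pnt x [1, 0, 3, 2, 0, 3]) = (pnt x [2, 3, 1, 2, 3]) :=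
  flip h (hx 2) (e2_56 h x hx)

theorem e3_41 (h : Hyp S) (x : Fin 4 → G) (hx : ∀ g, x g ∈ S) :
    act (x 3) (pnt x [3, 1, 2, 1]) = (pnt x [1, 0, 2, 3, 0]) :=
  ded h hx (α := [3, 1, 2, 1]) (β := [0, 3, 1, 0, 2]) (p := (pnt x []))
    (fix_rel h hx [3, 1] [2, 0] 2 (braid h (hx 0) (hx 2)))
    (run_cons (e3_0 h x hx) (run_cons (e1_6 h x hx) (run_cons (e2_57 h x hx) (run_cons (e1_53 h x hx) rfl))))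
    (run_cons (e0_76 h x hx) (run_cons (e3_42 h x hx) (run_cons (e1_72 h x hx) (run_cons (e0_9 h x hx) (run_cons (e2_18 h x hx) rfl)))))

theorem e3_76 (h : Hyp S) (x : Fin 4 → G) (hx : ∀ g, x g ∈ S) :
    act (x 3) (pnt x [1, 0, 2, 3, 0]) = (pnt x [3, 1, 2, 1]) :=
  flip h (hx 3) (e3_41 h x hx)

theorem e0_78 (h : Hyp S) (x : Fin 4 → G) (hx : ∀ g, x g ∈ S) :
    act (x 0) (pnt x [1, 2, 1, 3]) = (pnt x [3, 1, 2, 1]) :=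
  ded h hx (α := [0, 3]) (β := [3, 0, 3]) (p := (pnt x [1, 0, 2]))
    (cube_rel h hx [] [] 0 3 _)
    (run_cons (e0_72 h x hx) (run_cons (e3_36 h x hx) rfl))
    (run_cons (e3_41 h x hx) (run_cons (e0_76 h x hx) (run_cons (e3_42 h x hx) rfl)))

theorem e0_41 (h : Hyp S) (x : Fin 4 → G) (hx : ∀ g, x g ∈ S) :
    act (x 0) (pnt x [3, 1, 2, 1]) = (pnt x [1, 2, 1, 3]) :=
  flip h (hx 0) (e0_78 h x hx)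

theorem e0_14 (h : Hyp S) (x : Fin 4 → G) (hx : ∀ g, x g ∈ S) :
    act (x 0) (pnt x [1, 2, 1, 3, 1]) = (pnt x [3, 1, 2, 0, 1]) :=
  ded h hx (α := [0, 1]) (β := [1, 0, 1]) (p := (pnt x [3, 1, 2, 1]))
    (cube_rel h hx [] [] 0 1 _)
    (run_cons (e0_41 h x hx) (run_cons (e1_78 h x hx) rfl))
    (run_cons (e1_25 h x hx) (run_cons (e0_68 h x hx) (run_cons (e1_53 h x hx) rfl)))

theorem e0_25 (h : Hyp S) (x : Fin 4 → G) (hx : ∀ g, x g ∈ S) :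
    act (x 0) (pnt x [3, 1, 2, 0, 1]) = (pnt x [1, 2, 1, 3, 1]) :=
  flip h (hx 0) (e0_14 h x hx)

theorem e0_62 (h : Hyp S) (x : Fin 4 → G) (hx : ∀ g, x g ∈ S) :
    act (x 0) (pnt x [3, 2, 1, 0, 2]) = (pnt x [1, 2, 1, 3, 2]) :=
  ded h hx (α := [0, 2]) (β := [2, 0, 2]) (p := (pnt x [3, 2, 1]))
    (cube_rel h hx [] [] 0 2 _)
    (run_cons (e0_70 h x hx) (run_cons (e2_49 h x hx) rfl))
    (run_cons (e2_31 h x hx) (run_cons (e0_78 h x hx) (run_cons (e2_41 h x hx) rfl)))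

theorem e0_31 (h : Hyp S) (x : Fin 4 → G) (hx : ∀ g, x g ∈ S) :
    act (x 0) (pnt x [1, 2, 1, 3, 2]) = (pnt x [3, 2, 1, 0, 2]) :=
  flip h (hx 0) (e0_62 h x hx)

theorem e3_20 (h : Hyp S) (x : Fin 4 → G) (hx : ∀ g, x g ∈ S) :
    act (x 3) (pnt x [3, 1, 2, 3, 1]) = (pnt x [1, 0, 2, 3, 0, 1]) :=
  ded h hx (α := [1, 3, 1]) (β := [1, 3]) (p := (pnt x [3, 1, 2, 1]))
    (cube_rel h hx [] [] 1 3 _)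
    (run_cons (e1_41 h x hx) (run_cons (e3_53 h x hx) (run_cons (e1_64 h x hx) rfl)))
    (run_cons (e1_16 h x hx) (run_cons (e3_76 h x hx) rfl))

theorem e3_16 (h : Hyp S) (x : Fin 4 → G) (hx : ∀ g, x g ∈ S) :
    act (x 3) (pnt x [1, 0, 2, 3, 0, 1]) = (pnt x [3, 1, 2, 3, 1]) :=
  flip h (hx 3) (e3_20 h x hx)

theorem e3_35 (h : Hyp S) (x : Fin 4 → G) (hx : ∀ g, x g ∈ S) :
    act (x 3) (pnt x [1, 0, 2, 3, 0, 2]) = (pnt x [3, 2, 1, 3, 2]) :=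
  ded h hx (α := [2, 3, 2]) (β := [2, 3]) (p := (pnt x [3, 2, 1]))
    (cube_rel h hx [] [] 2 3 _)
    (run_cons (e2_70 h x hx) (run_cons (e3_41 h x hx) (run_cons (e2_76 h x hx) rfl)))
    (run_cons (e2_55 h x hx) (run_cons (e3_47 h x hx) rfl))

theorem e3_55 (h : Hyp S) (x : Fin 4 → G) (hx : ∀ g, x g ∈ S) :
    act (x 3) (pnt x [3, 2, 1, 3, 2]) = (pnt x [1, 0, 2, 3, 0, 2]) :=
  flip h (hx 3) (e3_35 h x hx)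

theorem e3_68 (h : Hyp S) (x : Fin 4 → G) (hx : ∀ g, x g ∈ S) :
    act (x 3) (pnt x [3, 1, 2, 0]) = (pnt x [3, 2, 1, 0]) :=
  ded h hx (α := [1, 3, 2, 0, 2]) (β := [1, 0, 1, 3, 2]) (p := (pnt x []))
    (fix_rel h hx [1, 3, 2] [] 0 rfl)
    (run_cons (e1_0 h x hx) (run_cons (e3_54 h x hx) (run_cons (e2_33 h x hx) (run_cons (e0_75 h x hx) (run_cons (e2_43 h x hx) rfl)))))
    (run_cons (e1_49 h x hx) (run_cons (e0_44 h x hx) (run_cons (e1_77 h x hx) (run_cons (e3_15 h x hx) (run_cons (e2_18 h x hx) rfl)))))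

theorem e3_49 (h : Hyp S) (x : Fin 4 → G) (hx : ∀ g, x g ∈ S) :
    act (x 3) (pnt x [3, 2, 1, 0]) = (pnt x [3, 1, 2, 0]) :=
  flip h (hx 3) (e3_68 h x hx)

theorem e0_64 (h : Hyp S) (x : Fin 4 → G) (hx : ∀ g, x g ∈ S) :
    act (x 0) (pnt x [3, 1, 2, 3]) = (pnt x [3, 2, 1, 3]) :=
  ded h hx (α := [0, 3, 0, 3]) (β := [3]) (p := (pnt x [3, 2, 1]))
    (cube_rel h hx [] [] 0 3 _)
    (run_cons (e0_70 h x hx) (run_cons (e3_49 h x hx) (run_cons (e0_68 h x hx) (run_cons (e3_53 h x hx) rfl))))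
    (run_cons (e3_47 h x hx) rfl)

theorem e0_47 (h : Hyp S) (x : Fin 4 → G) (hx : ∀ g, x g ∈ S) :
    act (x 0) (pnt x [3, 2, 1, 3]) = (pnt x [3, 1, 2, 3]) :=
  flip h (hx 0) (e0_64 h x hx)

theorem e0_10 (h : Hyp S) (x : Fin 4 → G) (hx : ∀ g, x g ∈ S) :
    act (x 0) (pnt x [1, 3, 2, 0, 3, 1]) = (pnt x [3, 1, 2, 3, 1]) :=
  ded h hx (α := [0, 1]) (β := [1, 0, 1]) (p := (pnt x [2, 3, 2, 1, 3]))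
    (cube_rel h hx [] [] 0 1 _)
    (run_cons (e0_37 h x hx) (run_cons (e1_74 h x hx) rfl))
    (run_cons (e1_20 h x hx) (run_cons (e0_64 h x hx) (run_cons (e1_47 h x hx) rfl)))

theorem e0_20 (h : Hyp S) (x : Fin 4 → G) (hx : ∀ g, x g ∈ S) :
    act (x 0) (pnt x [3, 1, 2, 3, 1]) = (pnt x [1, 3, 2, 0, 3, 1]) :=
  flip h (hx 0) (e0_10 h x hx)

theorem e3_62 (h : Hyp S) (x : Fin 4 → G) (hx : ∀ g, x g ∈ S) :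
    act (x 3) (pnt x [3, 2, 1, 0, 2]) = (pnt x [1, 3, 2, 0, 3, 2]) :=
  ded h hx (α := [2, 3, 2]) (β := [2, 3]) (p := (pnt x [1, 3, 2, 0]))
    (cube_rel h hx [] [] 2 3 _)
    (run_cons (e2_43 h x hx) (run_cons (e3_68 h x hx) (run_cons (e2_49 h x hx) rfl)))
    (run_cons (e2_28 h x hx) (run_cons (e3_74 h x hx) rfl))

theorem e3_28 (h : Hyp S) (x : Fin 4 → G) (hx : ∀ g, x g ∈ S) :
    act (x 3) (pnt x [1, 3, 2, 0, 3, 2]) = (pnt x [3, 2, 1, 0, 2]) :=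
  flip h (hx 3) (e3_62 h x hx)

theorem e2_67 (h : Hyp S) (x : Fin 4 → G) (hx : ∀ g, x g ∈ S) :
    act (x 2) (pnt x [2, 1, 3, 0]) = (pnt x [2, 3, 1, 0]) :=
  ded h hx (α := [1, 2, 3, 0, 3]) (β := [1, 0, 1, 2, 3]) (p := (pnt x []))
    (fix_rel h hx [1, 2, 3] [] 0 rfl)
    (run_cons (e1_0 h x hx) (run_cons (e2_54 h x hx) (run_cons (e3_45 h x hx) (run_cons (e0_69 h x hx) (run_cons (e3_50 h x hx) rfl)))))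
    (run_cons (e1_44 h x hx) (run_cons (e0_49 h x hx) (run_cons (e1_70 h x hx) (run_cons (e2_21 h x hx) (run_cons (e3_6 h x hx) rfl)))))

theorem e2_44 (h : Hyp S) (x : Fin 4 → G) (hx : ∀ g, x g ∈ S) :
    act (x 2) (pnt x [2, 3, 1, 0]) = (pnt x [2, 1, 3, 0]) :=
  flip h (hx 2) (e2_67 h x hx)

theorem e0_59 (h : Hyp S) (x : Fin 4 → G) (hx : ∀ g, x g ∈ S) :
    act (x 0) (pnt x [2, 1, 3, 2]) = (pnt x [2, 3, 1, 2]) :=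
  ded h hx (α := [0, 2, 0, 2]) (β := [2]) (p := (pnt x [2, 3, 1]))
    (cube_rel h hx [] [] 0 2 _)
    (run_cons (e0_77 h x hx) (run_cons (e2_44 h x hx) (run_cons (e0_67 h x hx) (run_cons (e2_51 h x hx) rfl))))
    (run_cons (e2_34 h x hx) rfl)

theorem e0_34 (h : Hyp S) (x : Fin 4 → G) (hx : ∀ g, x g ∈ S) :
    act (x 0) (pnt x [2, 3, 1, 2]) = (pnt x [2, 1, 3, 2]) :=
  flip h (hx 0) (e0_59 h x hx)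

theorem e0_5 (h : Hyp S) (x : Fin 4 → G) (hx : ∀ g, x g ∈ S) :
    act (x 0) (pnt x [1, 2, 3, 0, 2, 1]) = (pnt x [2, 1, 3, 2, 1]) :=
  ded h hx (α := [0, 1]) (β := [1, 0, 1]) (p := (pnt x [2, 3, 1, 2, 1]))
    (cube_rel h hx [] [] 0 1 _)
    (run_cons (e0_32 h x hx) (run_cons (e1_61 h x hx) rfl))
    (run_cons (e1_7 h x hx) (run_cons (e0_59 h x hx) (run_cons (e1_34 h x hx) rfl)))

theorem e0_7 (h : Hyp S) (x : Fin 4 → G) (hx : ∀ g, x g ∈ S) :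
    act (x 0) (pnt x [2, 1, 3, 2, 1]) = (pnt x [1, 2, 3, 0, 2, 1]) :=
  flip h (hx 0) (e0_5 h x hx)

theorem e0_28 (h : Hyp S) (x : Fin 4 → G) (hx : ∀ g, x g ∈ S) :
    act (x 0) (pnt x [1, 3, 2, 0, 3, 2]) = (pnt x [2, 3, 1, 2, 3]) :=
  ded h hx (α := [0, 3]) (β := [3, 0, 3]) (p := (pnt x [1, 2, 1, 3, 2]))
    (cube_rel h hx [] [] 0 3 _)
    (run_cons (e0_31 h x hx) (run_cons (e3_62 h x hx) rfl))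
    (run_cons (e3_56 h x hx) (run_cons (e0_34 h x hx) (run_cons (e3_59 h x hx) rfl)))

theorem e0_56 (h : Hyp S) (x : Fin 4 → G) (hx : ∀ g, x g ∈ S) :
    act (x 0) (pnt x [2, 3, 1, 2, 3]) = (pnt x [1, 3, 2, 0, 3, 2]) :=
  flip h (hx 0) (e0_28 h x hx)

theorem e2_29 (h : Hyp S) (x : Fin 4 → G) (hx : ∀ g, x g ∈ S) :
    act (x 2) (pnt x [1, 2, 3, 0, 2, 3]) = (pnt x [2, 3, 1, 0, 3]) :=
  ded h hx (α := [2, 3]) (β := [3, 2, 3]) (p := (pnt x [1, 2, 3, 0]))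
    (cube_rel h hx [] [] 2 3 _)
    (run_cons (e2_50 h x hx) (run_cons (e3_61 h x hx) rfl))
    (run_cons (e3_73 h x hx) (run_cons (e2_44 h x hx) (run_cons (e3_67 h x hx) rfl)))

theorem e2_73 (h : Hyp S) (x : Fin 4 → G) (hx : ∀ g, x g ∈ S) :
    act (x 2) (pnt x [2, 3, 1, 0, 3]) = (pnt x [1, 2, 3, 0, 2, 3]) :=
  flip h (hx 2) (e2_29 h x hx)

theorem e0_29 (h : Hyp S) (x : Fin 4 → G) (hx : ∀ g, x g ∈ S) :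
    act (x 0) (pnt x [1, 2, 3, 0, 2, 3]) = (pnt x [3, 2, 1, 3, 2]) :=
  ded h hx (α := [0, 2]) (β := [2, 0, 2]) (p := (pnt x [1, 3, 1, 2, 3]))
    (cube_rel h hx [] [] 0 2 _)
    (run_cons (e0_38 h x hx) (run_cons (e2_73 h x hx) rfl))
    (run_cons (e2_55 h x hx) (run_cons (e0_47 h x hx) (run_cons (e2_64 h x hx) rfl)))

theorem e0_55 (h : Hyp S) (x : Fin 4 → G) (hx : ∀ g, x g ∈ S) :
    act (x 0) (pnt x [3, 2, 1, 3, 2]) = (pnt x [1, 2, 3, 0, 2, 3]) :=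
  flip h (hx 0) (e0_29 h x hx)

theorem e1_50 (h : Hyp S) (x : Fin 4 → G) (hx : ∀ g, x g ∈ S) :
    act (x 1) (pnt x [1, 2, 3, 0]) = (pnt x [1, 3, 2, 0]) :=
  ded h hx (α := [2, 1, 3, 0, 3]) (β := [2, 0, 2, 1, 3]) (p := (pnt x []))
    (fix_rel h hx [2, 1, 3] [] 0 rfl)
    (run_cons (e2_0 h x hx) (run_cons (e1_18 h x hx) (run_cons (e3_63 h x hx) (run_cons (e0_51 h x hx) (run_cons (e3_67 h x hx) rfl)))))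
    (run_cons (e2_43 h x hx) (run_cons (e0_68 h x hx) (run_cons (e2_53 h x hx) (run_cons (e1_57 h x hx) (run_cons (e3_6 h x hx) rfl)))))

theorem e1_43 (h : Hyp S) (x : Fin 4 → G) (hx : ∀ g, x g ∈ S) :
    act (x 1) (pnt x [1, 3, 2, 0]) = (pnt x [1, 2, 3, 0]) :=
  flip h (hx 1) (e1_50 h x hx)

theorem e0_22 (h : Hyp S) (x : Fin 4 → G) (hx : ∀ g, x g ∈ S) :
    act (x 0) (pnt x [1, 2, 3, 1]) = (pnt x [1, 3, 2, 1]) :=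
  ded h hx (α := [0, 1, 0, 1]) (β := [1]) (p := (pnt x [1, 3, 2]))
    (cube_rel h hx [] [] 0 1 _)
    (run_cons (e0_75 h x hx) (run_cons (e1_43 h x hx) (run_cons (e0_50 h x hx) (run_cons (e1_69 h x hx) rfl))))
    (run_cons (e1_17 h x hx) rfl)

theorem e0_17 (h : Hyp S) (x : Fin 4 → G) (hx : ∀ g, x g ∈ S) :
    act (x 0) (pnt x [1, 3, 2, 1]) = (pnt x [1, 2, 3, 1]) :=
  flip h (hx 0) (e0_22 h x hx)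

theorem e2_26 (h : Hyp S) (x : Fin 4 → G) (hx : ∀ g, x g ∈ S) :
    act (x 2) (pnt x [2, 1, 3, 0, 1]) = (pnt x [1, 2, 3, 1, 2, 0]) :=
  ded h hx (α := [0]) (β := [0, 2, 0, 2]) (p := (pnt x [1, 3, 1, 2, 1]))
    (cube_rel h hx [] [] 0 2 _)
    (run_cons (e0_13 h x hx) rfl)
    (run_cons (e0_4 h x hx) (run_cons (e2_8 h x hx) (run_cons (e0_22 h x hx) (run_cons (e2_17 h x hx) rfl))))

theorem e2_4 (h : Hyp S) (x : Fin 4 → G) (hx : ∀ g, x g ∈ S) :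
    act (x 2) (pnt x [1, 2, 3, 1, 2, 0]) = (pnt x [2, 1, 3, 0, 1]) :=
  flip h (hx 2) (e2_26 h x hx)

theorem e3_25 (h : Hyp S) (x : Fin 4 → G) (hx : ∀ g, x g ∈ S) :
    act (x 3) (pnt x [3, 1, 2, 0, 1]) = (pnt x [1, 3, 2, 1, 3, 0]) :=
  ded h hx (α := [0]) (β := [0, 3, 0, 3]) (p := (pnt x [1, 2, 1, 3, 1]))
    (cube_rel h hx [] [] 0 3 _)
    (run_cons (e0_14 h x hx) rfl)
    (run_cons (e0_11 h x hx) (run_cons (e3_19 h x hx) (run_cons (e0_17 h x hx) (run_cons (e3_22 h x hx) rfl))))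

theorem e3_11 (h : Hyp S) (x : Fin 4 → G) (hx : ∀ g, x g ∈ S) :
    act (x 3) (pnt x [1, 3, 2, 1, 3, 0]) = (pnt x [3, 1, 2, 0, 1]) :=
  flip h (hx 3) (e3_25 h x hx)

theorem e2_25 (h : Hyp S) (x : Fin 4 → G) (hx : ∀ g, x g ∈ S) :
    act (x 2) (pnt x [3, 1, 2, 0, 1]) = (pnt x [1, 2, 3, 0, 2, 1]) :=
  ded h hx (α := [1, 2, 1]) (β := [1, 2]) (p := (pnt x [1, 2, 3, 0]))
    (cube_rel h hx [] [] 1 2 _)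
    (run_cons (e1_50 h x hx) (run_cons (e2_43 h x hx) (run_cons (e1_68 h x hx) rfl)))
    (run_cons (e1_5 h x hx) (run_cons (e2_61 h x hx) rfl))

theorem e2_5 (h : Hyp S) (x : Fin 4 → G) (hx : ∀ g, x g ∈ S) :
    act (x 2) (pnt x [1, 2, 3, 0, 2, 1]) = (pnt x [3, 1, 2, 0, 1]) :=
  flip h (hx 2) (e2_25 h x hx)

theorem e1_4 (h : Hyp S) (x : Fin 4 → G) (hx : ∀ g, x g ∈ S) :
    act (x 1) (pnt x [1, 2, 3, 1, 2, 0]) = (pnt x [3, 2, 1, 0, 2]) :=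
  ded h hx (α := [1, 2]) (β := [2, 1, 2]) (p := (pnt x [2, 1, 3, 0]))
    (cube_rel h hx [] [] 1 2 _)
    (run_cons (e1_67 h x hx) (run_cons (e2_26 h x hx) rfl))
    (run_cons (e2_62 h x hx) (run_cons (e1_49 h x hx) (run_cons (e2_44 h x hx) rfl)))

theorem e1_62 (h : Hyp S) (x : Fin 4 → G) (hx : ∀ g, x g ∈ S) :
    act (x 1) (pnt x [3, 2, 1, 0, 2]) = (pnt x [1, 2, 3, 1, 2, 0]) :=
  flip h (hx 1) (e1_4 h x hx)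

theorem e3_10 (h : Hyp S) (x : Fin 4 → G) (hx : ∀ g, x g ∈ S) :
    act (x 3) (pnt x [1, 3, 2, 0, 3, 1]) = (pnt x [2, 1, 3, 0, 1]) :=
  ded h hx (α := [1, 3, 1]) (β := [1, 3]) (p := (pnt x [1, 2, 3, 0]))
    (cube_rel h hx [] [] 1 3 _)
    (run_cons (e1_50 h x hx) (run_cons (e3_43 h x hx) (run_cons (e1_74 h x hx) rfl)))
    (run_cons (e1_26 h x hx) (run_cons (e3_67 h x hx) rfl))

theorem e3_26 (h : Hyp S) (x : Fin 4 → G) (hx : ∀ g, x g ∈ S) :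
    act (x 3) (pnt x [2, 1, 3, 0, 1]) = (pnt x [1, 3, 2, 0, 3, 1]) :=
  flip h (hx 3) (e3_10 h x hx)

theorem e1_11 (h : Hyp S) (x : Fin 4 → G) (hx : ∀ g, x g ∈ S) :
    act (x 1) (pnt x [1, 3, 2, 1, 3, 0]) = (pnt x [2, 3, 1, 0, 3]) :=
  ded h hx (α := [1, 3, 1, 3]) (β := [3]) (p := (pnt x [2, 3, 1, 0]))
    (cube_rel h hx [] [] 1 3 _)
    (run_cons (e1_44 h x hx) (run_cons (e3_49 h x hx) (run_cons (e1_68 h x hx) (run_cons (e3_25 h x hx) rfl))))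
    (run_cons (e3_73 h x hx) rfl)

theorem e1_73 (h : Hyp S) (x : Fin 4 → G) (hx : ∀ g, x g ∈ S) :
    act (x 1) (pnt x [2, 3, 1, 0, 3]) = (pnt x [1, 3, 2, 1, 3, 0]) :=
  flip h (hx 1) (e1_11 h x hx)

theorem e2_65 (h : Hyp S) (x : Fin 4 → G) (hx : ∀ g, x g ∈ S) :
    act (x 2) (pnt x [1, 2, 3, 2, 1, 3]) = (pnt x [2, 3, 2, 1, 3]) :=
  ded h hx (α := [1, 3, 2, 3, 1, 3]) (β := [3, 1, 3, 2, 3]) (p := (pnt x []))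
    (cube_rel h hx [] [3] 1 2 _)
    (run_cons (e1_0 h x hx) (run_cons (e3_54 h x hx) (run_cons (e2_33 h x hx) (run_cons (e3_75 h x hx) (run_cons (e1_39 h x hx) (run_cons (e3_52 h x hx) rfl))))))
    (run_cons (e3_37 h x hx) (run_cons (e1_80 h x hx) (run_cons (e3_12 h x hx) (run_cons (e2_21 h x hx) (run_cons (e3_6 h x hx) rfl)))))

theorem e2_37 (h : Hyp S) (x : Fin 4 → G) (hx : ∀ g, x g ∈ S) :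
    act (x 2) (pnt x [2, 3, 2, 1, 3]) = (pnt x [1, 2, 3, 2, 1, 3]) :=
  flip h (hx 2) (e2_65 h x hx)

theorem e0_65 (h : Hyp S) (x : Fin 4 → G) (hx : ∀ g, x g ∈ S) :
    act (x 0) (pnt x [1, 2, 3, 2, 1, 3]) = (pnt x [1, 0, 3, 2, 0, 3]) :=
  ded h hx (α := []) (β := [2, 0, 2, 0, 2]) (p := (pnt x [1, 2, 3, 2, 1, 3]))
    (cube_rel h hx [] [] 0 2 _)
    rfl
    (run_cons (e2_46 h x hx) (run_cons (e0_56 h x hx) (run_cons (e2_28 h x hx) (run_cons (e0_74 h x hx) (run_cons (e2_37 h x hx) rfl)))))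

theorem e0_46 (h : Hyp S) (x : Fin 4 → G) (hx : ∀ g, x g ∈ S) :
    act (x 0) (pnt x [1, 0, 3, 2, 0, 3]) = (pnt x [1, 2, 3, 2, 1, 3]) :=
  flip h (hx 0) (e0_65 h x hx)

theorem e1_46 (h : Hyp S) (x : Fin 4 → G) (hx : ∀ g, x g ∈ S) :
    act (x 1) (pnt x [1, 0, 3, 2, 0, 3]) = (pnt x [1, 3, 1, 2, 3]) :=
  ded h hx (α := [0]) (β := [0, 1, 0, 1]) (p := (pnt x [1, 2, 3, 2, 1, 3]))
    (cube_rel h hx [] [] 0 1 _)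
    (run_cons (e0_65 h x hx) rfl)
    (run_cons (e0_38 h x hx) (run_cons (e1_73 h x hx) (run_cons (e0_11 h x hx) (run_cons (e1_19 h x hx) rfl))))

theorem e1_38 (h : Hyp S) (x : Fin 4 → G) (hx : ∀ g, x g ∈ S) :
    act (x 1) (pnt x [1, 3, 1, 2, 3]) = (pnt x [1, 0, 3, 2, 0, 3]) :=
  flip h (hx 1) (e1_46 h x hx)

theorem e3_66 (h : Hyp S) (x : Fin 4 → G) (hx : ∀ g, x g ∈ S) :
    act (x 3) (pnt x [2, 0, 3, 1]) = (pnt x [1, 0, 3, 2]) :=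
  ded h hx (α := [0]) (β := [0, 3, 0, 3]) (p := (pnt x [1, 2, 3, 2, 1]))
    (cube_rel h hx [] [] 0 3 _)
    (run_cons (e0_52 h x hx) rfl)
    (run_cons (e0_48 h x hx) (run_cons (e3_71 h x hx) (run_cons (e0_46 h x hx) (run_cons (e3_65 h x hx) rfl))))

theorem e3_48 (h : Hyp S) (x : Fin 4 → G) (hx : ∀ g, x g ∈ S) :
    act (x 3) (pnt x [1, 0, 3, 2]) = (pnt x [2, 0, 3, 1]) :=
  flip h (hx 3) (e3_66 h x hx)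

theorem e1_2 (h : Hyp S) (x : Fin 4 → G) (hx : ∀ g, x g ∈ S) :
    act (x 1) (pnt x [1, 3, 2, 1, 3, 2]) = (pnt x [3, 2, 1, 3, 2]) :=
  ded h hx (α := [1, 2]) (β := [2, 1, 2]) (p := (pnt x [1, 2, 3, 2, 1, 3]))
    (cube_rel h hx [] [] 1 2 _)
    (run_cons (e1_65 h x hx) (run_cons (e2_19 h x hx) rfl))
    (run_cons (e2_55 h x hx) (run_cons (e1_47 h x hx) (run_cons (e2_37 h x hx) rfl)))

theorem e1_55 (h : Hyp S) (x : Fin 4 → G) (hx : ∀ g, x g ∈ S) :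
    act (x 1) (pnt x [3, 2, 1, 3, 2]) = (pnt x [1, 3, 2, 1, 3, 2]) :=
  flip h (hx 1) (e1_2 h x hx)

theorem e1_48 (h : Hyp S) (x : Fin 4 → G) (hx : ∀ g, x g ∈ S) :
    act (x 1) (pnt x [1, 0, 3, 2]) = (pnt x [1, 0, 2, 3]) :=
  ded h hx (α := [1, 3, 1, 3]) (β := [3]) (p := (pnt x [1, 0, 2]))
    (cube_rel h hx [] [] 1 3 _)
    (run_cons (e1_72 h x hx) (run_cons (e3_9 h x hx) (run_cons (e1_24 h x hx) (run_cons (e3_66 h x hx) rfl))))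
    (run_cons (e3_42 h x hx) rfl)

theorem e1_42 (h : Hyp S) (x : Fin 4 → G) (hx : ∀ g, x g ∈ S) :
    act (x 1) (pnt x [1, 0, 2, 3]) = (pnt x [1, 0, 3, 2]) :=
  flip h (hx 1) (e1_48 h x hx)

theorem e0_16 (h : Hyp S) (x : Fin 4 → G) (hx : ∀ g, x g ∈ S) :
    act (x 0) (pnt x [1, 0, 2, 3, 0, 1]) = (pnt x [1, 0, 3, 2, 0, 1]) :=
  ded h hx (α := [0, 1, 0, 1]) (β := [1]) (p := (pnt x [1, 0, 3, 2, 0]))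
    (cube_rel h hx [] [] 0 1 _)
    (run_cons (e0_71 h x hx) (run_cons (e1_48 h x hx) (run_cons (e0_42 h x hx) (run_cons (e1_76 h x hx) rfl))))
    (run_cons (e1_23 h x hx) rfl)

theorem e0_23 (h : Hyp S) (x : Fin 4 → G) (hx : ∀ g, x g ∈ S) :
    act (x 0) (pnt x [1, 0, 3, 2, 0, 1]) = (pnt x [1, 0, 2, 3, 0, 1]) :=
  flip h (hx 0) (e0_16 h x hx)

theorem e2_16 (h : Hyp S) (x : Fin 4 → G) (hx : ∀ g, x g ∈ S) :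
    act (x 2) (pnt x [1, 0, 2, 3, 0, 1]) = (pnt x [1, 2, 1, 3, 1]) :=
  ded h hx (α := [0]) (β := [0, 2, 0, 2]) (p := (pnt x [1, 0, 3, 2, 0, 1]))
    (cube_rel h hx [] [] 0 2 _)
    (run_cons (e0_23 h x hx) rfl)
    (run_cons (e0_14 h x hx) (run_cons (e2_25 h x hx) (run_cons (e0_5 h x hx) (run_cons (e2_7 h x hx) rfl))))

theorem e2_14 (h : Hyp S) (x : Fin 4 → G) (hx : ∀ g, x g ∈ S) :
    act (x 2) (pnt x [1, 2, 1, 3, 1]) = (pnt x [1, 0, 2, 3, 0, 1]) :=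
  flip h (hx 2) (e2_16 h x hx)

theorem e3_13 (h : Hyp S) (x : Fin 4 → G) (hx : ∀ g, x g ∈ S) :
    act (x 3) (pnt x [1, 3, 1, 2, 1]) = (pnt x [1, 0, 3, 2, 0, 1]) :=
  ded h hx (α := [0, 3, 0, 3, 0]) (β := []) (p := (pnt x [1, 0, 3, 2, 0, 1]))
    (cube_rel h hx [] [] 0 3 _)
    (run_cons (e0_23 h x hx) (run_cons (e3_16 h x hx) (run_cons (e0_20 h x hx) (run_cons (e3_10 h x hx) (run_cons (e0_26 h x hx) rfl)))))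
    rfl

theorem e3_23 (h : Hyp S) (x : Fin 4 → G) (hx : ∀ g, x g ∈ S) :
    act (x 3) (pnt x [1, 0, 3, 2, 0, 1]) = (pnt x [1, 3, 1, 2, 1]) :=
  flip h (hx 3) (e3_13 h x hx)

theorem e2_66 (h : Hyp S) (x : Fin 4 → G) (hx : ∀ g, x g ∈ S) :
    act (x 2) (pnt x [2, 0, 3, 1]) = (pnt x [1, 0, 2, 3]) :=
  ded h hx (α := [1]) (β := [1, 2, 1, 2]) (p := (pnt x [2, 0, 3]))
    (cube_rel h hx [] [] 1 2 _)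
    (run_cons (e1_24 h x hx) rfl)
    (run_cons (e1_42 h x hx) (run_cons (e2_48 h x hx) (run_cons (e1_60 h x hx) (run_cons (e2_3 h x hx) rfl))))

theorem e2_42 (h : Hyp S) (x : Fin 4 → G) (hx : ∀ g, x g ∈ S) :
    act (x 2) (pnt x [1, 0, 2, 3]) = (pnt x [2, 0, 3, 1]) :=
  flip h (hx 2) (e2_66 h x hx)

theorem e0_35 (h : Hyp S) (x : Fin 4 → G) (hx : ∀ g, x g ∈ S) :
    act (x 0) (pnt x [1, 0, 2, 3, 0, 2]) = (pnt x [1, 2, 3, 1, 2, 1]) :=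
  ded h hx (α := [0, 2, 0, 2]) (β := [2]) (p := (pnt x [1, 2, 3, 2, 1]))
    (cube_rel h hx [] [] 0 2 _)
    (run_cons (e0_52 h x hx) (run_cons (e2_66 h x hx) (run_cons (e0_42 h x hx) (run_cons (e2_76 h x hx) rfl))))
    (run_cons (e2_58 h x hx) rfl)

theorem e0_58 (h : Hyp S) (x : Fin 4 → G) (hx : ∀ g, x g ∈ S) :
    act (x 0) (pnt x [1, 2, 3, 1, 2, 1]) = (pnt x [1, 0, 2, 3, 0, 2]) :=
  flip h (hx 0) (e0_35 h x hx)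

theorem e1_35 (h : Hyp S) (x : Fin 4 → G) (hx : ∀ g, x g ∈ S) :
    act (x 1) (pnt x [1, 0, 2, 3, 0, 2]) = (pnt x [1, 2, 1, 3, 2]) :=
  ded h hx (α := [0]) (β := [0, 1, 0, 1]) (p := (pnt x [1, 2, 3, 1, 2, 1]))
    (cube_rel h hx [] [] 0 1 _)
    (run_cons (e0_58 h x hx) rfl)
    (run_cons (e0_31 h x hx) (run_cons (e1_62 h x hx) (run_cons (e0_4 h x hx) (run_cons (e1_8 h x hx) rfl))))

theorem e1_31 (h : Hyp S) (x : Fin 4 → G) (hx : ∀ g, x g ∈ S) :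
    act (x 1) (pnt x [1, 2, 1, 3, 2]) = (pnt x [1, 0, 2, 3, 0, 2]) :=
  flip h (hx 1) (e1_35 h x hx)

theorem e3_32 (h : Hyp S) (x : Fin 4 → G) (hx : ∀ g, x g ∈ S) :
    act (x 3) (pnt x [2, 3, 1, 2, 1]) = (pnt x [1, 2, 3, 1, 2, 1]) :=
  ded h hx (α := [0, 3, 0, 3, 0]) (β := []) (p := (pnt x [1, 2, 3, 1, 2, 1]))
    (cube_rel h hx [] [] 0 3 _)
    (run_cons (e0_58 h x hx) (run_cons (e3_35 h x hx) (run_cons (e0_55 h x hx) (run_cons (e3_29 h x hx) (run_cons (e0_61 h x hx) rfl)))))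
    rfl

theorem e3_58 (h : Hyp S) (x : Fin 4 → G) (hx : ∀ g, x g ∈ S) :
    act (x 3) (pnt x [1, 2, 3, 1, 2, 1]) = (pnt x [2, 3, 1, 2, 1]) :=
  flip h (hx 3) (e3_32 h x hx)

theorem e1_1 (h : Hyp S) (x : Fin 4 → G) (hx : ∀ g, x g ∈ S) :
    act (x 1) (pnt x [1, 2, 3, 1, 2, 3]) = (pnt x [2, 3, 1, 2, 3]) :=
  ded h hx (α := [1, 3]) (β := [3, 1, 3]) (p := (pnt x [1, 2, 3, 1, 2, 1]))
    (cube_rel h hx [] [] 1 3 _)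
    (run_cons (e1_58 h x hx) (run_cons (e3_8 h x hx) rfl))
    (run_cons (e3_56 h x hx) (run_cons (e1_34 h x hx) (run_cons (e3_32 h x hx) rfl)))

theorem e1_56 (h : Hyp S) (x : Fin 4 → G) (hx : ∀ g, x g ∈ S) :
    act (x 1) (pnt x [2, 3, 1, 2, 3]) = (pnt x [1, 2, 3, 1, 2, 3]) :=
  flip h (hx 1) (e1_1 h x hx)

theorem e2_20 (h : Hyp S) (x : Fin 4 → G) (hx : ∀ g, x g ∈ S) :
    act (x 2) (pnt x [3, 1, 2, 3, 1]) = (pnt x [1, 2, 3, 1, 2, 3]) :=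
  ded h hx (α := [1, 2, 1]) (β := [1, 2]) (p := (pnt x [1, 0, 3, 2, 0, 3]))
    (cube_rel h hx [] [] 1 2 _)
    (run_cons (e1_46 h x hx) (run_cons (e2_38 h x hx) (run_cons (e1_64 h x hx) rfl)))
    (run_cons (e1_1 h x hx) (run_cons (e2_56 h x hx) rfl))

theorem e2_1 (h : Hyp S) (x : Fin 4 → G) (hx : ∀ g, x g ∈ S) :
    act (x 2) (pnt x [1, 2, 3, 1, 2, 3]) = (pnt x [3, 1, 2, 3, 1]) :=
  flip h (hx 2) (e2_20 h x hx)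

theorem e3_7 (h : Hyp S) (x : Fin 4 → G) (hx : ∀ g, x g ∈ S) :
    act (x 3) (pnt x [2, 1, 3, 2, 1]) = (pnt x [1, 3, 2, 1, 3, 2]) :=
  ded h hx (α := [1, 3, 1]) (β := [1, 3]) (p := (pnt x [1, 0, 2, 3, 0, 2]))
    (cube_rel h hx [] [] 1 3 _)
    (run_cons (e1_35 h x hx) (run_cons (e3_31 h x hx) (run_cons (e1_59 h x hx) rfl)))
    (run_cons (e1_2 h x hx) (run_cons (e3_55 h x hx) rfl))

theorem e3_2 (h : Hyp S) (x : Fin 4 → G) (hx : ∀ g, x g ∈ S) :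
    act (x 3) (pnt x [1, 3, 2, 1, 3, 2]) = (pnt x [2, 1, 3, 2, 1]) :=
  flip h (hx 3) (e3_7 h x hx)

theorem e2_10 (h : Hyp S) (x : Fin 4 → G) (hx : ∀ g, x g ∈ S) :
    act (x 2) (pnt x [1, 3, 2, 0, 3, 1]) = (pnt x [1, 3, 2, 1, 3, 0]) :=
  ded h hx (α := [0, 2, 1, 2, 0]) (β := [1, 2, 0, 2, 1, 2]) (p := (pnt x [1, 2, 3, 2, 1, 3]))
    (cube_rel h hx [] [2] 0 1 _)
    (run_cons (e0_65 h x hx) (run_cons (e2_46 h x hx) (run_cons (e1_56 h x hx) (run_cons (e2_1 h x hx) (run_cons (e0_20 h x hx) rfl)))))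
    (run_cons (e1_11 h x hx) (run_cons (e2_73 h x hx) (run_cons (e0_29 h x hx) (run_cons (e2_55 h x hx) (run_cons (e1_47 h x hx) (run_cons (e2_37 h x hx) rfl))))))

theorem e2_11 (h : Hyp S) (x : Fin 4 → G) (hx : ∀ g, x g ∈ S) :
    act (x 2) (pnt x [1, 3, 2, 1, 3, 0]) = (pnt x [1, 3, 2, 0, 3, 1]) :=
  flip h (hx 2) (e2_10 h x hx)

theorem e0_1 (h : Hyp S) (x : Fin 4 → G) (hx : ∀ g, x g ∈ S) :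
    act (x 0) (pnt x [1, 2, 3, 1, 2, 3]) = (pnt x [1, 3, 2, 1, 3, 2]) :=
  ded h hx (α := [0, 2, 0, 2]) (β := [2]) (p := (pnt x [1, 3, 2, 1, 3]))
    (cube_rel h hx [] [] 0 2 _)
    (run_cons (e0_19 h x hx) (run_cons (e2_11 h x hx) (run_cons (e0_10 h x hx) (run_cons (e2_20 h x hx) rfl))))
    (run_cons (e2_2 h x hx) rfl)

theorem e0_2 (h : Hyp S) (x : Fin 4 → G) (hx : ∀ g, x g ∈ S) :
    act (x 0) (pnt x [1, 3, 2, 1, 3, 2]) = (pnt x [1, 2, 3, 1, 2, 3]) :=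
  flip h (hx 0) (e0_1 h x hx)

theorem e1_28 (h : Hyp S) (x : Fin 4 → G) (hx : ∀ g, x g ∈ S) :
    act (x 1) (pnt x [1, 3, 2, 0, 3, 2]) = (pnt x [1, 2, 3, 0, 2, 3]) :=
  ded h hx (α := [0]) (β := [0, 1, 0, 1]) (p := (pnt x [2, 3, 1, 2, 3]))
    (cube_rel h hx [] [] 0 1 _)
    (run_cons (e0_56 h x hx) rfl)
    (run_cons (e0_29 h x hx) (run_cons (e1_55 h x hx) (run_cons (e0_2 h x hx) (run_cons (e1_1 h x hx) rfl))))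

theorem e1_29 (h : Hyp S) (x : Fin 4 → G) (hx : ∀ g, x g ∈ S) :
    act (x 1) (pnt x [1, 2, 3, 0, 2, 3]) = (pnt x [1, 3, 2, 0, 3, 2]) :=
  flip h (hx 1) (e1_28 h x hx)

theorem e3_4 (h : Hyp S) (x : Fin 4 → G) (hx : ∀ g, x g ∈ S) :
    act (x 3) (pnt x [1, 2, 3, 1, 2, 0]) = (pnt x [1, 2, 3, 0, 2, 1]) :=
  ded h hx (α := [0]) (β := [0, 3, 0, 3]) (p := (pnt x [1, 2, 3, 1, 2]))
    (cube_rel h hx [] [] 0 3 _)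
    (run_cons (e0_8 h x hx) rfl)
    (run_cons (e0_5 h x hx) (run_cons (e3_7 h x hx) (run_cons (e0_2 h x hx) (run_cons (e3_1 h x hx) rfl))))

theorem e3_5 (h : Hyp S) (x : Fin 4 → G) (hx : ∀ g, x g ∈ S) :
    act (x 3) (pnt x [1, 2, 3, 0, 2, 1]) = (pnt x [1, 2, 3, 1, 2, 0]) :=
  flip h (hx 3) (e3_4 h x hx)

/-- The word of each of the 81 points. -/
def word : Fin 81 → List (Fin 4)
  | ⟨0, _⟩ => []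
  | ⟨1, _⟩ => [1, 2, 3, 1, 2, 3]
  | ⟨2, _⟩ => [1, 3, 2, 1, 3, 2]
  | ⟨3, _⟩ => [3, 0]
  | ⟨4, _⟩ => [1, 2, 3, 1, 2, 0]
  | ⟨5, _⟩ => [1, 2, 3, 0, 2, 1]
  | ⟨6, _⟩ => [3]
  | ⟨7, _⟩ => [2, 1, 3, 2, 1]
  | ⟨8, _⟩ => [1, 2, 3, 1, 2]
  | ⟨9, _⟩ => [2, 0]
  | ⟨10, _⟩ => [1, 3, 2, 0, 3, 1]
  | ⟨11, _⟩ => [1, 3, 2, 1, 3, 0]
  | ⟨12, _⟩ => [2, 3, 2]
  | ⟨13, _⟩ => [1, 3, 1, 2, 1]
  | ⟨14, _⟩ => [1, 2, 1, 3, 1]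
  | ⟨15, _⟩ => [2, 3]
  | ⟨16, _⟩ => [1, 0, 2, 3, 0, 1]
  | ⟨17, _⟩ => [1, 3, 2, 1]
  | ⟨18, _⟩ => [2]
  | ⟨19, _⟩ => [1, 3, 2, 1, 3]
  | ⟨20, _⟩ => [3, 1, 2, 3, 1]
  | ⟨21, _⟩ => [3, 2]
  | ⟨22, _⟩ => [1, 2, 3, 1]
  | ⟨23, _⟩ => [1, 0, 3, 2, 0, 1]
  | ⟨24, _⟩ => [2, 0, 3]
  | ⟨25, _⟩ => [3, 1, 2, 0, 1]
  | ⟨26, _⟩ => [2, 1, 3, 0, 1]
  | ⟨27, _⟩ => [1, 0]
  | ⟨28, _⟩ => [1, 3, 2, 0, 3, 2]
  | ⟨29, _⟩ => [1, 2, 3, 0, 2, 3]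
  | ⟨30, _⟩ => [1, 3, 1]
  | ⟨31, _⟩ => [1, 2, 1, 3, 2]
  | ⟨32, _⟩ => [2, 3, 1, 2, 1]
  | ⟨33, _⟩ => [1, 3]
  | ⟨34, _⟩ => [2, 3, 1, 2]
  | ⟨35, _⟩ => [1, 0, 2, 3, 0, 2]
  | ⟨36, _⟩ => [1, 2, 1]
  | ⟨37, _⟩ => [2, 3, 2, 1, 3]
  | ⟨38, _⟩ => [1, 3, 1, 2, 3]
  | ⟨39, _⟩ => [1, 2, 3, 2]
  | ⟨40, _⟩ => [2, 1, 3, 1]
  | ⟨41, _⟩ => [3, 1, 2, 1]
  | ⟨42, _⟩ => [1, 0, 2, 3]
  | ⟨43, _⟩ => [1, 3, 2, 0]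
  | ⟨44, _⟩ => [2, 3, 1, 0]
  | ⟨45, _⟩ => [1, 2]
  | ⟨46, _⟩ => [1, 0, 3, 2, 0, 3]
  | ⟨47, _⟩ => [3, 2, 1, 3]
  | ⟨48, _⟩ => [1, 0, 3, 2]
  | ⟨49, _⟩ => [3, 2, 1, 0]
  | ⟨50, _⟩ => [1, 2, 3, 0]
  | ⟨51, _⟩ => [2, 1, 3]
  | ⟨52, _⟩ => [1, 2, 3, 2, 1]
  | ⟨53, _⟩ => [3, 1, 2]
  | ⟨54, _⟩ => [1]
  | ⟨55, _⟩ => [3, 2, 1, 3, 2]
  | ⟨56, _⟩ => [2, 3, 1, 2, 3]
  | ⟨57, _⟩ => [3, 1]
  | ⟨58, _⟩ => [1, 2, 3, 1, 2, 1]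
  | ⟨59, _⟩ => [2, 1, 3, 2]
  | ⟨60, _⟩ => [1, 0, 3]
  | ⟨61, _⟩ => [1, 2, 3, 0, 2]
  | ⟨62, _⟩ => [3, 2, 1, 0, 2]
  | ⟨63, _⟩ => [2, 1]
  | ⟨64, _⟩ => [3, 1, 2, 3]
  | ⟨65, _⟩ => [1, 2, 3, 2, 1, 3]
  | ⟨66, _⟩ => [2, 0, 3, 1]
  | ⟨67, _⟩ => [2, 1, 3, 0]
  | ⟨68, _⟩ => [3, 1, 2, 0]
  | ⟨69, _⟩ => [1, 2, 3]
  | ⟨70, _⟩ => [3, 2, 1]
  | ⟨71, _⟩ => [1, 0, 3, 2, 0]
  | ⟨72, _⟩ => [1, 0, 2]
  | ⟨73, _⟩ => [2, 3, 1, 0, 3]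
  | ⟨74, _⟩ => [1, 3, 2, 0, 3]
  | ⟨75, _⟩ => [1, 3, 2]
  | ⟨76, _⟩ => [1, 0, 2, 3, 0]
  | ⟨77, _⟩ => [2, 3, 1]
  | ⟨78, _⟩ => [1, 2, 1, 3]
  | ⟨79, _⟩ => [1, 3, 1, 2]
  | ⟨80, _⟩ => [2, 3, 2, 1]
  | ⟨n + 81, hn⟩ => absurd hn (by omega)

/-- The action of reflection 0. -/
def tab0 : Fin 81 → Fin 81
  | ⟨0, _⟩ => 0
  | ⟨1, _⟩ => 2
  | ⟨2, _⟩ => 1
  | ⟨3, _⟩ => 6
  | ⟨4, _⟩ => 8
  | ⟨5, _⟩ => 7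
  | ⟨6, _⟩ => 3
  | ⟨7, _⟩ => 5
  | ⟨8, _⟩ => 4
  | ⟨9, _⟩ => 18
  | ⟨10, _⟩ => 20
  | ⟨11, _⟩ => 19
  | ⟨12, _⟩ => 24
  | ⟨13, _⟩ => 26
  | ⟨14, _⟩ => 25
  | ⟨15, _⟩ => 21
  | ⟨16, _⟩ => 23
  | ⟨17, _⟩ => 22
  | ⟨18, _⟩ => 9
  | ⟨19, _⟩ => 11
  | ⟨20, _⟩ => 10
  | ⟨21, _⟩ => 15
  | ⟨22, _⟩ => 17
  | ⟨23, _⟩ => 16
  | ⟨24, _⟩ => 12
  | ⟨25, _⟩ => 14
  | ⟨26, _⟩ => 13
  | ⟨27, _⟩ => 54
  | ⟨28, _⟩ => 56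
  | ⟨29, _⟩ => 55
  | ⟨30, _⟩ => 60
  | ⟨31, _⟩ => 62
  | ⟨32, _⟩ => 61
  | ⟨33, _⟩ => 57
  | ⟨34, _⟩ => 59
  | ⟨35, _⟩ => 58
  | ⟨36, _⟩ => 72
  | ⟨37, _⟩ => 74
  | ⟨38, _⟩ => 73
  | ⟨39, _⟩ => 80
  | ⟨40, _⟩ => 79
  | ⟨41, _⟩ => 78
  | ⟨42, _⟩ => 76
  | ⟨43, _⟩ => 75
  | ⟨44, _⟩ => 77
  | ⟨45, _⟩ => 63
  | ⟨46, _⟩ => 65
  | ⟨47, _⟩ => 64
  | ⟨48, _⟩ => 71
  | ⟨49, _⟩ => 70
  | ⟨50, _⟩ => 69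
  | ⟨51, _⟩ => 67
  | ⟨52, _⟩ => 66
  | ⟨53, _⟩ => 68
  | ⟨54, _⟩ => 27
  | ⟨55, _⟩ => 29
  | ⟨56, _⟩ => 28
  | ⟨57, _⟩ => 33
  | ⟨58, _⟩ => 35
  | ⟨59, _⟩ => 34
  | ⟨60, _⟩ => 30
  | ⟨61, _⟩ => 32
  | ⟨62, _⟩ => 31
  | ⟨63, _⟩ => 45
  | ⟨64, _⟩ => 47
  | ⟨65, _⟩ => 46
  | ⟨66, _⟩ => 52
  | ⟨67, _⟩ => 51
  | ⟨68, _⟩ => 53
  | ⟨69, _⟩ => 50
  | ⟨70, _⟩ => 49
  | ⟨71, _⟩ => 48
  | ⟨72, _⟩ => 36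
  | ⟨73, _⟩ => 38
  | ⟨74, _⟩ => 37
  | ⟨75, _⟩ => 43
  | ⟨76, _⟩ => 42
  | ⟨77, _⟩ => 44
  | ⟨78, _⟩ => 41
  | ⟨79, _⟩ => 40
  | ⟨80, _⟩ => 39
  | ⟨n + 81, hn⟩ => absurd hn (by omega)

set_option maxRecDepth 4000 in
theorem tab0_spec (h : Hyp S) (x : Fin 4 → G) (hx : ∀ g, x g ∈ S) :
    ∀ i : Fin 81, act (x 0) (pnt x (word i)) = pnt x (word (tab0 i))
  | ⟨0, _⟩ => e0_0 h x hx
  | ⟨1, _⟩ => e0_1 h x hx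
  | ⟨2, _⟩ => e0_2 h x hx
  | ⟨3, _⟩ => e0_3 h x hx
  | ⟨4, _⟩ => e0_4 h x hx
  | ⟨5, _⟩ => e0_5 h x hx
  | ⟨6, _⟩ => e0_6 h x hx
  | ⟨7, _⟩ => e0_7 h x hx
  | ⟨8, _⟩ => e0_8 h x hx
  | ⟨9, _⟩ => e0_9 h x hx
  | ⟨10, _⟩ => e0_10 h x hx
  | ⟨11, _⟩ => e0_11 h x hx
  | ⟨12, _⟩ => e0_12 h x hx
  | ⟨13, _⟩ => e0_13 h x hx
  | ⟨14, _⟩ => e0_14 h x hx
  | ⟨15, _⟩ => e0_15 h x hx
  | ⟨16, _⟩ => e0_16 h x hx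
  | ⟨17, _⟩ => e0_17 h x hx
  | ⟨18, _⟩ => e0_18 h x hx
  | ⟨19, _⟩ => e0_19 h x hx
  | ⟨20, _⟩ => e0_20 h x hx
  | ⟨21, _⟩ => e0_21 h x hx
  | ⟨22, _⟩ => e0_22 h x hx
  | ⟨23, _⟩ => e0_23 h x hx
  | ⟨24, _⟩ => e0_24 h x hx
  | ⟨25, _⟩ => e0_25 h x hx
  | ⟨26, _⟩ => e0_26 h x hx
  | ⟨27, _⟩ => e0_27 h x hx
  | ⟨28, _⟩ => e0_28 h x hx
  | ⟨29, _⟩ => e0_29 h x hx
  | ⟨30, _⟩ => e0_30 h x hx
  | ⟨31, _⟩ => e0_31 h x hx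
  | ⟨32, _⟩ => e0_32 h x hx
  | ⟨33, _⟩ => e0_33 h x hx
  | ⟨34, _⟩ => e0_34 h x hx
  | ⟨35, _⟩ => e0_35 h x hx
  | ⟨36, _⟩ => e0_36 h x hx
  | ⟨37, _⟩ => e0_37 h x hx
  | ⟨38, _⟩ => e0_38 h x hx
  | ⟨39, _⟩ => e0_39 h x hx
  | ⟨40, _⟩ => e0_40 h x hx
  | ⟨41, _⟩ => e0_41 h x hx
  | ⟨42, _⟩ => e0_42 h x hx
  | ⟨43, _⟩ => e0_43 h x hx
  | ⟨44, _⟩ => e0_44 h x hx
  | ⟨45, _⟩ => e0_45 h x hx
  | ⟨46, _⟩ => e0_46 h x hx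
  | ⟨47, _⟩ => e0_47 h x hx
  | ⟨48, _⟩ => e0_48 h x hx
  | ⟨49, _⟩ => e0_49 h x hx
  | ⟨50, _⟩ => e0_50 h x hx
  | ⟨51, _⟩ => e0_51 h x hx
  | ⟨52, _⟩ => e0_52 h x hx
  | ⟨53, _⟩ => e0_53 h x hx
  | ⟨54, _⟩ => e0_54 h x hx
  | ⟨55, _⟩ => e0_55 h x hx
  | ⟨56, _⟩ => e0_56 h x hx
  | ⟨57, _⟩ => e0_57 h x hx
  | ⟨58, _⟩ => e0_58 h x hx
  | ⟨59, _⟩ => e0_59 h x hx
  | ⟨60, _⟩ => e0_60 h x hx
  | ⟨61, _⟩ => e0_61 h x hx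
  | ⟨62, _⟩ => e0_62 h x hx
  | ⟨63, _⟩ => e0_63 h x hx
  | ⟨64, _⟩ => e0_64 h x hx
  | ⟨65, _⟩ => e0_65 h x hx
  | ⟨66, _⟩ => e0_66 h x hx
  | ⟨67, _⟩ => e0_67 h x hx
  | ⟨68, _⟩ => e0_68 h x hx
  | ⟨69, _⟩ => e0_69 h x hx
  | ⟨70, _⟩ => e0_70 h x hx
  | ⟨71, _⟩ => e0_71 h x hx
  | ⟨72, _⟩ => e0_72 h x hx
  | ⟨73, _⟩ => e0_73 h x hx
  | ⟨74, _⟩ => e0_74 h x hx
  | ⟨75, _⟩ => e0_75 h x hx
  | ⟨76, _⟩ => e0_76 h x hx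
  | ⟨77, _⟩ => e0_77 h x hx
  | ⟨78, _⟩ => e0_78 h x hx
  | ⟨79, _⟩ => e0_79 h x hx
  | ⟨80, _⟩ => e0_80 h x hx
  | ⟨n + 81, hn⟩ => absurd hn (by omega)

/-- The fibre shift of reflection 0. -/
def shift0 : Fin 27 → ZMod 3
  | ⟨0, _⟩ => 0
  | ⟨1, _⟩ => 0
  | ⟨2, _⟩ => 0
  | ⟨3, _⟩ => 0
  | ⟨4, _⟩ => 0
  | ⟨5, _⟩ => 0
  | ⟨6, _⟩ => 0
  | ⟨7, _⟩ => 0
  | ⟨8, _⟩ => 0
  | ⟨9, _⟩ => 0
  | ⟨10, _⟩ => 0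
  | ⟨11, _⟩ => 0
  | ⟨12, _⟩ => 0
  | ⟨13, _⟩ => 2
  | ⟨14, _⟩ => 1
  | ⟨15, _⟩ => 0
  | ⟨16, _⟩ => 2
  | ⟨17, _⟩ => 1
  | ⟨18, _⟩ => 0
  | ⟨19, _⟩ => 0
  | ⟨20, _⟩ => 0
  | ⟨21, _⟩ => 0
  | ⟨22, _⟩ => 1
  | ⟨23, _⟩ => 2
  | ⟨24, _⟩ => 0
  | ⟨25, _⟩ => 1
  | ⟨26, _⟩ => 2
  | ⟨n + 27, hn⟩ => absurd hn (by omega)

/-- The action of reflection 1. -/
def tab1 : Fin 81 → Fin 81
  | ⟨0, _⟩ => 54
  | ⟨1, _⟩ => 56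
  | ⟨2, _⟩ => 55
  | ⟨3, _⟩ => 60
  | ⟨4, _⟩ => 62
  | ⟨5, _⟩ => 61
  | ⟨6, _⟩ => 57
  | ⟨7, _⟩ => 59
  | ⟨8, _⟩ => 58
  | ⟨9, _⟩ => 72
  | ⟨10, _⟩ => 74
  | ⟨11, _⟩ => 73
  | ⟨12, _⟩ => 80
  | ⟨13, _⟩ => 79
  | ⟨14, _⟩ => 78
  | ⟨15, _⟩ => 77
  | ⟨16, _⟩ => 76
  | ⟨17, _⟩ => 75
  | ⟨18, _⟩ => 63
  | ⟨19, _⟩ => 65
  | ⟨20, _⟩ => 64
  | ⟨21, _⟩ => 70
  | ⟨22, _⟩ => 69
  | ⟨23, _⟩ => 71
  | ⟨24, _⟩ => 66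
  | ⟨25, _⟩ => 68
  | ⟨26, _⟩ => 67
  | ⟨27, _⟩ => 27
  | ⟨28, _⟩ => 29
  | ⟨29, _⟩ => 28
  | ⟨30, _⟩ => 33
  | ⟨31, _⟩ => 35
  | ⟨32, _⟩ => 34
  | ⟨33, _⟩ => 30
  | ⟨34, _⟩ => 32
  | ⟨35, _⟩ => 31
  | ⟨36, _⟩ => 45
  | ⟨37, _⟩ => 47
  | ⟨38, _⟩ => 46
  | ⟨39, _⟩ => 52
  | ⟨40, _⟩ => 51
  | ⟨41, _⟩ => 53
  | ⟨42, _⟩ => 48
  | ⟨43, _⟩ => 50
  | ⟨44, _⟩ => 49
  | ⟨45, _⟩ => 36
  | ⟨46, _⟩ => 38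
  | ⟨47, _⟩ => 37
  | ⟨48, _⟩ => 42
  | ⟨49, _⟩ => 44
  | ⟨50, _⟩ => 43
  | ⟨51, _⟩ => 40
  | ⟨52, _⟩ => 39
  | ⟨53, _⟩ => 41
  | ⟨54, _⟩ => 0
  | ⟨55, _⟩ => 2
  | ⟨56, _⟩ => 1
  | ⟨57, _⟩ => 6
  | ⟨58, _⟩ => 8
  | ⟨59, _⟩ => 7
  | ⟨60, _⟩ => 3
  | ⟨61, _⟩ => 5
  | ⟨62, _⟩ => 4
  | ⟨63, _⟩ => 18
  | ⟨64, _⟩ => 20
  | ⟨65, _⟩ => 19
  | ⟨66, _⟩ => 24
  | ⟨67, _⟩ => 26
  | ⟨68, _⟩ => 25
  | ⟨69, _⟩ => 22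
  | ⟨70, _⟩ => 21
  | ⟨71, _⟩ => 23
  | ⟨72, _⟩ => 9
  | ⟨73, _⟩ => 11
  | ⟨74, _⟩ => 10
  | ⟨75, _⟩ => 17
  | ⟨76, _⟩ => 16
  | ⟨77, _⟩ => 15
  | ⟨78, _⟩ => 14
  | ⟨79, _⟩ => 13
  | ⟨80, _⟩ => 12
  | ⟨n + 81, hn⟩ => absurd hn (by omega)

set_option maxRecDepth 4000 in
theorem tab1_spec (h : Hyp S) (x : Fin 4 → G) (hx : ∀ g, x g ∈ S) :
    ∀ i : Fin 81, act (x 1) (pnt x (word i)) = pnt x (word (tab1 i))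
  | ⟨0, _⟩ => e1_0 h x hx
  | ⟨1, _⟩ => e1_1 h x hx
  | ⟨2, _⟩ => e1_2 h x hx
  | ⟨3, _⟩ => e1_3 h x hx
  | ⟨4, _⟩ => e1_4 h x hx
  | ⟨5, _⟩ => e1_5 h x hx
  | ⟨6, _⟩ => e1_6 h x hx
  | ⟨7, _⟩ => e1_7 h x hx
  | ⟨8, _⟩ => e1_8 h x hx
  | ⟨9, _⟩ => e1_9 h x hx
  | ⟨10, _⟩ => e1_10 h x hx
  | ⟨11, _⟩ => e1_11 h x hx
  | ⟨12, _⟩ => e1_12 h x hx
  | ⟨13, _⟩ => e1_13 h x hx
  | ⟨14, _⟩ => e1_14 h x hx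
  | ⟨15, _⟩ => e1_15 h x hx
  | ⟨16, _⟩ => e1_16 h x hx
  | ⟨17, _⟩ => e1_17 h x hx
  | ⟨18, _⟩ => e1_18 h x hx
  | ⟨19, _⟩ => e1_19 h x hx
  | ⟨20, _⟩ => e1_20 h x hx
  | ⟨21, _⟩ => e1_21 h x hx
  | ⟨22, _⟩ => e1_22 h x hx
  | ⟨23, _⟩ => e1_23 h x hx
  | ⟨24, _⟩ => e1_24 h x hx
  | ⟨25, _⟩ => e1_25 h x hx
  | ⟨26, _⟩ => e1_26 h x hx
  | ⟨27, _⟩ => e1_27 h x hx
  | ⟨28, _⟩ => e1_28 h x hx
  | ⟨29, _⟩ => e1_29 h x hx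
  | ⟨30, _⟩ => e1_30 h x hx
  | ⟨31, _⟩ => e1_31 h x hx
  | ⟨32, _⟩ => e1_32 h x hx
  | ⟨33, _⟩ => e1_33 h x hx
  | ⟨34, _⟩ => e1_34 h x hx
  | ⟨35, _⟩ => e1_35 h x hx
  | ⟨36, _⟩ => e1_36 h x hx
  | ⟨37, _⟩ => e1_37 h x hx
  | ⟨38, _⟩ => e1_38 h x hx
  | ⟨39, _⟩ => e1_39 h x hx
  | ⟨40, _⟩ => e1_40 h x hx
  | ⟨41, _⟩ => e1_41 h x hx
  | ⟨42, _⟩ => e1_42 h x hx
  | ⟨43, _⟩ => e1_43 h x hx
  | ⟨44, _⟩ => e1_44 h x hx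
  | ⟨45, _⟩ => e1_45 h x hx
  | ⟨46, _⟩ => e1_46 h x hx
  | ⟨47, _⟩ => e1_47 h x hx
  | ⟨48, _⟩ => e1_48 h x hx
  | ⟨49, _⟩ => e1_49 h x hx
  | ⟨50, _⟩ => e1_50 h x hx
  | ⟨51, _⟩ => e1_51 h x hx
  | ⟨52, _⟩ => e1_52 h x hx
  | ⟨53, _⟩ => e1_53 h x hx
  | ⟨54, _⟩ => e1_54 h x hx
  | ⟨55, _⟩ => e1_55 h x hx
  | ⟨56, _⟩ => e1_56 h x hx
  | ⟨57, _⟩ => e1_57 h x hx
  | ⟨58, _⟩ => e1_58 h x hx
  | ⟨59, _⟩ => e1_59 h x hx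
  | ⟨60, _⟩ => e1_60 h x hx
  | ⟨61, _⟩ => e1_61 h x hx
  | ⟨62, _⟩ => e1_62 h x hx
  | ⟨63, _⟩ => e1_63 h x hx
  | ⟨64, _⟩ => e1_64 h x hx
  | ⟨65, _⟩ => e1_65 h x hx
  | ⟨66, _⟩ => e1_66 h x hx
  | ⟨67, _⟩ => e1_67 h x hx
  | ⟨68, _⟩ => e1_68 h x hx
  | ⟨69, _⟩ => e1_69 h x hx
  | ⟨70, _⟩ => e1_70 h x hx
  | ⟨71, _⟩ => e1_71 h x hx
  | ⟨72, _⟩ => e1_72 h x hx
  | ⟨73, _⟩ => e1_73 h x hx
  | ⟨74, _⟩ => e1_74 h x hx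
  | ⟨75, _⟩ => e1_75 h x hx
  | ⟨76, _⟩ => e1_76 h x hx
  | ⟨77, _⟩ => e1_77 h x hx
  | ⟨78, _⟩ => e1_78 h x hx
  | ⟨79, _⟩ => e1_79 h x hx
  | ⟨80, _⟩ => e1_80 h x hx
  | ⟨n + 81, hn⟩ => absurd hn (by omega)

/-- The fibre shift of reflection 1. -/
def shift1 : Fin 27 → ZMod 3
  | ⟨0, _⟩ => 0
  | ⟨1, _⟩ => 0
  | ⟨2, _⟩ => 0
  | ⟨3, _⟩ => 0
  | ⟨4, _⟩ => 2
  | ⟨5, _⟩ => 2
  | ⟨6, _⟩ => 0
  | ⟨7, _⟩ => 1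
  | ⟨8, _⟩ => 0
  | ⟨9, _⟩ => 0
  | ⟨10, _⟩ => 0
  | ⟨11, _⟩ => 0
  | ⟨12, _⟩ => 0
  | ⟨13, _⟩ => 1
  | ⟨14, _⟩ => 0
  | ⟨15, _⟩ => 0
  | ⟨16, _⟩ => 0
  | ⟨17, _⟩ => 1
  | ⟨18, _⟩ => 0
  | ⟨19, _⟩ => 0
  | ⟨20, _⟩ => 0
  | ⟨21, _⟩ => 0
  | ⟨22, _⟩ => 0
  | ⟨23, _⟩ => 1
  | ⟨24, _⟩ => 0
  | ⟨25, _⟩ => 2
  | ⟨26, _⟩ => 2
  | ⟨n + 27, hn⟩ => absurd hn (by omega)

/-- The action of reflection 2. -/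
def tab2 : Fin 81 → Fin 81
  | ⟨0, _⟩ => 18
  | ⟨1, _⟩ => 20
  | ⟨2, _⟩ => 19
  | ⟨3, _⟩ => 24
  | ⟨4, _⟩ => 26
  | ⟨5, _⟩ => 25
  | ⟨6, _⟩ => 21
  | ⟨7, _⟩ => 23
  | ⟨8, _⟩ => 22
  | ⟨9, _⟩ => 9
  | ⟨10, _⟩ => 11
  | ⟨11, _⟩ => 10
  | ⟨12, _⟩ => 15
  | ⟨13, _⟩ => 17
  | ⟨14, _⟩ => 16
  | ⟨15, _⟩ => 12
  | ⟨16, _⟩ => 14
  | ⟨17, _⟩ => 13
  | ⟨18, _⟩ => 0
  | ⟨19, _⟩ => 2
  | ⟨20, _⟩ => 1
  | ⟨21, _⟩ => 6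
  | ⟨22, _⟩ => 8
  | ⟨23, _⟩ => 7
  | ⟨24, _⟩ => 3
  | ⟨25, _⟩ => 5
  | ⟨26, _⟩ => 4
  | ⟨27, _⟩ => 72
  | ⟨28, _⟩ => 74
  | ⟨29, _⟩ => 73
  | ⟨30, _⟩ => 79
  | ⟨31, _⟩ => 78
  | ⟨32, _⟩ => 80
  | ⟨33, _⟩ => 75
  | ⟨34, _⟩ => 77
  | ⟨35, _⟩ => 76
  | ⟨36, _⟩ => 63
  | ⟨37, _⟩ => 65
  | ⟨38, _⟩ => 64
  | ⟨39, _⟩ => 69
  | ⟨40, _⟩ => 71
  | ⟨41, _⟩ => 70
  | ⟨42, _⟩ => 66
  | ⟨43, _⟩ => 68
  | ⟨44, _⟩ => 67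
  | ⟨45, _⟩ => 54
  | ⟨46, _⟩ => 56
  | ⟨47, _⟩ => 55
  | ⟨48, _⟩ => 60
  | ⟨49, _⟩ => 62
  | ⟨50, _⟩ => 61
  | ⟨51, _⟩ => 59
  | ⟨52, _⟩ => 58
  | ⟨53, _⟩ => 57
  | ⟨54, _⟩ => 45
  | ⟨55, _⟩ => 47
  | ⟨56, _⟩ => 46
  | ⟨57, _⟩ => 53
  | ⟨58, _⟩ => 52
  | ⟨59, _⟩ => 51
  | ⟨60, _⟩ => 48
  | ⟨61, _⟩ => 50
  | ⟨62, _⟩ => 49
  | ⟨63, _⟩ => 36
  | ⟨64, _⟩ => 38
  | ⟨65, _⟩ => 37
  | ⟨66, _⟩ => 42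
  | ⟨67, _⟩ => 44
  | ⟨68, _⟩ => 43
  | ⟨69, _⟩ => 39
  | ⟨70, _⟩ => 41
  | ⟨71, _⟩ => 40
  | ⟨72, _⟩ => 27
  | ⟨73, _⟩ => 29
  | ⟨74, _⟩ => 28
  | ⟨75, _⟩ => 33
  | ⟨76, _⟩ => 35
  | ⟨77, _⟩ => 34
  | ⟨78, _⟩ => 31
  | ⟨79, _⟩ => 30
  | ⟨80, _⟩ => 32
  | ⟨n + 81, hn⟩ => absurd hn (by omega)

set_option maxRecDepth 4000 in
theorem tab2_spec (h : Hyp S) (x : Fin 4 → G) (hx : ∀ g, x g ∈ S) :
    ∀ i : Fin 81, act (x 2) (pnt x (word i)) = pnt x (word (tab2 i))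
  | ⟨0, _⟩ => e2_0 h x hx
  | ⟨1, _⟩ => e2_1 h x hx
  | ⟨2, _⟩ => e2_2 h x hx
  | ⟨3, _⟩ => e2_3 h x hx
  | ⟨4, _⟩ => e2_4 h x hx
  | ⟨5, _⟩ => e2_5 h x hx
  | ⟨6, _⟩ => e2_6 h x hx
  | ⟨7, _⟩ => e2_7 h x hx
  | ⟨8, _⟩ => e2_8 h x hx
  | ⟨9, _⟩ => e2_9 h x hx
  | ⟨10, _⟩ => e2_10 h x hx
  | ⟨11, _⟩ => e2_11 h x hx
  | ⟨12, _⟩ => e2_12 h x hx
  | ⟨13, _⟩ => e2_13 h x hx
  | ⟨14, _⟩ => e2_14 h x hx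
  | ⟨15, _⟩ => e2_15 h x hx
  | ⟨16, _⟩ => e2_16 h x hx
  | ⟨17, _⟩ => e2_17 h x hx
  | ⟨18, _⟩ => e2_18 h x hx
  | ⟨19, _⟩ => e2_19 h x hx
  | ⟨20, _⟩ => e2_20 h x hx
  | ⟨21, _⟩ => e2_21 h x hx
  | ⟨22, _⟩ => e2_22 h x hx
  | ⟨23, _⟩ => e2_23 h x hx
  | ⟨24, _⟩ => e2_24 h x hx
  | ⟨25, _⟩ => e2_25 h x hx
  | ⟨26, _⟩ => e2_26 h x hx
  | ⟨27, _⟩ => e2_27 h x hx
  | ⟨28, _⟩ => e2_28 h x hx
  | ⟨29, _⟩ => e2_29 h x hx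
  | ⟨30, _⟩ => e2_30 h x hx
  | ⟨31, _⟩ => e2_31 h x hx
  | ⟨32, _⟩ => e2_32 h x hx
  | ⟨33, _⟩ => e2_33 h x hx
  | ⟨34, _⟩ => e2_34 h x hx
  | ⟨35, _⟩ => e2_35 h x hx
  | ⟨36, _⟩ => e2_36 h x hx
  | ⟨37, _⟩ => e2_37 h x hx
  | ⟨38, _⟩ => e2_38 h x hx
  | ⟨39, _⟩ => e2_39 h x hx
  | ⟨40, _⟩ => e2_40 h x hx
  | ⟨41, _⟩ => e2_41 h x hx
  | ⟨42, _⟩ => e2_42 h x hx
  | ⟨43, _⟩ => e2_43 h x hx
  | ⟨44, _⟩ => e2_44 h x hx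
  | ⟨45, _⟩ => e2_45 h x hx
  | ⟨46, _⟩ => e2_46 h x hx
  | ⟨47, _⟩ => e2_47 h x hx
  | ⟨48, _⟩ => e2_48 h x hx
  | ⟨49, _⟩ => e2_49 h x hx
  | ⟨50, _⟩ => e2_50 h x hx
  | ⟨51, _⟩ => e2_51 h x hx
  | ⟨52, _⟩ => e2_52 h x hx
  | ⟨53, _⟩ => e2_53 h x hx
  | ⟨54, _⟩ => e2_54 h x hx
  | ⟨55, _⟩ => e2_55 h x hx
  | ⟨56, _⟩ => e2_56 h x hx
  | ⟨57, _⟩ => e2_57 h x hx
  | ⟨58, _⟩ => e2_58 h x hx
  | ⟨59, _⟩ => e2_59 h x hx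
  | ⟨60, _⟩ => e2_60 h x hx
  | ⟨61, _⟩ => e2_61 h x hx
  | ⟨62, _⟩ => e2_62 h x hx
  | ⟨63, _⟩ => e2_63 h x hx
  | ⟨64, _⟩ => e2_64 h x hx
  | ⟨65, _⟩ => e2_65 h x hx
  | ⟨66, _⟩ => e2_66 h x hx
  | ⟨67, _⟩ => e2_67 h x hx
  | ⟨68, _⟩ => e2_68 h x hx
  | ⟨69, _⟩ => e2_69 h x hx
  | ⟨70, _⟩ => e2_70 h x hx
  | ⟨71, _⟩ => e2_71 h x hx
  | ⟨72, _⟩ => e2_72 h x hx
  | ⟨73, _⟩ => e2_73 h x hx
  | ⟨74, _⟩ => e2_74 h x hx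
  | ⟨75, _⟩ => e2_75 h x hx
  | ⟨76, _⟩ => e2_76 h x hx
  | ⟨77, _⟩ => e2_77 h x hx
  | ⟨78, _⟩ => e2_78 h x hx
  | ⟨79, _⟩ => e2_79 h x hx
  | ⟨80, _⟩ => e2_80 h x hx
  | ⟨n + 81, hn⟩ => absurd hn (by omega)

/-- The fibre shift of reflection 2. -/
def shift2 : Fin 27 → ZMod 3
  | ⟨0, _⟩ => 0
  | ⟨1, _⟩ => 0
  | ⟨2, _⟩ => 0
  | ⟨3, _⟩ => 0
  | ⟨4, _⟩ => 0
  | ⟨5, _⟩ => 0
  | ⟨6, _⟩ => 0
  | ⟨7, _⟩ => 0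
  | ⟨8, _⟩ => 0
  | ⟨9, _⟩ => 0
  | ⟨10, _⟩ => 1
  | ⟨11, _⟩ => 0
  | ⟨12, _⟩ => 0
  | ⟨13, _⟩ => 0
  | ⟨14, _⟩ => 0
  | ⟨15, _⟩ => 0
  | ⟨16, _⟩ => 0
  | ⟨17, _⟩ => 2
  | ⟨18, _⟩ => 0
  | ⟨19, _⟩ => 2
  | ⟨20, _⟩ => 0
  | ⟨21, _⟩ => 0
  | ⟨22, _⟩ => 0
  | ⟨23, _⟩ => 0
  | ⟨24, _⟩ => 0
  | ⟨25, _⟩ => 0
  | ⟨26, _⟩ => 1
  | ⟨n + 27, hn⟩ => absurd hn (by omega)

/-- The action of reflection 3. -/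
def tab3 : Fin 81 → Fin 81
  | ⟨0, _⟩ => 6
  | ⟨1, _⟩ => 8
  | ⟨2, _⟩ => 7
  | ⟨3, _⟩ => 3
  | ⟨4, _⟩ => 5
  | ⟨5, _⟩ => 4
  | ⟨6, _⟩ => 0
  | ⟨7, _⟩ => 2
  | ⟨8, _⟩ => 1
  | ⟨9, _⟩ => 24
  | ⟨10, _⟩ => 26
  | ⟨11, _⟩ => 25
  | ⟨12, _⟩ => 21
  | ⟨13, _⟩ => 23
  | ⟨14, _⟩ => 22
  | ⟨15, _⟩ => 18
  | ⟨16, _⟩ => 20
  | ⟨17, _⟩ => 19
  | ⟨18, _⟩ => 15
  | ⟨19, _⟩ => 17
  | ⟨20, _⟩ => 16
  | ⟨21, _⟩ => 12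
  | ⟨22, _⟩ => 14
  | ⟨23, _⟩ => 13
  | ⟨24, _⟩ => 9
  | ⟨25, _⟩ => 11
  | ⟨26, _⟩ => 10
  | ⟨27, _⟩ => 60
  | ⟨28, _⟩ => 62
  | ⟨29, _⟩ => 61
  | ⟨30, _⟩ => 57
  | ⟨31, _⟩ => 59
  | ⟨32, _⟩ => 58
  | ⟨33, _⟩ => 54
  | ⟨34, _⟩ => 56
  | ⟨35, _⟩ => 55
  | ⟨36, _⟩ => 78
  | ⟨37, _⟩ => 80
  | ⟨38, _⟩ => 79
  | ⟨39, _⟩ => 75
  | ⟨40, _⟩ => 77
  | ⟨41, _⟩ => 76
  | ⟨42, _⟩ => 72
  | ⟨43, _⟩ => 74
  | ⟨44, _⟩ => 73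
  | ⟨45, _⟩ => 69
  | ⟨46, _⟩ => 71
  | ⟨47, _⟩ => 70
  | ⟨48, _⟩ => 66
  | ⟨49, _⟩ => 68
  | ⟨50, _⟩ => 67
  | ⟨51, _⟩ => 63
  | ⟨52, _⟩ => 65
  | ⟨53, _⟩ => 64
  | ⟨54, _⟩ => 33
  | ⟨55, _⟩ => 35
  | ⟨56, _⟩ => 34
  | ⟨57, _⟩ => 30
  | ⟨58, _⟩ => 32
  | ⟨59, _⟩ => 31
  | ⟨60, _⟩ => 27
  | ⟨61, _⟩ => 29
  | ⟨62, _⟩ => 28
  | ⟨63, _⟩ => 51
  | ⟨64, _⟩ => 53
  | ⟨65, _⟩ => 52
  | ⟨66, _⟩ => 48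
  | ⟨67, _⟩ => 50
  | ⟨68, _⟩ => 49
  | ⟨69, _⟩ => 45
  | ⟨70, _⟩ => 47
  | ⟨71, _⟩ => 46
  | ⟨72, _⟩ => 42
  | ⟨73, _⟩ => 44
  | ⟨74, _⟩ => 43
  | ⟨75, _⟩ => 39
  | ⟨76, _⟩ => 41
  | ⟨77, _⟩ => 40
  | ⟨78, _⟩ => 36
  | ⟨79, _⟩ => 38
  | ⟨80, _⟩ => 37
  | ⟨n + 81, hn⟩ => absurd hn (by omega)

set_option maxRecDepth 4000 in
theorem tab3_spec (h : Hyp S) (x : Fin 4 → G) (hx : ∀ g, x g ∈ S) :
    ∀ i : Fin 81, act (x 3) (pnt x (word i)) = pnt x (word (tab3 i))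
  | ⟨0, _⟩ => e3_0 h x hx
  | ⟨1, _⟩ => e3_1 h x hx
  | ⟨2, _⟩ => e3_2 h x hx
  | ⟨3, _⟩ => e3_3 h x hx
  | ⟨4, _⟩ => e3_4 h x hx
  | ⟨5, _⟩ => e3_5 h x hx
  | ⟨6, _⟩ => e3_6 h x hx
  | ⟨7, _⟩ => e3_7 h x hx
  | ⟨8, _⟩ => e3_8 h x hx
  | ⟨9, _⟩ => e3_9 h x hx
  | ⟨10, _⟩ => e3_10 h x hx
  | ⟨11, _⟩ => e3_11 h x hx
  | ⟨12, _⟩ => e3_12 h x hx
  | ⟨13, _⟩ => e3_13 h x hx
  | ⟨14, _⟩ => e3_14 h x hx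
  | ⟨15, _⟩ => e3_15 h x hx
  | ⟨16, _⟩ => e3_16 h x hx
  | ⟨17, _⟩ => e3_17 h x hx
  | ⟨18, _⟩ => e3_18 h x hx
  | ⟨19, _⟩ => e3_19 h x hx
  | ⟨20, _⟩ => e3_20 h x hx
  | ⟨21, _⟩ => e3_21 h x hx
  | ⟨22, _⟩ => e3_22 h x hx
  | ⟨23, _⟩ => e3_23 h x hx
  | ⟨24, _⟩ => e3_24 h x hx
  | ⟨25, _⟩ => e3_25 h x hx
  | ⟨26, _⟩ => e3_26 h x hx
  | ⟨27, _⟩ => e3_27 h x hx
  | ⟨28, _⟩ => e3_28 h x hx
  | ⟨29, _⟩ => e3_29 h x hx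
  | ⟨30, _⟩ => e3_30 h x hx
  | ⟨31, _⟩ => e3_31 h x hx
  | ⟨32, _⟩ => e3_32 h x hx
  | ⟨33, _⟩ => e3_33 h x hx
  | ⟨34, _⟩ => e3_34 h x hx
  | ⟨35, _⟩ => e3_35 h x hx
  | ⟨36, _⟩ => e3_36 h x hx
  | ⟨37, _⟩ => e3_37 h x hx
  | ⟨38, _⟩ => e3_38 h x hx
  | ⟨39, _⟩ => e3_39 h x hx
  | ⟨40, _⟩ => e3_40 h x hx
  | ⟨41, _⟩ => e3_41 h x hx
  | ⟨42, _⟩ => e3_42 h x hx
  | ⟨43, _⟩ => e3_43 h x hx
  | ⟨44, _⟩ => e3_44 h x hx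
  | ⟨45, _⟩ => e3_45 h x hx
  | ⟨46, _⟩ => e3_46 h x hx
  | ⟨47, _⟩ => e3_47 h x hx
  | ⟨48, _⟩ => e3_48 h x hx
  | ⟨49, _⟩ => e3_49 h x hx
  | ⟨50, _⟩ => e3_50 h x hx
  | ⟨51, _⟩ => e3_51 h x hx
  | ⟨52, _⟩ => e3_52 h x hx
  | ⟨53, _⟩ => e3_53 h x hx
  | ⟨54, _⟩ => e3_54 h x hx
  | ⟨55, _⟩ => e3_55 h x hx
  | ⟨56, _⟩ => e3_56 h x hx
  | ⟨57, _⟩ => e3_57 h x hx
  | ⟨58, _⟩ => e3_58 h x hx
  | ⟨59, _⟩ => e3_59 h x hx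
  | ⟨60, _⟩ => e3_60 h x hx
  | ⟨61, _⟩ => e3_61 h x hx
  | ⟨62, _⟩ => e3_62 h x hx
  | ⟨63, _⟩ => e3_63 h x hx
  | ⟨64, _⟩ => e3_64 h x hx
  | ⟨65, _⟩ => e3_65 h x hx
  | ⟨66, _⟩ => e3_66 h x hx
  | ⟨67, _⟩ => e3_67 h x hx
  | ⟨68, _⟩ => e3_68 h x hx
  | ⟨69, _⟩ => e3_69 h x hx
  | ⟨70, _⟩ => e3_70 h x hx
  | ⟨71, _⟩ => e3_71 h x hx
  | ⟨72, _⟩ => e3_72 h x hx
  | ⟨73, _⟩ => e3_73 h x hx
  | ⟨74, _⟩ => e3_74 h x hx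
  | ⟨75, _⟩ => e3_75 h x hx
  | ⟨76, _⟩ => e3_76 h x hx
  | ⟨77, _⟩ => e3_77 h x hx
  | ⟨78, _⟩ => e3_78 h x hx
  | ⟨79, _⟩ => e3_79 h x hx
  | ⟨80, _⟩ => e3_80 h x hx
  | ⟨n + 81, hn⟩ => absurd hn (by omega)

/-- The fibre shift of reflection 3. -/
def shift3 : Fin 27 → ZMod 3
  | ⟨0, _⟩ => 0
  | ⟨1, _⟩ => 0
  | ⟨2, _⟩ => 0
  | ⟨3, _⟩ => 0
  | ⟨4, _⟩ => 0
  | ⟨5, _⟩ => 0
  | ⟨6, _⟩ => 0
  | ⟨7, _⟩ => 0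
  | ⟨8, _⟩ => 0
  | ⟨9, _⟩ => 0
  | ⟨10, _⟩ => 0
  | ⟨11, _⟩ => 0
  | ⟨12, _⟩ => 0
  | ⟨13, _⟩ => 0
  | ⟨14, _⟩ => 0
  | ⟨15, _⟩ => 0
  | ⟨16, _⟩ => 0
  | ⟨17, _⟩ => 0
  | ⟨18, _⟩ => 0
  | ⟨19, _⟩ => 0
  | ⟨20, _⟩ => 0
  | ⟨21, _⟩ => 0
  | ⟨22, _⟩ => 0
  | ⟨23, _⟩ => 0
  | ⟨24, _⟩ => 0
  | ⟨25, _⟩ => 0
  | ⟨26, _⟩ => 0
  | ⟨n + 27, hn⟩ => absurd hn (by omega)

/-- The action of the four reflections on the 81 points. -/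
def tab : Fin 4 → Fin 81 → Fin 81
  | 0 => tab0
  | 1 => tab1
  | 2 => tab2
  | 3 => tab3

/-- The fibre shifts of the four reflections. -/
def shift : Fin 4 → Fin 27 → ZMod 3
  | 0 => shift0
  | 1 => shift1
  | 2 => shift2
  | 3 => shift3

theorem tab_spec (h : Hyp S) (x : Fin 4 → G) (hx : ∀ g, x g ∈ S) :
    ∀ (g : Fin 4) (i : Fin 81), act (x g) (pnt x (word i)) = pnt x (word (tab g i))
  | 0 => tab0_spec h x hx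
  | 1 => tab1_spec h x hx
  | 2 => tab2_spec h x hx
  | 3 => tab3_spec h x hx

/-- The index of each of the four points. -/
def base : Fin 4 → Fin 81
  | 0 => 0
  | 1 => 27
  | 2 => 9
  | 3 => 3

theorem base_spec (h : Hyp S) (x : Fin 4 → G) (hx : ∀ g, x g ∈ S) :
    ∀ g : Fin 4, pnt x (word (base g)) = x g
  | 0 => rfl
  | 1 => braid h (hx 0) (hx 1)
  | 2 => braid h (hx 0) (hx 2)
  | 3 => braid h (hx 0) (hx 3)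

end Cfsg.Agent.WidthOne
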