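import Cfsg.Agent.Lib.BrauerReynolds7Base
import Cfsg.Agent.S0713
import Cfsg.Agent.S3559

/-!
# Primitive groups of degree `2 p`: the Sylow subgroup
-/

set_option autoImplicit false

open MulAction

namespace Cfsg.Agent.WielandtTwoP7

open Cfsg Cfsg.Agent.DefectOneSign7

attribute [local instance] Classical.propDecidable

universe u v

variable {G : Type u} [Group G] {α : Type v} [Fintype α] [MulAction G α]

/-- Elements of order `p` fix no point when there is no `p`-cycle. -/
theorem fixed_free {β : Type v} [Fintype β] [DecidableEq β] {p : ℕ} (hp : p.Prime) (hp3 : 3 ≤ p)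
    (hβ : Fintype.card β = 2 * p) (H : Subgroup (Equiv.Perm β))
    (hprim : IsPreprimitive H β) (hnot : ¬ IsMultiplyPretransitive H β 2)
    {g : Equiv.Perm β} (hg : g ∈ H) (hgp : orderOf g = p) (x : β) : g x ≠ x := by
  intro hx
  haveI := Fact.mk hp
  have hs1 : p ∣ g.support.card := by
    rw [← Equiv.Perm.sum_cycleType]
    refine Multiset.dvd_sum fun n hn => ?_
    have := Equiv.Perm.dvd_of_mem_cycleType hn
    rw [hgp] at this
    rcases (Nat.dvd_prime hp).1 this with h | h
    · exact absurd (Equiv.Perm.two_le_of_mem_cycleType hn) (by omega)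
    · exact dvd_of_eq h.symm
  have hs2 : g.support.card < 2 * p := by
    rw [← hβ]
    exact Finset.card_lt_univ_of_notMem (x := x) (by simp [hx])
  have hs3 : g.support.card ≠ 0 := by
    intro h
    rw [Finset.card_eq_zero, Equiv.Perm.support_eq_empty_iff] at h
    rw [h, orderOf_one] at hgp
    exact hp.ne_one hgp.symm
  have hs4 : g.support.card = p := by
    obtain ⟨k, hk⟩ := hs1
    rw [hk] at hs2 hs3
    rw [mul_comm 2 p] at hs2
    have := Nat.lt_of_mul_lt_mul_left hs2
    rcases k with _ | _ | k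
    · simp at hs3
    · rw [hk, zero_add, mul_one]
    · omega
  have hcyc : g.IsCycle :=
    Equiv.Perm.isCycle_of_prime_order (hgp.symm ▸ hp) (by rw [hs4, hgp]; omega)
  have hA : alternatingGroup β ≤ H :=
    Cfsg.Agent.S0713.result H hprim hp (by omega) (by omega) hcyc hs4 hg
  apply hnot
  haveI h1 : IsMultiplyPretransitive (alternatingGroup β) β (Nat.card β - 2) :=
    alternatingGroup.isMultiplyPretransitive β
  haveI h2 : IsMultiplyPretransitive (alternatingGroup β) β 2 :=
    MulAction.isMultiplyPretransitive_of_le (n := Nat.card β - 2)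
      (by rw [Nat.card_eq_fintype_card]; omega) (by simp)
  rw [MulAction.is_two_pretransitive_iff] at h2 ⊢
  intro a b c d hab hcd
  obtain ⟨k, hk1, hk2⟩ := h2 hab hcd
  exact ⟨⟨k, hA k.2⟩, hk1, hk2⟩

variable [Finite G] {p : ℕ} [Fact p.Prime]

/-- The Sylow subgroup has order `p`. -/
theorem card_sylow [IsPretransitive G α] (hα : Fintype.card α = 2 * p) (hp3 : 3 ≤ p)
    (hfree : ∀ g : G, orderOf g = p → ∀ x : α, g • x ≠ x) (P : Sylow p G) : Nat.card P = p := by
  have hp := (Fact.out : p.Prime)
  obtain ⟨a⟩ : Nonempty α := Fintype.card_pos_iff.1 (by omega)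
  have hdvd : p ∣ Nat.card G := by
    have h1 := MulAction.index_stabilizer_of_transitive (G := G) a
    rw [Nat.card_eq_fintype_card, hα] at h1
    exact (Dvd.intro_left 2 h1.symm).trans (Subgroup.index_dvd_card _)
  obtain ⟨k, hk⟩ := IsPGroup.iff_card.1 P.isPGroup'
  have hk1 : p ≤ Nat.card P := Nat.le_of_dvd Nat.card_pos (P.dvd_card_of_dvd_card hdvd)
  rcases Nat.lt_or_ge k 2 with h | h
  · rw [hk] at hk1
    rcases k with _ | _ | k
    · simp at hk1; have := hp.two_le; omega
    · rw [hk, zero_add, pow_one]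
    · omega
  exfalso
  have horb : Nat.card (orbit (P : Subgroup G) a) ≤ 2 * p := by
    rw [← hα, ← Nat.card_eq_fintype_card]
    exact Nat.card_le_card_of_injective _ Subtype.val_injective
  have hst : Nat.card (orbit (P : Subgroup G) a) * Nat.card (stabilizer (P : Subgroup G) a) =
      Nat.card (P : Subgroup G) := by
    rw [← (stabilizer (P : Subgroup G) a).card_mul_index, MulAction.index_stabilizer, mul_comm,
      Nat.card_coe_set_eq]
  have hne : Nat.card (stabilizer (P : Subgroup G) a) ≠ 1 := by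
    intro h1
    rw [h1, mul_one, hk] at hst
    have h2 : p * p ≤ p ^ k := by rw [← sq]; exact Nat.pow_le_pow_right hp.pos h
    nlinarith
  haveI : Nontrivial (stabilizer (P : Subgroup G) a) :=
    Finite.one_lt_card_iff_nontrivial.1 (by have := Nat.card_pos (α := stabilizer (P : Subgroup G) a); omega)
  obtain ⟨⟨⟨u, huP⟩, hu⟩, hu1⟩ := exists_ne (1 : stabilizer (P : Subgroup G) a)
  have hu1' : u ≠ 1 := fun h => hu1 (Subtype.ext (Subtype.ext h))
  obtain ⟨j, hj⟩ : ∃ j, orderOf u = p ^ j := by
    obtain ⟨j, hj⟩ := IsPGroup.iff_orderOf.1 P.isPGroup' ⟨u, huP⟩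
    exact ⟨j, by rwa [Subgroup.orderOf_mk] at hj⟩
  have hj0 : j ≠ 0 := by
    rintro rfl
    rw [pow_zero, orderOf_eq_one_iff] at hj
    exact hu1' hj
  obtain ⟨i, rfl⟩ : ∃ i, j = i + 1 := ⟨j - 1, by omega⟩
  refine hfree (u ^ p ^ i) ?_ a ?_
  · rw [orderOf_pow' _ (pow_ne_zero _ hp.ne_zero), hj, Nat.gcd_eq_right (pow_dvd_pow p (by omega)),
      pow_succ, Nat.mul_div_cancel_left _ (pow_pos hp.pos i)]
  · exact (stabilizer G a).pow_mem (show u ∈ stabilizer G a from hu) _

/-- A group of order `p` acting without fixed points on `2 p` points has two orbits. -/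
theorem orbit_card (hfree : ∀ g : G, orderOf g = p → ∀ x : α, g • x ≠ x) {y : G}
    (hy : orderOf y = p) (x : α) {i j : ℕ} (hi : i < p) (hj : j < p)
    (h : y ^ i • x = y ^ j • x) : i = j := by
  wlog hij : i ≤ j generalizing i j
  · exact (this hj hi h.symm (by omega)).symm
  by_contra hne
  have h1 : y ^ (j - i) • x = x := by
    have h2 : y ^ i • y ^ (j - i) • x = y ^ i • x := by
      rw [← mul_smul, ← pow_add, Nat.add_sub_cancel' hij, h]
    exact smul_left_cancel _ h2
  refine hfree (y ^ (j - i)) ?_ x h1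
  have hcop : Nat.Coprime (orderOf y) (j - i) := by
    rw [hy]
    exact (Fact.out : p.Prime).coprime_iff_not_dvd.2 fun hd => by
      have := Nat.le_of_dvd (by omega) hd; omega
  rw [hcop.orderOf_pow, hy]

/-- The Sylow subgroup is self-centralizing. -/
theorem centralizer_eq [FaithfulSMul G α] [IsPreprimitive G α] (hα : Fintype.card α = 2 * p)
    (hp3 : 3 ≤ p) (hnot : ¬ IsMultiplyPretransitive G α 2)
    (hfree : ∀ g : G, orderOf g = p → ∀ x : α, g • x ≠ x) (P : Sylow p G) (hP : Nat.card P = p) :
    Subgroup.centralizer ((P : Subgroup G) : Set G) = (P : Subgroup G) := by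
  haveI := Fintype.ofFinite G
  have hp := (Fact.out : p.Prime)
  obtain ⟨U, -, hUc, hUmem⟩ := exists_regular_part P hP
  obtain ⟨y, hy⟩ := BrauerReynolds7.exists_mem_Ps hP
  have hyo := BrauerReynolds7.orderOf_mem hP hy
  obtain ⟨hyP, hy1⟩ := BrauerReynolds7.mem_Ps.1 hy
  -- a regular element centralizing `y` and mapping a point into its own orbit fixes it
  have hsame : ∀ u : G, Commute u y → ¬ p ∣ orderOf u → ∀ (x : α) (i : ℕ), u • x = y ^ i • x →
      u • x = x := by
    intro u hu hur x i hx
    have hn : ∀ n : ℕ, u ^ n • x = y ^ (i * n) • x := by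
      intro n
      induction n with
      | zero => simp
      | succ n ih =>
        rw [pow_succ', mul_smul, ih, ← mul_smul, (hu.pow_right (i * n)).eq, mul_smul, hx, ← mul_smul,
          ← pow_add, Nat.mul_succ]
    have h1 := hn (orderOf u)
    rw [pow_orderOf_eq_one, one_smul, ← pow_mod_orderOf, hyo] at h1
    have h2 : i * orderOf u % p = 0 :=
      (orbit_card (α := α) hfree hyo x hp.pos (Nat.mod_lt _ hp.pos)
        (by rw [pow_zero, one_smul]; exact h1)).symm
    obtain ⟨c, hc⟩ := (hp.dvd_mul.1 (Nat.dvd_of_mod_eq_zero h2)).resolve_right hur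
    rw [hx, hc, pow_mul, ← hyo, pow_orderOf_eq_one, one_pow, one_smul]
  -- the `y`-orbit of `x` and that of a point outside cover everything
  have hcover : ∀ x x' : α, (∀ i : ℕ, x' ≠ y ^ i • x) → ∀ z : α,
      (∃ i : ℕ, i < p ∧ z = y ^ i • x) ∨ ∃ i : ℕ, i < p ∧ z = y ^ i • x' := by
    intro x x' hne z
    set s₁ := (Finset.range p).image fun i => y ^ i • x with hs₁
    set s₂ := (Finset.range p).image fun i => y ^ i • x' with hs₂
    have hc : ∀ w : α, ((Finset.range p).image fun i => y ^ i • w).card = p := fun w => by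
      rw [Finset.card_image_of_injOn, Finset.card_range]
      intro i hi j hj hij
      rw [Finset.coe_range, Set.mem_Iio] at hi hj
      exact orbit_card (α := α) hfree hyo w hi hj hij
    have hdis : Disjoint s₁ s₂ := by
      rw [Finset.disjoint_left]
      intro w hw1 hw2
      obtain ⟨i, -, rfl⟩ := Finset.mem_image.1 hw1
      obtain ⟨j, hj, hji⟩ := Finset.mem_image.1 hw2
      rw [Finset.mem_range] at hj
      refine hne (p - j + i) ?_
      rw [pow_add, mul_smul, ← hji, ← mul_smul, ← pow_add, Nat.sub_add_cancel hj.le, ← hyo,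
        pow_orderOf_eq_one, one_smul]
    have huniv : s₁ ∪ s₂ = Finset.univ := Finset.eq_univ_of_card _ (by
      rw [Finset.card_union_of_disjoint hdis, hs₁, hs₂, hc, hc, hα]; ring)
    have hz : z ∈ s₁ ∪ s₂ := huniv ▸ Finset.mem_univ z
    rcases Finset.mem_union.1 hz with h | h <;> obtain ⟨i, hi, rfl⟩ := Finset.mem_image.1 h
    · exact Or.inl ⟨i, Finset.mem_range.1 hi, rfl⟩
    · exact Or.inr ⟨i, Finset.mem_range.1 hi, rfl⟩
  have hone : ∀ u : G, Commute u y → ¬ p ∣ orderOf u → ∀ x : α, u • x = x → u = 1 := by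
    intro u hu hur x hx
    refine FaithfulSMul.eq_of_smul_eq_smul fun z : α => ?_
    rw [one_smul]
    by_cases hz : ∃ i : ℕ, z = y ^ i • x
    · obtain ⟨i, rfl⟩ := hz
      rw [← mul_smul, (hu.pow_right i).eq, mul_smul, hx]
    · push Not at hz
      rcases hcover x z hz (u • z) with ⟨i, -, hi⟩ | ⟨i, -, hi⟩
      · exfalso
        refine hz i ?_
        have h2 : u • z = u • (y ^ i • x) := by
          rw [← mul_smul, (hu.pow_right i).eq, mul_smul, hx]; exact hi
        exact smul_left_cancel u h2
      · exact hsame u hu hur z i hi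
  have hU : U = ⊥ := by
    rw [eq_bot_iff]
    intro u huU
    obtain ⟨huC, hur⟩ := (hUmem u).1 huU
    have hu : Commute u y := (Subgroup.mem_centralizer_iff.1 huC y hyP).symm
    rw [Subgroup.mem_bot]
    by_contra hu1
    have hmove : ∀ (x : α) (i : ℕ), u • x ≠ y ^ i • x := fun x i h =>
      hu1 (hone u hu hur x (hsame u hu hur x i h))
    obtain ⟨a⟩ : Nonempty α := Fintype.card_pos_iff.1 (by omega)
    have hu2 : u ^ 2 = 1 := by
      rcases hcover a (u • a) (hmove a) (u • u • a) with ⟨i, -, hi⟩ | ⟨i, -, hi⟩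
      · refine hone (u ^ 2) (hu.pow_left 2) (fun hd => hur (hd.trans (orderOf_pow_dvd 2))) a ?_
        exact hsame (u ^ 2) (hu.pow_left 2) (fun hd => hur (hd.trans (orderOf_pow_dvd 2))) a i
          (by rw [sq, mul_smul]; exact hi)
      · exact absurd hi (hmove (u • a) i)
    have huo : orderOf u = 2 := orderOf_eq_prime hu2 hu1
    set z := u * y with hz
    have hzo : orderOf z = 2 * p := by
      rw [hz, hu.orderOf_mul_eq_mul_orderOf_of_coprime, huo, hyo]
      rw [huo, hyo]
      exact (Nat.coprime_primes Nat.prime_two hp).2 (by omega)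
    have hyz : y ∈ Subgroup.zpowers z := by
      have h1 : z ^ (p + 1) = y := by
        obtain ⟨r, hr⟩ := hp.odd_of_ne_two (by omega)
        rw [hz, hu.mul_pow, show p + 1 = 2 * (r + 1) by omega, pow_mul, hu2, one_pow, one_mul,
          ← show p + 1 = 2 * (r + 1) by omega, pow_succ, ← hyo, pow_orderOf_eq_one, one_mul]
      exact h1 ▸ pow_mem (Subgroup.mem_zpowers z) _
    have huz : u ∈ Subgroup.zpowers z := by
      have h1 : z * y⁻¹ = u := by rw [hz, mul_inv_cancel_right]
      exact h1 ▸ mul_mem (Subgroup.mem_zpowers z) (inv_mem hyz)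
    haveI htC : IsPretransitive (Subgroup.zpowers z) α := by
      have key : ∀ w, ∃ c : Subgroup.zpowers z, c • a = w := by
        intro w
        rcases hcover a (u • a) (hmove a) w with ⟨i, -, rfl⟩ | ⟨i, -, rfl⟩
        · exact ⟨⟨y ^ i, pow_mem hyz i⟩, rfl⟩
        · exact ⟨⟨y ^ i * u, mul_mem (pow_mem hyz i) huz⟩, by
            show (y ^ i * u) • a = _
            rw [mul_smul]⟩
      refine ⟨fun w w' => ?_⟩
      obtain ⟨c, rfl⟩ := key w
      obtain ⟨c', rfl⟩ := key w'
      exact ⟨c' * c⁻¹, by rw [mul_smul, inv_smul_smul]⟩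
    have hstab : ∀ w : α, stabilizer (Subgroup.zpowers z) w = ⊥ := by
      intro w
      have h1 := MulAction.index_stabilizer_of_transitive (G := Subgroup.zpowers z) w
      rw [Nat.card_eq_fintype_card (α := α), hα] at h1
      have h2 := (stabilizer (Subgroup.zpowers z) w).card_mul_index
      rw [h1, Nat.card_zpowers, hzo] at h2
      exact Subgroup.card_eq_one.1 (Nat.eq_of_mul_eq_mul_right (by omega : 0 < 2 * p) (by rw [one_mul]; exact h2))
    rcases Cfsg.Agent.S3559.result (G := G) (Ω := α) inferInstance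
      (by rw [Nat.card_eq_fintype_card]; omega)
      (by
        rw [Nat.card_eq_fintype_card, hα]
        intro hpp
        obtain ⟨q, k, hq, hk, hqk⟩ := (isPrimePow_nat_iff _).1 hpp
        have h2 : 2 ∣ q ^ k := hqk ▸ dvd_mul_right 2 p
        have hq2 := (Nat.prime_dvd_prime_iff_eq Nat.prime_two hq).1 (Nat.prime_two.dvd_of_dvd_pow h2)
        have h3 : p ∣ q ^ k := hqk ▸ dvd_mul_left p 2
        rw [← hq2] at h3
        have := (Nat.prime_dvd_prime_iff_eq hp Nat.prime_two).1 (hp.dvd_of_dvd_pow h3)
        omega)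
      (Subgroup.zpowers z) inferInstance ⟨htC, hstab⟩ with h | h
    · exact h inferInstance
    · exact hnot h
  haveI := isMulCommutative_of_card P hP
  refine (Subgroup.eq_of_le_of_card_ge (Subgroup.le_centralizer (P : Subgroup G)) ?_).symm
  rw [← hUc, hU, Subgroup.card_bot, one_mul]
  exact hP.ge

omit [Fintype α] [Finite G] [Fact p.Prime] in
/-- A non-trivial normal subgroup of a primitive group is transitive. -/
theorem normal_transitive [FaithfulSMul G α] [IsPreprimitive G α] {N : Subgroup G} [N.Normal]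
    (hN : N ≠ ⊥) : IsPretransitive N α := by
  refine IsQuasiPreprimitive.isPretransitive_of_normal fun h => hN ?_
  rw [eq_bot_iff]
  intro g hg
  refine Subgroup.mem_bot.2 (FaithfulSMul.eq_of_smul_eq_smul fun x : α => ?_)
  have hx : x ∈ fixedPoints N α := h ▸ Set.mem_univ x
  rw [one_smul]
  exact hx ⟨g, hg⟩

/-- There is no non-trivial normal subgroup of order prime to `p`. -/
theorem eq_bot_of_not_dvd [FaithfulSMul G α] [IsPreprimitive G α] (hα : Fintype.card α = 2 * p)
    {N : Subgroup G} [N.Normal] (hN : ¬ p ∣ Nat.card N) : N = ⊥ := by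
  by_contra h
  haveI := normal_transitive (α := α) h
  obtain ⟨a⟩ : Nonempty α := Fintype.card_pos_iff.1 (by have := (Fact.out : p.Prime).pos; omega)
  have h1 := MulAction.index_stabilizer_of_transitive (G := N) a
  rw [Nat.card_eq_fintype_card, hα] at h1
  exact hN ((Dvd.intro_left 2 h1.symm).trans (Subgroup.index_dvd_card _))

omit [Finite G] in
/-- A subgroup of order `p` is not transitive on `2 p` points. -/
theorem not_transitive_of_card (hα : Fintype.card α = 2 * p) (H : Subgroup G) [Finite H]
    (hH : Nat.card H = p) : ¬ IsPretransitive H α := by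
  intro h
  obtain ⟨a⟩ : Nonempty α := Fintype.card_pos_iff.1 (by have := (Fact.out : p.Prime).pos; omega)
  have h1 := MulAction.index_stabilizer_of_transitive (G := H) a
  rw [Nat.card_eq_fintype_card (α := α), hα] at h1
  have h2 := Nat.le_of_dvd (by rw [hH]; exact (Fact.out : p.Prime).pos)
    (h1 ▸ Subgroup.index_dvd_card (stabilizer H a))
  have := (Fact.out : p.Prime).pos
  omega

/-- The Sylow subgroup of a group without normal `p'`-subgroups has non-trivial fusion. -/
theorem two_le_index {H : Type u} [Group H] [Finite H] (P : Sylow p H) (hP : Nat.card P = p)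
    (hne : (P : Subgroup H) ≠ ⊤)
    (hnorm : ∀ K : Subgroup H, K.Normal → ¬ p ∣ Nat.card K → (∀ x : H, ¬ p ∣ orderOf x → x ∈ K) →
      K = ⊥) {e : ℕ}
    (he : (Subgroup.centralizer ((P : Subgroup H) : Set H)).relIndex
      (Subgroup.normalizer ((P : Subgroup H) : Set H)) = e) : 2 ≤ e := by
  by_contra hc
  have he0 : e ≠ 0 := by rw [← he]; exact Subgroup.index_ne_zero_of_finite
  have h1 : (Subgroup.centralizer ((P : Subgroup H) : Set H)).relIndex
      (Subgroup.normalizer ((P : Subgroup H) : Set H)) = 1 := by omega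
  have hle := Subgroup.relIndex_eq_one.1 h1
  haveI : IsCyclic (P : Subgroup H) := isCyclic_of_prime_card (p := p) hP
  letI : CommGroup (P : Subgroup H) := IsCyclic.commGroup
  have h2 := MonoidHom.ker_transferSylow_isComplement' P hle
  have hK : (MonoidHom.transferSylow P hle).ker = ⊥ :=
    hnorm _ inferInstance (MonoidHom.not_dvd_card_ker_transferSylow P hle) fun x hx => by
      rw [MonoidHom.mem_ker, ← orderOf_eq_one_iff]
      have h3 : orderOf (MonoidHom.transferSylow P hle x) ∣ p :=
        (orderOf_dvd_natCard _).trans (dvd_of_eq hP)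
      rcases (Nat.dvd_prime (Fact.out : p.Prime)).1 h3 with h | h
      · exact h
      · exact absurd (h ▸ orderOf_map_dvd _ x) hx
  rw [hK, Subgroup.isComplement'_bot_left] at h2
  exact hne h2

end Cfsg.Agent.WielandtTwoP7
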