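import Cfsg.Agent.Lib.WielandtTwoP7Small
import Cfsg.Agent.Lib.WielandtTwoP7Group
import Cfsg.Agent.Lib.PermOrbital28

/-!
# Primitive groups of degree `2 p`: the permutation character
-/

set_option autoImplicit false

open Finset
open scoped ComplexConjugate

namespace Cfsg.Agent.WielandtTwoP7

open Cfsg Cfsg.Agent.CharBasic Cfsg.Agent.CharBasicOrth Cfsg.Agent.DefectOneSign7
open Cfsg.Agent.BlockPrincipal81 Cfsg.Agent.BrauerReynolds7 Cfsg.Agent.PermOrbital28

attribute [local instance] Classical.propDecidable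

universe u v

variable {G : Type u} [Group G] [Fintype G] {α : Type v} [Fintype α] [MulAction G α]
  {p : ℕ} [Fact p.Prime]

/-- No normal subgroup fixes a constituent of the permutation character other than `1`. -/
theorem faithful_constituent [FaithfulSMul G α] [MulAction.IsPreprimitive G α] [Nonempty α]
    {m : IrrCharacter G → ℕ}
    (hdec : pc G α = ∑ ψ : IrrCharacter G, (m ψ : ℂ) • (ψ : G → ℂ))
    (hm1 : m (oneChar G) = 1) {χ : IrrCharacter G} (hχ : χ ≠ oneChar G) (hm : 1 ≤ m χ)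
    {N : Subgroup G} [N.Normal]
    (hN : ∀ g ∈ N, (χ : G → ℂ) g = (χ : G → ℂ) 1) : N = ⊥ := by
  by_contra hne
  haveI := normal_transitive (α := α) hne
  letI : Fintype N := Fintype.ofFinite N
  have h1 : ∑ x ∈ els N, pc G α x = (Nat.card N : ℂ) * 1 := by
    have h := card_mul_classInner (pc N α) (fun _ : N => (1 : ℂ))
    rw [classInner_pc_one] at h
    rw [sum_els, h]
    simp only [map_one, mul_one]
    rfl
  choose c hc using fun ψ : IrrCharacter G =>
    exists_nat_avg N (isCharacter_of_isIrrCharacter ψ.2)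
  have h2 : ∑ x ∈ els N, pc G α x = (Nat.card N : ℂ) * (∑ ψ : IrrCharacter G, m ψ * c ψ : ℕ) := by
    rw [Finset.sum_congr rfl fun x _ => congrFun hdec x]
    simp only [Finset.sum_apply, Pi.smul_apply, smul_eq_mul]
    rw [Finset.sum_comm]
    push_cast
    rw [Finset.mul_sum]
    refine Finset.sum_congr rfl fun ψ _ => ?_
    rw [← Finset.mul_sum, hc ψ]
    ring
  rw [h1] at h2
  have h3 := mul_left_cancel₀
    (Nat.cast_ne_zero.2 (Nat.card_pos (α := N)).ne' : (Nat.card N : ℂ) ≠ 0) h2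
  have h4 : ∑ ψ : IrrCharacter G, m ψ * c ψ = 1 := by exact_mod_cast h3.symm
  have hc1 : c (oneChar G) = 1 := by
    have h := hc (oneChar G)
    simp only [show ∀ x, (oneChar G : G → ℂ) x = 1 from fun _ => rfl, Finset.sum_const, card_els,
      nsmul_eq_mul, mul_one] at h
    have := mul_left_cancel₀
      (Nat.cast_ne_zero.2 (Nat.card_pos (α := N)).ne' : (Nat.card N : ℂ) ≠ 0)
      ((mul_one _).trans h)
    exact_mod_cast this.symm
  have hcχ : c χ = charDegree (χ : G → ℂ) := by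
    have h := hc χ
    rw [Finset.sum_congr rfl fun x hx => hN x (mem_els.1 hx), Finset.sum_const, card_els,
      nsmul_eq_mul, ClassAlgebraVal.apply_one_eq_charDegree] at h
    have := mul_left_cancel₀
      (Nat.cast_ne_zero.2 (Nat.card_pos (α := N)).ne' : (Nat.card N : ℂ) ≠ 0) h
    exact_mod_cast this.symm
  have h5 : ∑ ψ ∈ ({oneChar G, χ} : Finset (IrrCharacter G)), m ψ * c ψ ≤ 1 :=
    h4 ▸ Finset.sum_le_univ_sum_of_nonneg fun _ => Nat.zero_le _
  rw [Finset.sum_pair hχ.symm, hm1, hc1, hcχ] at h5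
  have := Nat.mul_pos hm (ClassAlgebraVal.charDegree_pos χ)
  omega

/-- The shape of the permutation character. -/
theorem decomposition [FaithfulSMul G α] [MulAction.IsPreprimitive G α] (hα : Fintype.card α = 2 * p)
    (hnot : ¬ MulAction.IsMultiplyPretransitive G α 2) (a₀ : α)
    (hfree : ∀ g : G, orderOf g = p → ∀ x : α, g • x ≠ x)
    (hrank : 3 ≤ Nat.card (MulAction.orbitRel.Quotient (MulAction.stabilizer G a₀) α))
    {P : Sylow p G} (hP : Nat.card P = p)
    (hC : Subgroup.centralizer ((P : Subgroup G) : Set G) = (P : Subgroup G)) {e : ℕ}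
    (he : (Subgroup.centralizer ((P : Subgroup G) : Set G)).relIndex
      (Subgroup.normalizer ((P : Subgroup G) : Set G)) = e) (he2 : 2 ≤ e) :
    ∃ (φ : IrrCharacter G) (Y : Finset (IrrCharacter G)),
      charDegree (φ : G → ℂ) = p ∧ φ ∉ Y ∧ oneChar G ∉ Y ∧ φ ≠ oneChar G ∧
      pc G α = (oneChar G : G → ℂ) + (φ : G → ℂ) + ∑ η ∈ Y, (η : G → ℂ) ∧
      (∀ y ∈ Ps P, (φ : G → ℂ) y = 0) ∧
      (∀ η ∈ Y, ∀ N : Subgroup G, N.Normal → (∀ g ∈ N, (η : G → ℂ) g = (η : G → ℂ) 1) → N = ⊥) ∧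
      ((∃ χ, Y = {χ} ∧ charDegree (χ : G → ℂ) + 1 = p) ∨
        (2 ≤ Y.card ∧ Y.card * e + 1 = p ∧ (∀ η ∈ Y, charDegree (η : G → ℂ) = e) ∧
          ∀ θ ∈ Y, ∀ θ' ∈ Y, ∑ y ∈ Ps P, (θ : G → ℂ) y * conj ((θ' : G → ℂ) y) =
            (if θ = θ' then (p : ℂ) * e else 0) - (e : ℂ) ^ 2)) := by
  have hp := (Fact.out : p.Prime)
  haveI : Nonempty α := ⟨a₀⟩
  obtain ⟨X, Y, a, ε, B⟩ := exists_blk hP e he
  obtain ⟨m, hm, hdec⟩ := CharBasicDecomp.exists_mult (isCharacter_pc (G := G) (Ω := α))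
  have hm1 : m (oneChar G) = 1 := by
    have h := hm (oneChar G)
    rw [show (oneChar G : G → ℂ) = fun _ => 1 from rfl, classInner_pc_one] at h
    exact_mod_cast h.symm
  have hπ : ∀ y ∈ Ps P, pc G α y = 0 := by
    intro y hy
    have : IsEmpty (MulAction.fixedBy α y) := ⟨fun x => hfree y (orderOf_mem hP hy) x x.2⟩
    simp [pc]
  have hep : e < p := by
    have h1 := B.cardY
    have h2 : 1 * e ≤ Y.card * e := Nat.mul_le_mul_right e (Finset.card_pos.2 (Y_nonempty B))
    omega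
  -- the multiplicity is constant on `Y`
  obtain ⟨η₀, hη₀⟩ := Y_nonempty B
  set M := m η₀ with hM
  have hval : ∀ y ∈ Ps P, ∑ χ ∈ X, (m χ : ℂ) * (a χ : ℂ) + ∑ η ∈ Y, (m η : ℂ) * (η : G → ℂ) y = 0 := by
    intro y hy
    have h := hπ y hy
    rw [congrFun hdec y, Finset.sum_apply] at h
    simp only [Pi.smul_apply, smul_eq_mul] at h
    rw [← Finset.sum_subset (Finset.subset_univ (X ∪ Y)) (fun ψ _ hψ => by
      rw [Finset.mem_union, not_or] at hψ
      rw [vanish B hP hC he hψ.1 hψ.2 hy, mul_zero]), Finset.sum_union B.disj] at h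
    rw [← h]
    congr 1
    exact Finset.sum_congr rfl fun χ hχ => by rw [B.valX χ hχ y hy]
  have hMconst : ∀ θ ∈ Y, m θ = M := by
    have key : ∀ θ ∈ Y, (p : ℂ) * e * m θ = (e : ℂ) ^ 2 * ∑ η ∈ Y, (m η : ℂ) +
        (ε : ℂ) * e * ∑ χ ∈ X, (m χ : ℂ) * (a χ : ℂ) := by
      intro θ hθ
      have h : ∑ y ∈ Ps P, (∑ χ ∈ X, (m χ : ℂ) * (a χ : ℂ) +
          ∑ η ∈ Y, (m η : ℂ) * (η : G → ℂ) y) * conj ((θ : G → ℂ) y) = 0 :=
        Finset.sum_eq_zero fun y hy => by rw [hval y hy, zero_mul]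
      rw [Finset.sum_congr rfl fun y _ => show (∑ χ ∈ X, (m χ : ℂ) * (a χ : ℂ) +
          ∑ η ∈ Y, (m η : ℂ) * (η : G → ℂ) y) * conj ((θ : G → ℂ) y) =
          (∑ χ ∈ X, (m χ : ℂ) * (a χ : ℂ)) * conj ((θ : G → ℂ) y) +
          ∑ η ∈ Y, (m η : ℂ) * ((η : G → ℂ) y * conj ((θ : G → ℂ) y)) by
            rw [add_mul, Finset.sum_mul Y]; simp only [mul_assoc],
        Finset.sum_add_distrib, ← Finset.mul_sum, ← map_sum, sum_Ps_Y B hP hC hθ, Finset.sum_comm,
        Finset.sum_congr rfl fun η hη => show ∑ y ∈ Ps P,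
          (m η : ℂ) * ((η : G → ℂ) y * conj ((θ : G → ℂ) y)) =
            (m η : ℂ) * ((if η = θ then (p : ℂ) * e else 0) - (e : ℂ) ^ 2) by
          rw [← Finset.mul_sum, sum_Ps_mul B hP hC he hη hθ]] at h
      simp only [mul_sub, mul_ite, mul_zero, Finset.sum_sub_distrib, Finset.sum_ite_eq', if_pos hθ,
        map_mul, map_neg, map_intCast, map_natCast, ← Finset.sum_mul] at h
      linear_combination h
    intro θ hθ
    have h := (key θ hθ).trans (key η₀ hη₀).symm
    have hpe : (p : ℂ) * e ≠ 0 :=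
      mul_ne_zero (Nat.cast_ne_zero.2 hp.ne_zero) (Nat.cast_ne_zero.2 (by omega))
    exact_mod_cast mul_left_cancel₀ hpe h
  have hDeq : ∀ η ∈ Y, charDegree (η : G → ℂ) = charDegree (η₀ : G → ℂ) := by
    intro η hη
    have h := B.agree η hη η₀ hη₀ 1 (by rw [orderOf_one, Nat.dvd_one]; exact hp.ne_one)
    simp only [ClassAlgebraVal.apply_one_eq_charDegree] at h
    exact_mod_cast h
  set D := charDegree (η₀ : G → ℂ) with hD
  -- the value equation
  set Xo := X.erase (oneChar G) with hXo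
  have hVal : 1 + ∑ χ ∈ Xo, (m χ : ℤ) * a χ = ε * M := by
    obtain ⟨y, hy⟩ := exists_mem_Ps hP
    have h := hval y hy
    rw [Finset.sum_congr rfl (s₁ := Y) fun η hη => by rw [hMconst η hη], ← Finset.mul_sum,
      B.sumY y hy, ← Finset.add_sum_erase _ _ B.one_mem, hm1, B.a_one] at h
    refine Int.cast_injective (α := ℂ) ?_
    push_cast at h ⊢
    linear_combination h
  -- the degree equation
  set O := Finset.univ.filter fun ψ : IrrCharacter G => ψ ∉ X ∧ ψ ∉ Y with hO
  choose! c hc using fun (ψ : IrrCharacter G) (hψ : ψ ∈ O) =>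
    dvd_degree_of_outside B hP hC he (Finset.mem_filter.1 hψ).2.1 (Finset.mem_filter.1 hψ).2.2
  have hDegT : 1 + ∑ χ ∈ Xo, m χ * charDegree (χ : G → ℂ) + M * (Y.card * D) +
      p * ∑ ψ ∈ O, m ψ * c ψ = 2 * p := by
    have h := congrFun hdec 1
    rw [pc_one, hα, Finset.sum_apply] at h
    simp only [Pi.smul_apply, smul_eq_mul, ClassAlgebraVal.apply_one_eq_charDegree] at h
    have h' : 2 * p = ∑ ψ : IrrCharacter G, m ψ * charDegree (ψ : G → ℂ) := by exact_mod_cast h
    rw [h', ← Finset.sum_sdiff (Finset.subset_univ (X ∪ Y)), Finset.sum_union B.disj,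
      show Finset.univ \ (X ∪ Y) = O by ext; simp [hO],
      Finset.sum_congr rfl (s₁ := O) (f := fun ψ => m ψ * charDegree (ψ : G → ℂ))
        (g := fun ψ => p * (m ψ * c ψ)) fun ψ hψ => by simp only [hc ψ hψ]; ring,
      ← Finset.mul_sum, ← Finset.add_sum_erase _ _ B.one_mem, hm1, one_degree,
      Finset.sum_congr rfl (s₁ := Y) (g := fun _ => M * D) fun η hη => by rw [hMconst η hη, hDeq η hη],
      Finset.sum_const, smul_eq_mul, ← hXo]
    ring
  -- the non-trivial constituents are faithful and not linear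
  have hfaith : ∀ χ : IrrCharacter G, χ ≠ oneChar G → 1 ≤ m χ → ∀ N : Subgroup G, N.Normal →
      (∀ g ∈ N, (χ : G → ℂ) g = (χ : G → ℂ) 1) → N = ⊥ := fun χ h1 h2 N hN h3 =>
    haveI := hN; faithful_constituent hdec hm1 h1 h2 h3
  have hnonlin : ∀ χ : IrrCharacter G, χ ≠ oneChar G → 1 ≤ m χ → 2 ≤ charDegree (χ : G → ℂ) := by
    intro χ h1 h2
    have hpos := ClassAlgebraVal.charDegree_pos χ
    by_contra hc'
    have hd : charDegree (χ : G → ℂ) = 1 := by omega
    obtain ⟨f, hf⟩ := CharBasicLinear.exists_hom_of_apply_one_eq_one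
      (isCharacter_of_isIrrCharacter χ.2)
      (by rw [ClassAlgebraVal.apply_one_eq_charDegree, hd, Nat.cast_one])
    have hker := hfaith χ h1 h2 f.ker inferInstance fun g hg => by
      rw [hf]
      show ((f g : ℂˣ) : ℂ) = ((f 1 : ℂˣ) : ℂ)
      rw [MonoidHom.mem_ker.1 hg, map_one]
    have hab : ∀ g h : G, g * h = h * g := fun g h =>
      (MonoidHom.ker_eq_bot_iff f).1 hker (by rw [map_mul, map_mul, mul_comm])
    have htop : (P : Subgroup G) = ⊤ := by
      rw [← hC, eq_top_iff]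
      intro g _
      rw [Subgroup.mem_centralizer_iff]
      exact fun h _ => hab h g
    refine not_transitive_of_card hα (⊤ : Subgroup G) (htop ▸ hP) ⟨fun x x' => ?_⟩
    obtain ⟨g, hg⟩ := MulAction.exists_smul_eq G x x'
    exact ⟨⟨g, Subgroup.mem_top g⟩, hg⟩
  have hXdeg : ∀ χ ∈ Xo, 1 ≤ m χ →
      p - 1 ≤ charDegree (χ : G → ℂ) ∧ (a χ = 1 → p + 1 ≤ charDegree (χ : G → ℂ)) := by
    intro χ hχ h1
    rw [hXo, Finset.mem_erase] at hχ
    exact pred_le_of_congr (hnonlin χ hχ.1 h1) (B.signX χ hχ.2) (B.congrX χ hχ.2)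
  set np := ∑ χ ∈ Xo.filter (fun χ => a χ = 1), m χ with hnp
  set nm := ∑ χ ∈ Xo.filter (fun χ => ¬ a χ = 1), m χ with hnm
  have hsignsum : ∑ χ ∈ Xo, (m χ : ℤ) * a χ = (np : ℤ) - nm := by
    rw [← Finset.sum_filter_add_sum_filter_not Xo (fun χ => a χ = 1), hnp, hnm, Nat.cast_sum,
      Nat.cast_sum, sub_eq_add_neg, ← Finset.sum_neg_distrib]
    congr 1
    · exact Finset.sum_congr rfl fun χ hχ => by rw [(Finset.mem_filter.1 hχ).2, mul_one]
    · refine Finset.sum_congr rfl fun χ hχ => ?_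
      rw [(B.signX χ (Finset.mem_of_mem_erase (Finset.mem_filter.1 hχ).1)).resolve_left
        (Finset.mem_filter.1 hχ).2]
      ring
  have hmass : np * (p + 1) + nm * (p - 1) ≤ ∑ χ ∈ Xo, m χ * charDegree (χ : G → ℂ) := by
    rw [← Finset.sum_filter_add_sum_filter_not Xo (fun χ => a χ = 1), hnp, hnm, Finset.sum_mul,
      Finset.sum_mul]
    refine add_le_add (Finset.sum_le_sum fun χ hχ => ?_) (Finset.sum_le_sum fun χ hχ => ?_)
    · rcases Nat.eq_zero_or_pos (m χ) with h | h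
      · simp [h]
      · exact Nat.mul_le_mul_left _
          ((hXdeg χ (Finset.mem_filter.1 hχ).1 h).2 (Finset.mem_filter.1 hχ).2)
    · rcases Nat.eq_zero_or_pos (m χ) with h | h
      · simp [h]
      · exact Nat.mul_le_mul_left _ (hXdeg χ (Finset.mem_filter.1 hχ).1 h).1
  rw [hsignsum] at hVal
  set S := ∑ χ ∈ Xo, m χ * charDegree (χ : G → ℂ) with hS
  have hη₀1 : η₀ ≠ oneChar G := ne_one_of_mem B hη₀
  have hD2 : 1 ≤ M → 2 ≤ D := fun h => hnonlin η₀ hη₀1 h
  have hcY := B.cardY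
  have hp3 : 3 ≤ p := by
    have h2 : 1 * e ≤ Y.card * e := Nat.mul_le_mul_right e (Finset.card_pos.2 ⟨η₀, hη₀⟩)
    omega
  have hkey : nm + M = 1 ∧ np = 0 ∧ (1 ≤ M → ε = 1) ∧
      (1 ≤ M → p - 1 ≤ Y.card * D) := by
    have hcong := (B.congrY η₀ hη₀).symm.dvd
    rw [← hD] at hcong
    rcases B.sign with h | h <;> rw [h] at hVal hcong
    · have h2 : nm + M = 1 + np := by omega
      have htD : 1 ≤ M → p - 1 ≤ Y.card * D := by
        intro hM1
        have hDe : e ≤ D := by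
          by_contra hlt
          have h3 := Int.eq_zero_of_abs_lt_dvd hcong
            (by rw [abs_lt]; constructor <;> omega)
          omega
        calc p - 1 = Y.card * e := by omega
          _ ≤ Y.card * D := Nat.mul_le_mul_left _ hDe
      refine ⟨?_, ?_, fun _ => h, htD⟩
      all_goals
        have h3 : M * (p - 1) ≤ M * (Y.card * D) := by
          rcases Nat.eq_zero_or_pos M with h' | h'
          · simp [h']
          · exact Nat.mul_le_mul_left _ (htD h')
        have h4 : (nm + M) * (p - 1) + np * (p + 1) ≤ S + M * (Y.card * D) := by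
          rw [add_mul]; omega
        rcases Nat.eq_zero_or_pos np with h5 | h5
        · omega
        · exfalso
          have h6 : 2 * (p - 1) ≤ (nm + M) * (p - 1) := Nat.mul_le_mul_right _ (by omega)
          have h7 : 1 * (p + 1) ≤ np * (p + 1) := Nat.mul_le_mul_right _ h5
          omega
    · have h2 : nm = 1 + np + M := by omega
      have h4 : nm * (p - 1) + np * (p + 1) + M * (Y.card * D) ≤ 2 * p - 1 := by omega
      have h5 : M = 0 ∧ np = 0 := by
        constructor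
        · by_contra hM0
          have h6 : 2 * (p - 1) ≤ nm * (p - 1) := Nat.mul_le_mul_right _ (by omega)
          have h8 : 1 * (1 * 2) ≤ M * (Y.card * D) :=
            Nat.mul_le_mul (by omega) (Nat.mul_le_mul (Finset.card_pos.2 ⟨η₀, hη₀⟩) (hD2 (by omega)))
          omega
        · by_contra hn0
          have h6 : 2 * (p - 1) ≤ nm * (p - 1) := Nat.mul_le_mul_right _ (by omega)
          have h7 : 1 * (p + 1) ≤ np * (p + 1) := Nat.mul_le_mul_right _ (by omega)
          omega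
      exact ⟨by omega, h5.2, fun h' => by omega, fun h' => by omega⟩
  obtain ⟨hone, hnp0, hMε, hMtD⟩ := hkey
  have hXpzero : ∀ χ ∈ Xo, a χ = 1 → m χ = 0 := fun χ hχ ha =>
    Finset.sum_eq_zero_iff.1 hnp0 χ (Finset.mem_filter.2 ⟨hχ, ha⟩)
  have hsum2 : ∀ f : IrrCharacter G → ℕ, ∑ ψ : IrrCharacter G, f ψ =
      f (oneChar G) + ∑ χ ∈ Xo, f χ + ∑ η ∈ Y, f η + ∑ ψ ∈ O, f ψ := by
    intro f
    rw [← Finset.sum_sdiff (Finset.subset_univ (X ∪ Y)), Finset.sum_union B.disj,
      show Finset.univ \ (X ∪ Y) = O by ext; simp [hO], ← Finset.add_sum_erase _ _ B.one_mem, ← hXo]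
    ring
  have hrk : Nat.card (MulAction.orbitRel.Quotient (MulAction.stabilizer G a₀) α) =
      ∑ ψ : IrrCharacter G, m ψ * m ψ := by
    have h := classInner_pc_self (G := G) (Ω := α) a₀
    conv_lhs at h => arg 1; rw [hdec]
    rw [classInner_sum_left] at h
    simp only [classInner_smul_left] at h
    rw [Finset.sum_congr rfl fun ψ _ => show (m ψ : ℂ) * Cfsg.classInner (ψ : G → ℂ) (pc G α) =
      (m ψ : ℂ) * (m ψ : ℂ) by
        rw [← conj_classInner, hm ψ, map_natCast]] at h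
    exact_mod_cast h.symm
  -- the constituent of degree `p`
  have hcsum : ∑ ψ ∈ O, m ψ * c ψ = 1 := by
    have hS1 : (nm + M) * (p - 1) ≤ S + M * (Y.card * D) := by
      rw [add_mul]
      have : M * (p - 1) ≤ M * (Y.card * D) := by
        rcases Nat.eq_zero_or_pos M with h' | h'
        · simp [h']
        · exact Nat.mul_le_mul_left _ (hMtD h')
      omega
    rw [hone, one_mul] at hS1
    have hle : ∑ ψ ∈ O, m ψ * c ψ ≤ 1 := by
      by_contra hlt
      have : p * 2 ≤ p * ∑ ψ ∈ O, m ψ * c ψ := Nat.mul_le_mul_left _ (by omega)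
      omega
    rcases Nat.eq_zero_or_pos (∑ ψ ∈ O, m ψ * c ψ) with h0 | h0
    swap
    · omega
    exfalso
    have hO0 : ∀ ψ ∈ O, m ψ = 0 := fun ψ hψ => by
      rcases Nat.mul_eq_zero.1 (Finset.sum_eq_zero_iff.1 h0 ψ hψ) with h | h
      · exact h
      · exfalso
        have := ClassAlgebraVal.charDegree_pos ψ
        rw [hc ψ hψ, h, mul_zero] at this
        omega
    rw [hsum2, hm1, Finset.sum_eq_zero (s := O) fun ψ hψ => by rw [hO0 ψ hψ, mul_zero],
      Finset.sum_congr rfl (s₁ := Y) (g := fun _ => M * M) fun η hη => by rw [hMconst η hη],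
      Finset.sum_const, smul_eq_mul] at hrk
    have hXsq : ∑ χ ∈ Xo, m χ * m χ ≤ nm := by
      rw [← Finset.sum_filter_add_sum_filter_not Xo (fun χ => a χ = 1),
        Finset.sum_eq_zero fun χ hχ => by
          rw [hXpzero χ (Finset.mem_filter.1 hχ).1 (Finset.mem_filter.1 hχ).2, mul_zero],
        zero_add, hnm]
      refine Finset.sum_le_sum fun χ hχ => ?_
      have : m χ ≤ nm := Finset.single_le_sum (fun i _ => Nat.zero_le (m i)) hχ
      calc m χ * m χ ≤ 1 * m χ := Nat.mul_le_mul_right _ (by omega)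
        _ = m χ := one_mul _
    rcases Nat.eq_zero_or_pos M with hM0 | hM0
    · rw [hM0] at hrk
      omega
    have hM1 : M = 1 := by omega
    rw [hM1] at hrk hDegT
    have hY1 : Y.card = 1 := by
      by_contra hne
      have hY2 : 2 ≤ Y.card := by have := Finset.card_pos.2 ⟨η₀, hη₀⟩; omega
      have hS0 : S = 0 := Finset.sum_eq_zero fun χ hχ => by
        rcases B.signX χ (Finset.mem_of_mem_erase hχ) with h | h
        · rw [hXpzero χ hχ h, zero_mul]
        · have : m χ ≤ nm := Finset.single_le_sum (f := m) (fun i _ => Nat.zero_le _)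
            (Finset.mem_filter.2 ⟨hχ, by rw [h]; norm_num⟩)
          rw [show m χ = 0 by omega, zero_mul]
      rw [hS0, h0] at hDegT
      have hcong := (B.congrY η₀ hη₀).symm.dvd
      rw [← hD, hMε (by omega)] at hcong
      rcases Nat.lt_or_ge D (p + e) with hlt | hge
      · have h3 := fun h' => Int.eq_zero_of_abs_lt_dvd hcong h'
        rcases Nat.lt_or_ge D e with h4 | h4
        · have h5 := h3 (by rw [abs_lt]; constructor <;> omega)
          omega
        · have h5 := h3 (by rw [abs_lt]; constructor <;> omega)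
          rw [show D = e by omega] at hDegT
          omega
      · have : 2 * (p + e) ≤ Y.card * D := Nat.mul_le_mul hY2 hge
        omega
    rw [hY1] at hrk
    omega
  obtain ⟨φ, hφO, hφ⟩ : ∃ φ ∈ O, m φ * c φ ≠ 0 :=
    Finset.exists_ne_zero_of_sum_ne_zero (by omega)
  have hφrest : ∀ ψ ∈ O, ψ ≠ φ → m ψ * c ψ = 0 := by
    intro ψ hψ hne
    have h : ∑ x ∈ ({φ, ψ} : Finset _), m x * c x ≤ 1 :=
      hcsum ▸ Finset.sum_le_sum_of_subset_of_nonneg
        (by intro x hx; rcases Finset.mem_insert.1 hx with rfl | hx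
            · exact hφO
            · exact (Finset.mem_singleton.1 hx) ▸ hψ) fun _ _ _ => Nat.zero_le _
    rw [Finset.sum_pair hne.symm] at h
    omega
  have hφ1 : m φ * c φ = 1 := by
    have := Finset.single_le_sum (f := fun ψ => m ψ * c ψ) (fun _ _ => Nat.zero_le _) hφO
    omega
  obtain ⟨hmφ, hcφ⟩ := mul_eq_one.1 hφ1
  have hφdeg : charDegree (φ : G → ℂ) = p := by rw [hc φ hφO, hcφ, mul_one]
  have hφX : φ ∉ X ∧ φ ∉ Y := (Finset.mem_filter.1 hφO).2
  have hφ1' : φ ≠ oneChar G := fun h => hφX.1 (h ▸ B.one_mem)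
  have hO0 : ∀ ψ ∈ O, ψ ≠ φ → m ψ = 0 := by
    intro ψ hψ hne
    rcases Nat.mul_eq_zero.1 (hφrest ψ hψ hne) with h | h
    · exact h
    · exfalso
      have := ClassAlgebraVal.charDegree_pos ψ
      rw [hc ψ hψ, h, mul_zero] at this
      omega
  have hφv : ∀ y ∈ Ps P, (φ : G → ℂ) y = 0 := fun y hy => vanish B hP hC he hφX.1 hφX.2 hy
  rw [hcsum, mul_one] at hDegT
  -- the decomposition
  have hdec' : ∀ (Z : Finset (IrrCharacter G)), φ ∉ Z → oneChar G ∉ Z → (∀ ψ ∈ Z, m ψ = 1) →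
      (∀ ψ, ψ ≠ oneChar G → ψ ≠ φ → ψ ∉ Z → m ψ = 0) →
      pc G α = (oneChar G : G → ℂ) + (φ : G → ℂ) + ∑ η ∈ Z, (η : G → ℂ) := by
    intro Z hφZ h1Z hZ1 hZ0
    rw [hdec, ← Finset.sum_subset (Finset.subset_univ (insert (oneChar G) (insert φ Z)))
      (fun ψ _ hψ => by
        simp only [Finset.mem_insert, not_or] at hψ
        rw [hZ0 ψ hψ.1 hψ.2.1 hψ.2.2, Nat.cast_zero, zero_smul]),
      Finset.sum_insert (by simp [h1Z, hφ1'.symm]), Finset.sum_insert hφZ, hm1, hmφ, Nat.cast_one,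
      one_smul, one_smul, ← add_assoc]
    exact congrArg _ (Finset.sum_congr rfl fun ψ hψ => by rw [hZ1 ψ hψ, Nat.cast_one, one_smul])
  rcases Nat.eq_zero_or_pos M with hM0 | hM0
  · -- one character of degree `p - 1`
    obtain ⟨χ, hχ, hmχ⟩ : ∃ χ ∈ Xo.filter (fun χ => ¬ a χ = 1), m χ ≠ 0 :=
      Finset.exists_ne_zero_of_sum_ne_zero (by omega)
    have hmχ1 : m χ = 1 := by
      have : m χ ≤ nm := Finset.single_le_sum (f := m) (fun i _ => Nat.zero_le _) hχ
      omega
    obtain ⟨hχo, haχ⟩ := Finset.mem_filter.1 hχ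
    obtain ⟨hχ1, hχX⟩ := Finset.mem_erase.1 hχo
    have hrest : ∀ ψ ∈ Xo, ψ ≠ χ → m ψ = 0 := by
      intro ψ hψ hne
      by_cases ha : a ψ = 1
      · exact hXpzero ψ hψ ha
      · have h : ∑ x ∈ ({χ, ψ} : Finset _), m x ≤ nm :=
          Finset.sum_le_sum_of_subset_of_nonneg
            (by intro x hx; rcases Finset.mem_insert.1 hx with rfl | hx
                · exact hχ
                · exact (Finset.mem_singleton.1 hx) ▸ Finset.mem_filter.2 ⟨hψ, ha⟩)
            fun _ _ _ => Nat.zero_le _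
        rw [Finset.sum_pair hne.symm] at h
        omega
    have hχdeg : charDegree (χ : G → ℂ) + 1 = p := by
      have hS' : S = charDegree (χ : G → ℂ) := by
        rw [hS, Finset.sum_eq_single χ (fun ψ hψ hne => by rw [hrest ψ hψ hne, zero_mul])
          (fun h => absurd hχo h), hmχ1, one_mul]
      rw [hS', hM0] at hDegT
      omega
    refine ⟨φ, {χ}, hφdeg, fun h => hφX.1 (Finset.mem_singleton.1 h ▸ hχX),
      fun h => hχ1 (Finset.mem_singleton.1 h).symm, hφ1', ?_, hφv, fun η hη => ?_,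
      Or.inl ⟨χ, rfl, hχdeg⟩⟩
    · refine hdec' _ (fun h => hφX.1 (Finset.mem_singleton.1 h ▸ hχX))
        (fun h => hχ1 (Finset.mem_singleton.1 h).symm)
        (fun ψ hψ => (Finset.mem_singleton.1 hψ).symm ▸ hmχ1) fun ψ h1 h2 h3 => ?_
      rw [Finset.mem_singleton] at h3
      by_cases hX : ψ ∈ X
      · exact hrest ψ (Finset.mem_erase.2 ⟨h1, hX⟩) h3
      by_cases hY : ψ ∈ Y
      · rw [hMconst ψ hY, hM0]
      · exact hO0 ψ (by simp [hO, hX, hY]) h2
    · rw [Finset.mem_singleton.1 hη]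
      exact hfaith χ hχ1 (by omega)
  · -- the exceptional characters
    have hM1 : M = 1 := by omega
    have hS0 : ∀ χ ∈ Xo, m χ = 0 := by
      intro χ hχ
      by_cases ha : a χ = 1
      · exact hXpzero χ hχ ha
      · have : m χ ≤ nm := Finset.single_le_sum (f := m) (fun i _ => Nat.zero_le _)
          (Finset.mem_filter.2 ⟨hχ, ha⟩)
        omega
    have hY1 : oneChar G ∉ Y := fun h => ne_one_of_mem B h rfl
    have hS' : S = 0 := Finset.sum_eq_zero fun χ hχ => by rw [hS0 χ hχ, zero_mul]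
    rw [hS', hM1] at hDegT
    have htD : Y.card * D + 1 = p := by omega
    refine ⟨φ, Y, hφdeg, hφX.2, hY1, hφ1', ?_, hφv, fun η hη => ?_, ?_⟩
    · refine hdec' _ hφX.2 hY1 (fun ψ hψ => (hMconst ψ hψ).trans hM1) fun ψ h1 h2 h3 => ?_
      by_cases hX : ψ ∈ X
      · exact hS0 ψ (Finset.mem_erase.2 ⟨h1, hX⟩)
      · exact hO0 ψ (by simp [hO, hX, h3]) h2
    · exact hfaith η (ne_one_of_mem B hη) (by rw [hMconst η hη]; omega)
    · rcases Nat.lt_or_ge Y.card 2 with h | h
      · obtain ⟨χ, hχ⟩ := Finset.card_eq_one.1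
          (show Y.card = 1 by have := Finset.card_pos.2 ⟨η₀, hη₀⟩; omega)
        refine Or.inl ⟨χ, hχ, ?_⟩
        rw [hDeq χ (hχ ▸ Finset.mem_singleton_self χ)]
        rw [show Y.card = 1 by have := Finset.card_pos.2 ⟨η₀, hη₀⟩; omega, one_mul] at htD
        exact htD
      · have hDe : D = e := Nat.eq_of_mul_eq_mul_left (show 0 < Y.card by omega) (by omega)
        exact Or.inr ⟨h, hcY, fun η hη => (hDeq η hη).trans hDe,
          fun θ hθ θ' hθ' => sum_Ps_mul B hP hC he hθ hθ'⟩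

end Cfsg.Agent.WielandtTwoP7
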