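import Cfsg.Agent.Lib.WielandtTwoP7Small
import Cfsg.Agent.Lib.WielandtTwoP7Group

/-!
# Primitive groups of degree `2 p` with a faithful character of degree at most `(p - 1) / 2`
-/

set_option autoImplicit false

open Finset

namespace Cfsg.Agent.WielandtTwoP7

open Cfsg Cfsg.Agent.CharBasic Cfsg.Agent.CharBasicOrth Cfsg.Agent.DefectOneSign7
open Cfsg.Agent.BlockPrincipal81 Cfsg.Agent.BrauerReynolds7

attribute [local instance] Classical.propDecidable

universe u v

variable {G : Type u} [Group G] [Fintype G] {α : Type v} [Fintype α] [MulAction G α]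
  {p : ℕ} [Fact p.Prime]

/-- Such a degree is exactly `(p - 1) / 2`, and odd. -/
theorem odd_half [FaithfulSMul G α] [MulAction.IsPreprimitive G α] (hα : Fintype.card α = 2 * p)
    {P : Sylow p G} (hP : Nat.card P = p)
    (hC : Subgroup.centralizer ((P : Subgroup G) : Set G) = (P : Subgroup G))
    {η : IrrCharacter G} {d : ℕ} (hd : charDegree (η : G → ℂ) = d) (hdp : 2 * d + 1 ≤ p)
    (hfaith : ∀ N : Subgroup G, N.Normal → (∀ g ∈ N, (η : G → ℂ) g = (η : G → ℂ) 1) → N = ⊥) :
    2 * d + 1 = p ∧ Odd d := by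
  have hp := (Fact.out : p.Prime)
  set N := Subgroup.normalClosure ((P : Subgroup G) : Set G) with hN
  haveI hNn : N.Normal := Subgroup.normalClosure_normal
  have hPN : (P : Subgroup G) ≤ N := Subgroup.le_normalClosure
  letI : Fintype N := Fintype.ofFinite N
  set Q : Sylow p N := P.subtype hPN with hQ
  have hQmem : ∀ x : N, x ∈ (Q : Subgroup N) ↔ (x : G) ∈ (P : Subgroup G) := fun x => Iff.rfl
  have hQc : Nat.card Q = p :=
    (Nat.card_congr (Subgroup.subgroupOfEquivOfLe hPN).toEquiv).trans hP
  have hNne : ¬ N ≤ (P : Subgroup G) := by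
    intro hle
    have hNb : N ≠ ⊥ := by
      intro h
      obtain ⟨y, hy⟩ := exists_mem_Ps hP
      exact (mem_Ps.1 hy).2 (Subgroup.mem_bot.1 (h ▸ hPN (mem_Ps.1 hy).1))
    haveI := normal_transitive (α := α) hNb
    exact not_transitive_of_card hα N (by rw [le_antisymm hle hPN]; exact hP) inferInstance
  have hQC : Subgroup.centralizer ((Q : Subgroup N) : Set N) = (Q : Subgroup N) := by
    ext x
    rw [hQmem, Subgroup.mem_centralizer_iff]
    constructor
    · intro h
      rw [← hC, Subgroup.mem_centralizer_iff]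
      exact fun y hy => congrArg Subtype.val (h ⟨y, hPN hy⟩ hy)
    · intro h y hy
      haveI := isMulCommutative_of_card P hP
      have h2 : (⟨(y : G), hy⟩ : ↥(P : Subgroup G)) * ⟨(x : G), h⟩ = ⟨(x : G), h⟩ * ⟨(y : G), hy⟩ :=
        IsMulCommutative.is_comm.comm _ _
      exact Subtype.ext (congrArg Subtype.val h2 : (y : G) * (x : G) = (x : G) * (y : G))
  obtain ⟨e', he'⟩ : ∃ e', (Subgroup.centralizer ((Q : Subgroup N) : Set N)).relIndex
      (Subgroup.normalizer ((Q : Subgroup N) : Set N)) = e' := ⟨_, rfl⟩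
  have he2 : 2 ≤ e' := by
    refine two_le_index Q hQc (fun h => hNne fun x hx => ?_) (fun K hK hKp hKall => ?_) he'
    · have : (⟨x, hx⟩ : N) ∈ (Q : Subgroup N) := h ▸ Subgroup.mem_top _
      exact this
    · haveI : (K.map N.subtype).Normal := by
        refine ⟨?_⟩
        rintro _ ⟨k, hk, rfl⟩ g
        refine ⟨⟨g * (k : G) * g⁻¹, hNn.conj_mem _ k.2 g⟩, hKall _ fun hd => hKp ?_, rfl⟩
        rw [Subgroup.orderOf_mk, show g * (k : G) * g⁻¹ = MulAut.conj g k from rfl,
          MulEquiv.orderOf_eq, Subgroup.orderOf_coe] at hd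
        exact hd.trans (Subgroup.orderOf_dvd_natCard _ hk)
      have := eq_bot_of_not_dvd (α := α) hα (N := K.map N.subtype)
        (by rwa [Subgroup.card_map_of_injective (Subgroup.subtype_injective N)])
      exact (Subgroup.map_eq_bot_iff_of_injective _ (Subgroup.subtype_injective N)).1 this
  obtain ⟨m, hm, hdec⟩ := CharBasicDecomp.exists_mult
    (isCharacter_comap N.subtype (isCharacter_of_isIrrCharacter η.2))
  have hdeg : ∑ ψ : IrrCharacter N, m ψ * charDegree (ψ : N → ℂ) = d := by
    have h := congrFun hdec 1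
    simp only [Finset.sum_apply, Pi.smul_apply, smul_eq_mul, map_one,
      ClassAlgebraVal.apply_one_eq_charDegree, Function.comp] at h
    rw [hd] at h
    exact_mod_cast h.symm
  obtain ⟨ψ, hψm, hψ2⟩ : ∃ ψ : IrrCharacter N, 1 ≤ m ψ ∧ 2 ≤ charDegree (ψ : N → ℂ) := by
    by_contra hc
    push Not at hc
    have hbot : (commutator N).map N.subtype = ⊥ := by
      refine hfaith _ (by rw [Subgroup.map_subtype_commutator]; infer_instance) ?_
      rintro _ ⟨c, hcc, rfl⟩
      have h1 := congrFun hdec c
      have h2 := congrFun hdec 1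
      simp only [Finset.sum_apply, Pi.smul_apply, smul_eq_mul, Function.comp, map_one] at h1 h2
      rw [h1, h2]
      refine Finset.sum_congr rfl fun φ _ => ?_
      rcases Nat.eq_zero_or_pos (m φ) with h | h
      · simp [h]
      congr 1
      have hone : charDegree (φ : N → ℂ) = 1 := by
        have := ClassAlgebraVal.charDegree_pos φ
        have := hc φ h
        omega
      obtain ⟨f, hf⟩ := CharBasicLinear.exists_hom_of_apply_one_eq_one
        (isCharacter_of_isIrrCharacter φ.2)
        (by rw [ClassAlgebraVal.apply_one_eq_charDegree, hone, Nat.cast_one])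
      rw [hf]
      show ((f c : ℂˣ) : ℂ) = ((f 1 : ℂˣ) : ℂ)
      rw [MonoidHom.mem_ker.1 (Abelianization.commutator_subset_ker f hcc), map_one]
    have hcom := (Subgroup.map_eq_bot_iff_of_injective _ (Subgroup.subtype_injective N)).1 hbot
    refine hNne fun x hx => ?_
    rw [← hC, Subgroup.mem_centralizer_iff]
    intro y hy
    have h := (commutatorElement_eq_one_iff_mul_comm (g₁ := (⟨y, hPN hy⟩ : N)) (g₂ := ⟨x, hx⟩)).1
      (Subgroup.mem_bot.1 (hcom ▸
        Subgroup.commutator_mem_commutator (Subgroup.mem_top _) (Subgroup.mem_top _)))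
    exact congrArg Subtype.val h
  have hψd : charDegree (ψ : N → ℂ) ≤ d := by
    rw [← hdeg]
    exact le_trans (Nat.le_mul_of_pos_left _ hψm)
      (Finset.single_le_sum (f := fun φ : IrrCharacter N => m φ * charDegree (φ : N → ℂ))
        (fun _ _ => Nat.zero_le _) (Finset.mem_univ ψ))
  obtain ⟨h1, h2, h3⟩ := small_degree hQc hQC he' he2 (fun l hl hly => by
    obtain ⟨f, hf⟩ := CharBasicLinear.exists_hom_of_apply_one_eq_one
      (isCharacter_of_isIrrCharacter l.2)
      (by rw [ClassAlgebraVal.apply_one_eq_charDegree, hl, Nat.cast_one])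
    have hord : ∀ x : N, orderOf x = p → f x = 1 := by
      intro x hx
      obtain ⟨g, hg⟩ := exists_conj_Ps hQc hQC (g := x) (dvd_of_eq hx.symm)
      have h1 := hly _ hg
      rw [hf] at h1
      have h2 : f (g * x * g⁻¹) = 1 := Units.ext h1
      rwa [map_mul, map_mul, mul_right_comm, ← map_mul, mul_inv_cancel, map_one, one_mul] at h2
    have htop : N ≤ f.ker.map N.subtype := by
      refine (Subgroup.closure_le _).2 fun x hx => ?_
      obtain ⟨y, hy, hxy⟩ := Group.mem_conjugatesOfSet_iff.1 hx
      have hxN : x ∈ N := Subgroup.conjugatesOfSet_subset_normalClosure hx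
      refine ⟨⟨x, hxN⟩, MonoidHom.mem_ker.2 ?_, rfl⟩
      by_cases hy1 : y = 1
      · subst hy1
        have : x = 1 := isConj_one_right.1 hxy
        subst this
        exact map_one f
      refine hord _ ?_
      rw [Subgroup.orderOf_mk]
      obtain ⟨c, rfl⟩ := isConj_iff.1 hxy
      rw [show c * y * c⁻¹ = MulAut.conj c y from rfl, MulEquiv.orderOf_eq]
      exact orderOf_mem hP (mem_Ps.2 ⟨hy, hy1⟩)
    refine Subtype.ext (funext fun x => ?_)
    obtain ⟨x', hx', hxx⟩ := htop x.2
    obtain rfl : x' = x := Subtype.ext hxx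
    rw [hf]
    show ((f x' : ℂˣ) : ℂ) = 1
    rw [MonoidHom.mem_ker.1 hx', Units.val_one]) hψ2 (by omega)
  have hde : d = e' := by omega
  exact ⟨by omega, hde ▸ h3⟩

end Cfsg.Agent.WielandtTwoP7
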