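import Cfsg.Agent.Lib.BrauerReynolds7Base
import Cfsg.Agent.Lib.PermOrbital28

/-!
# Primitive groups of degree `2 p`: there is no decomposition `1 + e + e + p` with `e` odd
-/

set_option autoImplicit false

open Finset
open scoped ComplexConjugate

namespace Cfsg.Agent.WielandtTwoP7

open Cfsg Cfsg.Agent.CharBasic Cfsg.Agent.CharBasicOrth Cfsg.Agent.DefectOneSign7
open Cfsg.Agent.BlockPrincipal81 Cfsg.Agent.BrauerReynolds7 Cfsg.Agent.PermOrbital28
open Cfsg.Agent.PermCentralizer28

attribute [local instance] Classical.propDecidable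

universe u v

variable {G : Type u} [Group G] [Fintype G] {α : Type v} [Fintype α] [MulAction G α]
  {p : ℕ} [Fact p.Prime]

/-- A set of points invariant under a fixed-point-free element of order `p` has size divisible by
`p`. -/
theorem dvd_card_invariant (hfree : ∀ g : G, orderOf g = p → ∀ x : α, g • x ≠ x) {y : G}
    (hy : orderOf y = p) (s : Finset α) (hs : ∀ x, x ∈ s ↔ y • x ∈ s) : p ∣ s.card := by
  let σ : Equiv.Perm s := (MulAction.toPerm y).subtypeEquiv fun x => hs x
  have hσp : σ ^ p ^ 1 = 1 := by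
    have hpow : ∀ (n : ℕ) (x : s), (((σ ^ n) x : s) : α) = y ^ n • (x : α) := by
      intro n
      induction n with
      | zero => intro x; simp
      | succ n ih =>
        intro x
        rw [pow_succ', pow_succ', Equiv.Perm.mul_apply, mul_smul, ← ih x]
        rfl
    refine Equiv.ext fun x => Subtype.ext ?_
    rw [hpow, pow_one, ← hy, pow_orderOf_eq_one, one_smul]
    rfl
  have hempty : σ.supportᶜ = ∅ := by
    rw [Finset.eq_empty_iff_forall_notMem]
    intro x hx
    rw [Finset.mem_compl, Equiv.Perm.notMem_support] at hx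
    exact hfree y hy x (congrArg Subtype.val hx)
  have h := Equiv.Perm.card_compl_support_modEq (n := 1) hσp
  rw [hempty, Finset.card_empty, Fintype.card_coe] at h
  exact (Nat.modEq_zero_iff_dvd).1 h.symm

/-- A subset of `P` minus the identity stable under the normalizer has size divisible by `e`. -/
theorem dvd_card_class {P : Sylow p G} (hP : Nat.card P = p)
    (hC : Subgroup.centralizer ((P : Subgroup G) : Set G) = (P : Subgroup G)) {e : ℕ}
    (he : (Subgroup.centralizer ((P : Subgroup G) : Set G)).relIndex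
      (Subgroup.normalizer ((P : Subgroup G) : Set G)) = e) (S : Finset G) (hS : S ⊆ Ps P)
    (hinv : ∀ y ∈ S, ∀ n ∈ Subgroup.normalizer ((P : Subgroup G) : Set G), n * y * n⁻¹ ∈ S) :
    e ∣ S.card := by
  induction S using Finset.strongInduction with
  | H S ih =>
    rcases S.eq_empty_or_nonempty with rfl | ⟨y, hy⟩
    · simp
    set N := Subgroup.normalizer ((P : Subgroup G) : Set G) with hN
    set O := (els N).image fun n => n * y * n⁻¹ with hO
    have hyo : y ∈ Ps P := hS hy
    have hcardO : O.card = e := by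
      have h1 := Finset.card_eq_sum_card_image (fun n => n * y * n⁻¹) (els N)
      rw [card_els, hN, card_normalizer hP hC e he, ← hN, ← hO,
        Finset.sum_congr rfl (g := fun _ => p) fun z hz => by
          obtain ⟨n, hn, rfl⟩ := Finset.mem_image.1 hz
          rw [mem_els] at hn
          refine Eq.trans ?_ (card_els (P : Subgroup G) |>.trans hP)
          refine Finset.card_nbij' (fun k => n⁻¹ * k) (fun c => n * c) ?_ ?_ ?_ ?_
          · intro k hk
            simp only [Finset.coe_filter, Set.mem_setOf_eq] at hk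
            rw [Finset.mem_coe, mem_els]
            refine mem_P_of_comm hP hC hyo ?_
            calc n⁻¹ * k * y = n⁻¹ * (k * y * k⁻¹) * k := by group
              _ = y * (n⁻¹ * k) := by rw [hk.2]; group
          · intro c hc
            rw [Finset.mem_coe, mem_els] at hc
            haveI := isMulCommutative_of_card P hP
            have hcy : c * y = y * c :=
              congrArg Subtype.val (IsMulCommutative.is_comm.comm
                (⟨c, hc⟩ : ↥(P : Subgroup G)) ⟨y, (mem_Ps.1 hyo).1⟩)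
            simp only [Finset.coe_filter, Set.mem_setOf_eq, mem_els]
            refine ⟨mul_mem hn (Subgroup.le_normalizer hc), ?_⟩
            calc n * c * y * (n * c)⁻¹ = n * (c * y) * c⁻¹ * n⁻¹ := by group
              _ = n * y * n⁻¹ := by rw [hcy]; group
          · intro k _; simp
          · intro c _; simp,
        Finset.sum_const, smul_eq_mul, mul_comm p e] at h1
      exact (Nat.eq_of_mul_eq_mul_right (Fact.out : p.Prime).pos h1).symm
    have hOS : O ⊆ S := fun z hz => by
      obtain ⟨n, hn, rfl⟩ := Finset.mem_image.1 hz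
      exact hinv y hy n (mem_els.1 hn)
    have hrec := ih (S \ O) (Finset.sdiff_ssubset hOS
        ⟨y, Finset.mem_image.2 ⟨1, mem_els.2 (one_mem _), by group⟩⟩)
      (Finset.sdiff_subset.trans hS) fun z hz n hn => by
        rw [Finset.mem_sdiff] at hz ⊢
        refine ⟨hinv z hz.1 n hn, fun h => hz.2 ?_⟩
        obtain ⟨k, hk, hkz⟩ := Finset.mem_image.1 h
        refine Finset.mem_image.2 ⟨n⁻¹ * k, mem_els.2 (mul_mem (inv_mem hn) (mem_els.1 hk)), ?_⟩
        calc n⁻¹ * k * y * (n⁻¹ * k)⁻¹ = n⁻¹ * (k * y * k⁻¹) * n := by group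
          _ = z := by rw [hkz]; group
    rw [← Finset.card_sdiff_add_card_eq_card hOS, hcardO]
    exact dvd_add hrec dvd_rfl

/-- The analysis of one suborbit: some elements of `P` map two orbits along it. -/
theorem suborbit_sets [MulAction.IsPretransitive G α] (hα : Fintype.card α = 2 * p)
    (hfree : ∀ g : G, orderOf g = p → ∀ x : α, g • x ≠ x) {P : Sylow p G} (hP : Nat.card P = p)
    (hC : Subgroup.centralizer ((P : Subgroup G) : Set G) = (P : Subgroup G)) {e : ℕ}
    (he : (Subgroup.centralizer ((P : Subgroup G) : Set G)).relIndex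
      (Subgroup.normalizer ((P : Subgroup G) : Set G)) = e) (he0 : 0 < e) (hodd : Odd e)
    (hpe : 2 * e + 1 = p)
    {φ : IrrCharacter G} {Y : Finset (IrrCharacter G)} (hφd : charDegree (φ : G → ℂ) = p)
    (hφY : φ ∉ Y) (h1Y : oneChar G ∉ Y) (hφ1 : φ ≠ oneChar G) (hYc : Y.card = 2)
    (hdec : pc G α = (oneChar G : G → ℂ) + (φ : G → ℂ) + ∑ η ∈ Y, (η : G → ℂ))
    (hφv : ∀ y ∈ Ps P, (φ : G → ℂ) y = 0) (hYd : ∀ η ∈ Y, charDegree (η : G → ℂ) = e)
    (hmul : ∀ θ ∈ Y, ∀ θ' ∈ Y, ∑ y ∈ Ps P, (θ : G → ℂ) y * conj ((θ' : G → ℂ) y) =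
      (if θ = θ' then (p : ℂ) * e else 0) - (e : ℂ) ^ 2)
    {a₀ b : α} (hb : b ≠ a₀)
    (hk : 2 ≤ Nat.card (MulAction.orbit (MulAction.stabilizer G a₀) b)) :
    e ≤ ((Ps P).filter fun y => ∀ x : α, ∃ g : G, g • a₀ = x ∧ g • b = y • x).card := by
  have hp := (Fact.out : p.Prime)
  haveI : Nonempty α := ⟨a₀⟩
  set ρ := Cfsg.permRep ℂ G α with hρ
  set R : α → α → ℂ := fun x z => (orbital G a₀ b x z : ℂ) with hR
  set Rt : α → α → ℂ := fun x z => R z x with hRt
  have hRi : Inv G R := orbital_inv a₀ b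
  have hRti : Inv G Rt := fun g x z => hRi g z x
  have hA := op_commutes hRi
  have hAt := op_commutes hRti
  set k := Nat.card (MulAction.orbit (MulAction.stabilizer G a₀) b) with hkdef
  have hR01 : ∀ x z, R x z = if ∃ g : G, g • a₀ = x ∧ g • b = z then 1 else 0 := by
    intro x z
    simp only [hR, orbital]
    split_ifs <;> simp
  set cnt : G → ℕ := fun g =>
    (Finset.univ.filter fun x : α => ∃ h : G, h • a₀ = x ∧ h • b = g • x).card with hcnt
  have hT : ∀ g, tf ρ (op R) g = (cnt g : ℂ) := by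
    intro g
    rw [hρ, tf_op]
    simp only [hR01, Finset.sum_boole, hcnt]
  have hclass : ∀ g h : G, cnt (h * g * h⁻¹) = cnt g := by
    intro g h
    have := isClassFunction_tf ρ hA g h
    rw [hT, hT] at this
    exact_mod_cast this
  -- the coefficients
  set cR : IrrCharacter G → ℂ := fun χ => Cfsg.classInner (tf ρ (op R)) (χ : G → ℂ) with hcR
  have hrow : ∀ x, ∑ z, R x z = (k : ℂ) := fun x => sum_orbital a₀ b x
  have hTrev : ∀ g, tf ρ (op Rt) g = tf ρ (op R) g⁻¹ := fun g => tf_transpose hRi g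
  have hcRt : ∀ χ : IrrCharacter G,
      Cfsg.classInner (tf ρ (op Rt)) (χ : G → ℂ) = conj (cR χ) := by
    intro χ
    simp only [hcR, Cfsg.classInner, map_mul, map_inv₀, map_natCast, map_sum, Complex.conj_conj]
    congr 1
    refine Fintype.sum_equiv (Equiv.inv G) _ _ fun g => ?_
    rw [Equiv.inv_apply, hTrev, hT, map_natCast,
      isCharacter_inv (isCharacter_of_isIrrCharacter χ.2)]
  have hcol : ∀ x, ∑ z, Rt x z = (k : ℂ) := by
    have hconst : ∀ x, ∑ z, Rt x z = ∑ z, Rt a₀ z := by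
      intro x
      obtain ⟨g, rfl⟩ := MulAction.exists_smul_eq G a₀ x
      refine (Fintype.sum_equiv (MulAction.toPerm g) _ _ fun z => ?_).symm
      rw [MulAction.toPerm_apply, hRti g]
    intro x
    have h1 : ∑ x', ∑ z, Rt x' z = (Fintype.card α : ℂ) * (k : ℂ) := by
      rw [Finset.sum_comm, Finset.sum_congr rfl fun z _ => hrow z, Finset.sum_const,
        Finset.card_univ, nsmul_eq_mul]
    rw [Finset.sum_congr rfl fun x' _ => hconst x', Finset.sum_const, Finset.card_univ,
      nsmul_eq_mul] at h1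
    rw [hconst x]
    exact mul_left_cancel₀ (Nat.cast_ne_zero.2 Fintype.card_ne_zero) h1
  -- the constituents occur once
  set Z : Finset (IrrCharacter G) := insert (oneChar G) (insert φ Y) with hZ
  have hdec' : pc G α = ∑ ψ ∈ Z, (ψ : G → ℂ) := by
    rw [hdec, hZ, Finset.sum_insert (by simp [h1Y, hφ1.symm]), Finset.sum_insert hφY, add_assoc]
  have hmult : ∀ χ : IrrCharacter G,
      Cfsg.classInner ρ.character (χ : G → ℂ) = if χ ∈ Z then 1 else 0 := by
    intro χ
    rw [hρ, character_eq, hdec', classInner_sum_left,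
      Finset.sum_congr rfl fun ψ _ => classInner_irrCharacter ψ χ, Finset.sum_ite_eq']
  set B : Module.End ℂ (α → ℂ) := op R * op Rt with hB
  have hBc : Commutes ρ B := fun g v => by
    rw [hB, Module.End.mul_apply, Module.End.mul_apply, hAt g, hA g]
  have hscal : ∀ χ ∈ Z, Cfsg.classInner (tf ρ B) (χ : G → ℂ) = cR χ * conj (cR χ) := by
    intro χ hχ
    obtain ⟨U, hU, hUc⟩ := exists_sub ρ χ.2 (by rw [hmult, if_pos hχ]; exact one_ne_zero)
    haveI := hU
    have h1 : Cfsg.classInner ρ.character U.toRepresentation.character = 1 := by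
      rw [hUc, hmult, if_pos hχ]
    obtain ⟨l, hl⟩ := exists_scalar_sub ρ U h1 hA
    obtain ⟨l', hl'⟩ := exists_scalar_sub ρ U h1 hAt
    have e1 : cR χ = l := by
      simp only [hcR]; rw [← hUc]; exact classInner_tf_eq_scalar ρ hA U h1 hl
    have e2 : conj (cR χ) = l' := by
      rw [← hcRt, ← hUc]; exact classInner_tf_eq_scalar ρ hAt U h1 hl'
    rw [e2, e1, ← hUc]
    refine classInner_tf_eq_scalar ρ hBc U h1 fun v hv => ?_
    rw [hB, Module.End.mul_apply, hl' v hv, map_smul, hl v hv, smul_smul, mul_comm]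
  have hexp : ∀ {A : Module.End ℂ (α → ℂ)}, Commutes ρ A → ∀ g, tf ρ A g =
      ∑ χ ∈ Z, Cfsg.classInner (tf ρ A) (χ : G → ℂ) * (χ : G → ℂ) g := by
    intro A hA g
    have h := congrFun (eq_sum_classInner (isClassFunction_tf ρ hA)) g
    rw [Finset.sum_apply] at h
    rw [h, ← Finset.sum_subset (Finset.subset_univ Z) (fun ψ _ hψ => by
      rw [Pi.smul_apply, classInner_tf_eq_zero ρ hA (isCharacter_of_isIrrCharacter ψ.2)
        (by rw [hmult, if_neg hψ]), zero_smul])]
    simp only [Pi.smul_apply, smul_eq_mul]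
  have hZsum : ∀ f : IrrCharacter G → ℂ,
      ∑ χ ∈ Z, f χ = f (oneChar G) + f φ + ∑ η ∈ Y, f η := fun f => by
    rw [hZ, Finset.sum_insert (by simp [h1Y, hφ1.symm]), Finset.sum_insert hφY, add_assoc]
  have hc1 : cR (oneChar G) = (k : ℂ) := classInner_tf_op_one hrow
  set c₀ := cR φ with hc₀
  set C := ∑ η ∈ Y, cR η with hCdef
  set C2 := ∑ η ∈ Y, cR η * conj (cR η) with hC2
  have hdeg1 : ∀ χ : IrrCharacter G, (χ : G → ℂ) 1 = (charDegree (χ : G → ℂ) : ℂ) :=
    ClassAlgebraVal.apply_one_eq_charDegree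
  have hone : charDegree (oneChar G : G → ℂ) = 1 := by
    have h := hdeg1 (oneChar G)
    rw [show (oneChar G : G → ℂ) 1 = 1 from rfl] at h
    exact_mod_cast h.symm
  have hE0 : (k : ℂ) + p * c₀ + e * C = 0 := by
    have h := hexp hA 1
    rw [hT, show cnt 1 = 0 from Finset.card_eq_zero.2 (Finset.filter_eq_empty_iff.2 fun x _ ⟨g, h1, h2⟩ =>
        hb (MulAction.injective g (h2.trans ((one_smul G x).trans h1.symm)))),
      hZsum, hdeg1, hdeg1, hone, hφd, Finset.sum_congr rfl fun η hη => by rw [hdeg1, hYd η hη],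
      ← Finset.sum_mul] at h
    push_cast at h
    rw [show Cfsg.classInner (tf ρ (op R)) (oneChar G : G → ℂ) = (k : ℂ) from hc1] at h
    linear_combination -h
  have hE2 : (k : ℂ) ^ 2 + p * (c₀ * conj c₀) + e * C2 = 2 * p * k := by
    have h := hexp hBc 1
    rw [hZsum, hdeg1, hdeg1, hone, hφd,
      Finset.sum_congr rfl fun η hη => by rw [hdeg1, hYd η hη, hscal η (by simp [hZ, hη])],
      ← Finset.sum_mul, hscal φ (by simp [hZ]), hscal (oneChar G) (by simp [hZ]), hc1,
      Complex.conj_natCast] at h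
    have h2 : tf ρ B 1 = 2 * p * k := by
      rw [hB, op_mul, hρ, tf_op]
      have e2 : ∀ x, ∑ z, R x z * Rt z ((1 : G) • x) = (k : ℂ) := fun x => by
        rw [← hrow x]
        refine Finset.sum_congr rfl fun z _ => ?_
        rw [one_smul, hRt]
        simp only [hR01]
        split_ifs <;> simp
      rw [Finset.sum_congr rfl fun x _ => e2 x, Finset.sum_const, Finset.card_univ, hα, nsmul_eq_mul]
      push_cast; ring
    rw [h2] at h
    push_cast at h
    linear_combination -h
  -- the values on `P`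
  have hηsum : ∀ θ ∈ Y, ∑ y ∈ Ps P, (θ : G → ℂ) y = -(e : ℂ) := by
    intro θ hθ
    have h : ∑ η ∈ Y, ∑ y ∈ Ps P, (θ : G → ℂ) y * conj ((η : G → ℂ) y) = e := by
      rw [Finset.sum_congr rfl fun η hη => hmul θ hθ η hη, Finset.sum_sub_distrib,
        Finset.sum_ite_eq, if_pos hθ, Finset.sum_const, hYc, nsmul_eq_mul, ← hpe]
      push_cast; ring
    rw [Finset.sum_comm, Finset.sum_congr rfl fun y hy => show
      ∑ η ∈ Y, (θ : G → ℂ) y * conj ((η : G → ℂ) y) = -(θ : G → ℂ) y by
        have h0 := congrFun hdec y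
        have h1 : pc G α y = 0 := by
          have : IsEmpty (MulAction.fixedBy α y) :=
            ⟨fun x => hfree y (orderOf_mem hP hy) x x.2⟩
          simp [pc]
        simp only [h1, Pi.add_apply, hφv y hy, Finset.sum_apply,
          show (oneChar G : G → ℂ) y = 1 from rfl, add_zero] at h0
        have h2 : ∑ η ∈ Y, (η : G → ℂ) y = -1 := by linear_combination -h0
        rw [← Finset.mul_sum, ← map_sum, h2, map_neg, map_one, mul_neg_one],
      Finset.sum_neg_distrib] at h
    linear_combination -h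
  have hTy : ∀ y ∈ Ps P, (cnt y : ℂ) = k + ∑ η ∈ Y, cR η * (η : G → ℂ) y := by
    intro y hy
    rw [← hT, hexp hA y, hZsum, hφv y hy, mul_zero, add_zero,
      show (oneChar G : G → ℂ) y = 1 from rfl, mul_one]
    exact congrArg (· + _) hc1
  have hS1 : ∑ y ∈ Ps P, (cnt y : ℂ) = ((p : ℂ) - 1) * k - e * C := by
    rw [Finset.sum_congr rfl hTy, Finset.sum_add_distrib, Finset.sum_const, card_Ps hP, Finset.sum_comm,
      Finset.sum_congr rfl fun η hη => show ∑ y ∈ Ps P, cR η * (η : G → ℂ) y = cR η * -(e : ℂ) by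
        rw [← Finset.mul_sum, hηsum η hη],
      ← Finset.sum_mul, nsmul_eq_mul, Nat.cast_sub hp.one_le, Nat.cast_one]
    ring
  have hS2 : ∑ y ∈ Ps P, (cnt y : ℂ) * (cnt y : ℂ) =
      ((p : ℂ) - 1) * k ^ 2 - e * k * (C + conj C) + p * e * C2 - (e : ℂ) ^ 2 * (C * conj C) := by
    have h1 : ∀ y ∈ Ps P, (cnt y : ℂ) * (cnt y : ℂ) = (k : ℂ) * (k : ℂ) +
        (k : ℂ) * ∑ η ∈ Y, cR η * (η : G → ℂ) y +
        (k : ℂ) * ∑ η ∈ Y, conj (cR η) * conj ((η : G → ℂ) y) +
        ∑ η ∈ Y, ∑ θ ∈ Y, cR η * conj (cR θ) * ((η : G → ℂ) y * conj ((θ : G → ℂ) y)) := by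
      intro y hy
      have h2 : (cnt y : ℂ) = k + ∑ η ∈ Y, conj (cR η) * conj ((η : G → ℂ) y) := by
        have := congrArg conj (hTy y hy)
        simpa only [map_natCast, map_add, map_sum, map_mul] using this
      conv_lhs => arg 1; rw [hTy y hy]
      rw [h2, add_mul, mul_add, mul_add, Finset.sum_mul_sum,
        Finset.sum_congr rfl (s₁ := Y) fun η _ => Finset.sum_congr rfl fun θ _ =>
          mul_mul_mul_comm (cR η) ((η : G → ℂ) y) (conj (cR θ)) (conj ((θ : G → ℂ) y))]
      ring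
    rw [Finset.sum_congr rfl h1]
    simp only [Finset.sum_add_distrib, Finset.sum_const, card_Ps hP, nsmul_eq_mul, ← Finset.mul_sum]
    rw [Nat.cast_sub hp.one_le, Nat.cast_one, Finset.sum_comm (s := Ps P) (t := Y),
      Finset.sum_comm (s := Ps P) (t := Y), Finset.sum_comm (s := Ps P) (t := Y)]
    rw [Finset.sum_congr rfl (s₁ := Y) fun η hη => show
        ∑ y ∈ Ps P, cR η * (η : G → ℂ) y = cR η * -(e : ℂ) by rw [← Finset.mul_sum, hηsum η hη],
      Finset.sum_congr rfl (s₁ := Y) fun η hη => show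
        ∑ y ∈ Ps P, conj (cR η) * conj ((η : G → ℂ) y) = conj (cR η) * -(e : ℂ) by
          rw [← Finset.mul_sum, ← map_sum, hηsum η hη, map_neg, map_natCast]]
    rw [Finset.sum_congr rfl (s₁ := Y) fun η hη => show
        ∑ y ∈ Ps P, ∑ θ ∈ Y, cR η * conj (cR θ) * ((η : G → ℂ) y * conj ((θ : G → ℂ) y)) =
          cR η * conj (cR η) * ((p : ℂ) * e) - cR η * conj C * (e : ℂ) ^ 2 by
        rw [Finset.sum_comm, Finset.sum_congr rfl fun θ hθ => show
          ∑ y ∈ Ps P, cR η * conj (cR θ) * ((η : G → ℂ) y * conj ((θ : G → ℂ) y)) =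
            cR η * conj (cR θ) * ((if η = θ then (p : ℂ) * e else 0) - (e : ℂ) ^ 2) by
              rw [← Finset.mul_sum, hmul η hη θ hθ]]
        simp only [mul_sub, mul_ite, mul_zero, Finset.sum_sub_distrib, Finset.sum_ite_eq, if_pos hη,
          ← Finset.sum_mul, hCdef, map_sum, Finset.mul_sum]]
    simp only [Finset.sum_sub_distrib, ← Finset.sum_mul, ← hC2, ← hCdef, ← map_sum]
    ring
  -- counting
  have hle2 : ∀ y ∈ Ps P, cnt y = 0 ∨ cnt y = p ∨ cnt y = 2 * p := by
    intro y hy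
    have hd : p ∣ cnt y := by
      refine dvd_card_invariant hfree (orderOf_mem hP hy) _ fun x => ?_
      simp only [Finset.mem_filter, Finset.mem_univ, true_and]
      constructor
      · rintro ⟨g, h1, h2⟩
        exact ⟨y * g, by rw [mul_smul, h1], by rw [mul_smul, h2]⟩
      · rintro ⟨g, h1, h2⟩
        exact ⟨y⁻¹ * g, by rw [mul_smul, h1, inv_smul_smul], by rw [mul_smul, h2, inv_smul_smul]⟩
    have hle : cnt y ≤ 2 * p := hα ▸ Finset.card_le_univ _
    obtain ⟨j, hj⟩ := hd
    rw [hj] at hle ⊢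
    rw [mul_comm 2 p] at hle
    have := Nat.le_of_mul_le_mul_left hle hp.pos
    rcases j with _ | _ | _ | j
    · simp
    · simp
    · right; right; ring
    · omega
  set S₁ := (Ps P).filter fun y => cnt y = p with hS₁
  set S₂ := (Ps P).filter fun y => cnt y = 2 * p with hS₂
  have hsum12 : ∀ F : ℕ → ℕ, F 0 = 0 →
      ∑ y ∈ Ps P, F (cnt y) = S₁.card * F p + S₂.card * F (2 * p) := by
    intro F hF
    rw [Finset.card_eq_sum_ones S₁, Finset.card_eq_sum_ones S₂, Finset.sum_mul, Finset.sum_mul,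
      one_mul, one_mul, hS₁, hS₂, Finset.sum_filter, Finset.sum_filter, ← Finset.sum_add_distrib]
    refine Finset.sum_congr rfl fun y hy => ?_
    have := hp.pos
    rcases hle2 y hy with h | h | h <;> rw [h]
    · rw [if_neg (by omega), if_neg (by omega), hF, add_zero]
    · rw [if_pos rfl, if_neg (by omega), add_zero]
    · rw [if_neg (by omega), if_pos rfl, zero_add]
  have hA1 : ∑ y ∈ Ps P, (cnt y : ℂ) = (p : ℂ) * (S₁.card + 2 * S₂.card) := by
    rw [← Nat.cast_sum, hsum12 (fun n => n) rfl]; push_cast; ring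
  have hA2 : ∑ y ∈ Ps P, (cnt y : ℂ) * (cnt y : ℂ) = (p : ℂ) ^ 2 * (S₁.card + 4 * S₂.card) := by
    simp only [← Nat.cast_mul]
    rw [← Nat.cast_sum, hsum12 (fun n => n * n) rfl]; push_cast; ring
  set α₀ : ℤ := (S₁.card : ℤ) + 2 * S₂.card - k with hα₀
  have hc0 : c₀ = (α₀ : ℂ) := by
    refine mul_left_cancel₀ (Nat.cast_ne_zero.2 hp.ne_zero : (p : ℂ) ≠ 0) ?_
    rw [hS1] at hA1
    rw [hα₀]
    push_cast
    linear_combination hA1 + hE0
  have hkey : (S₁.card : ℤ) + 4 * S₂.card = 2 * k - 2 * α₀ ^ 2 := by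
    refine Int.cast_injective (α := ℂ) ?_
    push_cast
    refine mul_left_cancel₀ (pow_ne_zero 2 (Nat.cast_ne_zero.2 hp.ne_zero) : (p : ℂ) ^ 2 ≠ 0) ?_
    rw [← hA2, hS2]
    have hCe : (e : ℂ) * C = -((k : ℂ) + p * α₀) := by rw [← hc0]; linear_combination hE0
    have hCe' : (e : ℂ) * conj C = -((k : ℂ) + p * α₀) := by
      have h := congrArg conj hCe
      simpa only [map_mul, map_natCast, map_neg, map_add, map_intCast] using h
    rw [hc0, map_intCast] at hE2
    linear_combination (p : ℂ) * hE2 + (-(k : ℂ) - (e : ℂ) * conj C) * hCe +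
      (-(k : ℂ) + ((k : ℂ) + p * α₀)) * hCe'
  have hS1eq : (S₁.card : ℤ) = 2 * (α₀ * (α₀ + 1)) := by
    linear_combination (-1 : ℤ) * hkey - 2 * hα₀
  have hdvd : ∀ v : ℕ, e ∣ ((Ps P).filter fun y => cnt y = v).card := fun v => by
    refine dvd_card_class hP hC he _ (Finset.filter_subset _ _) fun y hy n hn => ?_
    rw [Finset.mem_filter] at hy ⊢
    refine ⟨mem_Ps.2 ⟨(Subgroup.mem_normalizer_iff.1 hn y).1 (mem_Ps.1 hy.1).1, fun h => ?_⟩,
      (hclass y n).trans hy.2⟩
    exact (mem_Ps.1 hy.1).2 (conj_eq_one_iff.1 h)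
  have hS1zero : S₁.card = 0 := by
    obtain ⟨u, hu⟩ := hdvd p
    rw [← hS₁] at hu
    have hle : S₁.card ≤ 2 * e := by
      have := Finset.card_le_card (Finset.filter_subset (fun y => cnt y = p) (Ps P))
      rw [card_Ps hP, ← hS₁] at this
      omega
    rw [hu, mul_comm 2 e] at hle
    have hu2 := Nat.le_of_mul_le_mul_left hle he0
    obtain ⟨r, hr⟩ := Int.even_mul_succ_self α₀
    have heu : (e : ℤ) * u = 2 * (r + r) := by rw [← hr, ← hS1eq, hu]; push_cast; rfl
    obtain ⟨s, hs⟩ := hodd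
    rcases u with _ | _ | _ | u
    · simpa using hu
    · exfalso; push_cast at heu; omega
    · exfalso; push_cast at heu; omega
    · omega
  have hα01 : α₀ = 0 ∨ α₀ = -1 := by
    rw [hS1zero, Nat.cast_zero] at hS1eq
    rcases mul_eq_zero.1 ((mul_eq_zero.1 hS1eq.symm).resolve_left two_ne_zero) with h | h <;> omega
  have hS2pos : S₂.card ≠ 0 := fun h => by
    rw [hα₀, hS1zero, h] at hα01
    omega
  obtain ⟨v, hv⟩ := hdvd (2 * p)
  rw [← hS₂] at hv
  refine le_trans ?_ (Finset.card_le_card (s := S₂) fun y hy => ?_)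
  · rw [hv]
    exact Nat.le_mul_of_pos_right _ (Nat.pos_of_ne_zero fun h => hS2pos (by rw [hv, h, mul_zero]))
  · rw [hS₂, Finset.mem_filter] at hy
    refine Finset.mem_filter.2 ⟨hy.1, fun x => ?_⟩
    have hu := Finset.eq_univ_of_card _ (hy.2.trans hα.symm)
    have hx := Finset.mem_univ x
    rw [← hu] at hx
    exact (Finset.mem_filter.1 hx).2

end Cfsg.Agent.WielandtTwoP7
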