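import Cfsg.Agent.Lib.WielandtTwoP7Chars
import Cfsg.Agent.Lib.WielandtTwoP7Odd
import Cfsg.Agent.Lib.WielandtTwoP7Orbital
import Cfsg.Agent.S0719

/-!
# Wielandt's theorem on primitive groups of degree `2 p`
-/

set_option autoImplicit false

open MulAction

namespace Cfsg.Agent.WielandtTwoP7

open Cfsg Cfsg.Agent.CharBasic Cfsg.Agent.CharBasicOrth Cfsg.Agent.DefectOneSign7
open Cfsg.Agent.BlockPrincipal81 Cfsg.Agent.BrauerReynolds7 Cfsg.Agent.PermOrbital28

attribute [local instance] Classical.propDecidable

universe u v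

variable {G : Type u} [Group G] {α : Type v} [Fintype α] [MulAction G α]

/-- The quotient map to the suborbits. -/
def suborbit (G : Type u) [Group G] {α : Type v} [MulAction G α] (a₀ x : α) :
    orbitRel.Quotient (stabilizer G a₀) α := Quotient.mk _ x

theorem suborbit_eq {a₀ x y : α} :
    suborbit G a₀ x = suborbit G a₀ y ↔ ∃ k : stabilizer G a₀, k • y = x :=
  ⟨fun e => Quotient.exact e, fun e => Quotient.sound e⟩

/-- Two suborbits mean double transitivity. -/
theorem three_le_rank [Finite G] [IsPretransitive G α] (hnot : ¬ IsMultiplyPretransitive G α 2)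
    (a₀ : α) : 3 ≤ Nat.card (orbitRel.Quotient (stabilizer G a₀) α) := by
  haveI : Finite (orbitRel.Quotient (stabilizer G a₀) α) :=
    Finite.of_surjective (suborbit G a₀) Quotient.mk_surjective
  letI := Fintype.ofFinite (orbitRel.Quotient (stabilizer G a₀) α)
  by_contra hc
  apply hnot
  rw [is_two_pretransitive_iff]
  have hone : ∀ x y : α, x ≠ a₀ → y ≠ a₀ → suborbit G a₀ x = suborbit G a₀ y := by
    intro x y hx hy
    by_contra hne
    apply hc
    have h0 : ∀ z, z ≠ a₀ → suborbit G a₀ z ≠ suborbit G a₀ a₀ := fun z hz e => by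
      obtain ⟨k, hk⟩ := suborbit_eq.1 e
      exact hz (hk.symm.trans (mem_stabilizer_iff.1 k.2))
    rw [Nat.card_eq_fintype_card]
    exact Finset.two_lt_card_iff.2 ⟨suborbit G a₀ a₀, suborbit G a₀ x, suborbit G a₀ y,
      Finset.mem_univ _, Finset.mem_univ _, Finset.mem_univ _, (h0 x hx).symm, (h0 y hy).symm, hne⟩
  intro a b c d hab hcd
  obtain ⟨g, hg⟩ := exists_smul_eq G a a₀
  obtain ⟨h, hh⟩ := exists_smul_eq G c a₀
  obtain ⟨k, hk⟩ := suborbit_eq.1 (hone (h • d) (g • b)
    (fun e => hcd (smul_left_cancel h (hh.trans e.symm)))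
    (fun e => hab (smul_left_cancel g (hg.trans e.symm))))
  refine ⟨h⁻¹ * k * g, ?_, ?_⟩
  · rw [mul_smul, mul_smul, hg, mem_stabilizer_iff.1 k.2, ← hh, inv_smul_smul]
  · rw [mul_smul, mul_smul, show (k : G) • g • b = h • d from hk, inv_smul_smul]

/-- In a primitive group which is not regular every suborbit has length at least two. -/
theorem two_le_suborbit [Finite G] [IsPreprimitive G α] {a₀ b : α} (hb : b ≠ a₀)
    (hnr : ∃ k : stabilizer G a₀, ∃ x : α, k • x ≠ x) :
    2 ≤ Nat.card (orbit (stabilizer G a₀) b) := by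
  haveI : Nontrivial α := ⟨⟨b, a₀, hb⟩⟩
  haveI : Nonempty (orbit (stabilizer G a₀) b) := ⟨⟨b, mem_orbit_self b⟩⟩
  by_contra hc
  have hone : Nat.card (orbit (stabilizer G a₀) b) = 1 := by
    have := Nat.card_pos (α := orbit (stabilizer G a₀) b)
    omega
  set H := stabilizer G a₀ with hH
  have hco : IsCoatom H := IsPreprimitive.isCoatom_stabilizer_of_isPreprimitive G a₀
  have hle : H ≤ stabilizer G b := by
    intro k hk
    have hss := (Nat.card_eq_one_iff_unique.1 hone).1
    exact congrArg Subtype.val (hss.elim (⟨_, mem_orbit b (⟨k, hk⟩ : H)⟩ : orbit H b)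
      ⟨b, mem_orbit_self b⟩)
  have hHb : stabilizer G b = H := by
    rcases hco.le_iff.1 hle with h | h
    · exfalso
      obtain ⟨g, hg⟩ := exists_smul_eq G b a₀
      have : g ∈ stabilizer G b := h ▸ Subgroup.mem_top g
      exact hb ((mem_stabilizer_iff.1 this).symm.trans hg)
    · exact h
  obtain ⟨g, hg⟩ := exists_smul_eq G a₀ b
  have hgN : g ∈ Subgroup.normalizer (H : Set G) := by
    rw [Subgroup.mem_normalizer_iff]
    intro k
    conv_rhs => rw [← hHb, mem_stabilizer_iff, mul_smul, mul_smul, inv_smul_eq_iff.2 hg.symm,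
      smul_eq_iff_eq_inv_smul, inv_smul_eq_iff.2 hg.symm]
    exact mem_stabilizer_iff
  have hlt : H < Subgroup.normalizer (H : Set G) := lt_of_le_of_ne Subgroup.le_normalizer
    fun e => hb (hg.symm.trans (mem_stabilizer_iff.1 (e ▸ hgN : g ∈ H)))
  have htop := hco.2 _ hlt
  obtain ⟨k, x, hx⟩ := hnr
  apply hx
  obtain ⟨g', rfl⟩ := exists_smul_eq G a₀ x
  have hN : g'⁻¹ ∈ Subgroup.normalizer (H : Set G) := htop ▸ Subgroup.mem_top _
  have := mem_stabilizer_iff.1 ((Subgroup.mem_normalizer_iff.1 hN (k : G)).1 k.2)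
  rw [inv_inv, mul_smul, mul_smul, inv_smul_eq_iff] at this
  exact this

/-- A primitive group of degree four is doubly transitive. -/
theorem two_transitive_four [Finite G] [FaithfulSMul G α] [IsPreprimitive G α]
    (hα : Fintype.card α = 4) : IsMultiplyPretransitive G α 2 := by
  haveI : Fact (Nat.Prime 3) := ⟨by norm_num⟩
  haveI : Fact (Nat.Prime 2) := ⟨Nat.prime_two⟩
  obtain ⟨a₀⟩ : Nonempty α := Fintype.card_pos_iff.1 (by omega)
  haveI : Nontrivial α := Fintype.one_lt_card_iff_nontrivial.1 (by omega)
  haveI : IsPretransitive G α := inferInstance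
  set H := stabilizer G a₀ with hH
  have hidx : H.index = 4 := by
    rw [hH, index_stabilizer_of_transitive, Nat.card_eq_fintype_card, hα]
  have hco : IsCoatom H := IsPreprimitive.isCoatom_stabilizer_of_isPreprimitive G a₀
  have h3 : ∃ g ∈ H, orderOf g = 3 := by
    by_contra hc
    push Not at hc
    have hno3 : ¬ 3 ∣ Nat.card H := fun hd => by
      obtain ⟨g, hg⟩ := exists_prime_orderOf_dvd_card' 3 hd
      exact hc g g.2 (by rwa [Subgroup.orderOf_coe])
    have hpg : IsPGroup 2 G := by
      rw [IsPGroup.iff_card]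
      refine ⟨_, Nat.eq_prime_pow_of_unique_prime_dvd Nat.card_pos.ne' fun {q} hq hqd => ?_⟩
      have h24 : Nat.card G ∣ 24 := by
        let f : G →* Equiv.Perm α := MulAction.toPermHom G α
        have hf : Function.Injective f := fun g h e =>
          FaithfulSMul.eq_of_smul_eq_smul fun x : α => DFunLike.congr_fun e x
        have := Subgroup.card_dvd_of_injective f hf
        rwa [Nat.card_perm, Nat.card_eq_fintype_card (α := α), hα, show Nat.factorial 4 = 24 from rfl] at this
      have hq' : q ∣ 24 := hqd.trans h24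
      have hle := Nat.le_of_dvd (by norm_num) hq'
      have hq23 : q = 2 ∨ q = 3 := by
        interval_cases q <;> first | omega | (exfalso; revert hq hq'; decide)
      rcases hq23 with rfl | rfl
      · rfl
      · exfalso
        apply hno3
        rw [← H.card_mul_index, hidx] at hqd
        exact (Nat.Coprime.dvd_mul_right (by norm_num)).1 hqd
    haveI : Group.IsNilpotent G := hpg.isNilpotent
    have hN : H.Normal := Subgroup.NormalizerCondition.normal_of_coatom H
      normalizerCondition_of_isNilpotent hco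
    haveI := hN
    obtain ⟨k, hk⟩ := IsPGroup.iff_card.1 (hpg.to_quotient H)
    have hsimp : IsSimpleOrder (Subgroup (G ⧸ H)) := by
      haveI : Nontrivial (G ⧸ H) := Finite.one_lt_card_iff_nontrivial.1 (by
        rw [show Nat.card (G ⧸ H) = 4 from hidx]; norm_num)
      refine ⟨fun K => ?_⟩
      have hle : H ≤ K.comap (QuotientGroup.mk' H) := fun x hx => by
        rw [Subgroup.mem_comap, QuotientGroup.mk'_apply, (QuotientGroup.eq_one_iff x).2 hx]
        exact K.one_mem
      rcases hco.le_iff.1 hle with h | h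
      · right
        rw [← Subgroup.map_comap_eq_self_of_surjective (QuotientGroup.mk'_surjective H) K, h,
          Subgroup.map_top_of_surjective _ (QuotientGroup.mk'_surjective H)]
      · left
        rw [← Subgroup.map_comap_eq_self_of_surjective (QuotientGroup.mk'_surjective H) K, h]
        simp
    obtain ⟨z, hz⟩ := exists_prime_orderOf_dvd_card' (G := G ⧸ H) 2
      (by rw [show Nat.card (G ⧸ H) = 4 from hidx]; norm_num)
    rcases hsimp.eq_bot_or_eq_top (Subgroup.zpowers z) with h | h
    · rw [Subgroup.zpowers_eq_bot] at h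
      rw [h, orderOf_one] at hz
      norm_num at hz
    · have h4 := Nat.card_zpowers z
      rw [h, Subgroup.card_top, show Nat.card (G ⧸ H) = 4 from hidx, hz] at h4
      norm_num at h4
  obtain ⟨g, hgH, hg⟩ := h3
  rw [is_two_pretransitive_iff]
  have hga : g • a₀ = a₀ := hgH
  have hmove : ∀ x : α, x ≠ a₀ → g • x ≠ x := by
    intro x hx hfx
    have hg1 : g = 1 := by
      set s := (Finset.univ : Finset α).filter fun z => g • z = z with hs
      have hs2 : 2 ≤ s.card := by
        have : ({a₀, x} : Finset α) ⊆ s := by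
          intro z hz
          rw [hs, Finset.mem_filter]
          rcases Finset.mem_insert.1 hz with rfl | hz
          · exact ⟨Finset.mem_univ _, hga⟩
          · rw [Finset.mem_singleton.1 hz]; exact ⟨Finset.mem_univ _, hfx⟩
        have h2 := Finset.card_le_card this
        rwa [Finset.card_pair hx.symm] at h2
      set σ : Equiv.Perm α := MulAction.toPerm g with hσ
      have hσ3 : σ ^ 3 ^ 1 = 1 := by
        rw [hσ, show MulAction.toPerm g = MulAction.toPermHom G α g from rfl, ← map_pow, pow_one,
          ← hg, pow_orderOf_eq_one, map_one]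
      have hmod := Equiv.Perm.card_compl_support_modEq (n := 1) hσ3
      have hsupp : σ.supportᶜ = s := by
        ext z
        simp [hs, hσ]
      rw [hsupp, hα] at hmod
      have hs4 : s.card ≤ 4 := hα ▸ Finset.card_le_univ s
      have hcard : s.card = 4 := by
        unfold Nat.ModEq at hmod
        omega
      refine FaithfulSMul.eq_of_smul_eq_smul fun z : α => ?_
      have hz := Finset.mem_univ z
      rw [← Finset.eq_univ_of_card s (hcard.trans hα.symm), hs, Finset.mem_filter] at hz
      rw [one_smul]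
      exact hz.2
    rw [hg1, orderOf_one] at hg
    norm_num at hg
  intro a b c d hab hcd
  obtain ⟨u, hu⟩ := exists_smul_eq G a a₀
  obtain ⟨w, hw⟩ := exists_smul_eq G c a₀
  have hx : u • b ≠ a₀ := fun e => hab (smul_left_cancel u (hu.trans e.symm))
  have hy : w • d ≠ a₀ := fun e => hcd (smul_left_cancel w (hw.trans e.symm))
  have hpow : ∃ i : ℕ, g ^ i • (u • b) = w • d := by
    set x := u • b
    have hnfix : ∀ z, z ≠ a₀ → g • z ≠ a₀ := fun z hz e =>
      hz (smul_left_cancel g (e.trans hga.symm))
    have h12 : g • g • x ≠ x := fun e => by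
      refine hmove x hx ?_
      have h3' : g ^ 3 • x = x := by rw [← hg, pow_orderOf_eq_one, one_smul]
      rw [pow_succ', pow_two, mul_smul, mul_smul, e] at h3'
      exact h3'
    have hall : ({a₀, x, g • x, g • g • x} : Finset α) = Finset.univ := by
      refine Finset.eq_univ_of_card _ ?_
      rw [Finset.card_insert_of_notMem, Finset.card_insert_of_notMem, Finset.card_pair, hα]
      · exact fun e => hmove (g • x) (hnfix x hx) e.symm
      · simp only [Finset.mem_insert, Finset.mem_singleton]
        rintro (e | e)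
        · exact hmove x hx e.symm
        · exact h12 e.symm
      · simp only [Finset.mem_insert, Finset.mem_singleton]
        rintro (e | e | e)
        · exact hx e.symm
        · exact hnfix x hx e.symm
        · exact hnfix _ (hnfix x hx) e.symm
    have hmem := Finset.mem_univ (w • d)
    rw [← hall] at hmem
    simp only [Finset.mem_insert, Finset.mem_singleton] at hmem
    rcases hmem with e | e | e | e
    · exact absurd e hy
    · exact ⟨0, by rw [pow_zero, one_smul, e]⟩
    · exact ⟨1, by rw [pow_one, e]⟩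
    · exact ⟨2, by rw [pow_two, mul_smul, e]⟩
  obtain ⟨i, hi⟩ := hpow
  refine ⟨w⁻¹ * g ^ i * u, ?_, ?_⟩
  · rw [mul_smul, mul_smul, hu, show g ^ i • a₀ = a₀ from H.pow_mem hgH i, ← hw, inv_smul_smul]
  · rw [mul_smul, mul_smul, hi, inv_smul_smul]

open scoped ComplexConjugate in
/-- **Wielandt's theorem**, for a group with its action. -/
theorem wielandt [Fintype G] [FaithfulSMul G α] [IsPreprimitive G α] {p : ℕ} [Fact p.Prime]
    (hp3 : 3 ≤ p) (hα : Fintype.card α = 2 * p) (hnot : ¬ IsMultiplyPretransitive G α 2)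
    (hfree : ∀ g : G, orderOf g = p → ∀ x : α, g • x ≠ x) (a₀ : α) :
    Nat.card (orbitRel.Quotient (stabilizer G a₀) α) = 3 ∧
      ∃ a : ℕ, 0 < a ∧ p = 2 * a ^ 2 + 2 * a + 1 ∧ ∀ b : α, b ≠ a₀ →
        Nat.card (orbit (stabilizer G a₀) b) = a * (2 * a + 1) ∨
        Nat.card (orbit (stabilizer G a₀) b) = (a + 1) * (2 * a + 1) := by
  haveI : Nonempty α := ⟨a₀⟩
  haveI : IsPretransitive G α := inferInstance
  obtain ⟨P⟩ : Nonempty (Sylow p G) := inferInstance
  have hP := card_sylow hα hp3 hfree P
  have hC := centralizer_eq hα hp3 hnot hfree P hP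
  obtain ⟨e, he⟩ : ∃ e, (Subgroup.centralizer ((P : Subgroup G) : Set G)).relIndex
      (Subgroup.normalizer ((P : Subgroup G) : Set G)) = e := ⟨_, rfl⟩
  have he2 : 2 ≤ e := by
    refine two_le_index P hP (fun h => ?_) (fun K hK hKp _ => ?_) he
    · refine not_transitive_of_card hα (P : Subgroup G) hP ⟨fun x x' => ?_⟩
      obtain ⟨g, hg⟩ := exists_smul_eq G x x'
      exact ⟨⟨g, h ▸ Subgroup.mem_top g⟩, hg⟩
    · haveI := hK
      exact eq_bot_of_not_dvd (α := α) hα hKp
  have hrank := three_le_rank hnot a₀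
  obtain ⟨φ, Y, hφd, hφY, h1Y, hφ1, hdec, hφv, hfaith, hcases⟩ :=
    decomposition hα hnot a₀ hfree hrank hP hC he he2
  have hrk : Nat.card (orbitRel.Quotient (stabilizer G a₀) α) = 2 + Y.card := by
    have h := classInner_pc_self (G := G) (Ω := α) a₀
    have hdec' : pc G α = ∑ ψ ∈ insert (oneChar G) (insert φ Y), (ψ : G → ℂ) := by
      rw [hdec, Finset.sum_insert (by simp [h1Y, hφ1.symm]), Finset.sum_insert hφY, add_assoc]
    rw [hdec', classInner_sum_left] at h
    rw [Finset.sum_congr rfl fun (ψ : IrrCharacter G) hψ => show Cfsg.classInner (ψ : G → ℂ)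
      (∑ χ ∈ insert (oneChar G) (insert φ Y), (χ : G → ℂ)) = 1 by
        rw [← conj_classInner, classInner_sum_left,
          Finset.sum_congr rfl fun χ _ => classInner_irrCharacter χ ψ, Finset.sum_ite_eq',
          if_pos hψ, map_one], Finset.sum_const, nsmul_eq_mul, mul_one,
      Finset.card_insert_of_notMem (by simp [h1Y, hφ1.symm]), Finset.card_insert_of_notMem hφY] at h
    have h' : Y.card + 1 + 1 = Nat.card (orbitRel.Quotient (stabilizer G a₀) α) := by exact_mod_cast h
    omega
  rcases hcases with ⟨χ, rfl, hχd⟩ | ⟨hY2, hYe, hYd, hmul⟩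
  · rw [Finset.card_singleton] at hrk
    refine ⟨hrk, Cfsg.Agent.S0719.result inferInstance hα a₀ hrk (χ : G → ℂ) (φ : G → ℂ) χ.2 φ.2
      ?_ ?_ ?_⟩
    · funext g
      have h := congrFun hdec g
      simp only [pc, Finset.sum_singleton, Pi.add_apply,
        show (oneChar G : G → ℂ) g = 1 from rfl] at h
      linear_combination h
    · rw [ClassAlgebraVal.apply_one_eq_charDegree, ← hχd]
      push_cast; ring
    · rw [ClassAlgebraVal.apply_one_eq_charDegree, hφd]
  · exfalso
    obtain ⟨η, hη⟩ := Finset.card_pos.1 (by omega : 0 < Y.card)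
    have h2e : 2 * e + 1 ≤ p := by
      have : 2 * e ≤ Y.card * e := Nat.mul_le_mul_right e hY2
      omega
    obtain ⟨hpe, hodd⟩ := odd_half (α := α) hα hP hC (hYd η hη) h2e (hfaith η hη)
    have hY : Y.card = 2 := by
      have h1 : Y.card * e = 2 * e := by omega
      exact Nat.eq_of_mul_eq_mul_right (by omega) h1
    have hnr : ∃ k : stabilizer G a₀, ∃ x : α, k • x ≠ x := by
      by_contra hc
      push Not at hc
      have hbot : stabilizer G a₀ = ⊥ := by
        rw [eq_bot_iff]
        intro g hg
        exact Subgroup.mem_bot.2 (FaithfulSMul.eq_of_smul_eq_smul fun x : α =>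
          (hc ⟨g, hg⟩ x).trans (one_smul G x).symm)
      have h1 := index_stabilizer_of_transitive (G := G) a₀
      rw [hbot, Subgroup.index_bot, Nat.card_eq_fintype_card (α := α), hα] at h1
      have h3 : e * p ∣ 2 * p := by
        rw [← h1, mul_comm, ← card_normalizer hP hC e he]
        exact Subgroup.card_subgroup_dvd_card _
      have h4 := Nat.le_of_dvd two_pos (Nat.dvd_of_mul_dvd_mul_right (by omega) h3)
      obtain ⟨r, hr⟩ := hodd
      omega
    rw [hY] at hrk
    letI := Fintype.ofFinite (orbitRel.Quotient (stabilizer G a₀) α)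
    set Q := (Finset.univ : Finset (orbitRel.Quotient (stabilizer G a₀) α)).erase (suborbit G a₀ a₀)
      with hQ
    have hQc : Q.card = 3 := by
      rw [hQ, Finset.card_erase_of_mem (Finset.mem_univ _), Finset.card_univ,
        ← Nat.card_eq_fintype_card, hrk]
    set F := fun q : orbitRel.Quotient (stabilizer G a₀) α =>
      (Ps P).filter fun y => ∀ x : α, ∃ g : G, g • a₀ = x ∧ g • q.out = y • x with hF
    have hlow : ∀ q ∈ Q, e ≤ (F q).card := by
      intro q hq
      have hne : q.out ≠ a₀ := fun h => (Finset.mem_erase.1 hq).1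
        ((Quotient.out_eq q).symm.trans (congrArg (suborbit G a₀) h))
      exact suborbit_sets hα hfree hP hC he (by omega) hodd hpe hφd hφY h1Y hφ1 hY hdec hφv hYd
        hmul hne (two_le_suborbit hne hnr)
    have hdisj : (Q : Set (orbitRel.Quotient (stabilizer G a₀) α)).PairwiseDisjoint F := by
      intro q _ q' _ hne
      rw [Function.onFun, Finset.disjoint_left]
      intro y hy hy'
      simp only [hF, Finset.mem_filter] at hy hy'
      obtain ⟨g, hg1, hg2⟩ := hy.2 a₀
      obtain ⟨g', hg1', hg2'⟩ := hy'.2 a₀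
      apply hne
      have : suborbit G a₀ q.out = suborbit G a₀ q'.out := suborbit_eq.2
        ⟨⟨g⁻¹ * g', by
          rw [mem_stabilizer_iff, mul_smul, hg1', inv_smul_eq_iff, hg1]⟩, by
          show (g⁻¹ * g') • q'.out = q.out
          rw [mul_smul, hg2', inv_smul_eq_iff, hg2]⟩
      simpa only [suborbit, Quotient.out_eq] using this
    have hle : ∑ q ∈ Q, (F q).card ≤ (Ps P).card := by
      rw [← Finset.card_biUnion hdisj]
      exact Finset.card_le_card (Finset.biUnion_subset.2 fun q _ => Finset.filter_subset _ _)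
    have h3e := Finset.card_nsmul_le_sum Q (fun q => (F q).card) e hlow
    rw [hQc, smul_eq_mul] at h3e
    rw [card_Ps hP] at hle
    omega

end Cfsg.Agent.WielandtTwoP7
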