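import Cfsg.Agent.Lib.BrauerTuan7Blocks
import Cfsg.Agent.Lib.BrauerTuan7Tensor
import Cfsg.Agent.Lib.BrauerReynolds7Degree

/-!
# A character of degree at most `(p - 1) / 2`

In a group generated by its elements of order `p`, with a self-centralizing Sylow subgroup of
order `p`, such a character has degree exactly `(p - 1) / 2`, which is odd.
-/

set_option autoImplicit false

open Finset

namespace Cfsg.Agent.WielandtTwoP7

open Cfsg Cfsg.Agent.CharBasic Cfsg.Agent.CharBasicOrth Cfsg.Agent.DefectOneSign7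
open Cfsg.Agent.BlockPrincipal81 Cfsg.Agent.BrauerReynolds7 Cfsg.Agent.BrauerTuan7

attribute [local instance] Classical.propDecidable

universe u

variable {G : Type u} [Group G] [Fintype G] {p : ℕ} [Fact p.Prime] {P : Sylow p G}
  {e : ℕ} {X Y : Finset (IrrCharacter G)} {a : IrrCharacter G → ℤ} {ε : ℤ}

omit [Fact p.Prime] in
theorem one_degree : charDegree (oneChar G : G → ℂ) = 1 := by
  have h := ClassAlgebraVal.apply_one_eq_charDegree (oneChar G)
  rw [show (oneChar G : G → ℂ) 1 = 1 from rfl] at h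
  exact_mod_cast h.symm

/-- Outside the principal block the degrees are divisible by `p`. -/
theorem dvd_degree_of_outside (B : Blk P e X Y a ε) (hP : Nat.card P = p)
    (hC : Subgroup.centralizer ((P : Subgroup G) : Set G) = (P : Subgroup G))
    (he : (Subgroup.centralizer ((P : Subgroup G) : Set G)).relIndex
      (Subgroup.normalizer ((P : Subgroup G) : Set G)) = e)
    {ψ : IrrCharacter G} (hX : ψ ∉ X) (hY : ψ ∉ Y) : p ∣ charDegree (ψ : G → ℂ) := by
  obtain ⟨c, hc⟩ := exists_nat_avg (P : Subgroup G) (isCharacter_of_isIrrCharacter ψ.2)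
  rw [sum_els_P, Finset.sum_eq_zero fun y hy => vanish B hP hC he hX hY hy, add_zero,
    ClassAlgebraVal.apply_one_eq_charDegree, show Nat.card (P : Subgroup G) = p from hP] at hc
  exact ⟨c, by exact_mod_cast hc⟩

/-- A number congruent to `± 1` modulo `p`, not `1`, is at least `p - 1`. -/
theorem pred_le_of_congr {f : ℕ} (hf : 2 ≤ f) {s : ℤ} (hs : s = 1 ∨ s = -1)
    (h : (f : ℤ) ≡ s [ZMOD p]) : p - 1 ≤ f ∧ (s = 1 → p + 1 ≤ f) := by
  have hc := h.symm.dvd
  rcases hs with rfl | rfl <;> have := Int.le_of_dvd (by omega) hc <;>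
    refine ⟨by omega, fun h1 => ?_⟩ <;> omega

/-- The structure forced by a character of small degree. -/
theorem small_degree (hP : Nat.card P = p)
    (hC : Subgroup.centralizer ((P : Subgroup G) : Set G) = (P : Subgroup G))
    (he : (Subgroup.centralizer ((P : Subgroup G) : Set G)).relIndex
      (Subgroup.normalizer ((P : Subgroup G) : Set G)) = e) (he2 : 2 ≤ e)
    (hlin : ∀ l : IrrCharacter G, charDegree (l : G → ℂ) = 1 →
      (∀ y ∈ Ps P, (l : G → ℂ) y = 1) → l = oneChar G)
    {ψ : IrrCharacter G} (hd2 : 2 ≤ charDegree (ψ : G → ℂ))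
    (hdp : 2 * charDegree (ψ : G → ℂ) + 1 ≤ p) :
    charDegree (ψ : G → ℂ) = e ∧ 2 * e + 1 = p ∧ Odd e := by
  have hp := (Fact.out : p.Prime)
  obtain ⟨X, Y, a, ε, B⟩ := exists_blk hP e he
  have hY : ψ ∈ Y := by
    by_contra hY
    by_cases hX : ψ ∈ X
    · have := (pred_le_of_congr hd2 (B.signX ψ hX) (B.congrX ψ hX)).1
      omega
    · have := Nat.le_of_dvd (by omega) (dvd_degree_of_outside B hP hC he hX hY)
      omega
  have hDeq : ∀ η ∈ Y, charDegree (η : G → ℂ) = charDegree (ψ : G → ℂ) := by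
    intro η hη
    have h := B.agree η hη ψ hY 1 (by rw [orderOf_one, Nat.dvd_one]; exact hp.ne_one)
    simp only [ClassAlgebraVal.apply_one_eq_charDegree] at h
    exact_mod_cast h
  have hcardY := B.cardY
  have hep : e < p := by
    have h2 : 1 * e ≤ Y.card * e := Nat.mul_le_mul_right e (Finset.card_pos.2 ⟨ψ, hY⟩)
    omega
  set D := charDegree (ψ : G → ℂ) with hD
  obtain ⟨hε, hDe⟩ : ε = 1 ∧ D = e := by
    have hc := (B.congrY ψ hY).symm.dvd
    rcases B.sign with h | h <;> rw [h] at hc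
    · refine ⟨h, ?_⟩
      have h' := Int.eq_zero_of_abs_lt_dvd hc (by rw [abs_lt]; constructor <;> omega)
      omega
    · exfalso
      have h1 := Int.le_of_dvd (by omega) hc
      have h2 : 2 * e ≤ Y.card * e ∨ Y.card = 1 := by
        rcases Nat.lt_or_ge Y.card 2 with h' | h'
        · right; have := Finset.card_pos.2 ⟨ψ, hY⟩; omega
        · left; exact Nat.mul_le_mul_right e h'
      rcases h2 with h2 | h2
      · omega
      · rw [h2, one_mul] at hcardY
        rcases lt_or_eq_of_le h1 with h3 | h3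
        · have h4 : (p : ℤ) ∣ ((D : ℤ) - -1 * e) - p := dvd_sub hc dvd_rfl
          have := Int.le_of_dvd (by omega) h4
          omega
        · omega
  rw [hDe] at hd2 hdp
  have hY2 : 2 ≤ Y.card := by
    by_contra hc
    have h2 : Y.card = 1 := by have := Finset.card_pos.2 ⟨ψ, hY⟩; omega
    rw [h2, one_mul] at hcardY
    omega
  obtain ⟨hmdeg, hte⟩ := core_pos B hP hC he hε hY2 fun η hη => (hDeq η hη).trans hDe
  have hsplit := card_split' B
  have hplus : ∀ χ ∈ Xp X a, (p : ℤ) + 1 ≤ charDegree (χ : G → ℂ) := by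
    intro χ hχ
    obtain ⟨hX, ha, h1⟩ : χ ∈ X ∧ a χ = 1 ∧ χ ≠ oneChar G := by simpa [Xp] using hχ
    have hpos := ClassAlgebraVal.charDegree_pos χ
    have hne : charDegree (χ : G → ℂ) ≠ 1 := fun h => h1 (hlin χ h fun y hy => by
      rw [B.valX χ hX y hy, ha, Int.cast_one])
    have := (pred_le_of_congr (by omega) (B.signX χ hX) (B.congrX χ hX)).2 ha
    omega
  have hrel := degree_relation B hY
  rw [sum_X' B, B.a_one, one_degree, ← hD, hDe, hε,
    Finset.sum_congr rfl (s₁ := Xp X a) (g := fun χ => (charDegree (χ : G → ℂ) : ℤ))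
      fun χ hχ => by simp only [Xp, Finset.mem_filter] at hχ; rw [hχ.2.1, one_mul],
    Finset.sum_congr rfl (s₁ := Xm X a) (g := fun _ => (1 : ℤ) - p) fun χ hχ => by
      rw [hmdeg χ hχ, Nat.cast_sub hp.one_le]
      simp only [Xm, Finset.mem_filter] at hχ
      rw [hχ.2]; push_cast; ring,
    Finset.sum_const, nsmul_eq_mul] at hrel
  push_cast at hrel
  set A := (Xp X a).card with hA
  set b₁ := (Xm X a).card with hb₁
  have hlow := Finset.card_nsmul_le_sum (Xp X a) (fun χ => (charDegree (χ : G → ℂ) : ℤ))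
    ((p : ℤ) + 1) hplus
  rw [nsmul_eq_mul, ← hA] at hlow
  have hsplitz : (1 : ℤ) + A + b₁ = e := by exact_mod_cast hsplit
  have hAB : A ≤ b₁ := by
    have h1 : (p : ℤ) * A ≤ (p : ℤ) * b₁ := by linarith
    exact_mod_cast le_of_mul_le_mul_left h1 (by exact_mod_cast hp.pos)
  have ht2 : Y.card = 2 := by
    have h1 : Y.card * b₁ ≤ 2 * b₁ := by omega
    have := Nat.le_of_mul_le_mul_right h1 (by omega)
    omega
  rw [ht2] at hte hcardY
  exact ⟨hDe, hcardY, b₁, by omega⟩

end Cfsg.Agent.WielandtTwoP7
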