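import Mathlib

/-!
The arithmetic of the two block relations in the semidihedral case of S3686.
-/

set_option autoImplicit false

namespace Cfsg.Agent.Wong3x33

namespace Arith61

/-- The first denominator. -/
def den1 (k : ℤ) (n : ℕ) : ℤ := n * (n + 1) + k ^ 2 * (n + 1) - (k - 7) ^ 2 * n

/-- The second denominator. -/
def den4 (a : ℤ) (m : ℕ) : ℤ := m * (m + 1) + a ^ 2 * (m + 1) - (a + 1) ^ 2 * m

/-- The two-part condition. -/
def twoOK (C x : ℕ) (E : ℤ) : Bool :=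
  Nat.gcd E.natAbs (2 ^ 20) == Nat.gcd (C * (x * (x + 1))) (2 ^ 20)

/-- The list of first parameters. -/
def ks : List ℤ := [1, 2, 3, 4, 5, 6]

/-- The list of second parameters. -/
def as : List ℤ := [-5, -4, -3, -2, -1, 0, 1, 2, 3, 4]

theorem small1 : ∀ k ∈ ks, ∀ n < 101, 0 < n → twoOK 576 n (den1 k n) = true →
    (k = 4 ∧ n = 12) ∨ 25 * den1 k n < 34 * ((n : ℤ) * (n + 1)) := by
  decide +kernel

theorem small4 : ∀ a ∈ as, ∀ m < 78, 0 < m → twoOK 288 m (den4 a m) = true →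
    25 * den4 a m < 17 * ((m : ℤ) * (m + 1)) → a = 2 ∧ m = 10 := by
  decide +kernel

theorem two_part {g' C x : ℕ} {E : ℤ} {o : ℕ} (hg : Odd g') (ho : Odd o)
    (h : (g' : ℤ) * E = C * (o : ℤ) ^ 3 * x * (x + 1)) : twoOK C x E = true := by
  have hn : g' * E.natAbs = o ^ 3 * (C * (x * (x + 1))) := by
    have e : (g' : ℤ) * E = ((o ^ 3 * (C * (x * (x + 1))) : ℕ) : ℤ) := by
      rw [h]; push_cast; ring
    have e' := congrArg Int.natAbs e
    simpa only [Int.natAbs_mul, Int.natAbs_natCast] using e'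
  have c1 : Nat.Coprime g' (2 ^ 20) := (Nat.coprime_two_right.2 hg).pow_right 20
  have c2 : Nat.Coprime (o ^ 3) (2 ^ 20) :=
    ((Nat.coprime_two_right.2 ho).pow_left 3).pow_right 20
  simp only [twoOK, beq_iff_eq]
  rw [← c1.gcd_mul_left_cancel E.natAbs, hn, c2.gcd_mul_left_cancel]

theorem mem_ks {k l : ℤ} (hkl : k - l = 7) (hk : k * k + l * l ≤ 46) : k ∈ ks ∧ l = k - 7 := by
  obtain rfl : l = k - 7 := by omega
  have h1 : 1 ≤ k ∧ k ≤ 6 := by constructor <;> nlinarith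
  obtain ⟨h1, h2⟩ := h1
  refine ⟨?_, rfl⟩
  interval_cases k <;> decide

theorem mem_as {a b : ℤ} (hab : a - b = -1) (ha : a * a + b * b ≤ 46) :
    a ∈ as ∧ b = a + 1 := by
  obtain rfl : b = a + 1 := by omega
  have h1 : -5 ≤ a ∧ a ≤ 4 := by constructor <;> nlinarith
  obtain ⟨h1, h2⟩ := h1
  refine ⟨?_, rfl⟩
  interval_cases a <;> decide

theorem first_or {k : ℤ} {n : ℕ} (hk : k ∈ ks) (hn : 0 < n) (h2 : twoOK 576 n (den1 k n) = true) :
    (k = 4 ∧ n = 12) ∨ 25 * den1 k n < 34 * ((n : ℤ) * (n + 1)) := by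
  rcases Nat.lt_or_ge n 101 with hlt | hge
  · exact small1 k hk n hlt hn h2
  · right
    have h1 : 1 ≤ k ∧ k ≤ 6 := by
      simp only [ks, List.mem_cons, List.not_mem_nil, or_false] at hk
      omega
    have hk2 : k ^ 2 ≤ 36 := by nlinarith
    have hn' : (101 : ℤ) ≤ n := by exact_mod_cast hge
    have p1 := mul_le_mul_of_nonneg_right hk2 (by omega : (0 : ℤ) ≤ n + 1)
    have p2 : (0 : ℤ) ≤ (k - 7) ^ 2 * n := by positivity
    have p3 := mul_le_mul_of_nonneg_right hn' (by omega : (0 : ℤ) ≤ n + 1)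
    have p4 : (0 : ℤ) ≤ (n : ℤ) + 1 := by omega
    unfold den1
    nlinarith

theorem second_eq {a : ℤ} {m : ℕ} (ha : a ∈ as) (hm : 0 < m) (h2 : twoOK 288 m (den4 a m) = true)
    (hlt : 25 * den4 a m < 17 * ((m : ℤ) * (m + 1))) : a = 2 ∧ m = 10 := by
  rcases Nat.lt_or_ge m 78 with hm' | hge
  · exact small4 a ha m hm' hm h2 hlt
  · exfalso
    have h1 : -5 ≤ a ∧ a ≤ 4 := by
      simp only [as, List.mem_cons, List.not_mem_nil, or_false] at ha
      omega
    have hb2 : (a + 1) ^ 2 ≤ 25 := by nlinarith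
    have hm' : (78 : ℤ) ≤ m := by exact_mod_cast hge
    have p1 := mul_le_mul_of_nonneg_right hb2 (by omega : (0 : ℤ) ≤ m)
    have p2 : (0 : ℤ) ≤ a ^ 2 * (m + 1) := by positivity
    have p3 := mul_le_mul_of_nonneg_right hm' (by omega : (0 : ℤ) ≤ m)
    unfold den4 at hlt
    nlinarith

end Arith61

open Arith61 in
/-- The two relations leave the orders `5616 o³` and `7920 o³` and the matching small degree. -/
theorem arith {g o n m : ℕ} {k l a b : ℤ} (ho : Odd o) (hg : g % 32 = 16) (hn : 0 < n) (hm : 0 < m)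
    (hkl : k - l = 7) (hk : k * k + l * l ≤ 46) (hab : a - b = -1) (ha : a * a + b * b ≤ 46)
    (h1 : (g : ℤ) * ((n : ℤ) * (n + 1) + k ^ 2 * (n + 1) - l ^ 2 * n) =
      48 * 192 * (o : ℤ) ^ 3 * n * (n + 1))
    (h4 : (g : ℤ) * ((m : ℤ) * (m + 1) + a ^ 2 * (m + 1) - b ^ 2 * m) =
      48 * 96 * (o : ℤ) ^ 3 * m * (m + 1)) :
    (g = 5616 * o ^ 3 ∧ n = 12 ∧ k = 4) ∨ (g = 7920 * o ^ 3 ∧ m = 10 ∧ a = 2) := by
  obtain ⟨hkm, rfl⟩ := mem_ks hkl hk
  obtain ⟨ham, rfl⟩ := mem_as hab ha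
  change (g : ℤ) * den1 k n = _ at h1
  change (g : ℤ) * den4 a m = _ at h4
  have hg' : g = 16 * (g / 16) := by omega
  have hodd : Odd (g / 16) := Nat.odd_iff.2 (by omega)
  have t1 : twoOK 576 n (den1 k n) = true := by
    refine two_part hodd ho ?_
    rw [hg'] at h1
    push_cast at h1 ⊢
    linarith
  have t4 : twoOK 288 m (den4 a m) = true := by
    refine two_part hodd ho ?_
    rw [hg'] at h4
    push_cast at h4 ⊢
    linarith
  rcases first_or hkm hn t1 with ⟨rfl, rfl⟩ | hlt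
  · left
    refine ⟨?_, rfl, rfl⟩
    have e : (g : ℤ) = ((5616 * o ^ 3 : ℕ) : ℤ) := by
      simp only [den1] at h1
      push_cast at h1 ⊢
      linarith
    exact_mod_cast e
  · right
    have hgpos : (0 : ℤ) < g := by exact_mod_cast (show 0 < g by omega)
    have hM : (0 : ℤ) < (m : ℤ) * (m + 1) := by positivity
    have hN : (0 : ℤ) < (n : ℤ) * (n + 1) := by positivity
    have cross : den1 k n * ((m : ℤ) * (m + 1)) = 2 * ((n : ℤ) * (n + 1)) * den4 a m :=
      mul_left_cancel₀ hgpos.ne' (by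
        linear_combination ((m : ℤ) * (m + 1)) * h1 - 2 * ((n : ℤ) * (n + 1)) * h4)
    have hlt' : 25 * den4 a m < 17 * ((m : ℤ) * (m + 1)) := by
      have p := mul_lt_mul_of_pos_right hlt hM
      refine lt_of_mul_lt_mul_left (a := 2 * ((n : ℤ) * (n + 1))) ?_ (by positivity)
      linear_combination p - 25 * cross
    obtain ⟨rfl, rfl⟩ := second_eq ham hm t4 hlt'
    refine ⟨?_, rfl, rfl⟩
    have e : (g : ℤ) = ((7920 * o ^ 3 : ℕ) : ℤ) := by
      simp only [den4] at h4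
      push_cast at h4 ⊢
      linarith
    exact_mod_cast e

end Cfsg.Agent.Wong3x33
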