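import Cfsg.Agent.Lib.GWDihBase33
import Cfsg.Agent.Lib.GL23Recog95Base

/-!
Interface for primitive groups with a suborbit of length three and point stabiliser `Sym(4)` or
`Sym(4) × 2` (S3686).

`Core G V`: `G` is simple, `V` is a self-centralising four-group with normaliser of order 24, and no
nontrivial subgroup of odd order that is generated by elements of the cores `O(C(z))`, `z ∈ V#`,
is normalised by `N(V)`.

`Dih G`: the Sylow 2-subgroups are dihedral.

`SD f`: `f` is a section of `GL(2,3)` over the abelian core `O` of the centraliser of `f tC` (a homomorphism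
modulo `O`, exact on a Sylow 2-subgroup `pSD`; a complement need not exist when `3` divides `|O|`), the
determinant giving the action on `O`; one class of involutions; Sylow 2-subgroups of order 16.

`DegData f`: a character of degree 12 or 10, constant on `f tC * O` with value 4 or 2.
-/

set_option autoImplicit false

namespace Cfsg.Agent.Wong3x33

open Subgroup BinaryOctahedral GL23CentModel GL23Recog95
open Cfsg.Agent.GWDih33 (Om)

universe u

variable {G : Type u} [Group G]

/-- The hypothesis left by the reduction of S3686 to a simple group. -/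
structure Core (G : Type u) [Group G] (V : Subgroup G) : Prop where
  simple : IsSimpleGroup G
  nonab : ∃ a b : G, a * b ≠ b * a
  card_four : Nat.card V = 4
  exp_two : ∀ v ∈ V, v * v = 1
  self_cent : centralizer (V : Set G) = V
  card_norm : Nat.card (normalizer (V : Set G)) = 24
  sixteen : 16 ∣ Nat.card G
  star : ∀ S : Set G, (∀ x ∈ S, ∃ z ∈ V, z ≠ 1 ∧ x ∈ Om z) → Odd (Nat.card (closure S)) →
    normalizer (V : Set G) ≤ normalizer ((closure S : Subgroup G) : Set G) → closure S = ⊥

/-- Dihedral Sylow 2-subgroups. -/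
def Dih (G : Type u) [Group G] : Prop :=
  ∀ S : Sylow 2 G, ∃ n, 2 ≤ n ∧ Nonempty (↥(S : Subgroup G) ≃* DihedralGroup n)

/-- The semidihedral configuration. -/
structure SD (f : Coord → G) : Prop where
  mul : ∀ x y, (f (mC x y))⁻¹ * (f x * f y) ∈ Om (f tC)
  mul_two : ∀ x y, pSD x → pSD y → f (mC x y) = f x * f y
  cent_t : ∀ x, Commute (f x) (f tC)
  inj : Function.Injective f
  ot : orderOf (f tC) = 2
  cent : ∀ c : G, Commute c (f tC) → ∃ x : Coord, ∃ o ∈ Om (f tC), f x * o = c
  meet : ∀ x : Coord, f x ∈ Om (f tC) → x = oneC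
  comm : ∀ a ∈ Om (f tC), ∀ b ∈ Om (f tC), Commute a b
  act : ∀ x : Coord, ∀ o ∈ Om (f tC), f x * o * (f x)⁻¹ = if pSL x then o else o⁻¹
  one : ∀ s t : G, orderOf s = 2 → orderOf t = 2 → IsConj s t
  two : Nat.card G % 32 = 16

/-- The four-group of the coordinates. -/
def IsFour (f : Coord → G) (V : Subgroup G) : Prop :=
  ∀ g : G, g ∈ V ↔ g = 1 ∨ g = f tC ∨ g = f uC ∨ g = f wC

/-- A small exceptional character, constant on `f tC * O`. -/
def DegData [Finite G] (f : Coord → G) : Prop :=
  ∃ (χ : Cfsg.IrrCharacter G) (n k : ℕ), ((n = 12 ∧ k = 4) ∨ (n = 10 ∧ k = 2)) ∧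
    (χ : G → ℂ) 1 = n ∧ ∀ o ∈ Om (f tC), (χ : G → ℂ) (f tC * o) = k

/-- The order of `G` in terms of the core. -/
def OrderData (f : Coord → G) : Prop :=
  Nat.card G = 5616 * Nat.card (Om (f tC)) ^ 3 ∨ Nat.card G = 7920 * Nat.card (Om (f tC)) ^ 3

/-- An odd subgroup of `C(x)`, `x` in the core, that is the natural module modulo its meet with `C(t)`. -/
structure NatLayer (f : Coord → G) (x : G) (W : Subgroup G) : Prop where
  mem : x ∈ Om (f tC)
  order : orderOf x = 3
  odd : Odd (Nat.card W)
  mem_layer : x ∈ W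
  le_cent : W ≤ centralizer ({x} : Set G)
  norm : ∀ c : Coord, f c ∈ normalizer (W : Set G)
  fix : W ⊓ centralizer ({f tC} : Set G) ≤ Om (f tC)
  card : Nat.card W = 9 * Nat.card (W ⊓ centralizer ({f tC} : Set G) : Subgroup G)

end Cfsg.Agent.Wong3x33
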