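import Mathlib
import Cfsg.Agent.Lib.Wong3Setup33
import Cfsg.Agent.Lib.GWDihPSL72
import Cfsg.Agent.Lib.AutPSLApi
import Cfsg.Agent.Lib.DicksonFourGroups
import Cfsg.Agent.Lib.PSLCard
import Cfsg.Agent.S2060

/-!
No involutory automorphism of `PSL(2,q)` or of the smallest Mathieu group fixes exactly the
normaliser of a self-centralising four-group.
-/

set_option autoImplicit false
set_option linter.unusedSectionVars false

namespace Cfsg.Agent.Wong3x33

open Subgroup

universe u

section Inner

variable {N : Type u} [Group N] [Finite N] {V : Subgroup N}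

theorem normalizer_ne_top (h : Core N V) : normalizer (V : Set N) ≠ ⊤ := by
  intro e
  haveI := h.simple
  have h24 : Nat.card N = 24 := by rw [← Subgroup.card_top, ← e, h.card_norm]
  rcases (Subgroup.normalizer_eq_top_iff.mp e).eq_bot_or_eq_top with hb | hb
  · have := h.card_four; rw [hb, Subgroup.card_bot] at this; omega
  · have := h.card_four; rw [hb, Subgroup.card_top, h24] at this; omega

/-- No inner automorphism fixes exactly the normaliser of `V`. -/
theorem no_inner (h : Core N V) (g : N)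
    (hg : ∀ n : N, g * n * g⁻¹ = n ↔ n ∈ normalizer (V : Set N)) : False := by
  classical
  have hfix : ∀ n ∈ normalizer (V : Set N), g * n = n * g := fun n hn =>
    mul_inv_eq_iff_eq_mul.mp ((hg n).mpr hn)
  have hgV : g ∈ V := by
    rw [← h.self_cent, mem_centralizer_iff]
    intro v hv
    exact (hfix v (Subgroup.le_normalizer hv)).symm
  have hg1 : g ≠ 1 := by
    rintro rfl
    exact normalizer_ne_top h (eq_top_iff.mpr fun n _ => (hg n).mp (by simp))
  haveI : Fact (Nat.Prime 3) := ⟨Nat.prime_three⟩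
  obtain ⟨⟨x, hxN⟩, hx⟩ := exists_prime_orderOf_dvd_card' (G := normalizer (V : Set N)) 3
    (by rw [h.card_norm]; norm_num)
  rw [Subgroup.orderOf_mk] at hx
  have hx3 : x ^ 3 = 1 := by rw [← hx, pow_orderOf_eq_one]
  have hxg : x * g = g * x := (hfix x hxN).symm
  obtain ⟨v, hvV, hv1, hvg⟩ : ∃ v ∈ V, v ≠ 1 ∧ v ≠ g := by
    by_contra hcon
    push Not at hcon
    have hle : (V : Set N) ⊆ {1, g} := fun v hv => by
      by_cases h1 : v = 1
      · exact Or.inl h1
      · exact Or.inr (hcon v hv h1)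
    have hc := Set.ncard_le_ncard hle
    rw [Set.ncard_pair (Ne.symm hg1)] at hc
    have h4 : (V : Set N).ncard = 4 := h.card_four
    omega
  have hmul : ∀ w ∈ V, ∀ z ∈ V, w * z = z * w := fun w hw z hz =>
    (Subgroup.mem_centralizer_iff.mp (h.self_cent.symm ▸ hz : z ∈ centralizer (V : Set N)) w hw)
  have hgg := h.exp_two g hgV
  have hvv := h.exp_two v hvV
  have hfour : DicksonFourGroups.four g v hgg hvv (hmul g hgV v hvV) = V :=
    Subgroup.eq_of_le_of_card_ge (DicksonFourGroups.four_le hgV hvV)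
      (by rw [h.card_four, DicksonFourGroups.card_four hg1 hv1 (Ne.symm hvg)])
  have cent : ∀ y : N, y * g = g * y → y * v = v * y → y ∈ V := by
    intro y h1 h2
    rw [← h.self_cent, mem_centralizer_iff]
    intro w hw
    have hw' : w ∈ DicksonFourGroups.four g v hgg hvv (hmul g hgV v hvV) := hfour.symm ▸ hw
    rcases DicksonFourGroups.mem_four.mp hw' with rfl | rfl | rfl | rfl
    · simp
    · exact h1.symm
    · exact h2.symm
    · rw [mul_assoc, ← h2, ← mul_assoc, ← h1, mul_assoc]
  have hx1 : x ≠ 1 := by rintro rfl; simp at hx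
  have hconj : x * v * x⁻¹ ∈ V := (Subgroup.mem_normalizer_iff.mp hxN v).mp hvV
  have hxgc : x * g * x⁻¹ = g := by rw [hxg, mul_inv_cancel_right]
  rw [← hfour] at hconj
  rcases DicksonFourGroups.mem_four.mp hconj with e | e | e | e
  · exact hv1 (conj_eq_one_iff.mp e)
  · exact hvg ((MulAut.conj x).injective (by simpa using e.trans hxgc.symm))
  · have hxV : x ∈ V := cent x hxg (mul_inv_eq_iff_eq_mul.mp e)
    apply hx1
    rw [← hx3, pow_succ, pow_two, h.exp_two x hxV, one_mul]
  · have h2 : x * x * v = v * (x * x) := by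
      have e' : x * v = g * v * x := mul_inv_eq_iff_eq_mul.mp e
      calc x * x * v = x * (g * v * x) := by rw [mul_assoc, e']
        _ = (x * g) * v * x := by group
        _ = g * (x * v) * x := by rw [hxg]; group
        _ = (g * g) * v * (x * x) := by rw [e']; group
        _ = v * (x * x) := by rw [hgg, one_mul]
    have hxx : x * x ∈ V := cent _ (by rw [mul_assoc, hxg, ← mul_assoc, hxg, mul_assoc]) h2
    have h4 := h.exp_two _ hxx
    apply hx1
    calc x = x ^ 3 * x := by rw [hx3, one_mul]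
      _ = x * x * (x * x) := by simp only [pow_succ, pow_zero, one_mul, mul_assoc]
      _ = 1 := h4

theorem no_m11_auto (h : Core N V) (hN : Cfsg.Spor.IsoM11 N)
    (φ : N ≃* N) (_hφ : ∀ n, φ (φ n) = n) (hV : ∀ n : N, φ n = n ↔ n ∈ normalizer (V : Set N)) :
    False := by
  obtain ⟨e⟩ := hN
  let ψ : MulAut ↥Cfsg.Spor.M11 := e.symm.trans (φ.trans e)
  have hsub : Subsingleton (Cfsg.Out ↥Cfsg.Spor.M11) :=
    (Nat.card_eq_one_iff_unique.mp S2060.result).1
  have hmem : ψ ∈ Cfsg.Inn ↥Cfsg.Spor.M11 :=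
    (QuotientGroup.eq_one_iff ψ).mp (Subsingleton.elim _ _)
  obtain ⟨c, hc⟩ := hmem
  refine no_inner h (e.symm c) fun n => ?_
  rw [← hV n]
  have hn : φ n = e.symm c * n * (e.symm c)⁻¹ := by
    apply e.injective
    have : ψ (e n) = c * e n * c⁻¹ := by rw [← hc]; rfl
    simpa [ψ] using this
  rw [hn]

end Inner

section PSL

open Matrix AutPSLBasic AutPSLGeometry AutPSLMain
open scoped MatrixGroups

variable {F : Type} [Field F]

/-- The standard matrix of trace zero. -/
def autI : SL(2, F) := ⟨!![0, 1; -1, 0], by simp⟩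

/-- The second standard matrix of trace zero. -/
def autJ (a b : F) (hab : a ^ 2 + b ^ 2 = -1) : SL(2, F) :=
  ⟨!![a, b; b, -a], by simp [Matrix.det_fin_two_of]; linear_combination -hab⟩

/-- The element of order three permuting the standard quaternion matrices. -/
def autX (a b : F) (hab : a ^ 2 + b ^ 2 = -1) (h2 : (2 : F) ≠ 0) : SL(2, F) :=
  ⟨!![2⁻¹ * (-1 + a + b), 2⁻¹ * (1 + b - a); 2⁻¹ * (-1 + b - a), 2⁻¹ * (-1 - a - b)], by
    simp [Matrix.det_fin_two_of]
    field_simp
    linear_combination -2 * hab⟩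

theorem autX_I {a b : F} (hab : a ^ 2 + b ^ 2 = -1) (h2 : (2 : F) ≠ 0) :
    autX a b hab h2 * autI = autI * autJ a b hab * autX a b hab h2 := by
  apply Subtype.ext
  simp only [Matrix.SpecialLinearGroup.coe_mul]
  simp only [autX, autI, autJ]
  ext i j
  fin_cases i <;> fin_cases j <;> simp [Matrix.mul_apply, Fin.sum_univ_two] <;>
    field_simp <;> first | linear_combination hab | linear_combination -hab | ring

theorem autX_J {a b : F} (hab : a ^ 2 + b ^ 2 = -1) (h2 : (2 : F) ≠ 0) :
    autX a b hab h2 * autJ a b hab = autI * autX a b hab h2 := by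
  apply Subtype.ext
  simp only [Matrix.SpecialLinearGroup.coe_mul]
  simp only [autX, autI, autJ]
  ext i j
  fin_cases i <;> fin_cases j <;> simp [Matrix.mul_apply, Fin.sum_univ_two] <;>
    field_simp <;> first | linear_combination hab | linear_combination -hab | ring

theorem scalar_of_commute {a b : F} (hab : a ^ 2 + b ^ 2 = -1) (h2 : (2 : F) ≠ 0)
    {H : Matrix (Fin 2) (Fin 2) F} (hI : H * !![0, 1; -1, 0] = !![0, 1; -1, 0] * H)
    (hJ : H * !![a, b; b, -a] = !![a, b; b, -a] * H) : H = Matrix.scalar (Fin 2) (H 0 0) := by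
  have e1 := congrFun (congrFun hI 0) 0
  have e2 := congrFun (congrFun hI 0) 1
  have e3 := congrFun (congrFun hJ 0) 0
  have e4 := congrFun (congrFun hJ 0) 1
  simp [Matrix.mul_apply, Fin.sum_univ_two] at e1 e2 e3 e4
  have h10 : H 1 0 = -H 0 1 := by linear_combination -e1
  have h11 : H 1 1 = H 0 0 := by linear_combination -e2
  rw [h10] at e3
  rw [h11] at e4
  have hb : (2 : F) * b * H 0 1 = 0 := by linear_combination e3
  have ha : (2 : F) * a * H 0 1 = 0 := by linear_combination -e4
  have h01 : H 0 1 = 0 := by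
    by_contra hne
    have ha0 : a = 0 := by
      rcases mul_eq_zero.mp ha with e | e
      · exact (mul_eq_zero.mp e).resolve_left h2
      · exact absurd e hne
    have hb0 : b = 0 := by
      rcases mul_eq_zero.mp hb with e | e
      · exact (mul_eq_zero.mp e).resolve_left h2
      · exact absurd e hne
    rw [ha0, hb0] at hab
    simp at hab
  ext i j
  fin_cases i <;> fin_cases j <;> simp [h01, h10, h11]

/-- An element of `PGL` centralising the standard four-group lies in it. -/
theorem cj_eq_conj [Finite F] {a b : F} (hab : a ^ 2 + b ^ 2 = -1) (h2 : (2 : F) ≠ 0) (g : GL (Fin 2) F)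
    (hI : cj g (QuotientGroup.mk autI : P 2 F) = QuotientGroup.mk autI)
    (hJ : cj g (QuotientGroup.mk (autJ a b hab) : P 2 F) = QuotientGroup.mk (autJ a b hab)) :
    ∃ k : SL(2, F), (k = 1 ∨ k = autI ∨ k = autJ a b hab ∨ k = autI * autJ a b hab) ∧
      (cj g : MulAut (P 2 F)) = (MulAut.conj (QuotientGroup.mk k : P 2 F))⁻¹ := by
  set G : Matrix (Fin 2) (Fin 2) F := (g : Matrix (Fin 2) (Fin 2) F) with hG
  set Gi : Matrix (Fin 2) (Fin 2) F := (↑(g⁻¹) : Matrix (Fin 2) (Fin 2) F) with hGi
  have hGiG : Gi * G = 1 := g.inv_mul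
  set A : Matrix (Fin 2) (Fin 2) F := !![0, 1; -1, 0] with hA
  set B : Matrix (Fin 2) (Fin 2) F := !![a, b; b, -a] with hB
  have hanti : B * A = -(A * B) := by
    rw [hA, hB]; ext i j; fin_cases i <;> fin_cases j <;> simp [Matrix.mul_apply, Fin.sum_univ_two]
  have key : ∀ s : SL(2, F), cj g (QuotientGroup.mk s : P 2 F) = QuotientGroup.mk s →
      G * s.1 = s.1 * G ∨ G * s.1 = -(s.1 * G) := by
    intro s e
    rw [cj_mk] at e
    have hc : ((slConj g s : SL(2, F)) : Matrix (Fin 2) (Fin 2) F) = G * s.1 * Gi := coe_slConj g s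
    rcases (PSL2Proj52.π_eq_iff _ _).mp e with e' | e'
    · left
      have h' : G * s.1 * Gi = s.1 := by rw [← hc, e']
      calc G * s.1 = G * s.1 * Gi * G := by rw [mul_assoc (G * s.1), hGiG, mul_one]
        _ = s.1 * G := by rw [h']
    · right
      have h' : G * s.1 * Gi = -s.1 := by rw [← hc, e']; rfl
      rw [← neg_mul, ← h', mul_assoc, hGiG, mul_one]
  suffices ∃ k : SL(2, F), (k = 1 ∨ k = autI ∨ k = autJ a b hab ∨ k = autI * autJ a b hab) ∧
      (k.1 * G) * A = A * (k.1 * G) ∧ (k.1 * G) * B = B * (k.1 * G) by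
    obtain ⟨k, hk, h1, h3⟩ := this
    refine ⟨k, hk, ?_⟩
    have hs := scalar_of_commute hab h2 h1 h3
    have hcen : Matrix.SpecialLinearGroup.toGL k * g ∈ Subgroup.center (GL (Fin 2) F) := by
      rw [Subgroup.mem_center_iff]
      intro g'
      apply Units.ext
      show (g' : Matrix (Fin 2) (Fin 2) F) * (k.1 * G) = (k.1 * G) * g'
      rw [hs]
      exact (Matrix.scalar_commute (n := Fin 2) _ (Commute.all _) _).symm
    have h1' : (cj (Matrix.SpecialLinearGroup.toGL k * g) : MulAut (P 2 F)) = 1 :=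
      (AutPSLApi.cj_eq_one_iff le_rfl _).mpr hcen
    rw [map_mul, ← conj_mk] at h1'
    exact eq_inv_of_mul_eq_one_right h1'
  have eI : (autI : SL(2, F)).1 = A := rfl
  have eJ : (autJ a b hab).1 = B := rfl
  rcases key _ hI with p | p <;> rcases key _ hJ with q | q <;> rw [eI] at p <;> rw [eJ] at q
  · exact ⟨1, Or.inl rfl, by simpa using p, by simpa using q⟩
  · refine ⟨autI, Or.inr (Or.inl rfl), ?_, ?_⟩ <;> rw [eI]
    · rw [mul_assoc, p]
    · rw [mul_assoc, q, mul_neg, ← mul_assoc A B G, ← mul_assoc B A G, hanti, neg_mul]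
  · refine ⟨autJ a b hab, Or.inr (Or.inr (Or.inl rfl)), ?_, ?_⟩ <;> rw [eJ]
    · rw [mul_assoc, p, mul_neg, ← mul_assoc B A G, ← mul_assoc A B G, hanti, neg_mul, neg_neg]
    · rw [mul_assoc, q]
  · refine ⟨autI * autJ a b hab, Or.inr (Or.inr (Or.inr rfl)), ?_, ?_⟩ <;>
      rw [Matrix.SpecialLinearGroup.coe_mul, eI, eJ]
    · rw [mul_assoc, p, mul_neg, ← mul_assoc (A * B) A G, ← mul_assoc A (A * B) G,
        mul_assoc A B A, hanti, mul_neg, neg_mul, neg_neg]
    · rw [mul_assoc, q, mul_neg, ← mul_assoc (A * B) B G, ← mul_assoc B (A * B) G,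
        ← mul_assoc B A B, hanti, neg_mul, neg_mul]

theorem no_psl_model {N : Type u} [Group N] [Finite N] {V : Subgroup N} [Fintype F]
    (hodd : Odd (Fintype.card F)) (h3 : 3 < Fintype.card F) (h : Core N V) (e : N ≃* P 2 F)
    (φ : N ≃* N) (hφ : ∀ n, φ (φ n) = n) (hV : ∀ n : N, φ n = n ↔ n ∈ normalizer (V : Set N)) :
    False := by
  classical
  have h2 : (2 : F) ≠ 0 := by
    intro e2
    have hch : ringChar F = 2 := CharP.ringChar_of_prime_eq_zero Nat.prime_two (by exact_mod_cast e2)
    have := FiniteField.even_card_of_char_two hch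
    rw [Nat.odd_iff] at hodd
    omega
  obtain ⟨p, hp⟩ := CharP.exists F
  haveI : NeZero p := ⟨(CharP.char_is_prime F p).ne_zero⟩
  obtain ⟨a, b, hab'⟩ := CharP.sq_add_sq F p (-1)
  set α : F := (a : F) with hα
  set β : F := (b : F) with hβ
  have hab : α ^ 2 + β ^ 2 = -1 := by rw [hα, hβ]; simpa using hab'
  set I0 : SL(2, F) := autI with hI0
  set J0 : SL(2, F) := autJ α β hab with hJ0
  have tI : PSL2Elements.tr I0 = 0 := by simp [hI0, autI, PSL2Elements.tr]
  have tJ : PSL2Elements.tr J0 = 0 := by simp [hJ0, autJ, PSL2Elements.tr]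
  have hA : DicksonFourGroups.Anti I0 J0 := by
    refine ⟨tI, Subtype.ext ?_⟩
    show !![α, β; β, -α] * !![0, 1; -1, 0] = -(!![0, 1; -1, 0] * !![α, β; β, -α])
    ext i j
    fin_cases i <;> fin_cases j <;> simp
  set A : P 2 F := QuotientGroup.mk I0 with hAdef
  set B : P 2 F := QuotientGroup.mk J0 with hBdef
  have hA2 : A * A = 1 := DicksonFourGroups.sq_of_tr_zero h2 tI
  have hB2 : B * B = 1 := DicksonFourGroups.sq_of_tr_zero h2 tJ
  have hAB : A * B = B * A := hA.comm
  have hA1 : A ≠ 1 := DicksonFourGroups.ne_one_of_tr_zero h2 tI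
  have hB1 : B ≠ 1 := DicksonFourGroups.ne_one_of_tr_zero h2 tJ
  have hne : A ≠ B := hA.ne h2
  set W := DicksonFourGroups.four A B hA2 hB2 hAB with hW
  have hWk : IsKleinFour W := DicksonFourGroups.isKleinFour_four hA1 hB1 hne
  have hVk : IsKleinFour (V.map e.toMonoidHom) := by
    refine DicksonFourGroups.map_klein ⟨h.card_four, ?_⟩ _ e.injective
    haveI : Nontrivial V := Finite.one_lt_card_iff_nontrivial.mp (by rw [h.card_four]; norm_num)
    refine (Monoid.exponent_eq_prime_iff Nat.prime_two).mpr fun g hg => ?_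
    exact orderOf_eq_prime (by rw [sq]; exact Subtype.ext (h.exp_two g g.2)) hg
  obtain ⟨ψ, hψ⟩ := DicksonFourGroups.exists_aut_between h2 hVk hWk
  set ε : N ≃* P 2 F := e.trans ψ with hε
  have hεV : ∀ v, v ∈ V ↔ ε v ∈ W := by
    intro v
    rw [← hψ, Subgroup.map_map]
    constructor
    · exact fun hv => ⟨v, hv, rfl⟩
    · rintro ⟨w, hw, ew⟩
      exact (ε.injective ew) ▸ hw
  set Φ : MulAut (P 2 F) := ε.symm.trans (φ.trans ε) with hΦ
  have hΦa : ∀ y, Φ y = ε (φ (ε.symm y)) := fun y => rfl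
  have hΦ2 : Φ * Φ = 1 := by
    ext y
    rw [MulAut.mul_apply, MulAut.one_apply, hΦa, hΦa, ε.symm_apply_apply, hφ, ε.apply_symm_apply]
  have hfix : ∀ y, Φ y = y ↔ ε.symm y ∈ normalizer (V : Set N) := fun y => by
    rw [← hV, hΦa, ← ε.eq_symm_apply]
  have hnorm : ∀ y, (∀ w ∈ W, y * w * y⁻¹ ∈ W) → Φ y = y := by
    intro y hy
    rw [hfix, Subgroup.mem_normalizer_iff]
    have hle : V.map (MulAut.conj (ε.symm y)).toMonoidHom ≤ V := by
      rintro _ ⟨v, hv, rfl⟩
      rw [hεV]
      simpa [MulAut.conj_apply] using hy _ ((hεV v).mp hv)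
    have heq : V.map (MulAut.conj (ε.symm y)).toMonoidHom = V :=
      Subgroup.eq_of_le_of_card_ge hle
        (by rw [Subgroup.card_map_of_injective (MulAut.conj (ε.symm y)).injective])
    intro v
    constructor
    · intro hv
      exact hle ⟨v, hv, rfl⟩
    · intro hv
      rw [← heq] at hv
      obtain ⟨w, hw, ew⟩ := hv
      have : w = v := (MulAut.conj (ε.symm y)).injective (ew.trans rfl)
      exact this ▸ hw
  have hWfix : ∀ w ∈ W, Φ w = w := by
    intro w hw
    rw [hfix]
    apply Subgroup.le_normalizer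
    rw [hεV, ε.apply_symm_apply]
    exact hw
  obtain ⟨g, σ, hgσ⟩ := rigid_two Φ
  have hfd : ∀ s : SL(2, F), (∀ i j, σ (s.1 i j) = s.1 i j) →
      fd σ (QuotientGroup.mk s : P 2 F) = QuotientGroup.mk s := by
    intro s hs
    rw [fd_mk]
    congr 1
    apply Subtype.ext
    rw [coe_slField]
    ext i j
    exact hs i j
  have hI' : fd σ A = A := hfd _ fun i j => by fin_cases i <;> fin_cases j <;> simp [hI0, autI]
  have hJ' : fd σ B = B := hfd _ fun i j => by
    fin_cases i <;> fin_cases j <;> simp [hJ0, autJ, hα, hβ]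
  have hcjA : cj g A = A := by
    have := hWfix A DicksonFourGroups.left_mem_four
    rwa [hgσ, MulAut.mul_apply, hI'] at this
  have hcjB : cj g B = B := by
    have := hWfix B DicksonFourGroups.right_mem_four
    rwa [hgσ, MulAut.mul_apply, hJ'] at this
  obtain ⟨k, hk, hgk⟩ := cj_eq_conj hab h2 g hcjA hcjB
  set X : P 2 F := QuotientGroup.mk (autX α β hab h2) with hX
  have hXA : X * A = A * B * X := by
    rw [hX, hAdef, hBdef, ← QuotientGroup.mk_mul, ← QuotientGroup.mk_mul, ← QuotientGroup.mk_mul]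
    exact congrArg _ (autX_I hab h2)
  have hXB : X * B = A * X := by
    rw [hX, hAdef, hBdef, ← QuotientGroup.mk_mul, ← QuotientGroup.mk_mul]
    exact congrArg _ (autX_J hab h2)
  have hXAB : X * (A * B) = B * X := by
    rw [← mul_assoc, hXA, mul_assoc (A * B) X B, hXB, ← mul_assoc, hAB, mul_assoc B A A, hA2, mul_one]
  have hXfix : Φ X = X := by
    refine hnorm X fun w hw => ?_
    rcases DicksonFourGroups.mem_four.mp hw with rfl | rfl | rfl | rfl
    · simp
    · rw [hXA, mul_inv_cancel_right]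
      exact mul_mem DicksonFourGroups.left_mem_four DicksonFourGroups.right_mem_four
    · rw [hXB, mul_inv_cancel_right]
      exact DicksonFourGroups.left_mem_four
    · rw [hXAB, mul_inv_cancel_right]
      exact DicksonFourGroups.right_mem_four
  have hX' : fd σ X = X := hfd _ fun i j => by
    fin_cases i <;> fin_cases j <;> simp [autX, hα, hβ, map_inv₀, map_ofNat]
  rw [hgσ, MulAut.mul_apply, hX', hgk] at hXfix
  set K0 : P 2 F := QuotientGroup.mk k with hK0
  have hcomm : X * K0 = K0 * X := by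
    have := congrArg (MulAut.conj K0) hXfix
    rw [MulAut.apply_inv_self, MulAut.conj_apply] at this
    exact (mul_inv_eq_iff_eq_mul.mp this.symm).symm
  have hK1 : K0 = 1 := by
    have cases4 : K0 = 1 ∨ K0 = A ∨ K0 = B ∨ K0 = A * B := by
      rcases hk with rfl | rfl | rfl | rfl
      · exact Or.inl rfl
      · exact Or.inr (Or.inl rfl)
      · exact Or.inr (Or.inr (Or.inl rfl))
      · exact Or.inr (Or.inr (Or.inr (QuotientGroup.mk_mul _ _ _)))
    rcases cases4 with e0 | e0 | e0 | e0
    · exact e0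
    · rw [e0, hXA] at hcomm
      exact absurd (mul_left_cancel ((mul_right_cancel hcomm).trans (mul_one A).symm)) hB1
    · rw [e0, hXB] at hcomm
      exact absurd (mul_right_cancel hcomm) hne
    · rw [e0, hXAB] at hcomm
      exact absurd (mul_eq_right.mp (mul_right_cancel hcomm).symm) hA1
  have hΦσ : Φ = fd σ := by rw [hgσ, hgk, hK1, map_one, inv_one, one_mul]
  have hσ2 : σ * σ = 1 := AutPSLApi.fd_injective (F := F) le_rfl (by
    show fd (σ * σ) = (fd (1 : F ≃+* F) : MulAut (P 2 F))
    rw [map_mul, map_one, ← hΦσ, hΦ2])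
  have hσσ : ∀ x, σ (σ x) = x := fun x => by
    have := DFunLike.congr_fun hσ2 x
    simpa using this
  obtain ⟨y, hy⟩ : ∃ y, σ y ≠ y := by
    by_contra hcon
    push Not at hcon
    have h1 : σ = 1 := RingEquiv.ext hcon
    apply normalizer_ne_top h
    rw [eq_top_iff]
    intro n _
    rw [← hV, ← ε.injective.eq_iff]
    have := hΦa (ε n)
    rw [hΦσ, h1, map_one, MulAut.one_apply, ε.symm_apply_apply] at this
    exact this.symm
  let K : AddSubgroup F :=
    { carrier := {c | σ c = c}
      add_mem' := fun {c d} hc hd => by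
        show σ (c + d) = c + d
        rw [map_add, (hc : σ c = c), (hd : σ d = d)]
      zero_mem' := map_zero σ
      neg_mem' := fun {c} hc => by show σ (-c) = -c; rw [map_neg, (hc : σ c = c)] }
  have h01 : (0 : Fin 2) ≠ 1 := by decide
  let f : Multiplicative K →* N :=
    { toFun := fun c => ε.symm (xr 0 1 (c.toAdd : F))
      map_one' := by simp [xr_zero h01]
      map_mul' := fun c d => by rw [← map_mul, xr_add h01]; rfl }
  have hf : Function.Injective f := fun c d ecd =>
    Multiplicative.toAdd.injective (Subtype.ext (xr_inj h01 (ε.symm.injective ecd)))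
  have hrange : f.range ≤ normalizer (V : Set N) := by
    rintro _ ⟨c, rfl⟩
    show ε.symm (xr 0 1 (c.toAdd : F)) ∈ _
    rw [← hfix, hΦσ, fd_xr σ h01, (c.toAdd.2 : σ (c.toAdd : F) = _)]
  have hdvd : Nat.card K ∣ 24 := by
    have hc : Nat.card f.range = Nat.card K :=
      (Nat.card_congr (MonoidHom.ofInjective hf).toEquiv).symm.trans
        (Nat.card_congr Multiplicative.toAdd)
    rw [← hc, ← h.card_norm]
    exact Subgroup.card_dvd_of_le hrange
  have hK3 : Nat.card K ≤ 3 := by
    have ho : Odd (Nat.card K) := by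
      refine Odd.of_dvd_nat ?_ K.card_addSubgroup_dvd_card
      rw [Nat.card_eq_fintype_card]; exact hodd
    have hle : Nat.card K ≤ 24 := Nat.le_of_dvd (by norm_num) hdvd
    interval_cases hq : Nat.card K <;> simp_all (config := {decide := true})
  have hF9 : Nat.card F ≤ 9 := by
    set δ := y - σ y with hδ
    have hδ0 : δ ≠ 0 := sub_ne_zero.mpr (Ne.symm hy)
    have hσδ : σ δ = -δ := by rw [hδ, map_sub, hσσ, neg_sub]
    let m : F → K × K := fun x =>
      (⟨x + σ x, by show σ (x + σ x) = x + σ x; rw [map_add, hσσ, add_comm]⟩,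
       ⟨(x - σ x) / δ, by
        show σ ((x - σ x) / δ) = (x - σ x) / δ
        rw [map_div₀, map_sub, hσσ, hσδ, div_neg, ← neg_div, neg_sub]⟩)
    have hm : Function.Injective m := by
      intro x z hxz
      have h1 : x + σ x = z + σ z := congrArg (fun q => (q.1 : F)) hxz
      have h2' : (x - σ x) / δ = (z - σ z) / δ := congrArg (fun q => (q.2 : F)) hxz
      have h3' : x - σ x = z - σ z := by
        rw [div_left_inj' hδ0] at h2'; exact h2'
      exact mul_left_cancel₀ h2 (by linear_combination h1 + h3')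
    calc Nat.card F ≤ Nat.card (K × K) := Nat.card_le_card_of_injective m hm
      _ = Nat.card K * Nat.card K := Nat.card_prod _ _
      _ ≤ 3 * 3 := Nat.mul_le_mul hK3 hK3
      _ = 9 := rfl
  have hoddF : Odd (Nat.card F) := by rw [Nat.card_eq_fintype_card]; exact hodd
  have hlow : 3 < Nat.card F := by rw [Nat.card_eq_fintype_card]; exact h3
  have hcard := PSLCard.card_PSL2_odd (F := F) hoddF
  have h16 := h.sixteen
  rw [Nat.card_congr e.toEquiv] at h16
  rw [Nat.odd_iff] at hoddF
  have h16' : 16 ∣ Nat.card F * (Nat.card F ^ 2 - 1) / 2 := h16.trans (dvd_of_eq hcard)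
  generalize Nat.card F = q at h16' hoddF hlow hF9
  interval_cases q <;> omega

theorem no_psl_auto {N : Type u} [Group N] [Finite N] {V : Subgroup N} (h : Core N V)
    (hyp : GWDih33.Hyp N) (φ : N ≃* N) (hφ : ∀ n, φ (φ n) = n)
    (hV : ∀ n : N, φ n = n ↔ n ∈ normalizer (V : Set N)) : False := by
  obtain ⟨F, _, _, hodd, h3, ⟨e⟩⟩ := GWDihPSL72.psl hyp
  exact no_psl_model hodd h3 h e φ hφ hV

end PSL

end Cfsg.Agent.Wong3x33
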