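import Cfsg.Agent.Lib.Wong3Invol78
import Cfsg.Agent.Lib.CycSyl43TypesCore

/-!
The centraliser of an involution in a simple group with semidihedral Sylow 2-subgroups and a
self-centralising four-group: the Sylow subgroup has order 16 and the centraliser is `GL(2,3)`
modulo its odd core.
-/

set_option autoImplicit false
set_option linter.style.haveILetI false

namespace Cfsg.Agent.Wong3Centre78

open Subgroup Cfsg.Agent.CycSyl43TypesLocal Cfsg.Agent.CycSyl43TypesCore
open scoped MatrixGroups

universe u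

variable {G : Type u} [Group G] [Finite G]

/-- A noncentral involution of a semidihedral group can serve as the second generator. -/
theorem SD.retarget {S : Subgroup G} {n : ℕ} {x y v : G} (h : SD S n x y) (hv : v ∈ S)
    (hvo : orderOf v = 2) (hne : v ≠ x ^ 2 ^ (n - 1)) : SD S n x v := by
  obtain ⟨i, rfl | rfl⟩ := h.cases hv
  · refine absurd ?_ hne
    have h1 := pow_orderOf_eq_one (x ^ i)
    rw [hvo, ← pow_mul] at h1
    have h2 := orderOf_dvd_of_pow_eq_one h1
    rw [h.ox, h.two_pow, mul_comm i 2] at h2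
    obtain ⟨j, hj⟩ := Nat.dvd_of_mul_dvd_mul_left two_pos h2
    rw [hj, pow_mul]
    rcases Nat.even_or_odd j with ⟨l, rfl⟩ | ⟨l, rfl⟩
    · exfalso
      have h3 : x ^ i = 1 := by
        rw [hj, pow_mul, pow_add, ← (Commute.refl _).mul_pow, h.z_facts.2, one_pow]
      rw [h3, orderOf_one] at hvo
      omega
    · rw [pow_succ, two_mul, pow_add, ← (Commute.refl _).mul_pow, h.z_facts.2, one_pow, one_mul]
  · refine ⟨h.n3, h.xm, hv, h.ox, hvo, ?_, h.card⟩
    calc x ^ i * y * x * (x ^ i * y)⁻¹ = x ^ i * (y * x * y⁻¹) * (x ^ i)⁻¹ := by group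
      _ = x ^ (2 ^ (n - 1) - 1) := by rw [h.yx, ← pow_add, add_comm, pow_add, mul_inv_cancel_right]

/-- The centraliser of a central involution of a semidihedral Sylow subgroup that contains a
self-centralising four-group. -/
theorem centraliser_type (hs : IsSimpleGroup G) (hnc : ∃ a b : G, a * b ≠ b * a) {S : Sylow 2 G}
    {t : G} (hot : orderOf t = 2) (hm : t ∈ (S : Subgroup G))
    (hc : ∀ s ∈ (S : Subgroup G), s * t = t * s) {n : ℕ} {x y₀ : G}
    (h₀ : SD (S : Subgroup G) n x y₀) {v : G} (hv : v ∈ (S : Subgroup G)) (hvo : orderOf v = 2)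
    (hvt : v ≠ t) (hself : ∀ c : G, Commute c t → Commute c v → c = 1 ∨ c = t ∨ c = v ∨ c = t * v) :
    Nat.card (S : Subgroup G) = 16 ∧
      Nonempty (↥(centralizer ({t} : Set G)) ⧸ Cfsg.oddCore ↥(centralizer ({t} : Set G)) ≃*
        GL (Fin 2) (ZMod 3)) := by
  classical
  have ht : t = x ^ 2 ^ (n - 1) := h₀.central_eq hm hot hc
  have h : SD (S : Subgroup G) n x v := SD.retarget h₀ hv hvo (ht ▸ hvt)
  obtain ⟨g, hg, hgx⟩ := exists_fusing hs hnc hot hm hc h
  set C := centralizer ({t} : Set G) with hC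
  have hle : (S : Subgroup G) ≤ C := le_centralizer hc
  set tC : C := ⟨t, hle hm⟩
  have htcen : tC ∈ center C := mem_center_iff.2 fun c =>
    Subtype.ext (mem_centralizer_singleton_iff.1 c.2)
  set Z : Subgroup C := zpowers tC with hZ
  have hZle : Z ≤ center C := zpowers_le.2 htcen
  haveI hZn : Z.Normal := ⟨fun z hz c => by
    rwa [mem_center_iff.1 (hZle hz) c, mul_inv_cancel_right]⟩
  have htt : t * t = 1 := by rw [← pow_two, ← hot, pow_orderOf_eq_one]
  have hZmem : ∀ {c : C}, c ∈ Z → (c : G) = 1 ∨ (c : G) = t := by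
    intro c hc
    obtain ⟨k, rfl⟩ := mem_zpowers_iff.1 hc
    rw [coe_zpow]
    rcases Int.even_or_odd k with ⟨l, rfl⟩ | ⟨l, rfl⟩
    · left
      rw [← two_mul, zpow_mul]; simp [tC, pow_two, htt, zpow_ofNat]
    · right
      rw [zpow_add, zpow_one, zpow_mul]; simp [tC, pow_two, htt, zpow_ofNat]
  let π : C →* C ⧸ Z := QuotientGroup.mk' Z
  have hπ : Function.Surjective π := QuotientGroup.mk'_surjective _
  have hπone : ∀ {c : C}, π c = 1 ↔ c ∈ Z := fun {c} => QuotientGroup.eq_one_iff c
  have hπt : π tC = 1 := hπone.2 (mem_zpowers _)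
  -- lifts
  set xC : C := ⟨x, hle h.xm⟩ with hxC
  set vC : C := ⟨v, hle h.ym⟩ with hvC
  set X' := π xC with hX'
  set a := π vC with ha'
  set q := 2 ^ (n - 2) with hq
  have hm2 : 2 ^ (n - 1) = 2 * q := by
    rw [hq, ← pow_succ']; congr 1; have := h.n3; omega
  have hq2 : q = 2 * 2 ^ (n - 3) := by
    rw [hq, ← pow_succ']; congr 1; have := h.n3; omega
  have htx : xC ^ (2 * q) = tC := Subtype.ext (by rw [coe_pow, ← hm2]; exact ht.symm)
  set w := X' ^ q with hw'
  have hXm : X' ^ (2 * q) = 1 := by rw [hX', ← map_pow, htx, hπt]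
  have hww : w * w = 1 := by rw [hw', ← pow_add, ← two_mul, hXm]
  have haa : a * a = 1 := by
    rw [ha', ← map_mul, show vC * vC = 1 from Subtype.ext h.yy, map_one]
  have hai : a⁻¹ = a := inv_eq_of_mul_eq_one_right haa
  have hvx : v * x * v⁻¹ * x = t := by
    rw [h.yx, ← pow_succ, Nat.sub_add_cancel Nat.one_le_two_pow, ht]
  have haX : a * X' * a⁻¹ = X'⁻¹ := by
    rw [eq_inv_iff_mul_eq_one, ha', hX', ← map_inv, ← map_mul, ← map_mul, ← map_mul,
      show vC * xC * vC⁻¹ * xC = tC from Subtype.ext hvx, hπt]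
  have haXk : ∀ k : ℕ, a * X' ^ k * a = (X' ^ k)⁻¹ := fun k => by
    conv_lhs => arg 2; rw [← hai]
    rw [← conj_pow, haX, inv_pow]
  have haw : Commute a w := by
    have h1 : a * w * a = w := by rw [hw', haXk, ← hw']; exact inv_eq_of_mul_eq_one_right hww
    show a * w = w * a
    calc a * w = a * w * a * a := by rw [mul_assoc (a * w), haa, mul_one]
      _ = w * a := by rw [h1]
  have hxq : (x ^ q) * (x ^ q) = t := by rw [← pow_add, ← two_mul, ← hm2, ht]
  have hlift : ∀ {c d : C}, π c = π d → (c : G) = d ∨ (c : G) = d * t := by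
    intro c d hcd
    have h1 : d⁻¹ * c ∈ Z := hπone.1 (by rw [map_mul, map_inv, hcd, inv_mul_cancel])
    rcases hZmem h1 with e | e
    · left
      rw [coe_mul, coe_inv, inv_mul_eq_one] at e
      exact e.symm
    · right
      rw [coe_mul, coe_inv, inv_mul_eq_iff_eq_mul] at e
      exact e
  have hne : ¬ IsConj a w := by
    intro e
    obtain ⟨γ, hγ⟩ := isConj_iff.1 e
    obtain ⟨γ', rfl⟩ := hπ γ
    rw [ha', hw', hX', ← map_inv, ← map_mul, ← map_mul, ← map_pow] at hγ
    have h1 : ((γ' * vC * γ'⁻¹ : C) : G) * ((γ' * vC * γ'⁻¹ : C) : G) = 1 := by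
      rw [← coe_mul, conj_mul, show vC * vC = 1 from Subtype.ext h.yy, mul_one, mul_inv_cancel,
        coe_one]
    have hct : Commute (x ^ q) t := hc _ (pow_mem h.xm q)
    rcases hlift hγ with e | e <;> rw [e] at h1 <;> simp only [coe_pow, hxC] at h1
    · rw [hxq] at h1
      rw [h1, orderOf_one] at hot; omega
    · rw [hct.symm.mul_mul_mul_comm, hxq, htt, mul_one] at h1
      rw [h1, orderOf_one] at hot; omega
  have hconj : IsConj a (a * w) := by
    refine isConj_iff.2 ⟨X' ^ 2 ^ (n - 3), ?_⟩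
    calc X' ^ 2 ^ (n - 3) * a * (X' ^ 2 ^ (n - 3))⁻¹
        = X' ^ 2 ^ (n - 3) * (a * (X' ^ 2 ^ (n - 3))⁻¹) := mul_assoc _ _ _
      _ = X' ^ 2 ^ (n - 3) * (a * (a * X' ^ 2 ^ (n - 3) * a)) := by rw [haXk]
      _ = w * a := by
          simp only [← mul_assoc]
          rw [mul_assoc _ a a, haa, mul_one, hw', hq2, two_mul, pow_add]
      _ = a * w := haw.eq.symm
  have hw1 : w ≠ 1 := by
    intro e
    refine hne ?_
    rw [e, mul_one] at hconj
    exact absurd (show w = 1 from e) (fun e' => by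
      have h1 : π (xC ^ q) = π 1 := by rw [map_pow, map_one, ← hX', ← hw', e']
      rcases hlift h1 with e'' | e'' <;> simp only [coe_pow, hxC, coe_one, one_mul] at e'' <;>
        rw [e''] at hxq
      · rw [one_mul] at hxq; rw [← hxq, orderOf_one] at hot; omega
      · rw [htt] at hxq; rw [← hxq, orderOf_one] at hot; omega)
  have hcentl : ∀ c : C, π c * a = a * π c → π c = 1 ∨ π c = a ∨ π c = w ∨ π c = a * w := by
    intro c hcomm
    have hfour : ∀ d : C, Commute (d : G) v → π d = 1 ∨ π d = a := by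
      intro d hd
      have hdt : Commute (d : G) t := mem_centralizer_singleton_iff.1 d.2
      rcases hself d hdt hd with e | e | e | e
      · exact Or.inl (by rw [show d = 1 from Subtype.ext e, map_one])
      · exact Or.inl (by rw [show d = tC from Subtype.ext e, hπt])
      · exact Or.inr (by rw [show d = vC from Subtype.ext e])
      · exact Or.inr (by rw [show d = tC * vC from Subtype.ext e, map_mul, hπt, one_mul])
    have h1 : π (c * vC * c⁻¹) = π vC := by
      rw [map_mul, map_mul, map_inv, ← ha', hcomm, mul_inv_cancel_right]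
    rcases hlift h1 with e | e
    · rcases hfour c (mul_inv_eq_iff_eq_mul.1 (by simpa [hvC] using e)) with e' | e'
      · exact Or.inl e'
      · exact Or.inr (Or.inl e')
    · simp only [coe_mul, coe_inv, hvC] at e
      -- `x ^ q` also sends `v` to `v * t`
      have hvxx : v * x * v⁻¹ = x⁻¹ * t := by
        rw [hc _ (inv_mem h.xm)]
        calc v * x * v⁻¹ = (v * x * v⁻¹ * x) * x⁻¹ := by group
          _ = t * x⁻¹ := by rw [hvx]
      have h2 : v * x ^ q * v⁻¹ = (x ^ q)⁻¹ := by
        have hct : Commute x⁻¹ t := hc _ (inv_mem h.xm)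
        rw [← conj_pow, hvxx, hct.mul_pow, inv_pow, hq2, pow_mul t 2, pow_two, htt, one_pow, mul_one]
      have hxv' : x ^ q * v * (x ^ q)⁻¹ = v * t := by
        have h5 : t * v = v * t := (hc v h.ym).symm
        calc x ^ q * v * (x ^ q)⁻¹ = x ^ q * v * (v * x ^ q * v⁻¹) := by rw [h2]
          _ = x ^ q * (v * v) * x ^ q * v⁻¹ := by group
          _ = t * v⁻¹ := by rw [h.yy, mul_one, hxq]
          _ = v * t := by rw [inv_eq_of_mul_eq_one_right h.yy, h5]
      have hd : Commute (((xC ^ q)⁻¹ * c : C) : G) v := by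
        refine mul_inv_eq_iff_eq_mul.1 ?_
        simp only [coe_mul, coe_inv, coe_pow, hxC]
        calc (x ^ q)⁻¹ * c * v * ((x ^ q)⁻¹ * c)⁻¹ = (x ^ q)⁻¹ * ((c : G) * v * (c : G)⁻¹) * x ^ q := by
              group
          _ = v := by rw [e, ← hxv']; group
      rcases hfour _ hd with e' | e' <;>
        rw [map_mul, map_inv, map_pow, ← hX', ← hw', inv_mul_eq_iff_eq_mul] at e'
      · exact Or.inr (Or.inr (Or.inl (by rw [e', mul_one])))
      · exact Or.inr (Or.inr (Or.inr (by rw [e', haw.eq])))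
  have hF : Wong3Invol78.Four a w :=
    ⟨haa, hww, hw1, haw, fun c hc' => by obtain ⟨c, rfl⟩ := hπ c; exact hcentl c hc'.eq, hne, hconj⟩
  -- `x * v` is conjugate to `w`
  have hu : IsConj w (X' * a) := by
    obtain ⟨j, hj⟩ := mem_powers_iff_mem_zpowers.2 hgx
    change x ^ j = _ at hj
    have hsq : (x * v) * (x * v) = t := by
      have := h.sq 1
      rw [pow_one, if_neg Nat.not_even_one] at this
      rw [this, ht]
    have hgt : g⁻¹ * t * g = t := by
      rw [mul_assoc, ← mem_centralizer_singleton_iff.1 hg, inv_mul_cancel_left]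
    have h2 : x ^ (j + j) = x ^ 2 ^ (n - 1) := by
      rw [pow_add, hj, ← ht]
      calc g⁻¹ * (x * v) * g * (g⁻¹ * (x * v) * g) = g⁻¹ * ((x * v) * (x * v)) * g := by group
        _ = t := by rw [hsq, hgt]
    rw [pow_eq_pow_iff_modEq, h.ox, h.two_pow, hm2] at h2
    have h3 : j ≡ q [MOD 2 * q] := by
      have h4 : 2 * j ≡ 2 * q [MOD 2 * (2 * q)] := by rwa [two_mul j]
      exact Nat.ModEq.mul_left_cancel' two_ne_zero h4
    have h4 : X' ^ j = w := by
      rw [hw', pow_eq_pow_iff_modEq]
      exact h3.of_dvd (orderOf_dvd_of_pow_eq_one hXm)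
    refine isConj_iff.2 ⟨π ⟨g, hg⟩, ?_⟩
    have h5 : (⟨g, hg⟩ : C) * xC ^ j * (⟨g, hg⟩ : C)⁻¹ = xC * vC := Subtype.ext (by
      simp only [coe_mul, coe_inv, coe_pow, hxC, hvC, hj]; group)
    rw [← h4, ha', hX', ← map_pow, ← map_inv, ← map_mul, ← map_mul, h5, map_mul]
  have hu' : IsConj w (X'⁻¹ * a) := hu.trans (isConj_iff.2 ⟨a, by
    rw [hai, ← mul_assoc, mul_assoc _ a a, haa, mul_one]
    have := haXk 1
    rw [pow_one] at this
    calc a * X' = a * X' * a * a := by rw [mul_assoc (a * X'), haa, mul_one]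
      _ = _ := by rw [this]⟩)
  have hX4 : X' ^ 4 = 1 := by
    have h1 := (hF.pairwise hu hu').eq
    have e1 : ∀ p : C ⧸ Z, p * a * (X'⁻¹ * a) = p * X' := fun p => by
      have := haXk 1
      rw [pow_one] at this
      calc p * a * (X'⁻¹ * a) = p * (a * (a * X' * a) * a) := by rw [this]; group
        _ = p * X' := by simp only [← mul_assoc]; rw [mul_assoc _ a a, haa, mul_one, mul_assoc _ a a, haa, mul_one]
    rw [e1, show X'⁻¹ * a * (X' * a) = X'⁻¹ * (a * X' * a) by group] at h1
    have := haXk 1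
    rw [pow_one] at this
    rw [this] at h1
    calc X' ^ 4 = X' * X' * (X' * X') := by rw [pow_succ, pow_succ, pow_two, mul_assoc]
      _ = X'⁻¹ * X'⁻¹ * (X' * X') := by rw [h1]
      _ = 1 := by group
  have hn3 : n = 3 := by
    have h1 : π (xC ^ 4) = π 1 := by rw [map_pow, map_one, ← hX', hX4]
    have h2 : x ^ 8 = 1 := by
      rw [show 8 = 4 + 4 from rfl, pow_add]
      rcases hlift h1 with e | e <;> simp only [coe_pow, hxC, coe_one, one_mul] at e <;> rw [e]
      · exact one_mul 1
      · exact htt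
    have h3 := orderOf_dvd_of_pow_eq_one h2
    rw [h.ox, show 8 = 2 ^ 3 from rfl, Nat.pow_dvd_pow_iff_le_right one_lt_two] at h3
    exact le_antisymm h3 h.n3
  subst hn3
  refine ⟨h.card, ?_⟩
  have hw2 : w = X' * X' := by rw [hw', hq]; norm_num [pow_two]
  have huw : X' * a ≠ w := by
    intro e
    rw [hw2, mul_left_cancel_iff] at e
    rcases hlift e with e' | e' <;> simp only [hxC, hvC] at e' <;> refine h.y_notMem ?_ <;> rw [e']
    · exact mem_zpowers x
    · exact mul_mem (mem_zpowers x) (ht ▸ pow_mem (mem_zpowers x) _)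
  have hau : a * (X' * a) * a = X' * a * w := by
    have h1 := haXk 1
    rw [pow_one] at h1
    calc a * (X' * a) * a = a * X' * a * a := by group
      _ = X'⁻¹ * a := by rw [h1]
      _ = X' * (a * w * a) * a := by
          rw [haw.eq, mul_assoc w, haa, mul_one, hw2, inv_mul_eq_iff_eq_mul]
          simp only [← mul_assoc]
          have h4 : X' * X' * X' * X' = 1 := by rw [← hX4, pow_succ, pow_succ, pow_two]
          rw [h4, one_mul]
      _ = X' * a * w := by simp only [← mul_assoc]; rw [mul_assoc _ a a, haa, mul_one]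
  haveI := hF.solvable hu hau huw
  haveI : Group.IsSolvable Z := Group.isSolvable_of_comm fun p r =>
    Subtype.ext (mem_center_iff.1 (hZle r.2) p)
  haveI hsol : Group.IsSolvable C := Group.isSolvable_of_ker_le_range Z.subtype π
    (by rw [QuotientGroup.ker_mk', range_subtype])
  obtain ⟨f, hf, hker⟩ := semi_solvable hot hm hc h hsol (not_split h hg hgx hle)
  have hk : f.ker = Cfsg.oddCore C := by
    rw [hker, core, subgroupOf, comap_map_eq_self_of_injective C.subtype_injective]
  exact ⟨(QuotientGroup.quotientMulEquivOfEq hk.symm).trans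
    (QuotientGroup.quotientKerEquivOfSurjective f hf)⟩

end Cfsg.Agent.Wong3Centre78
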