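import Cfsg.Agent.Lib.Wong3Setup33
import Cfsg.Agent.Lib.CycSyl43SemiGL

/-!
The two exceptional characters of the semidihedral configuration with an abelian odd core.
-/

set_option autoImplicit false

namespace Cfsg.Agent.Wong3x33

open Subgroup BinaryOctahedral GL23CentModel GL23Recog95
open Cfsg.Agent.GWDih33 (Om om_comm odd_om om_normalized)

universe u

namespace Char79

open Cfsg.Agent.CycSyl43SemiGL Cfsg.Agent.CycSyl43SemiGLModel
open Cfsg.Agent.CharBasic Cfsg.Agent.CharBasicDecomp Cfsg.Agent.CharInduced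
open Cfsg.Agent.ConstDiff2Basic (blk mem_blk)
open scoped ComplexConjugate

variable {G : Type u} [Group G] {f : Coord → G}

theorem f_one (hs : SD f) : f oneC = 1 := by
  have h : pSD oneC := by decide +kernel
  have h1 := hs.mul_two oneC oneC h h
  rw [one_mC] at h1
  exact mul_left_cancel (a := f oneC) (by rw [← h1, mul_one])

variable [Finite G]

theorem om_conj {t c o : G} (hc : Commute c t) (ho : o ∈ Om t) : c * o * c⁻¹ ∈ Om t :=
  (mem_normalizer_iff.1 (om_normalized t (mem_centralizer_singleton_iff.2 hc.eq)) o).1 ho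

theorem om_conj' {t c o : G} (hc : Commute c t) (ho : o ∈ Om t) : c⁻¹ * o * c ∈ Om t := by
  simpa using om_conj hc.inv_left ho

theorem coord_unique (hs : SD f) {x y : Coord} {o o' : G} (ho : o ∈ Om (f tC))
    (ho' : o' ∈ Om (f tC)) (h : f x * o = f y * o') : x = y := by
  have e : mC (invC y) y = oneC := by
    have key : ∀ b, mC (invC b) b = oneC := by decide +kernel
    exact key y
  have h1 : f (invC y) * f y ∈ Om (f tC) := by
    simpa [e, f_one hs] using hs.mul (invC y) y
  have h3 : f (invC y) * f x ∈ Om (f tC) := by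
    have he : f (invC y) * f x = f (invC y) * f y * (o' * o⁻¹) := by
      rw [eq_mul_inv_iff_mul_eq.2 h]; group
    rw [he]
    exact mul_mem h1 (mul_mem ho' (inv_mem ho))
  have h4 := mul_mem h3 (inv_mem (hs.mul (invC y) x))
  rw [show f (invC y) * f x * ((f (mC (invC y) x))⁻¹ * (f (invC y) * f x))⁻¹ =
    f (mC (invC y) x) by group] at h4
  have h2 := hs.meet (mC (invC y) x) h4
  have key : ∀ a b, mC (invC b) a = oneC → a = b := by decide +kernel
  exact key x y h2

/-- The projection to the coordinates. -/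
theorem exists_proj (hs : SD f) :
    ∃ φ : G → Coord, CycSyl43SemiGL.Frame (f tC) (Om (f tC)) φ ∧
      ∀ x, ∀ o ∈ Om (f tC), φ (f x * o) = x := by
  classical
  let φ : G → Coord := fun g => if h : Commute g (f tC) then (hs.cent g h).choose else oneC
  have hval : ∀ x, ∀ o ∈ Om (f tC), φ (f x * o) = x := by
    intro x o ho
    have hc : Commute (f x * o) (f tC) := (hs.cent_t x).mul_left (om_comm ho).symm
    simp only [φ, dif_pos hc]
    obtain ⟨o', ho', he⟩ := (hs.cent _ hc).choose_spec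
    exact coord_unique hs ho' ho he
  refine ⟨φ, ⟨hs.ot, odd_om _, fun y hy => (om_comm hy).symm, fun c hc y hy => om_conj hc hy,
    ?_, ?_, ?_⟩, hval⟩
  · intro a b ha hb
    obtain ⟨x, o, ho, rfl⟩ := hs.cent a ha
    obtain ⟨y, o', ho', rfl⟩ := hs.cent b hb
    have e : f x * o * (f y * o') =
        f (mC x y) * ((f (mC x y))⁻¹ * (f x * f y) * ((f y)⁻¹ * o * f y * o')) := by
      group
    rw [e, hval x o ho, hval y o' ho',
      hval _ _ (mul_mem (hs.mul x y) (mul_mem (om_conj' (hs.cent_t y) ho) ho'))]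
  · intro x
    exact ⟨f x * 1, (hs.cent_t x).mul_left (Commute.one_left _), hval x 1 (one_mem _)⟩
  · intro a ha
    obtain ⟨x, o, ho, rfl⟩ := hs.cent a ha
    rw [hval x o ho]
    refine ⟨fun h => by rw [h, f_one hs, one_mul]; exact ho, fun h => hs.meet x ?_⟩
    simpa using mul_mem h (inv_mem ho)

/-- The properties of a class function on the coordinates used below. -/
structure ThData (th : Coord → ℤ) (K : ℤ) : Prop where
  supp : ∀ x, th x ≠ 0 → Special x
  norm : ∑ x, th x * th x = 144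
  sum : ∑ x, th x = 48
  one : th oneC = 0
  zero : ∀ a b, IsInv a → IsInv b → (a = tC ∨ b = tC) → th (mC a b) = 0
  pairs : ∑ a, ∑ b, (if Outer a ∧ Outer b then th (mC a b) else 0) = K

theorem zero1 : ∀ a b, IsInv a → IsInv b → (a = tC ∨ b = tC) → th1 (mC a b) = 0 := by
  decide +kernel

theorem zero4 : ∀ a b, IsInv a → IsInv b → (a = tC ∨ b = tC) → th4 (mC a b) = 0 := by
  decide +kernel

theorem outer1 : ∑ a, ∑ b, (if Outer a ∧ Outer b then th1 (mC a b) else 0) = 192 := by
  decide +kernel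

theorem outer4 : ∑ a, ∑ b, (if Outer a ∧ Outer b then th4 (mC a b) else 0) = 96 := by
  decide +kernel

theorem thData1 : ThData th1 192 :=
  ⟨supp1, norm1, sum1, by decide +kernel, zero1, outer1⟩

theorem thData4 : ThData th4 96 :=
  ⟨supp4, norm4, sum4, by decide +kernel, zero4, outer4⟩

section OnCent

variable {t : G} {O : Subgroup G} {φ : G → Coord} (hF : CycSyl43SemiGL.Frame t O φ)
  [Fintype (centralizer ({t} : Set G))]
include hF

theorem th1_gen :
    Cfsg.IsGeneralizedCharacter (centralizer ({t} : Set G)) (fun c => (th1 (φ c) : ℂ)) := by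
  classical
  haveI := Fintype.ofFinite (preSub hF pSL closed_pSL)
  haveI := Fintype.ofFinite (preSub hF pB0 closed_pB0)
  haveI := Fintype.ofFinite (preSub hF pS3 closed_pS3)
  have e : (fun c : centralizer ({t} : Set G) => (th1 (φ c) : ℂ)) =
      (fun _ => (1 : ℂ)) + (fun _ => (1 : ℂ)) -
        Cfsg.indFun (preSub hF pSL closed_pSL) (fun _ => (1 : ℂ)) +
        Cfsg.indFun (preSub hF pB0 closed_pB0) (fun _ => (1 : ℂ)) -
        Cfsg.indFun (preSub hF pS3 closed_pS3) (fun _ => (1 : ℂ)) := by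
    funext c
    simp only [Pi.sub_apply, Pi.add_apply]
    rw [ind_one_pre hF closed_pSL (by norm_num) card_pSL c,
      ind_one_pre hF closed_pB0 (by norm_num) card_pB0 c,
      ind_one_pre hF closed_pS3 (by norm_num) card_pS3 c]
    have h := avg1 (φ c)
    simp only [w1] at h
    rw [Finset.sum_sub_distrib, Finset.sum_add_distrib, Finset.sum_sub_distrib, ← Finset.mul_sum,
      ← Finset.mul_sum, ← Finset.mul_sum, Finset.sum_const, card_univ'] at h
    have h' := congrArg (fun z : ℤ => (z : ℂ)) h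
    push_cast at h'
    push_cast
    simp only [nsmul_eq_mul] at h'
    push_cast at h'
    linear_combination (-(1 : ℂ) / 48) * h'
  rw [e]
  have h1 := isGeneralizedCharacter_of_isCharacter
    (isCharacter_one (G := centralizer ({t} : Set G)))
  exact isGeneralizedCharacter_sub (isGeneralizedCharacter_add
    (isGeneralizedCharacter_sub (isGeneralizedCharacter_add h1 h1)
      (isGenChar_ind _ (isGeneralizedCharacter_of_isCharacter isCharacter_one)))
    (isGenChar_ind _ (isGeneralizedCharacter_of_isCharacter isCharacter_one)))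
    (isGenChar_ind _ (isGeneralizedCharacter_of_isCharacter isCharacter_one))

omit [Fintype (centralizer ({t} : Set G))] in
theorem th_vanish {th : Coord → ℤ} {K : ℤ} (hd : ThData th K) :
    CycSyl43TI.Vanish (D4 t) (fun c : centralizer ({t} : Set G) => (th (φ c) : ℂ)) := by
  intro c hc
  by_contra h
  obtain ⟨k, -, hk⟩ := special_power _ (hd.supp (φ (c : G)) fun e => h (by simp [e]))
  have hct := of_mem_cent c.2
  have ho : t * (c : G) ^ k ∈ O := by
    rw [← hF.ker _ ((Commute.refl t).mul_left (hct.pow_left k)),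
      hF.mul _ _ (Commute.refl t) (hct.pow_left k), hF.map_t, hF.map_pow hct, hk]
    exact isInv_t.1
  have hck : (c : G) ^ k = t * (t * (c : G) ^ k) := by rw [← mul_assoc, hF.tt, one_mul]
  refine hc ⟨hct, k * Nat.card O, ?_⟩
  obtain ⟨m, hm⟩ := hF.odd
  rw [pow_mul, hck, (hF.le _ ho).symm.mul_pow,
    orderOf_dvd_iff_pow_eq_one.1 (Subgroup.orderOf_dvd_natCard O ho), mul_one, hm, pow_succ,
    pow_mul, pow_two, hF.tt, one_pow, one_mul]

theorem th_norm {th : Coord → ℤ} {K : ℤ} (hd : ThData th K) :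
    Cfsg.classInner (fun c : centralizer ({t} : Set G) => (th (φ c) : ℂ)) (fun _ => 1) = 1 ∧
    Cfsg.classInner (fun c : centralizer ({t} : Set G) => (th (φ c) : ℂ))
      (fun c => (th (φ c) : ℂ)) = 3 := by
  have hx : (Nat.card O : ℂ) ≠ 0 := Nat.cast_ne_zero.2 Nat.card_pos.ne'
  constructor
  · simp only [Cfsg.classInner, map_one, mul_one]
    rw [sum_fibre hF (fun x => (th x : ℂ)), ← Int.cast_sum, hd.sum, card_cent hF, nsmul_eq_mul]
    push_cast
    field_simp
  · simp only [Cfsg.classInner, map_intCast]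
    rw [sum_fibre hF (fun x => (th x : ℂ) * (th x : ℂ))]
    simp only [← Int.cast_mul, ← Int.cast_sum]
    rw [hd.norm, card_cent hF, nsmul_eq_mul]
    push_cast
    field_simp
    norm_num

omit [Fintype (centralizer ({t} : Set G))] in
theorem mul_mem_D4 {y : G} (hy : y ∈ O) : t * y ∈ D4 t := by
  refine ⟨(Commute.refl t).mul_left (hF.le _ hy), Nat.card O, ?_⟩
  obtain ⟨m, hm⟩ := hF.odd
  rw [(hF.le _ hy).symm.mul_pow, orderOf_dvd_iff_pow_eq_one.1 (Subgroup.orderOf_dvd_natCard O hy),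
    mul_one, hm, pow_succ, pow_mul, pow_two, hF.tt, one_pow, one_mul]

/-- The pair sum, all lifts of an outer involution being involutions. -/
theorem pairSum_eq {th : Coord → ℤ} {K : ℤ} (hd : ThData th K)
    (hsq : ∀ c, Commute c t → Outer (φ c) → c * c = 1) :
    CycSyl43TI.pairSum (centralizer ({t} : Set G)) (fun c => (th (φ c) : ℂ)) =
      (K : ℂ) * (Nat.card O : ℂ) ^ 2 := by
  classical
  let F : Coord → Coord → ℤ := fun a b => if Outer a ∧ Outer b then th (mC a b) else 0
  have horder : ∀ c : centralizer ({t} : Set G), Outer (φ c) → orderOf c = 2 := by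
    intro c hc
    rw [← Subgroup.orderOf_coe]
    refine orderOf_eq_prime (by rw [pow_two]; exact hsq _ (of_mem_cent c.2) hc) fun e => ?_
    exact hc.1.2 (by rw [e, hF.map_one])
  have hinv : ∀ c : centralizer ({t} : Set G), orderOf c = 2 → IsInv (φ c) := by
    intro c hc
    rw [← Subgroup.orderOf_coe] at hc
    obtain ⟨h2, h1⟩ := orderOf_eq_prime_iff.1 hc
    rw [pow_two] at h2
    exact hF.map_isInv (of_mem_cent c.2) h2 h1
  have e1 : ∀ u w : centralizer ({t} : Set G),
      (if orderOf u = 2 ∧ orderOf w = 2 then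
        (th (φ ((u * w : centralizer ({t} : Set G)) : G)) : ℂ) else 0) = (F (φ u) (φ w) : ℤ) := by
    intro u w
    rw [show φ ((u * w : centralizer ({t} : Set G)) : G) = mC (φ u) (φ w) from
      hF.mul _ _ (of_mem_cent u.2) (of_mem_cent w.2)]
    simp only [F]
    by_cases ho : Outer (φ u) ∧ Outer (φ w)
    · rw [if_pos ho, if_pos ⟨horder u ho.1, horder w ho.2⟩]
    · rw [if_neg ho]
      split_ifs with hi
      · have hu := hinv u hi.1
        have hw := hinv w hi.2
        have : φ (u : G) = tC ∨ φ (w : G) = tC := by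
          by_contra hn
          push Not at hn
          exact ho ⟨⟨hu, hn.1⟩, ⟨hw, hn.2⟩⟩
        rw [hd.zero _ _ hu hw this]
      · simp
  unfold CycSyl43TI.pairSum
  have e3 : ∑ u : centralizer ({t} : Set G), ∑ w : centralizer ({t} : Set G),
      F (φ u) (φ w) = Nat.card O • (Nat.card O • K) := by
    rw [← hd.pairs, Finset.sum_congr rfl fun (u : centralizer ({t} : Set G)) _ =>
      sum_fibre hF (fun b => F (φ u) b)]
    rw [sum_fibre hF (fun a => Nat.card O • ∑ b, F a b), Finset.smul_sum (r := Nat.card O)]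
    simp [F, Finset.mul_sum]
  calc _ = ∑ u : centralizer ({t} : Set G), ∑ w : centralizer ({t} : Set G),
        ((F (φ u) (φ w) : ℤ) : ℂ) := by
        refine Finset.sum_congr rfl fun u _ => Finset.sum_congr rfl fun w _ => ?_
        rw [← e1 u w]
    _ = _ := by
        simp only [← Int.cast_sum]
        rw [e3]
        push_cast [nsmul_eq_mul]
        ring

end OnCent

section Count

variable [Fintype G]

/-- Pairs of involutions in an induced function. -/
theorem pair_count {H : Subgroup G} [Fintype H] {D : Set G} (hd : CycSyl43.TIData H D)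
    {θ : H → ℂ} (hv : CycSyl43TI.Vanish D θ) :
    ∑ u ∈ Finset.univ.filter (fun u : G => orderOf u = 2),
      ∑ w ∈ Finset.univ.filter (fun u : G => orderOf u = 2), Cfsg.indFun H θ (u * w) =
      (Nat.card H : ℂ)⁻¹ * ((Nat.card G : ℂ) * CycSyl43TI.pairSum H θ) := by
  classical
  set I := Finset.univ.filter fun u : G => orderOf u = 2 with hI
  have hinv : ∀ u w : G, orderOf u = 2 → orderOf w = 2 →
      u * (u * w) * u⁻¹ = (u * w)⁻¹ := by
    intro u w hu hw
    have h1 : u⁻¹ = u := inv_eq_of_mul_eq_one_right (by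
      rw [← pow_two, ← hu, pow_orderOf_eq_one])
    have h2 : w⁻¹ = w := inv_eq_of_mul_eq_one_right (by
      rw [← pow_two, ← hw, pow_orderOf_eq_one])
    rw [mul_inv_rev, h1, h2, ← mul_assoc]
    nth_rw 1 [← h1]
    rw [inv_mul_cancel, one_mul]
  have hone : ∀ x : G, ∑ u ∈ I, ∑ w ∈ I, Cfsg.extendByZero H θ (x⁻¹ * (u * w) * x) =
      CycSyl43TI.pairSum H θ := by
    intro x
    have h0 : ∑ u ∈ I, ∑ w ∈ I, Cfsg.extendByZero H θ (x⁻¹ * (u * w) * x) =
        ∑ u ∈ I, ∑ w ∈ I, Cfsg.extendByZero H θ (u * w) := by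
      refine Finset.sum_equiv (MulAut.conj x⁻¹).toEquiv (fun u => ?_) fun u _ => ?_
      · simpa [hI] using (Iff.of_eq (congrArg (· = 2) (MulEquiv.orderOf_eq (MulAut.conj x⁻¹) u))).symm
      refine Finset.sum_equiv (MulAut.conj x⁻¹).toEquiv (fun w => ?_) fun w _ => ?_
      · simpa [hI] using (Iff.of_eq (congrArg (· = 2) (MulEquiv.orderOf_eq (MulAut.conj x⁻¹) w))).symm
      simp [mul_assoc]
    rw [h0]
    have h1 : ∀ u ∈ I, ∀ w ∈ I, ¬ (u ∈ H ∧ w ∈ H) →
        Cfsg.extendByZero H θ (u * w) = 0 := by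
      intro u hu w hw hn
      by_cases hm : u * w ∈ H
      · rw [ext_zero_of_mem θ hm]
        refine hv _ fun hD => hn ?_
        have hu' : u ∈ H := hd.ti u (u * w) hD (by
          rw [hinv u w (Finset.mem_filter.1 hu).2 (Finset.mem_filter.1 hw).2]
          exact hd.inv _ hD)
        exact ⟨hu', (H.mul_mem_cancel_left hu').1 hm⟩
      · exact ext_zero_of_not_mem θ hm
    simp only [CycSyl43TI.pairSum]
    have emb : ∀ g : G → ℂ, (∀ u ∈ I, u ∉ H → g u = 0) →
        ∑ u ∈ I, g u = ∑ u : H, if orderOf u = 2 then g u else 0 := by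
      intro g hg
      rw [← Finset.sum_subset (Finset.filter_subset (fun u => u ∈ H) I)
        (fun u hu hu' => hg u hu fun q => hu' (Finset.mem_filter.2 ⟨hu, q⟩)),
        Finset.sum_filter, hI, Finset.sum_filter]
      rw [← Finset.sum_filter_add_sum_filter_not Finset.univ (fun u : G => u ∈ H),
        Finset.sum_eq_zero (s := Finset.univ.filter fun u : G => u ∉ H) (fun u hu => by
          simp [(Finset.mem_filter.1 hu).2]), add_zero,
        Finset.sum_subtype (p := fun u : G => u ∈ H) _ (by simp)]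
      refine Finset.sum_congr rfl fun u _ => ?_
      simp [Subgroup.orderOf_coe]
    rw [emb _ fun u hu hn => Finset.sum_eq_zero fun w hw => h1 u hu w hw fun q => hn q.1]
    refine Finset.sum_congr rfl fun u _ => ?_
    split_ifs with hu
    · rw [emb _ fun w hw hn => h1 u (by simp [hI, hu]) w hw fun q => hn q.2]
      refine Finset.sum_congr rfl fun w _ => ?_
      by_cases hw : orderOf w = 2
      · simp only [hu, hw, and_self, if_true]
        exact ext_zero_coe θ (u * w)
      · simp [hw]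
    · simp [hu]
  simp only [indFun_apply, ← Finset.mul_sum]
  congr 1
  rw [Finset.sum_congr rfl fun u _ => Finset.sum_comm, Finset.sum_comm,
    Finset.sum_congr rfl fun x _ => hone x, Finset.sum_const, Finset.card_univ, nsmul_eq_mul,
    Nat.card_eq_fintype_card]

end Count

section Block

variable [Fintype G] {t : G} {O : Subgroup G} {φ : G → Coord}
  (hF : CycSyl43SemiGL.Frame t O φ)
include hF

theorem hall_of_frame {M : Ideal Cfsg.AlgInt} (hM : Cfsg.IsPModular 2 M)
    (χ : Cfsg.IrrCharacter ↥(centralizer ({t} : Set G)))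
    (hχ : ∀ y : ↥(centralizer ({t} : Set G)), (y : G) ∈ O →
      (χ : ↥(centralizer ({t} : Set G)) → ℂ) y = (χ : ↥(centralizer ({t} : Set G)) → ℂ) 1) :
    χ ∈ Cfsg.principalBlock M ↥(centralizer ({t} : Set G)) := by
  have hFr : BinaryOctahedral.Frame (MonoidHom.mk' S3304.glQ S3304.glQ_mul) S3304.glC S3304.glU 1 :=
    ⟨S3304.gl_facts.1, S3304.gl_facts.2.1, S3304.gl_facts.2.2.1, S3304.gl_facts.2.2.2.1,
      S3304.gl_facts.2.2.2.2, Or.inl rfl⟩
  let E := Equiv.ofBijective _ S3304.gl_bij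
  have hEmul : ∀ x y, E (mC x y) = E x * E y := fun x y => toH_mul hFr x y
  have hEone : E oneC = 1 := by
    have h1 := hEmul oneC oneC
    rw [one_mC] at h1
    exact mul_left_cancel (a := E oneC) (by rw [← h1, mul_one])
  let g : ↥(centralizer ({t} : Set G)) →* GL (Fin 2) (ZMod 3) :=
    MonoidHom.mk' (fun c => E (φ c)) fun a b => by
      show E (φ ((a : G) * b)) = E (φ a) * E (φ b)
      rw [hF.mul _ _ (of_mem_cent a.2) (of_mem_cent b.2), hEmul]
  have hg : Function.Surjective g := fun m => by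
    obtain ⟨c, hc, he⟩ := hF.surj (E.symm m)
    exact ⟨⟨c, mem_cent hc⟩, by show E (φ c) = m; rw [he, E.apply_symm_apply]⟩
  have hker : g.ker = O.subgroupOf (centralizer ({t} : Set G)) := by
    ext c
    rw [MonoidHom.mem_ker, mem_subgroupOf, ← hF.ker _ (of_mem_cent c.2)]
    show E (φ c) = 1 ↔ _
    rw [← hEone, E.apply_eq_iff_eq]
  haveI : (O.subgroupOf (centralizer ({t} : Set G))).Normal := hker ▸ MonoidHom.normal_ker g
  exact CycSyl43.principal_of_gl23_quot _ hM g hg hker χ fun y hy => hχ y hy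

theorem norm_sub (hn : (O.subgroupOf (centralizer ({t} : Set G))).Normal) {M : Ideal Cfsg.AlgInt}
    (hM : Cfsg.IsPModular 2 M) {y y' : G} (hy : y ∈ O) (hy' : y' ∈ O) :
    ∑ χ ∈ blk M G, (χ : G → ℂ) (t * y) * conj ((χ : G → ℂ) (t * y')) = 48 := by
  classical
  haveI := hn
  haveI := Fintype.ofFinite (centralizer ({t} : Set G))
  set C := centralizer ({t} : Set G)
  have hOle : O ≤ C := fun z hz => mem_cent (hF.le z hz)
  have hodd : Odd (Nat.card (O.subgroupOf C)) := by
    rw [Nat.card_congr (Subgroup.subgroupOfEquivOfLe hOle).toEquiv]; exact hF.odd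
  have hreg : ∀ z : C, (z : G) ∈ O → ¬ 2 ∣ orderOf z := fun z hz h => by
    rw [← Subgroup.orderOf_coe] at h
    exact Nat.not_even_iff_odd.2 hF.odd
      (even_iff_two_dvd.2 (h.trans (Subgroup.orderOf_dvd_natCard O hz)))
  have hker : ∀ ψ ∈ blk M C, ∀ z : C, (z : G) ∈ O → (ψ : C → ℂ) z = (ψ : C → ℂ) 1 := fun ψ hψ z hz =>
    PrincipalParity80.kernel_of_principal hM (O.subgroupOf C)
      (fun h => Nat.not_even_iff_odd.2 hodd (even_iff_two_dvd.2 h)) (mem_blk.1 hψ) z hz
  have h := ConstDiff2Section.sec_orth hM (t := t) ⟨1, by rw [hF.ot]; rfl⟩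
    (r := ⟨y, hOle hy⟩) (s := ⟨y', hOle hy'⟩) (hreg _ hy) (hreg _ hy')
  rw [h]
  have hone := CycSyl43.sum_blk_one hM (O.subgroupOf C) hodd
    (fun χ hχ => hall_of_frame hF hM χ fun z hz => hχ z hz) (1 : C)
  rw [if_pos (one_mem _)] at hone
  have hidx : (O.subgroupOf C).index = 48 := by
    have h1 := (O.subgroupOf C).index_mul_card
    rw [Nat.card_congr (Subgroup.subgroupOfEquivOfLe hOle).toEquiv, card_cent hF] at h1
    exact Nat.eq_of_mul_eq_mul_right Nat.card_pos h1
  rw [hidx] at hone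
  rw [show (48 : ℂ) = ((48 : ℕ) : ℂ) by norm_num, ← hone]
  refine Finset.sum_congr rfl fun ψ hψ => ?_
  rw [hker ψ hψ _ (show ((⟨y, hOle hy⟩ : C) : G) ∈ O from hy),
    hker ψ hψ _ (show ((⟨y', hOle hy'⟩ : C) : G) ∈ O from hy')]

theorem block_facts {M : Ideal Cfsg.AlgInt} (hM : Cfsg.IsPModular 2 M) :
    (∀ χ : Cfsg.IrrCharacter G, χ ∈ Cfsg.principalBlock M G → ∀ y ∈ O,
      (χ : G → ℂ) (t * y) = (χ : G → ℂ) t) ∧
    ∀ (S : Finset (Cfsg.IrrCharacter G)) (z : Cfsg.IrrCharacter G → ℤ),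
      (∀ χ ∈ S, χ ∈ Cfsg.principalBlock M G ∧ (χ : G → ℂ) t = z χ) → ∑ χ ∈ S, z χ ^ 2 ≤ 48 := by
  classical
  have hn : (O.subgroupOf (centralizer ({t} : Set G))).Normal := by
    refine ⟨fun z hz c => ?_⟩
    rw [mem_subgroupOf] at hz ⊢
    simpa using hF.normal _ (of_mem_cent c.2) _ hz
  refine ⟨fun χ hχ y hy => ?_, fun S z hS => ?_⟩
  · have a1 := norm_sub hF hn hM hy hy
    have a2 := norm_sub hF hn hM hy O.one_mem
    have a3 := norm_sub hF hn hM O.one_mem hy
    have a4 := norm_sub hF hn hM O.one_mem O.one_mem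
    simp only [mul_one] at a2 a3 a4
    have h0 : ((∑ ψ ∈ blk M G, Complex.normSq ((ψ : G → ℂ) (t * y) - (ψ : G → ℂ) t) : ℝ) : ℂ) = 0 := by
      have he : ∀ ψ : Cfsg.IrrCharacter G,
          ((Complex.normSq ((ψ : G → ℂ) (t * y) - (ψ : G → ℂ) t) : ℝ) : ℂ) =
          (ψ : G → ℂ) (t * y) * conj ((ψ : G → ℂ) (t * y))
            - (ψ : G → ℂ) (t * y) * conj ((ψ : G → ℂ) t)
            - (ψ : G → ℂ) t * conj ((ψ : G → ℂ) (t * y))
            + (ψ : G → ℂ) t * conj ((ψ : G → ℂ) t) := fun ψ => by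
        rw [← Complex.mul_conj, map_sub]; ring
      rw [Complex.ofReal_sum, Finset.sum_congr rfl fun ψ _ => he ψ, Finset.sum_add_distrib,
        Finset.sum_sub_distrib, Finset.sum_sub_distrib, a1, a2, a3, a4]
      ring
    have h1 := (Finset.sum_eq_zero_iff_of_nonneg fun ψ _ => Complex.normSq_nonneg _).1
      (Complex.ofReal_eq_zero.1 h0) χ (mem_blk.2 hχ)
    exact sub_eq_zero.1 (Complex.normSq_eq_zero.1 h1)
  · have a4 := norm_sub hF hn hM O.one_mem O.one_mem
    simp only [mul_one] at a4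
    have hsub : S ⊆ blk M G := fun χ hχ => mem_blk.2 (hS χ hχ).1
    have e : ∀ χ : Cfsg.IrrCharacter G, (χ : G → ℂ) t * conj ((χ : G → ℂ) t) =
        ((Complex.normSq ((χ : G → ℂ) t) : ℝ) : ℂ) := fun χ => Complex.mul_conj _
    simp only [e, ← Complex.ofReal_sum] at a4
    rw [show (48 : ℂ) = ((48 : ℝ) : ℂ) by norm_num, Complex.ofReal_inj] at a4
    have hle := Finset.sum_le_sum_of_subset_of_nonneg (f := fun χ : Cfsg.IrrCharacter G =>
      Complex.normSq ((χ : G → ℂ) t)) hsub (fun χ _ _ => Complex.normSq_nonneg _)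
    rw [a4, Finset.sum_congr rfl (g := fun χ => ((z χ ^ 2 : ℤ) : ℝ)) fun χ hχ => by
      rw [(hS χ hχ).2, ← Complex.ofReal_intCast, Complex.normSq_ofReal]; push_cast; ring,
      ← Int.cast_sum] at hle
    exact_mod_cast hle

end Block

/-- The relation for either class function. -/
theorem relation_of (hs : SD f) {th : Coord → ℤ} {K : ℤ} (hd : ThData th K)
    (hg : ∀ {φ : G → Coord} [Fintype (centralizer ({f tC} : Set G))],
      CycSyl43SemiGL.Frame (f tC) (Om (f tC)) φ →
      Cfsg.IsGeneralizedCharacter (centralizer ({f tC} : Set G)) (fun c => (th (φ c) : ℂ)))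
    (h8 : th tC = 8 ∨ th tC = 0) :
    ∃ (χ : Cfsg.IrrCharacter G) (n : ℕ) (k l : ℤ), 0 < n ∧
      (χ : G → ℂ) 1 = n ∧ (∀ o ∈ Om (f tC), (χ : G → ℂ) (f tC * o) = k) ∧ k - l = th tC - 1 ∧
      k * k + l * l ≤ 46 ∧
      (Nat.card G : ℤ) * ((n : ℤ) * (n + 1) + k ^ 2 * (n + 1) - l ^ 2 * n) =
        48 * K * (Nat.card (Om (f tC)) : ℤ) ^ 3 * n * (n + 1) := by
  classical
  haveI := Fintype.ofFinite G
  haveI := Fintype.ofFinite (centralizer ({f tC} : Set G))
  obtain ⟨φ, hF, hval⟩ := exists_proj hs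
  set t := f tC with ht
  set O := Om t with hO
  set θ := fun c : centralizer ({t} : Set G) => (th (φ c) : ℂ) with hθ
  have hti := ti4 hF
  have hv : CycSyl43TI.Vanish (D4 t) θ := th_vanish hF hd
  obtain ⟨P₀, Q₀, e₀, e₀', d₀⟩ := CycSyl43TI.decomp3 hti (hg hF) hv (th_norm hF hd).1
    (th_norm hF hd).2
  set Γ := Cfsg.indFun (centralizer ({t} : Set G)) θ with hΓ
  have hΓ1 : Γ 1 = 0 := CycSyl43TI.ind_apply_one hti hv
  obtain ⟨P, Q, d⟩ : ∃ P Q : Cfsg.IrrCharacter G, CycSyl43TI.Decomp3 Γ P Q 1 (-1) := by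
    obtain ⟨n₀, hn0, hn⟩ := isIrrCharacter_apply_one P₀.2
    obtain ⟨m₀, hm0, hm⟩ := isIrrCharacter_apply_one Q₀.2
    have h := d₀.deg hΓ1
    rw [hn, hm] at h
    have h' : (1 : ℤ) + e₀ * n₀ + e₀' * m₀ = 0 := by exact_mod_cast h
    rcases d₀.he with rfl | rfl <;> rcases d₀.he' with rfl | rfl
    · omega
    · exact ⟨P₀, Q₀, d₀⟩
    · exact ⟨Q₀, P₀, d₀.swap⟩
    · omega
  obtain ⟨n, hn0, hn⟩ := isIrrCharacter_apply_one P.2
  obtain ⟨m, hm0, hm⟩ := isIrrCharacter_apply_one Q.2
  have hmn : m = n + 1 := by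
    have h := d.deg hΓ1
    rw [hn, hm] at h
    have h' : (1 : ℤ) + 1 * n + -1 * m = 0 := by exact_mod_cast h
    omega
  have htt : t * t = 1 := hF.tt
  obtain ⟨k, hk⟩ := CharAverage.apply_involution_eq_int (isCharacter_of_isIrrCharacter P.2) htt
  obtain ⟨l, hl⟩ := CharAverage.apply_involution_eq_int (isCharacter_of_isIrrCharacter Q.2) htt
  have hΓy : ∀ y ∈ O, Γ (t * y) = (th tC : ℂ) := by
    intro y hy
    have hc : Commute (t * y) t := (Commute.refl t).mul_left (hF.le _ hy)
    have := CycSyl43TI.ind_apply hti (isClassFunction_of_isGeneralizedCharacter (hg hF)) hv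
      (⟨t * y, mem_cent hc⟩ : centralizer ({t} : Set G)) (mul_mem_D4 hF hy)
    rw [show Γ (t * y) = _ from this]
    show ((th (φ (t * y)) : ℤ) : ℂ) = _
    rw [hval tC y hy]
  have hΓt : Γ t = (th tC : ℂ) := by simpa using hΓy 1 O.one_mem
  have hkl : k - l = th tC - 1 := by
    have h := (d.eq t).symm.trans hΓt
    rw [hk, hl] at h
    have : ((1 + k - l : ℤ) : ℂ) = ((th tC : ℤ) : ℂ) := by push_cast at h ⊢; linear_combination h
    have := Int.cast_injective this
    omega
  obtain ⟨Mod, hMod⟩ := ZStarCount.exists_isPModular 2 Nat.prime_two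
  have hnorm : (O.subgroupOf (centralizer ({t} : Set G))).Normal := by
    refine ⟨fun z hz c => ?_⟩
    rw [mem_subgroupOf] at hz ⊢
    simpa using hF.normal _ (of_mem_cent c.2) _ hz
  obtain ⟨hconst, hbound⟩ := block_facts hF hMod
  have hblk := CycSyl43.section_sum G Mod hMod t O ⟨1, by rw [hF.ot]; rfl⟩
    (fun z hz => mem_cent (hF.le z hz)) hnorm hF.odd (fun χ hχ => hall_of_frame hF hMod χ hχ) Γ
    (isClassFunction_ind _ _)
  rw [finsum_mem_congr rfl (g := fun _ => (th tC : ℂ)) hΓy, finsum_mem_eq_finite_toFinset_sum _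
    (Set.toFinite (O : Set G)), Finset.sum_const, ← Set.ncard_eq_toFinset_card, nsmul_eq_mul,
    show ((O : Set G).ncard) = Nat.card O from (Nat.card_coe_set_eq _).symm, ← mul_assoc,
    inv_mul_cancel₀ (Nat.cast_ne_zero.2 Nat.card_pos.ne' : (Nat.card O : ℂ) ≠ 0), one_mul,
    CycSyl43SemiGL.block_sum hMod d t, hk, hl] at hblk
  have h1B : trivIrr G ∈ Cfsg.principalBlock Mod G := ZStarFused.trivIrr_mem hMod
  have htriv : (trivIrr G : G → ℂ) t = ((1 : ℤ) : ℂ) := by simp [trivIrr]
  have key : (∀ o ∈ O, (P : G → ℂ) (t * o) = k) ∧ k * k + l * l ≤ 47 := by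
    have hQconst : Q ∈ Cfsg.principalBlock Mod G → ∀ o ∈ O, (P : G → ℂ) (t * o) = k := by
      intro hQ o ho
      have h1 := (d.eq (t * o)).symm.trans (hΓy o ho)
      have h2 := (d.eq t).symm.trans hΓt
      rw [hconst Q hQ o ho] at h1
      rw [← hk]
      push_cast at h1 h2
      linear_combination h1 - h2
    by_cases hP : P ∈ Cfsg.principalBlock Mod G <;> by_cases hQ : Q ∈ Cfsg.principalBlock Mod G <;>
      simp only [hP, hQ, if_true, if_false, add_zero] at hblk
    · refine ⟨fun o ho => by rw [hconst P hP o ho, hk], ?_⟩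
      have hb := hbound {trivIrr G, P, Q}
        (fun χ => if χ = P then k else if χ = Q then l else 1) (by
          intro χ hχ
          simp only [Finset.mem_insert, Finset.mem_singleton] at hχ
          rcases hχ with rfl | rfl | rfl
          · exact ⟨h1B, by rw [if_neg d.nP.symm, if_neg d.nQ.symm, htriv]⟩
          · exact ⟨hP, by rw [if_pos rfl, hk]⟩
          · exact ⟨hQ, by rw [if_neg d.ne.symm, if_pos rfl, hl]⟩)
      rw [Finset.sum_insert (by simp [d.nP.symm, d.nQ.symm]), Finset.sum_pair d.ne] at hb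
      simp [d.nP.symm, d.nQ.symm, d.ne.symm] at hb
      nlinarith [hb]
    · refine ⟨fun o ho => by rw [hconst P hP o ho, hk], ?_⟩
      have hk' : (1 + k : ℤ) = th tC := by
        have : ((1 + k : ℤ) : ℂ) = ((th tC : ℤ) : ℂ) := by
          push_cast at hblk ⊢; linear_combination hblk
        exact_mod_cast this
      obtain rfl : l = 0 := by omega
      have hb := hbound {trivIrr G, P} (fun χ => if χ = P then k else 1) (by
          intro χ hχ
          simp only [Finset.mem_insert, Finset.mem_singleton] at hχ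
          rcases hχ with rfl | rfl
          · exact ⟨h1B, by rw [if_neg d.nP.symm, htriv]⟩
          · exact ⟨hP, by rw [if_pos rfl, hk]⟩)
      rw [Finset.sum_pair d.nP.symm] at hb
      simp [d.nP.symm] at hb
      nlinarith [hb]
    · have hl' : (1 - l : ℤ) = th tC := by
        have : ((1 - l : ℤ) : ℂ) = ((th tC : ℤ) : ℂ) := by
          push_cast at hblk ⊢; linear_combination hblk
        exact_mod_cast this
      obtain rfl : k = 0 := by omega
      refine ⟨hQconst hQ, ?_⟩
      have hb := hbound {trivIrr G, Q} (fun χ => if χ = Q then l else 1) (by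
          intro χ hχ
          simp only [Finset.mem_insert, Finset.mem_singleton] at hχ
          rcases hχ with rfl | rfl
          · exact ⟨h1B, by rw [if_neg d.nQ.symm, htriv]⟩
          · exact ⟨hQ, by rw [if_pos rfl, hl]⟩)
      rw [Finset.sum_pair d.nQ.symm] at hb
      simp [d.nQ.symm] at hb
      nlinarith [hb]
    · exfalso
      have : (1 : ℤ) = th tC := by exact_mod_cast hblk
      omega
  refine ⟨P, n, k, l, hn0, hn, key.1, hkl, ?_, ?_⟩
  · have h47 : k * k + l * l ≠ 47 := by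
      intro h47
      have h1 : -6 ≤ k ∧ k ≤ 6 := by constructor <;> nlinarith
      have h2 : -6 ≤ l ∧ l ≤ 6 := by constructor <;> nlinarith
      obtain ⟨a1, a2⟩ := h1
      obtain ⟨b1, b2⟩ := h2
      interval_cases k <;> interval_cases l <;> omega
    have := key.2
    omega
  -- the count of pairs of involutions
  set I := Finset.univ.filter fun u : G => orderOf u = 2 with hI
  have hsq : ∀ c, Commute c t → Outer (φ c) → c * c = 1 := by
    intro c hc ho
    obtain ⟨x, o, hox, rfl⟩ := hs.cent c hc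
    rw [hval x o hox] at ho
    have hmem : f x * f x ∈ O := by simpa [ho.1.1, f_one hs, hO, ht] using hs.mul x x
    have hinv' : f x * f x * (f x * f x) = 1 := by
      have h' := hs.act x (f x * f x) hmem
      rw [if_neg (outer_not_pSL x ho)] at h'
      have : f x * f x = (f x * f x)⁻¹ := by
        rw [← h']; group
      calc f x * f x * (f x * f x) = (f x * f x)⁻¹ * (f x * f x) := by rw [← this]
        _ = 1 := inv_mul_cancel _
    have hx : f x * f x = 1 := by
      rw [← orderOf_eq_one_iff]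
      have h2 : orderOf (f x * f x) ∣ 2 := orderOf_dvd_of_pow_eq_one (by rw [pow_two, hinv'])
      have hO' := Subgroup.orderOf_dvd_natCard O hmem
      rcases (Nat.dvd_prime Nat.prime_two).1 h2 with h | h
      · exact h
      · exfalso
        rw [h] at hO'
        obtain ⟨m, hm⟩ := hF.odd
        omega
    have ha := hs.act x o hox
    rw [if_neg (outer_not_pSL x ho), inv_eq_of_mul_eq_one_right hx] at ha
    calc f x * o * (f x * o) = f x * o * f x * o := by group
      _ = 1 := by rw [ha, inv_mul_cancel]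
  have hpair := pair_count hti hv
  rw [pairSum_eq hF hd hsq, card_cent hF, ← hI, ← hΓ] at hpair
  have hL : ∑ u ∈ I, ∑ w ∈ I, Γ (u * w) = (I.card : ℂ) ^ 2 +
      (I.card * (P : G → ℂ) t) ^ 2 / (P : G → ℂ) 1 -
      (I.card * (Q : G → ℂ) t) ^ 2 / (Q : G → ℂ) 1 := by
    rw [← FourExceptional.sum_involution_pairs hs.one hs.ot P,
      ← FourExceptional.sum_involution_pairs hs.one hs.ot Q]
    simp only [d.eq, Finset.sum_add_distrib, Finset.mul_sum, Finset.sum_const, nsmul_eq_mul,
      mul_one, Int.cast_one, Int.cast_neg, one_mul, neg_mul, Finset.sum_neg_distrib]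
    ring
  have hIc : (I.card : ℂ) * (48 * Nat.card O) = (Nat.card G : ℂ) := by
    have h := CharBasicOrth.card_conj_mul_card_centralizer t
    have e : I.card = Nat.card {g // IsConj t g} := by
      rw [Nat.card_eq_fintype_card, Fintype.card_subtype, hI]
      refine congrArg Finset.card (Finset.filter_congr fun u _ => ⟨fun hu => hs.one t u hs.ot hu, ?_⟩)
      intro hc
      obtain ⟨c, rfl⟩ := isConj_iff.1 hc
      rw [S3279.order_conj, hs.ot]
    rw [card_cent hF] at h
    rw [e]
    exact_mod_cast h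
  rw [hL, hk, hl, hn, hm, hmn, ← hIc] at hpair
  have hI0 : (I.card : ℂ) ≠ 0 := Nat.cast_ne_zero.2
    (Finset.card_ne_zero.2 ⟨t, Finset.mem_filter.2 ⟨Finset.mem_univ t, hs.ot⟩⟩)
  have hO0 : (Nat.card O : ℂ) ≠ 0 := Nat.cast_ne_zero.2 Nat.card_pos.ne'
  have hn1 : (n : ℂ) ≠ 0 := Nat.cast_ne_zero.2 hn0.ne'
  have hn2 : ((n : ℂ) + 1) ≠ 0 := by
    have : ((n + 1 : ℕ) : ℂ) ≠ 0 := Nat.cast_ne_zero.2 n.succ_ne_zero
    exact_mod_cast this
  push_cast at hpair
  field_simp at hpair
  have hmain : (((Nat.card G : ℤ) * ((n : ℤ) * (n + 1) + k ^ 2 * (n + 1) - l ^ 2 * n) : ℤ) : ℂ) =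
      ((48 * K * (Nat.card O : ℤ) ^ 3 * n * (n + 1) : ℤ) : ℂ) := by
    push_cast
    rw [← hIc]
    linear_combination (48 * (Nat.card O : ℂ)) * hpair
  exact_mod_cast hmain

end Char79

variable {G : Type u} [Group G] [Finite G] {f : Coord → G}

/-- The first exceptional character. -/
theorem relation1 (hs : SD f) : ∃ (χ : Cfsg.IrrCharacter G) (n : ℕ) (k l : ℤ), 0 < n ∧
    (χ : G → ℂ) 1 = n ∧ (∀ o ∈ Om (f tC), (χ : G → ℂ) (f tC * o) = k) ∧ k - l = 7 ∧
    k * k + l * l ≤ 46 ∧
    (Nat.card G : ℤ) * ((n : ℤ) * (n + 1) + k ^ 2 * (n + 1) - l ^ 2 * n) =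
      48 * 192 * (Nat.card (Om (f tC)) : ℤ) ^ 3 * n * (n + 1) := by
  have h8 : th1 tC = 8 := by decide +kernel
  obtain ⟨χ, n, k, l, h⟩ := Char79.relation_of hs Char79.thData1
    (fun hF => Char79.th1_gen hF) (Or.inl h8)
  rw [h8] at h
  exact ⟨χ, n, k, l, h⟩

/-- The second exceptional character. -/
theorem relation4 (hs : SD f) : ∃ (χ : Cfsg.IrrCharacter G) (n : ℕ) (k l : ℤ), 0 < n ∧
    (χ : G → ℂ) 1 = n ∧ (∀ o ∈ Om (f tC), (χ : G → ℂ) (f tC * o) = k) ∧ k - l = -1 ∧
    k * k + l * l ≤ 46 ∧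
    (Nat.card G : ℤ) * ((n : ℤ) * (n + 1) + k ^ 2 * (n + 1) - l ^ 2 * n) =
      48 * 96 * (Nat.card (Om (f tC)) : ℤ) ^ 3 * n * (n + 1) := by
  have h0 : th4 tC = 0 := by decide +kernel
  obtain ⟨χ, n, k, l, h⟩ := Char79.relation_of hs Char79.thData4
    (fun hF => CycSyl43SemiGL.th4_gen hF) (Or.inr h0)
  rw [h0] at h
  exact ⟨χ, n, k, l, h⟩

end Cfsg.Agent.Wong3x33
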