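import Cfsg.Agent.Lib.Wong3Crit55Cent

/-!
Primitive groups with a suborbit of length three (S3686): the core of an involution centraliser is
trivial in the semidihedral configuration.
-/

set_option autoImplicit false
set_option linter.style.haveILetI false
set_option linter.unusedSectionVars false
set_option synthInstance.maxSize 4096

namespace Cfsg.Agent.Wong3x33

open Subgroup BinaryOctahedral GL23CentModel GL23Recog95
open Cfsg.Agent.GWDih33 (Om odd_om om_le om_comm om_normalized odd_of_mem)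

universe u

variable {G : Type u} [Group G] [Finite G] {V : Subgroup G} {f : Coord → G}

namespace Crit55

theorem normal_mem {H : Subgroup G} {g : G} (h : ∀ x ∈ H, g * x * g⁻¹ ∈ H) :
    g ∈ normalizer (H : Set G) := by
  have e : H.map (MulAut.conj g).toMonoidHom = H := Subgroup.eq_of_le_of_card_ge
    (by rintro _ ⟨x, hx, rfl⟩; exact h x hx) (by rw [card_map_of_injective (MulAut.conj g).injective])
  refine mem_normalizer_iff.2 fun x => ⟨h x, fun hx => ?_⟩
  rw [← e] at hx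
  obtain ⟨y, hy, e'⟩ := hx
  rwa [← mul_left_cancel (mul_right_cancel (e' : g * y * g⁻¹ = g * x * g⁻¹))]

/-- A `p`-subgroup with index in its normaliser prime to `p` has index prime to `p`. -/
theorem not_dvd_index {p : ℕ} [Fact p.Prime] {P : Subgroup G} {n : ℕ} (hP : Nat.card P = p ^ n)
    (h : ¬ p ^ (n + 1) ∣ Nat.card (normalizer (P : Set G))) : ¬ p ∣ P.index := by
  intro hd
  refine h ?_
  have hG : p ^ (n + 1) ∣ Nat.card G := by
    rw [← P.index_mul_card, hP, pow_succ, mul_comm P.index]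
    exact mul_dvd_mul_left _ hd
  exact ((Sylow.card_normalizer_modEq_card hP).dvd_iff dvd_rfl).2 hG

theorem sylow_false (ho : OrderData f) {p : ℕ} (hp : p.Prime) (hpo : p ∣ Nat.card (Om (f tC)))
    {P : Subgroup G} (hidx : ¬ p ∣ P.index) (hP : Nat.card P ∣ 48 * Nat.card (Om (f tC))) : False := by
  set o := Nat.card (Om (f tC)) with hodef
  have hodd : Odd o := odd_om _
  obtain ⟨k, m, hm, he⟩ := Nat.exists_eq_pow_mul_and_not_dvd (Nat.card_pos (α := Om (f tC))).ne' p hp.ne_one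
  rw [← hodef] at he
  have hk : 1 ≤ k := by
    rcases Nat.eq_zero_or_pos k with rfl | hk
    · rw [pow_zero, one_mul] at he
      exact absurd (he ▸ hpo) hm
    · exact hk
  have hdvd : o ^ 3 ∣ Nat.card G := by
    rcases ho with e | e <;> exact ⟨_, e.trans (mul_comm _ _)⟩
  have h1 : (p ^ k) ^ 3 ∣ P.index * Nat.card P := by
    rw [P.index_mul_card]
    exact (pow_dvd_pow_of_dvd ⟨m, he⟩ 3).trans hdvd
  have hcop : Nat.Coprime ((p ^ k) ^ 3) P.index :=
    (((hp.coprime_iff_not_dvd).2 hidx).pow_left k).pow_left 3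
  have h2 : (p ^ k) ^ 2 * p ^ k ∣ 48 * m * p ^ k := by
    rw [← pow_succ, mul_assoc, mul_comm m, ← he]
    exact (hcop.dvd_of_dvd_mul_left h1).trans hP
  have h3 := Nat.dvd_of_mul_dvd_mul_right (pow_pos hp.pos k) h2
  have h4 : p ^ 2 ∣ 48 * m := ((pow_dvd_pow p (show 2 ≤ k * 2 by omega)).trans (by rw [pow_mul])).trans h3
  have h5 : p ^ 2 ∣ 48 := (((hp.coprime_iff_not_dvd).2 hm).pow_left 2).dvd_of_dvd_mul_right h4
  have hp2 : p ≠ 2 := by
    rintro rfl
    exact absurd (even_iff_two_dvd.2 hpo) (Nat.not_even_iff_odd.2 hodd)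
  have h6 : p ^ 2 ∣ 3 := by
    have : Nat.Coprime (p ^ 2) 16 :=
      (Nat.Coprime.pow 2 4 ((Nat.coprime_primes hp Nat.prime_two).2 hp2))
    exact this.dvd_of_dvd_mul_left (show p ^ 2 ∣ 16 * 3 from h5)
  have := Nat.le_of_dvd (by norm_num) h6
  have := hp.two_le
  nlinarith

section

variable (hs : SD f)

/-- The `p`-part of the core. -/
def part (p : ℕ) : Subgroup G where
  carrier := {o | o ∈ Om (f tC) ∧ ∃ k : ℕ, o ^ p ^ k = 1}
  one_mem' := ⟨one_mem _, 0, one_pow _⟩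
  mul_mem' := by
    rintro a b ⟨ha, k, hk⟩ ⟨hb, l, hl⟩
    refine ⟨mul_mem ha hb, k + l, ?_⟩
    rw [(hs.comm a ha b hb).mul_pow, pow_add, pow_mul, hk, one_pow, one_mul, mul_comm, pow_mul, hl,
      one_pow]
  inv_mem' := by
    rintro a ⟨ha, k, hk⟩
    exact ⟨inv_mem ha, k, by rw [inv_pow, hk, inv_one]⟩

theorem part_le (p : ℕ) : part hs p ≤ Om (f tC) := fun _ ha => ha.1

theorem part_norm (p : ℕ) {c : G} (hc : Commute c (f tC)) {a : G} (ha : a ∈ part hs p) :
    c * a * c⁻¹ ∈ part hs p := by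
  obtain ⟨haO, k, hk⟩ := ha
  refine ⟨(mem_normalizer_iff.1 (om_normalized _ (mem_centralizer_singleton_iff.2 hc.eq)) a).1 haO, k, ?_⟩
  rw [conj_pow, hk, mul_one, mul_inv_cancel]

theorem part_isPGroup (p : ℕ) [Fact p.Prime] : IsPGroup p (part hs p) := fun a =>
  ⟨a.2.2.choose, Subtype.ext (by rw [Subgroup.coe_pow]; exact a.2.2.choose_spec)⟩

theorem part_card (p : ℕ) [Fact p.Prime] :
    Nat.card (part hs p) = p ^ (Nat.card (Om (f tC))).factorization p := by
  obtain ⟨R⟩ : Nonempty (Sylow p (Om (f tC))) := inferInstance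
  have hle : (R : Subgroup (Om (f tC))).map (Om (f tC)).subtype ≤ part hs p := by
    rintro _ ⟨r, hr, rfl⟩
    obtain ⟨k, hk⟩ := R.isPGroup' ⟨r, hr⟩
    exact ⟨r.2, k, congrArg (fun y : (R : Subgroup (Om (f tC))) => ((y : Om (f tC)) : G)) hk⟩
  have h1 := Subgroup.card_dvd_of_le hle
  rw [card_map_of_injective (Om (f tC)).subtype_injective, R.card_eq_multiplicity] at h1
  obtain ⟨j, hj⟩ := IsPGroup.iff_card.1 (part_isPGroup hs p)
  have h2 : p ^ j ∣ Nat.card (Om (f tC)) := hj ▸ Subgroup.card_dvd_of_le (part_le hs p)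
  rw [hj] at h1 ⊢
  have hp := (Fact.out : p.Prime)
  have e1 : (Nat.card (Om (f tC))).factorization p ≤ j :=
    (Nat.pow_dvd_pow_iff_le_right hp.one_lt).1 h1
  have e2 : j ≤ (Nat.card (Om (f tC))).factorization p :=
    (hp.pow_dvd_iff_le_factorization Nat.card_pos.ne').1 h2
  rw [le_antisymm e2 e1]

end

section Local

variable (hs : SD f) {V : Subgroup G} (h : Core G V) (hV : IsFour f V) {n : G}
  (hn : n ∈ normalizer (V : Set G)) (hnz : n * f tC * n⁻¹ = f uC)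
include hs h hV hn hnz

theorem inv_moved {o : G} (ho : o ∈ Om (f tC)) :
    f tC * (n * o * n⁻¹) * (f tC)⁻¹ = (n * o * n⁻¹)⁻¹ := by
  obtain ⟨s, hs', e⟩ : ∃ s, ¬ pSL s ∧ n⁻¹ * f tC * n = f s := by
    rcases conj_t_cases hs h hV (inv_mem hn) with e | e | e <;> rw [inv_inv] at e
    · exfalso
      have e' : n * f tC * n⁻¹ = f tC := by nth_rw 1 [← e]; group
      rw [hnz] at e'
      exact absurd (hs.inj e') (by decide +kernel)
    · exact ⟨uC, not_sl.1, e⟩
    · exact ⟨wC, not_sl.2.1, e⟩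
  have h1 := act_out hs hs' ho
  rw [← e] at h1
  rw [show (n * o * n⁻¹)⁻¹ = n * o⁻¹ * n⁻¹ by group, ← h1]
  group

theorem done {A : Subgroup G} (hA : A ≤ Om (f tC)) (hA1 : A ≠ ⊥)
    (hAn : ∀ c, Commute c (f tC) → ∀ a ∈ A, c * a * c⁻¹ ∈ A) {x : G} (hx : x ∈ Om (f tC)) (hx1 : x ≠ 1)
    (hxc : ∀ a ∈ A, Commute x (n * a * n⁻¹)) : False := by
  set X := zpowers x with hX
  have hXO : X ≤ Om (f tC) := zpowers_le.2 hx
  have hX1 : X ≠ ⊥ := zpowers_ne_bot.2 hx1
  set S : Set G := {y | ∃ g ∈ normalizer (V : Set G), ∃ a ∈ A, g * a * g⁻¹ = y} with hS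
  have hcen : ∀ {y : G}, Commute x y → y ∈ centralizer (X : Set G) := fun {y} hy =>
    mem_centralizer_iff.2 fun t ht => by
      obtain ⟨j, rfl⟩ := ht
      exact (hy.zpow_left j).eq
  obtain ⟨i, hi, hiD, -, hiw⟩ := swap hs h hV
  have hfi : f i ∈ centralizer (X : Set G) := hcen (act_sl hs hi hx).symm
  have hnA : ∀ a ∈ A, n * a * n⁻¹ ∈ Oc X := fun a ha =>
    inverted_mem hs hXO hX1 (hcen (hxc a ha))
      (by rw [GWDih33.order_conj]; exact odd_of_mem (odd_om _) (hA ha))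
      (inv_moved hs h hV hn hnz (hA ha))
  have hfrom : ∀ g : G, g * f tC * g⁻¹ = f uC → ∀ a ∈ A, g * a * g⁻¹ ∈ Oc X := by
    intro g hg a ha
    have hc : Commute (n⁻¹ * g) (f tC) := by
      refine mul_inv_eq_iff_eq_mul.1 ?_
      rw [show n⁻¹ * g * f tC * (n⁻¹ * g)⁻¹ = n⁻¹ * (g * f tC * g⁻¹) * n by group, hg, ← hnz]
      group
    have := hnA _ (hAn _ hc a ha)
    rwa [show n * (n⁻¹ * g * a * (n⁻¹ * g)⁻¹) * n⁻¹ = g * a * g⁻¹ by group] at this
  have hsub : S ⊆ Oc X := by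
    rintro _ ⟨g, hg, a, ha, rfl⟩
    rcases conj_t_cases hs h hV hg with e | e | e
    · exact om_le_oc hs hXO hX1 (hA (hAn g (mul_inv_eq_iff_eq_mul.1 e) a ha))
    · exact hfrom g e a ha
    · have h1 := hfrom (f i * g) (by
        rw [show f i * g * f tC * (f i * g)⁻¹ = f i * (g * f tC * g⁻¹) * (f i)⁻¹ by group, e, hiw]) a ha
      have h2 := oc_conj hs hXO hX1 (inv_mem hfi) h1
      rwa [show (f i)⁻¹ * (f i * g * a * (f i * g)⁻¹) * (f i)⁻¹⁻¹ = g * a * g⁻¹ by group] at h2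
  have hbot := h.star S (fun y hy => by
      obtain ⟨g, hg, a, ha, rfl⟩ := hy
      exact ⟨g * f tC * g⁻¹, (mem_normalizer_iff.1 hg _).1 (t_mem hs h hV).1,
        fun e => GWDih33.ne_one hs.ot (conj_eq_one_iff.1 e), om_conj_mem _ g (hA ha)⟩)
    ((odd_oc X).of_dvd_nat (Subgroup.card_dvd_of_le ((closure_le _).2 hsub)))
    (fun g hg => normal_mem fun y hy => by
      have hle : closure S ≤ (closure S).comap (MulAut.conj g).toMonoidHom := by
        rw [closure_le]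
        rintro _ ⟨g', hg', a, ha, rfl⟩
        exact subset_closure ⟨g * g', mul_mem hg hg', a, ha, by
          show g * g' * a * (g * g')⁻¹ = g * (g' * a * g'⁻¹) * g⁻¹
          group⟩
      exact hle hy)
  obtain ⟨⟨a, ha⟩, ha1⟩ := Subgroup.ne_bot_iff_exists_ne_one.1 hA1
  refine ha1 (Subtype.ext ?_)
  have hmem : a ∈ closure S := subset_closure ⟨1, one_mem _, a, ha, by group⟩
  rw [hbot] at hmem
  exact mem_bot.1 hmem

/-- No nontrivial element of the second core centralises the part. -/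
theorem step {A : Subgroup G} (hA : A ≤ Om (f tC)) (hA1 : A ≠ ⊥)
    (hAn : ∀ c, Commute c (f tC) → ∀ a ∈ A, c * a * c⁻¹ ∈ A) {o : G} (ho : o ∈ Om (f tC))
    (hoc : ∀ a ∈ A, Commute (n * o * n⁻¹) a) : o = 1 := by
  by_contra ho1
  obtain ⟨i, hi, -, -, hiw⟩ := swap hs h hV
  refine done hs h hV hn hnz hA hA1 hAn ho ho1 fun a ha => ?_
  have hinv : ∀ c : G, Commute c (f tC) → ∀ a ∈ A, c⁻¹ * a * c ∈ A := fun c hc a ha => by
    simpa using hAn c⁻¹ hc.inv_left a ha
  rcases conj_t_cases hs h hV (inv_mem hn) with e | e | e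
  · exfalso
    rw [inv_inv] at e
    have e' : n * f tC * n⁻¹ = f tC := by nth_rw 1 [← e]; group
    rw [hnz] at e'
    exact absurd (hs.inj e') (by decide +kernel)
  · have hc : Commute (n⁻¹ * n⁻¹) (f tC) := by
      refine mul_inv_eq_iff_eq_mul.1 ?_
      rw [show n⁻¹ * n⁻¹ * f tC * (n⁻¹ * n⁻¹)⁻¹ = n⁻¹ * (n⁻¹ * f tC * n⁻¹⁻¹) * n by simp [mul_assoc], e, ← hnz]
      group
    have h1 := (Commute.conj_iff n⁻¹).2 (hoc _ (hinv _ hc a ha))
    rwa [show n⁻¹ * (n * o * n⁻¹) * n⁻¹⁻¹ = o by group,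
      show n⁻¹ * ((n⁻¹ * n⁻¹)⁻¹ * a * (n⁻¹ * n⁻¹)) * n⁻¹⁻¹ = n * a * n⁻¹ by group] at h1
  · have hc : Commute (n⁻¹ * f i * n⁻¹) (f tC) := by
      refine mul_inv_eq_iff_eq_mul.1 ?_
      rw [show n⁻¹ * f i * n⁻¹ * f tC * (n⁻¹ * f i * n⁻¹)⁻¹ =
        n⁻¹ * (f i * (n⁻¹ * f tC * n⁻¹⁻¹) * (f i)⁻¹) * n by group, e, hiw, ← hnz]
      group
    have h1 := (Commute.conj_iff n⁻¹).2 (hoc _ (hinv _ hc a ha))
    rw [show n⁻¹ * (n * o * n⁻¹) * n⁻¹⁻¹ = o by group,
      show n⁻¹ * ((n⁻¹ * f i * n⁻¹)⁻¹ * a * (n⁻¹ * f i * n⁻¹)) * n⁻¹⁻¹ =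
        (f i)⁻¹ * (n * a * n⁻¹) * f i by group] at h1
    have h2 := (Commute.conj_iff (f i)).2 h1
    rwa [show f i * ((f i)⁻¹ * (n * a * n⁻¹) * f i) * (f i)⁻¹ = n * a * n⁻¹ by group,
      (act_sl hs hi ho).eq, mul_inv_cancel_right] at h2

theorem layer_cube {A : Subgroup G} (hA : A ≤ Om (f tC)) (hA1 : A ≠ ⊥)
    (hAn : ∀ c, Commute c (f tC) → ∀ a ∈ A, c * a * c⁻¹ ∈ A) :
    (Nat.card (Oc A ⊓ centralizer ({f uC} : Set G) : Subgroup G) = 1 ∨
      Nat.card (Oc A ⊓ centralizer ({f uC} : Set G) : Subgroup G) = 3) ∧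
      ∀ c ∈ Oc A ⊓ centralizer ({f uC} : Set G), c ^ 3 = 1 := by
  set W := Oc A ⊓ centralizer ({f uC} : Set G) with hW
  have hdata : ∀ c ∈ W, ∃ x : Coord, powC x 3 = oneC ∧ ∃ o ∈ Om (f tC), f x * o = n⁻¹ * c * n ∧
      Commute (f x) o := by
    intro c hc
    refine odd_form hs ?_ ?_
    · have h1 := (Commute.conj_iff n⁻¹).2
        (show Commute c (f uC) from mem_centralizer_singleton_iff.1 hc.2)
      rw [← hnz, inv_inv] at h1
      rwa [show n⁻¹ * (n * f tC * n⁻¹) * n = f tC by group] at h1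
    · have h1 : orderOf (n⁻¹ * c * n) = orderOf c := by
        simpa using GWDih33.order_conj n⁻¹ c
      rw [h1]
      exact odd_of_mem (odd_oc A) hc.1
  have kill : ∀ c ∈ W, n⁻¹ * c * n ∈ Om (f tC) → c = 1 := by
    intro c hc hco
    have h1 := step hs h hV hn hnz hA hA1 hAn hco (fun a ha => by
      rw [show n * (n⁻¹ * c * n) * n⁻¹ = c by group]
      exact (mem_centralizer_iff.1 (oc_le A hc.1) a ha).symm)
    calc c = n * (n⁻¹ * c * n) * n⁻¹ := by group
      _ = 1 := by rw [h1]; group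
  have hcube : ∀ c ∈ W, c ^ 3 = 1 := by
    intro c hc
    obtain ⟨x, hx, o, ho, e, hco⟩ := hdata c hc
    refine kill _ (pow_mem hc 3) ?_
    have e3 : n⁻¹ * c ^ 3 * n = (f x * o) ^ 3 := by rw [e, pow_succ, pow_two, pow_succ, pow_two]; group
    obtain ⟨o', ho', e'⟩ := powO hs x ho 3
    rw [e3, e', hx, f_one hs, one_mul]
    exact ho'
  refine ⟨?_, hcube⟩
  by_cases hbot : W = ⊥
  · exact Or.inl (card_eq_one.2 hbot)
  right
  obtain ⟨⟨c1, hc1⟩, hc11⟩ := Subgroup.ne_bot_iff_exists_ne_one.1 hbot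
  replace hc11 : c1 ≠ 1 := fun e => hc11 (Subtype.ext e)
  obtain ⟨x, hx, o, ho, e, hco⟩ := hdata c1 hc1
  have hx1 : x ≠ oneC := fun hx' => hc11 (kill c1 hc1 (by
    rw [← e, hx', f_one hs, one_mul]; exact ho))
  have hx2 : pSL x := cube_sl x hx
  have hWle : W ≤ zpowers c1 := by
    intro c hc
    obtain ⟨y, hy, o', ho', e', hco'⟩ := hdata c hc
    have hy2 := cube_sl y hy
    obtain ⟨y1, hy1, o1, ho1, e1, -⟩ := hdata _ (mul_mem hc1 hc)
    obtain ⟨oa, hoa, ea⟩ := mulO hs x y ho ho'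
    have p1 : f (mC x y) * oa = n⁻¹ * (c1 * c) * n := by
      rw [← ea, e, e']; group
    rw [coord_unique hs ho1 hoa (e1.trans p1.symm)] at hy1
    obtain ⟨y2, hy2', o2, ho2, e2, -⟩ := hdata _ (mul_mem (mul_mem hc1 hc1) hc)
    obtain ⟨ob, hob, eb⟩ := mulO hs x x ho ho
    obtain ⟨oc, hoc, ec⟩ := mulO hs (mC x x) y hob ho'
    have p2 : f (mC (mC x x) y) * oc = n⁻¹ * (c1 * c1 * c) * n := by
      rw [← ec, ← eb, e, e']; group
    rw [coord_unique hs ho2 hoc (e2.trans p2.symm)] at hy2'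
    rcases three_small x y hx hy hy1 hy2' with hh | hh | hh | hh
    · exact absurd hh hx1
    · rw [kill c hc (by rw [← e', hh, f_one hs, one_mul]; exact ho')]
      exact one_mem _
    · have h1 := kill (c1⁻¹ * c) (mul_mem (inv_mem hc1) hc) (by
        rw [show n⁻¹ * (c1⁻¹ * c) * n = (n⁻¹ * c1 * n)⁻¹ * (n⁻¹ * c * n) by group, ← e, ← e', hh,
          show (f x * o)⁻¹ * (f x * o') = o⁻¹ * o' by group]
        exact mul_mem (inv_mem ho) ho')
      rw [← inv_mul_eq_one.1 h1]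
      exact mem_zpowers _
    · have h1 := kill ((c1 * c1)⁻¹ * c) (mul_mem (inv_mem (mul_mem hc1 hc1)) hc) (by
        rw [show n⁻¹ * ((c1 * c1)⁻¹ * c) * n =
          (n⁻¹ * c1 * n * (n⁻¹ * c1 * n))⁻¹ * (n⁻¹ * c * n) by group, ← e, ← e', hh, eb,
          show (f (mC x x) * ob)⁻¹ * (f (mC x x) * o') = ob⁻¹ * o' by group]
        exact mul_mem (inv_mem hob) ho')
      rw [← inv_mul_eq_one.1 h1]
      exact mul_mem (mem_zpowers _) (mem_zpowers _)
  rw [le_antisymm hWle (zpowers_le.2 hc1), Nat.card_zpowers]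
  haveI : Fact (Nat.Prime 3) := ⟨Nat.prime_three⟩
  exact orderOf_eq_prime (hcube c1 hc1) hc11

end Local

section Count

variable (hs : SD f) {V : Subgroup G} (h : Core G V) (hV : IsFour f V)
include hs h hV

theorem conj_w (k : G) :
    f wC * k * (f wC)⁻¹ = f tC * (f uC * k * (f uC)⁻¹) * (f tC)⁻¹ := by
  rw [hs.mul_two _ _ two_facts.2.1 two_facts.2.2.1]; group

/-- A group acted on by the four-group, the involution fixing only central elements. -/
theorem four_count {Q B : Subgroup G} (hodd : Odd (Nat.card Q)) (hBQ : B ≤ Q)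
    (hBc : ∀ b ∈ B, ∀ q ∈ Q, Commute b q) (hfix : ∀ q ∈ Q, Commute (f tC) q → q ∈ B)
    (hBt : ∀ b ∈ B, Commute (f tC) b) (hBu : ∀ b ∈ B, f uC * b * (f uC)⁻¹ = b⁻¹)
    (htQ : ∀ q ∈ Q, f tC * q * (f tC)⁻¹ ∈ Q) (huQ : ∀ q ∈ Q, f uC * q * (f uC)⁻¹ ∈ Q) :
    Nat.card Q = Nat.card B * (Nat.card (Q ⊓ centralizer ({f uC} : Set G) : Subgroup G) *
      Nat.card (Q ⊓ centralizer ({f wC} : Set G) : Subgroup G)) := by
  obtain ⟨θ, hθ⟩ : ∃ θ : G → G, ∀ k, θ k = f tC * k * (f tC)⁻¹ := ⟨_, fun _ => rfl⟩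
  obtain ⟨υ, hυ⟩ : ∃ υ : G → G, ∀ k, υ k = f uC * k * (f uC)⁻¹ := ⟨_, fun _ => rfl⟩
  have hθQ : ∀ q ∈ Q, θ q ∈ Q := fun q hq => by rw [hθ]; exact htQ q hq
  have hυQ : ∀ q ∈ Q, υ q ∈ Q := fun q hq => by rw [hυ]; exact huQ q hq
  have hzz : ∀ k, θ (θ k) = k := fun k => by
    simp only [hθ]
    rw [GWDih33.inv_self hs.ot]
    calc f tC * (f tC * k * f tC) * f tC = (f tC * f tC) * k * (f tC * f tC) := by group
      _ = k := by rw [GWDih33.mul_self hs.ot, one_mul, mul_one]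
  have hu2 : f uC * f uC = 1 := by rw [← hs.mul_two _ _ two_facts.2.2.1 two_facts.2.2.1, four_facts.2.1, f_one hs]
  have hui : (f uC)⁻¹ = f uC := inv_eq_of_mul_eq_one_right hu2
  have huu : ∀ k, υ (υ k) = k := fun k => by
    simp only [hυ]
    rw [hui]
    calc f uC * (f uC * k * f uC) * f uC = (f uC * f uC) * k * (f uC * f uC) := by group
      _ = k := by rw [hu2, one_mul, mul_one]
  have hθm : ∀ a b, θ (a * b) = θ a * θ b := fun a b => by simp only [hθ]; group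
  have hυm : ∀ a b, υ (a * b) = υ a * υ b := fun a b => by simp only [hυ]; group
  have hθi : ∀ a, θ a⁻¹ = (θ a)⁻¹ := fun a => by simp only [hθ]; group
  have hυi : ∀ a, υ a⁻¹ = (υ a)⁻¹ := fun a => by simp only [hυ]; group
  have hcomm : ∀ k, θ (υ k) = υ (θ k) := fun k => by
    have e : f tC * f uC = f uC * f tC := (hs.cent_t uC).eq.symm
    simp only [hθ, hυ]
    calc f tC * (f uC * k * (f uC)⁻¹) * (f tC)⁻¹ = (f tC * f uC) * k * (f tC * f uC)⁻¹ := by group
      _ = (f uC * f tC) * k * (f uC * f tC)⁻¹ := by rw [e]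
      _ = _ := by group
  have hθB : ∀ b ∈ B, θ b = b := fun b hb => by
    simp only [hθ]; rw [(hBt b hb).eq, mul_inv_cancel_right]
  -- square roots
  have sqrtB : ∀ b ∈ B, ∃ m ∈ B, m * m = b := fun b hb => by
    obtain ⟨j, hj⟩ := exists_sqrt (odd_of_mem (hodd.of_dvd_nat (Subgroup.card_dvd_of_le hBQ)) hb)
    exact ⟨_, pow_mem hb j, hj⟩
  -- decomposition
  have split : ∀ k ∈ Q, ∃ m ∈ Q, ∃ b ∈ B, θ m = m⁻¹ ∧ k = m * b := by
    intro k hk
    have ht : θ (k * (θ k)⁻¹) = (k * (θ k)⁻¹)⁻¹ := by rw [hθm, hθi, hzz, mul_inv_rev, inv_inv]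
    have htQ' : k * (θ k)⁻¹ ∈ Q := mul_mem hk (inv_mem (hθQ k hk))
    obtain ⟨j, hj⟩ := exists_sqrt (odd_of_mem hodd htQ')
    have hm : θ ((k * (θ k)⁻¹) ^ j) = ((k * (θ k)⁻¹) ^ j)⁻¹ := by
      have : θ ((k * (θ k)⁻¹) ^ j) = θ (k * (θ k)⁻¹) ^ j := by rw [hθ, hθ (k * (θ k)⁻¹), conj_pow]
      rw [this, ht, inv_pow]
    refine ⟨(k * (θ k)⁻¹) ^ j, pow_mem htQ' j, ((k * (θ k)⁻¹) ^ j)⁻¹ * k,
      hfix _ (mul_mem (inv_mem (pow_mem htQ' j)) hk) ?_, hm, by rw [mul_inv_cancel_left]⟩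
    have e : θ (((k * (θ k)⁻¹) ^ j)⁻¹ * k) = ((k * (θ k)⁻¹) ^ j)⁻¹ * k := by
      set m := (k * (θ k)⁻¹) ^ j with hmdef
      have hk' : θ k = (m * m)⁻¹ * k := by rw [hj]; group
      rw [hθm, hθi, hm, inv_inv, hk']
      group
    exact mul_inv_eq_iff_eq_mul.1 ((hθ _).symm.trans e)
  have inv_mod : ∀ k ∈ Q, θ k * k ∈ B := by
    intro k hk
    obtain ⟨m, hm, b, hb, e, rfl⟩ := split k hk
    rw [hθm, hθB b hb, e]
    have : m⁻¹ * b * (m * b) = b * b := by
      rw [← mul_assoc, mul_assoc m⁻¹ b m, (hBc b hb m hm).eq]; group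
    rw [this]
    exact mul_mem hb hb
  have commB : ∀ k ∈ Q, ∀ l ∈ Q, ∃ b ∈ B, k * l = l * k * b := by
    intro k hk l hl
    obtain ⟨b1, hb1, e1⟩ : ∃ b ∈ B, θ k = k⁻¹ * b := ⟨_, inv_mod k hk, by
      have := hBc _ (inv_mod k hk) k hk
      calc θ k = k⁻¹ * (k * (θ k * k)) * k⁻¹ := by group
        _ = k⁻¹ * ((θ k * k) * k) * k⁻¹ := by rw [this.eq]
        _ = _ := by group⟩
    obtain ⟨b2, hb2, e2⟩ : ∃ b ∈ B, θ l = l⁻¹ * b := ⟨_, inv_mod l hl, by
      have := hBc _ (inv_mod l hl) l hl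
      calc θ l = l⁻¹ * (l * (θ l * l)) * l⁻¹ := by group
        _ = l⁻¹ * ((θ l * l) * l) * l⁻¹ := by rw [this.eq]
        _ = _ := by group⟩
    have hkl := inv_mod _ (mul_mem hk hl)
    have e3 : θ (k * l) * (k * l) = k⁻¹ * l⁻¹ * (k * l) * (b1 * b2) := by
      rw [hθm, e1, e2, show k⁻¹ * b1 * (l⁻¹ * b2) * (k * l) = k⁻¹ * (b1 * l⁻¹) * (b2 * (k * l)) by group,
        (hBc b1 hb1 _ (inv_mem hl)).eq, (hBc b2 hb2 _ (mul_mem hk hl)).eq]
      rw [show k⁻¹ * (l⁻¹ * b1) * (k * l * b2) = k⁻¹ * l⁻¹ * (b1 * (k * l)) * b2 by group,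
        (hBc b1 hb1 _ (mul_mem hk hl)).eq]
      group
    rw [e3] at hkl
    refine ⟨k⁻¹ * l⁻¹ * (k * l), ?_, by group⟩
    exact (Subgroup.mul_mem_cancel_right B (mul_mem hb1 hb2)).1 hkl
  have hfinB : ∀ s ∈ Q, (∃ b ∈ B, υ s = s * b) → ∃ c ∈ Q, υ c = c ∧ ∃ b ∈ B, s = c * b := by
    rintro s hsQ ⟨b, hb, e⟩
    obtain ⟨m, hm, hmm⟩ := sqrtB b hb
    refine ⟨s * m, mul_mem hsQ (hBQ hm), ?_, m⁻¹, inv_mem hm, by group⟩
    rw [hυm, e, (hυ m).trans (hBu m hm), ← hmm]
    group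
  have hfinW : ∀ s ∈ Q, (∃ b ∈ B, θ (υ s) = s * b) → ∃ c ∈ Q, θ (υ c) = c ∧ ∃ b ∈ B, s = c * b := by
    rintro s hsQ ⟨b, hb, e⟩
    obtain ⟨m, hm, hmm⟩ := sqrtB b hb
    refine ⟨s * m, mul_mem hsQ (hBQ hm), ?_, m⁻¹, inv_mem hm, by group⟩
    rw [hυm, hθm, e, (hυ m).trans (hBu m hm), hθi, hθB m hm, ← hmm]
    group
  have invfix : ∀ c ∈ Q, υ c = c ∨ θ (υ c) = c → θ c = c⁻¹ := by
    intro c hc hcc
    have h1 := inv_mod c hc
    have h2 : Commute (f uC) (θ c * c) ∨ θ c * c = 1 := by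
      left
      refine (mul_inv_eq_iff_eq_mul.1 ?_ : f uC * (θ c * c) = θ c * c * f uC)
      rw [← hυ]
      rcases hcc with e | e
      · rw [hυm, ← hcomm, e]
      · have e' : υ c = θ c := by rw [← hzz (υ c), e]
        rw [hυm, ← hcomm, e, e']
        calc c * θ c = c * (θ c * c) * c⁻¹ := by group
          _ = θ c * c * c * c⁻¹ := by rw [(hBc _ h1 c hc).eq]
          _ = θ c * c := by group
    rcases h2 with h2 | h2
    · exact eq_inv_of_mul_eq_one_left (no_odd_fix hs h hV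
        (odd_of_mem (hodd.of_dvd_nat (Subgroup.card_dvd_of_le hBQ)) h1) (hBt _ h1) h2)
    · exact eq_inv_of_mul_eq_one_left h2
  have wconj : ∀ k, f wC * k * (f wC)⁻¹ = θ (υ k) := fun k => by rw [hθ, hυ]; exact conj_w hs h hV k
  have memW : ∀ c, Commute c (f wC) ↔ θ (υ c) = c := fun c => by
    rw [← wconj]
    exact ⟨fun e => by rw [← e.eq, mul_inv_cancel_right], fun e => (mul_inv_eq_iff_eq_mul.1 e).symm⟩
  have memU : ∀ c, Commute c (f uC) ↔ υ c = c := fun c =>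
    ⟨fun e => by rw [hυ, ← e.eq, mul_inv_cancel_right], fun e => (mul_inv_eq_iff_eq_mul.1 ((hυ c).symm.trans e)).symm⟩
  let φ : B × (Q ⊓ centralizer ({f uC} : Set G) : Subgroup G) ×
      (Q ⊓ centralizer ({f wC} : Set G) : Subgroup G) → Q :=
    fun q => ⟨(q.2.1 : G) * q.2.2 * q.1, mul_mem (mul_mem q.2.1.2.1 q.2.2.2.1) (hBQ q.1.2)⟩
  have hφ : Function.Bijective φ := by
    constructor
    · rintro ⟨⟨b, hb⟩, ⟨c, hc⟩, ⟨d, hd⟩⟩ ⟨⟨b', hb'⟩, ⟨c', hc'⟩, ⟨d', hd'⟩⟩ e
      have e0 : c * d * b = c' * d' * b' := congrArg Subtype.val e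
      have hcu := (memU c).1 (mem_centralizer_singleton_iff.1 hc.2)
      have hcu' := (memU c').1 (mem_centralizer_singleton_iff.1 hc'.2)
      have hdw := (memW d).1 (mem_centralizer_singleton_iff.1 hd.2)
      have hdw' := (memW d').1 (mem_centralizer_singleton_iff.1 hd'.2)
      have hdu : υ d = d⁻¹ := by rw [← hzz (υ d), hdw, invfix d hd.1 (Or.inr hdw)]
      have hdu' : υ d' = d'⁻¹ := by rw [← hzz (υ d'), hdw', invfix d' hd'.1 (Or.inr hdw')]
      have hbm := mul_mem hb' (inv_mem hb)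
      have e1 : c'⁻¹ * c = d' * d⁻¹ * (b' * b⁻¹) := by
        calc c'⁻¹ * c = c'⁻¹ * (c * d * b) * (b⁻¹ * d⁻¹) := by group
          _ = c'⁻¹ * (c' * d' * b') * (b⁻¹ * d⁻¹) := by rw [e0]
          _ = d' * (b' * b⁻¹ * d⁻¹) := by group
          _ = d' * (d⁻¹ * (b' * b⁻¹)) := by rw [(hBc _ hbm _ (inv_mem hd.1)).eq]
          _ = _ := by group
      have e2 : c'⁻¹ * c = d'⁻¹ * d * (b * b'⁻¹) := by
        have h1 : υ (c'⁻¹ * c) = c'⁻¹ * c := by rw [hυm, hυi, hcu, hcu']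
        rw [← h1, e1, hυm, hυm, hυi, hdu, hdu', inv_inv]
        refine congrArg _ (((hυ _).trans (hBu _ hbm)).trans ?_)
        rw [mul_inv_rev, inv_inv]
      -- the second core is commutative
      have hdd : d' * d⁻¹ = d⁻¹ * d' := by
        have hc0 := invfix (d * d') (mul_mem hd.1 hd'.1) (Or.inr (by rw [hυm, hθm, hdw, hdw']))
        rw [hθm, invfix d hd.1 (Or.inr hdw), invfix d' hd'.1 (Or.inr hdw'), ← mul_inv_rev, inv_inj] at hc0
        have hdd' : Commute d' d := hc0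
        exact hdd'.inv_right.eq
      have e3 : (c'⁻¹ * c) * (c'⁻¹ * c) = 1 := by
        nth_rw 1 [e2]; rw [e1]
        rw [show d'⁻¹ * d * (b * b'⁻¹) * (d' * d⁻¹ * (b' * b⁻¹)) =
          d'⁻¹ * d * ((b * b'⁻¹) * (d' * d⁻¹)) * (b' * b⁻¹) by group,
          (hBc _ (mul_mem hb (inv_mem hb')) _ (mul_mem hd'.1 (inv_mem hd.1))).eq, hdd]
        group
      have hcc := GWDih33.eq_one_of_two (odd_of_mem hodd (mul_mem (inv_mem hc'.1) hc.1)) e3
      have hceq : c = c' := (inv_mul_eq_one.1 hcc).symm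
      rw [hcc] at e1
      have hdB : d' * d⁻¹ ∈ B := by
        rw [eq_inv_of_mul_eq_one_left e1.symm]; exact inv_mem hbm
      have hd1 : d' * d⁻¹ = 1 := by
        have h1 : θ (υ (d' * d⁻¹)) = d' * d⁻¹ := by rw [hυm, hυi, hθm, hθi, hdw, hdw']
        rw [(hυ (d' * d⁻¹)).trans (hBu _ hdB), hθi, hθB _ hdB, inv_eq_iff_mul_eq_one] at h1
        exact GWDih33.eq_one_of_two (odd_of_mem hodd (hBQ hdB)) h1
      have hdeq : d = d' := (mul_inv_eq_one.1 hd1).symm
      subst hceq hdeq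
      have hbeq : b = b' := mul_left_cancel e0
      subst hbeq
      rfl
    · rintro ⟨k, hk⟩
      obtain ⟨j, hj⟩ := exists_sqrt (odd_of_mem hodd hk)
      set l := k ^ j with hl
      have hlQ : l ∈ Q := pow_mem hk j
      obtain ⟨b0, hb0, e0⟩ := commB (υ l) (hυQ l hlQ) l hlQ
      obtain ⟨c, hc, hcu, b1, hb1, e1⟩ := hfinB (l * υ l) (mul_mem hlQ (hυQ l hlQ))
        ⟨b0, hb0, by rw [hυm, huu, e0]⟩
      obtain ⟨d, hd, hdw, b2, hb2, e2⟩ := hfinW (l * (υ l)⁻¹) (mul_mem hlQ (inv_mem (hυQ l hlQ))) (by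
        obtain ⟨ba, hba, ea⟩ : ∃ b ∈ B, θ l = l⁻¹ * b := ⟨_, inv_mod l hlQ, by
          calc θ l = l⁻¹ * (l * (θ l * l)) * l⁻¹ := by group
            _ = l⁻¹ * ((θ l * l) * l) * l⁻¹ := by rw [(hBc _ (inv_mod l hlQ) l hlQ).eq]
            _ = _ := by group⟩
        obtain ⟨bb, hbb, eb⟩ : ∃ b ∈ B, θ (υ l) = (υ l)⁻¹ * b := ⟨_, inv_mod _ (hυQ l hlQ), by
          calc θ (υ l) = (υ l)⁻¹ * (υ l * (θ (υ l) * υ l)) * (υ l)⁻¹ := by group
            _ = (υ l)⁻¹ * ((θ (υ l) * υ l) * υ l) * (υ l)⁻¹ := by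
              rw [(hBc _ (inv_mod _ (hυQ l hlQ)) _ (hυQ l hlQ)).eq]
            _ = _ := by group⟩
        obtain ⟨bc, hbc, ec⟩ := commB (υ l)⁻¹ (inv_mem (hυQ l hlQ)) l hlQ
        refine ⟨bc * (bb * ba⁻¹), mul_mem hbc (mul_mem hbb (inv_mem hba)), ?_⟩
        have e0' : θ (υ (l * (υ l)⁻¹)) = θ (υ l) * (θ l)⁻¹ := by
          rw [hυm l, hυi (υ l), huu l, hθm (υ l), hθi l]
        rw [e0', ea, eb, mul_inv_rev, inv_inv,
          show (υ l)⁻¹ * bb * (ba⁻¹ * l) = (υ l)⁻¹ * (bb * ba⁻¹ * l) by group,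
          (hBc _ (mul_mem hbb (inv_mem hba)) l hlQ).eq, ← mul_assoc, ec]
        group)
      obtain ⟨b3, hb3, e3⟩ := commB (υ l) (hυQ l hlQ) (l * (υ l)⁻¹) (mul_mem hlQ (inv_mem (hυQ l hlQ)))
      refine ⟨⟨⟨b1 * b2 * b3⁻¹, mul_mem (mul_mem hb1 hb2) (inv_mem hb3)⟩,
        ⟨c, hc, mem_centralizer_singleton_iff.2 ((memU c).2 hcu).eq⟩,
        ⟨d, hd, mem_centralizer_singleton_iff.2 ((memW d).2 hdw).eq⟩⟩, Subtype.ext ?_⟩
      show c * d * (b1 * b2 * b3⁻¹) = k
      calc c * d * (b1 * b2 * b3⁻¹) = c * (d * b1) * (b2 * b3⁻¹) := by group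
        _ = c * (b1 * d) * (b2 * b3⁻¹) := by rw [(hBc b1 hb1 d hd).eq]
        _ = c * b1 * (d * b2) * b3⁻¹ := by group
        _ = l * υ l * (l * (υ l)⁻¹) * b3⁻¹ := by rw [← e1, ← e2]
        _ = l * (υ l * (l * (υ l)⁻¹)) * b3⁻¹ := by group
        _ = l * (l * (υ l)⁻¹ * υ l * b3) * b3⁻¹ := by rw [e3]
        _ = l * l := by group
        _ = k := hj
  rw [← Nat.card_eq_of_bijective φ hφ, Nat.card_prod, Nat.card_prod]

end Count

section Final

variable (hs : SD f) {V : Subgroup G} (h : Core G V) (hV : IsFour f V)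
include hs h hV

/-- The stabiliser of the involution in the normaliser of the four-group. -/
def dSub : Subgroup G where
  carrier := {g | ∃ x, pD x ∧ f x = g}
  one_mem' := ⟨oneC, closed_pD.1, f_one hs⟩
  mul_mem' := by
    rintro _ _ ⟨x, hx, rfl⟩ ⟨y, hy, rfl⟩
    exact ⟨mC x y, closed_pD.2.2 x hx y hy, hs.mul_two x y (pD_two x hx) (pD_two y hy)⟩
  inv_mem' := by
    rintro _ ⟨x, hx, rfl⟩
    exact ⟨invC x, closed_pD.2.1 x hx, two_inv hs (pD_two x hx)⟩

omit h hV in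
theorem dSub_two : IsPGroup 2 (dSub hs) := by
  rintro ⟨_, x, hx, rfl⟩
  exact ⟨3, Subtype.ext (by
    rw [Subgroup.coe_pow, Subgroup.coe_one, show (2 : ℕ) ^ 3 = 8 by norm_num, ← (two_pow hs (pD_two x hx) 8).1, pow8_pD x hx,
      f_one hs])⟩

theorem main (ho : OrderData f) (hnat : ∀ x W, ¬ NatLayer f x W) : Om (f tC) = ⊥ := by
  by_contra hne
  obtain ⟨n, hn, hnz⟩ := exists_move hs h hV
  obtain ⟨i, hi, hiD, hiu, hiw⟩ := swap hs h hV
  set O := Om (f tC) with hO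
  obtain ⟨p, hp, hpo⟩ := Nat.exists_prime_and_dvd (show Nat.card O ≠ 1 from fun e => hne (card_eq_one.1 e))
  haveI := Fact.mk hp
  have hoddO : Odd (Nat.card O) := odd_om _
  set A := part hs p with hAdef
  have hA : A ≤ O := part_le hs p
  have hAcard := part_card hs p
  set v := (Nat.card O).factorization p with hv
  have hv1 : 1 ≤ v := (hp.dvd_iff_one_le_factorization Nat.card_pos.ne').1 hpo
  have hA1 : A ≠ ⊥ := fun e => by
    have h2 := Nat.one_lt_pow (by omega : v ≠ 0) hp.one_lt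
    rw [← hAcard, ← hAdef, e, card_bot] at h2
    exact lt_irrefl _ h2
  have hAn : ∀ c, Commute c (f tC) → ∀ a ∈ A, c * a * c⁻¹ ∈ A := fun c hc a ha => part_norm hs p hc ha
  set K := Oc A with hK
  have hKodd := odd_oc A
  have hOK : O ≤ K := om_le_oc hs hA hA1
  obtain ⟨hW, hWcube⟩ := layer_cube hs h hV hn hnz hA hA1 hAn
  have hnormf : ∀ x, f x ∈ normalizer (A : Set G) := fun x =>
    normal_mem fun a ha => hAn _ (f_comm_t hs x) a ha
  have hDK : dSub hs ≤ normalizer (K : Set G) := by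
    rintro _ ⟨x, -, rfl⟩
    exact normal_mem fun k hk => oc_norm (hnormf x) hk
  -- invariant Sylow subgroups of the odd core
  have hsyl : ∀ q : ℕ, q.Prime → ∃ Q : Subgroup G, Q ≤ K ∧
      Nat.card Q = q ^ (Nat.card K).factorization q ∧ ∀ x, pD x → ∀ y ∈ Q, f x * y * (f x)⁻¹ ∈ Q := by
    intro q hq
    haveI := Fact.mk hq
    haveI : Fact (Nat.Prime 2) := ⟨Nat.prime_two⟩
    obtain ⟨j, hj⟩ := IsPGroup.iff_card.1 (dSub_two hs)
    obtain ⟨P, hP⟩ := CoprimeAction.exists_invariant_sylow (K := K) hDK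
      (hj ▸ Nat.Coprime.pow_left j (Nat.coprime_two_left.2 hKodd))
      (Or.inl (CoprimeAction.isSolvable_of_isPGroup (dSub_two hs))) q
    exact ⟨(P : Subgroup K).map K.subtype, map_subtype_le _, CoprimeAction.card_map_sylow P,
      fun x hx y hy => (mem_normalizer_iff.1 (hP ⟨x, hx, rfl⟩) y).1 hy⟩
  have hpDt : pD tC := by decide +kernel
  have hpDu : pD uC := by decide +kernel
  have hpDw : pD wC := by decide +kernel
  have hpDi : pD i := hiD
  -- away from three the odd core is the core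
  have hq3 : ∀ q : ℕ, q.Prime → q ≠ 3 → q ^ (Nat.card K).factorization q ∣ Nat.card O := by
    intro q hq hne3
    obtain ⟨Q, hQK, hQc, hQn⟩ := hsyl q hq
    rw [← hQc]
    refine Subgroup.card_dvd_of_le fun y hy => ?_
    have hQodd : Odd (Nat.card Q) := hKodd.of_dvd_nat (Subgroup.card_dvd_of_le hQK)
    have hfixu : ∀ a ∈ Q, Commute (f uC) a → a = 1 := by
      intro a ha hc
      have h3 := hWcube a ⟨hQK ha, mem_centralizer_singleton_iff.2 hc.symm.eq⟩
      have h1 : orderOf a ∣ Nat.card Q := Subgroup.orderOf_dvd_natCard _ ha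
      rw [hQc] at h1
      rw [← orderOf_eq_one_iff]
      exact Nat.eq_one_of_dvd_coprimes (Nat.Coprime.pow_left _ ((Nat.coprime_primes hq Nat.prime_three).2 hne3))
        h1 (orderOf_dvd_of_pow_eq_one h3)
    have hu2 : f uC * f uC = 1 := by rw [← hs.mul_two _ _ two_facts.2.2.1 two_facts.2.2.1, four_facts.2.1, f_one hs]
    have hw2 : f wC * f wC = 1 := by rw [← hs.mul_two _ _ two_facts.2.2.2 two_facts.2.2.2, four_facts.2.2.1, f_one hs]
    have iu : ∀ a ∈ Q, f uC * a * (f uC)⁻¹ = a⁻¹ := by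
      rcases inverts_or_fixes hu2 (fun a ha => hQn uC hpDu a ha) with e | ⟨a, ha, ha1, hc⟩
      · exact e
      · exact absurd (hfixu a ha hc) ha1
    have iw : ∀ a ∈ Q, f wC * a * (f wC)⁻¹ = a⁻¹ := by
      rcases inverts_or_fixes hw2 (fun a ha => hQn wC hpDw a ha) with e | ⟨a, ha, ha1, hc⟩
      · exact e
      · have h1 := (Commute.conj_iff (f i)).2 hc
        rw [hiw] at h1
        have h2 := hfixu _ (hQn i hpDi a ha) h1
        exact absurd (conj_eq_one_iff.1 h2) ha1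
    refine oc_inter hs hA hA1 (hQK hy) (mul_inv_eq_iff_eq_mul.1 ?_ : f tC * y = y * f tC).symm
    have e := iu y hy
    have e' := iw _ (Q.inv_mem hy)
    rw [inv_inv, ← e, conj_w hs h hV] at e'
    have hh : f uC * (f uC * y * (f uC)⁻¹) * (f uC)⁻¹ = y := by
      rw [iu y hy, ← conj_inv, iu y hy, inv_inv]
    rwa [hh] at e'
  have hKO : Nat.card O ∣ Nat.card K := Subgroup.card_dvd_of_le hOK
  obtain ⟨m, hm⟩ := hKO
  have hm0 : m ≠ 0 := fun e => by rw [e, mul_zero] at hm; exact Nat.card_pos.ne' hm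
  have hm3 : ∀ q : ℕ, q.Prime → q ∣ m → q = 3 := by
    intro q hq hqm
    by_contra hne3
    have h1 : q ^ ((Nat.card K).factorization q + 1) ∣ Nat.card K := by
      rw [pow_succ]
      nth_rw 2 [hm]
      exact mul_dvd_mul (hq3 q hq hne3) hqm
    exact absurd ((hq.pow_dvd_iff_le_factorization Nat.card_pos.ne').1 h1) (by omega)
  by_cases hp3 : p ≠ 3
  · -- the part is a Sylow subgroup
    have hcard : Nat.card (normalizer (A : Set G)) ∣ Nat.card K * 48 := by
      set C := centralizer ({f tC} : Set G) with hC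
      have hle : normalizer (A : Set G) ≤ K ⊔ C := by
        intro g hg
        obtain ⟨m', hm', hc⟩ := norm_decomp hs hA hA1 hg
        rw [show g = m' * (m'⁻¹ * g) by group]
        exact mul_mem (mem_sup_left hm') (mem_sup_right (mem_centralizer_singleton_iff.2 hc.eq))
      refine (Subgroup.card_dvd_of_le hle).trans ?_
      have hRn : C ≤ normalizer (K : Set G) := fun c hc =>
        normal_mem fun k hk => oc_norm (normal_mem fun a ha =>
          hAn c (mem_centralizer_singleton_iff.1 hc) a ha) hk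
      have h1 : K.relIndex (C ⊔ K) = K.relIndex C := relIndex_sup hRn
      have h2 := Subgroup.relIndex_mul_relIndex ⊥ K (C ⊔ K) bot_le le_sup_right
      rw [relIndex_bot_left, relIndex_bot_left, h1] at h2
      rw [sup_comm, ← h2]
      refine mul_dvd_mul_left _ ?_
      have e' : K ⊓ C = O := le_antisymm
        (fun k hk => oc_inter hs hA hA1 hk.1 (mem_centralizer_singleton_iff.1 hk.2))
        (le_inf hOK (om_le _))
      have h3 := Subgroup.relIndex_mul_relIndex ⊥ (K ⊓ C) C bot_le inf_le_right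
      rw [relIndex_bot_left, relIndex_bot_left, inf_relIndex_right, e', card_cent hs, mul_comm] at h3
      exact (Nat.eq_of_mul_eq_mul_right Nat.card_pos h3).dvd
    refine sylow_false ho hp hpo (not_dvd_index hAcard fun hd => ?_) (hAcard ▸ dvd_mul_of_dvd_right (Nat.ordProj_dvd _ p) 48)
    have h1 : p ^ (v + 1) ∣ Nat.card O * (m * 48) := by
      rw [← mul_assoc, ← hm]; exact hd.trans hcard
    have hpm : ¬ p ∣ m * 48 := by
      intro h2
      rcases (hp.dvd_mul).1 h2 with h2 | h2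
      · exact hp3 (hm3 p hp h2)
      · have h16 : p ∣ 16 * 3 := h2
        rcases (hp.dvd_mul).1 h16 with h3 | h3
        · have := (Nat.prime_dvd_prime_iff_eq hp Nat.prime_two).1
            (hp.dvd_of_dvd_pow (show p ∣ 2 ^ 4 from h3))
          exact absurd (even_iff_two_dvd.2 (this ▸ hpo)) (Nat.not_even_iff_odd.2 hoddO)
        · exact hp3 ((Nat.prime_dvd_prime_iff_eq hp Nat.prime_three).1 h3)
    have h2 := (((hp.coprime_iff_not_dvd).2 hpm).pow_left (v + 1)).dvd_of_dvd_mul_right h1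
    have := (hp.pow_dvd_iff_le_factorization Nat.card_pos.ne').1 h2
    omega
  push Not at hp3
  subst hp3
  -- the three-part
  obtain ⟨Q, hQK, hQc, hQn⟩ := hsyl 3 Nat.prime_three
  have hAK : A ≤ K := hA.trans hOK
  have hKA : ∀ k ∈ K, ∀ a ∈ A, Commute a k := fun k hk a ha => mem_centralizer_iff.1 (oc_le A hk) a ha
  have hQp : IsPGroup 3 Q := IsPGroup.of_card hQc
  have hAQ : A ≤ Q := by
    have hQA : Q ≤ normalizer (A : Set G) := fun q hq => normal_mem fun a ha => by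
      rwa [← (hKA q (hQK hq) a ha).eq, mul_inv_cancel_right]
    have hsup : IsPGroup 3 (A ⊔ Q : Subgroup G) := by
      rw [sup_comm]; exact hQp.to_sup_of_normal_right' (part_isPGroup hs 3) hQA
    obtain ⟨j, hj⟩ := IsPGroup.iff_card.1 hsup
    have hle : j ≤ (Nat.card K).factorization 3 :=
      (Nat.prime_three.pow_dvd_iff_le_factorization Nat.card_pos.ne').1
        (hj ▸ Subgroup.card_dvd_of_le (sup_le hAK hQK))
    have he : (A ⊔ Q : Subgroup G) = Q := (Subgroup.eq_of_le_of_card_ge le_sup_right (by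
      rw [hj, hQc]; exact Nat.pow_le_pow_right (by norm_num) hle)).symm
    exact he ▸ le_sup_left
  have hQfix : ∀ q ∈ Q, Commute (f tC) q → q ∈ A := by
    intro q hq hc
    obtain ⟨j, hj⟩ := hQp ⟨q, hq⟩
    exact ⟨oc_inter hs hA hA1 (hQK hq) hc.symm, j, congrArg Subtype.val hj⟩
  have hcount := four_count hs h hV (hKodd.of_dvd_nat (Subgroup.card_dvd_of_le hQK)) hAQ
    (fun b hb q hq => hKA q (hQK hq) b hb) hQfix (fun b hb => om_comm (hA hb))
    (fun b hb => act_out hs not_sl.1 (hA hb)) (fun q hq => hQn tC hpDt q hq) (fun q hq => hQn uC hpDu q hq)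
  set QU := Q ⊓ centralizer ({f uC} : Set G) with hQU
  have hQW : Nat.card (Q ⊓ centralizer ({f wC} : Set G) : Subgroup G) = Nat.card QU := by
    have e : (QU.map (MulAut.conj (f i)).toMonoidHom) = Q ⊓ centralizer ({f wC} : Set G) := by
      refine le_antisymm ?_ fun y hy => ?_
      · rintro _ ⟨y, hy, rfl⟩
        refine ⟨hQn i hpDi y hy.1, mem_centralizer_singleton_iff.2 ?_⟩
        have h1 := (Commute.conj_iff (f i)).2 (show Commute y (f uC) from mem_centralizer_singleton_iff.1 hy.2)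
        rw [hiu] at h1
        exact h1.eq
      · refine ⟨(f i)⁻¹ * y * f i, ⟨?_, mem_centralizer_singleton_iff.2 ?_⟩, by
          show f i * ((f i)⁻¹ * y * f i) * (f i)⁻¹ = y
          group⟩
        · have h1 := hQn (invC i) (closed_pD.2.1 i hpDi) y hy.1
          rwa [two_inv hs (pD_two i hpDi), inv_inv] at h1
        · have h1 := (Commute.conj_iff (f i)⁻¹).2 (show Commute y (f wC) from mem_centralizer_singleton_iff.1 hy.2)
          rw [← hiu, inv_inv, show (f i)⁻¹ * (f i * f uC * (f i)⁻¹) * f i = f uC by group] at h1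
          exact h1.eq
    rw [← e, card_map_of_injective (MulAut.conj (f i)).injective]
  rw [hQW, hQc, hAcard] at hcount
  have hQU13 : Nat.card QU = 1 ∨ Nat.card QU = 3 := by
    have hd : Nat.card QU ∣ Nat.card (Oc A ⊓ centralizer ({f uC} : Set G) : Subgroup G) :=
      Subgroup.card_dvd_of_le (inf_le_inf_right _ hQK)
    rcases hW with e | e <;> rw [e] at hd
    · exact Or.inl (Nat.dvd_one.1 hd)
    · exact (Nat.dvd_prime Nat.prime_three).1 hd
  -- the index of the core in the odd core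
  obtain ⟨j, hj⟩ : ∃ j, m = 3 ^ j := by
    refine ⟨m.factorization 3, ?_⟩
    conv_lhs => rw [← Nat.prod_factorization_pow_eq_self hm0]
    rw [Finsupp.prod_eq_single (a := 3)]
    · intro q hq _
      have hmem := Finsupp.mem_support_iff.2 hq
      rw [Nat.support_factorization] at hmem
      exact absurd (hm3 q (Nat.prime_of_mem_primeFactors hmem) (Nat.dvd_of_mem_primeFactors hmem)) ‹_›
    · simp
  have hfac : (Nat.card K).factorization 3 = v + j := by
    rw [hm, Nat.factorization_mul Nat.card_pos.ne' hm0, hj, Nat.prime_three.factorization_pow]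
    simp [hv]
  rw [hfac, pow_add] at hcount
  have hmsq : m = Nat.card QU * Nat.card QU := by
    rw [hj]; exact Nat.eq_of_mul_eq_mul_left (pow_pos (by norm_num) v) hcount
  rcases hQU13 with e | e
  · -- the odd core is the core
    rw [e, one_mul] at hmsq
    have hKO : K = O := (Subgroup.eq_of_le_of_card_ge hOK (by rw [hm, hmsq, mul_one])).symm
    have hCA : centralizer (A : Set G) ≤ centralizer ({f tC} : Set G) := by
      intro c hc
      obtain ⟨m', hm', hcm⟩ := frattini hs hA hA1 hc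
      rw [show c = m' * (m'⁻¹ * c) by group]
      exact mul_mem (om_le _ (hKO ▸ hm' : m' ∈ O)) (mem_centralizer_singleton_iff.2 hcm.eq)
    set C := centralizer ({f tC} : Set G) with hC
    have hAC : A ≤ C := hA.trans (om_le _)
    haveI : (A.subgroupOf C).Normal := ⟨fun a ha c => mem_subgroupOf.2
      (hAn _ (mem_centralizer_singleton_iff.1 c.2) _ (mem_subgroupOf.1 ha))⟩
    obtain ⟨R⟩ : Nonempty (Sylow 3 C) := inferInstance
    have hAR : A.subgroupOf C ≤ R := by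
      have hAp : IsPGroup 3 (A.subgroupOf C) :=
        (part_isPGroup hs 3).of_equiv (Subgroup.subgroupOfEquivOfLe hAC).symm
      obtain ⟨R', hR'⟩ := hAp.exists_le_sylow
      obtain ⟨g, hg⟩ := MulAction.exists_smul_eq C R R'
      intro a ha
      have h1 := hR' (Subgroup.Normal.conj_mem ‹_› a ha g)
      rw [← hg, Sylow.coe_subgroup_smul, Subgroup.mem_pointwise_smul_iff_inv_smul_mem] at h1
      simpa [MulAut.smul_def, ← map_inv, MulAut.conj_apply, mul_assoc] using h1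
    set P0 := (R : Subgroup C).map C.subtype with hP0
    have hP0C : P0 ≤ C := map_subtype_le _
    have hP0card : Nat.card P0 = 3 ^ (Nat.card C).factorization 3 := by
      rw [hP0, card_map_of_injective C.subtype_injective, R.card_eq_multiplicity]
    have hP0A : A ≤ P0 := fun a ha => ⟨⟨a, hAC ha⟩, hAR (mem_subgroupOf.2 ha), rfl⟩
    have hP0cent : P0 ≤ centralizer (A : Set G) := by
      intro y hy
      obtain ⟨x, hx, o, hoO, exy, -⟩ := odd_form hs (show Commute y (f tC) from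
        mem_centralizer_singleton_iff.1 (hP0C hy)) (by
          have h1 := Subgroup.orderOf_dvd_natCard P0 hy
          rw [hP0card] at h1
          exact (Odd.pow (by decide)).of_dvd_nat h1)
      rw [← exy]
      exact sl_mem hs hA hA1 (cube_sl x hx) hoO
    have hN : normalizer (P0 : Set G) ≤ C := by
      intro g hg
      have htA : g * f tC * g⁻¹ ∈ centralizer (A : Set G) := by
        refine mem_centralizer_iff.2 fun a ha => ?_
        have hg' := (mem_normalizer_iff''.1 hg a).1 (hP0A ha)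
        have hc : Commute (g⁻¹ * a * g) (f tC) := mem_centralizer_singleton_iff.1 (hP0C hg')
        have h1 := (Commute.conj_iff g).2 hc
        rwa [show g * (g⁻¹ * a * g) * g⁻¹ = a by group] at h1
      have e' := t_solitary hs hA hA1 htA (by rw [GWDih33.order_conj, hs.ot])
        (mem_centralizer_singleton_iff.1 (hCA htA))
      exact mem_centralizer_singleton_iff.2 (mul_inv_eq_iff_eq_mul.1 e')
    refine sylow_false ho hp hpo (not_dvd_index hP0card fun hd => ?_) ?_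
    · have h1 := hd.trans (Subgroup.card_dvd_of_le hN)
      have := (Nat.prime_three.pow_dvd_iff_le_factorization Nat.card_pos.ne').1 h1
      omega
    · rw [← card_cent hs]; exact Subgroup.card_dvd_of_le hP0C
  · -- the natural layer
    obtain ⟨a, ha⟩ := exists_prime_orderOf_dvd_card' (G := A) 3
      (hAcard ▸ dvd_pow_self 3 (by omega : v ≠ 0))
    rw [← Subgroup.orderOf_coe] at ha
    refine hnat a K ⟨hA a.2, ha, hKodd, hAK a.2, fun k hk => ?_, fun c => normal_mem fun k hk =>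
      oc_norm (hnormf c) hk, fun k hk => oc_inter hs hA hA1 hk.1 (mem_centralizer_singleton_iff.1 hk.2), ?_⟩
    · exact mem_centralizer_singleton_iff.2 (hKA k hk a a.2).symm.eq
    · have e' : K ⊓ centralizer ({f tC} : Set G) = O := le_antisymm
        (fun k hk => oc_inter hs hA hA1 hk.1 (mem_centralizer_singleton_iff.1 hk.2))
        (le_inf hOK (om_le _))
      rw [e', hm, hmsq, e, mul_comm]

end Final

end Crit55

theorem om_trivial (h : Core G V) (hs : SD f) (hV : IsFour f V) (ho : OrderData f)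
    (hnat : ∀ x W, ¬ NatLayer f x W) : Om (f tC) = ⊥ :=
  Crit55.main hs h hV ho hnat

end Cfsg.Agent.Wong3x33
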