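import Cfsg.Agent.Lib.Wong3Setup33
import Cfsg.Agent.Lib.ZStarTheorem

/-!
Primitive groups with a suborbit of length three (S3686): the four-group, its normaliser and the odd
cores, in the semidihedral configuration.
-/

set_option autoImplicit false
set_option linter.style.haveILetI false
set_option linter.unusedSectionVars false
set_option synthInstance.maxSize 4096

namespace Cfsg.Agent.Wong3x33.Crit55

open Subgroup BinaryOctahedral GL23CentModel GL23Recog95
open Cfsg.Agent.GWDih33 (Om odd_om om_le om_comm om_normalized odd_of_mem)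

universe u

theorem pow48 : ∀ x : Coord, powC x 48 = oneC := by decide +kernel

theorem cube_sl : ∀ x : Coord, powC x 3 = oneC → pSL x := by decide +kernel

theorem not_sl : ¬ pSL uC ∧ ¬ pSL wC ∧ pSL tC ∧ pSL oneC := by decide +kernel

theorem inv_sl : ∀ x : Coord, IsInv x → pSL x → x = tC := by decide +kernel

theorem no_odd_sl : ∀ c : Coord, powC c 3 = oneC → c ≠ oneC →
    ∃ g, pSL g ∧ powC (mC c (cjC g c)) 3 ≠ oneC := by decide +kernel

theorem three_small : ∀ x y : Coord, powC x 3 = oneC → powC y 3 = oneC → powC (mC x y) 3 = oneC →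
    powC (mC (mC x x) y) 3 = oneC → x = oneC ∨ y = oneC ∨ y = x ∨ y = mC x x := by decide +kernel

theorem three_fix : ∀ x : Coord, powC x 3 = oneC → pV (cjC x uC) → x = oneC := by decide +kernel

theorem swap_vw : ∃ c : Coord, pSL c ∧ cjC c uC = wC ∧ cjC c wC = uC := by decide +kernel

theorem four_facts : cjC tC uC = uC ∧ mC uC uC = oneC ∧ mC wC wC = oneC ∧ mC uC wC = mC wC uC := by
  decide +kernel

theorem cancel_inv : ∀ x y : Coord, mC (invC y) x = oneC → x = y := by decide +kernel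

theorem two_facts : pSD oneC ∧ pSD tC ∧ pSD uC ∧ pSD wC := by decide +kernel

/-- The stabiliser of the pair `{u, w}`, a group of order eight. -/
abbrev pD (x : Coord) : Prop := cjC x uC = uC ∨ cjC x uC = wC

theorem closed_pD : Closed pD := ⟨by decide +kernel, by decide +kernel, by decide +kernel⟩

theorem pD_two : ∀ x : Coord, pD x → pSD x := by decide +kernel

theorem pow8_pD : ∀ x : Coord, pD x → powC x 8 = oneC := by decide +kernel

variable {G : Type u} [Group G]

/-- If a power of odd exponent and the `48`-th power lie in a subgroup, so does the cube. -/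
theorem cube_mem {H : Subgroup G} {g : G} {d : ℕ} (hd : Odd d) (h1 : g ^ d ∈ H) (h2 : g ^ 48 ∈ H) :
    g ^ 3 ∈ H := by
  have hcop : Nat.Coprime (Nat.gcd d 48) 16 := Nat.Coprime.coprime_dvd_left (Nat.gcd_dvd_left d 48)
    (Nat.Coprime.pow_right 4 (Nat.coprime_two_right.2 hd))
  obtain ⟨c, hc⟩ := hcop.dvd_of_dvd_mul_left (show Nat.gcd d 48 ∣ 16 * 3 from Nat.gcd_dvd_right d 48)
  have hg : g ^ Nat.gcd d 48 ∈ H := by
    rw [← zpow_natCast, Nat.gcd_eq_gcd_ab, zpow_add, zpow_mul, zpow_mul, zpow_natCast, zpow_natCast]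
    exact mul_mem (zpow_mem h1 _) (zpow_mem h2 _)
  rw [hc, pow_mul]
  exact pow_mem hg c

variable [Finite G] {f : Coord → G}

/-- An element of odd order has a square root among its powers. -/
theorem exists_sqrt {g : G} (h : Odd (orderOf g)) : ∃ k : ℕ, g ^ k * g ^ k = g := by
  obtain ⟨k, hk⟩ := h
  refine ⟨k + 1, ?_⟩
  rw [← pow_add, show k + 1 + (k + 1) = orderOf g + 1 by omega, pow_succ, pow_orderOf_eq_one, one_mul]

theorem om_conj_mem (t g : G) {x : G} (hx : x ∈ Om t) : g * x * g⁻¹ ∈ Om (g * t * g⁻¹) := by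
  set C' := centralizer ({g * t * g⁻¹} : Set G) with hC'
  set M : Subgroup G := (Om t).map (MulAut.conj g).toMonoidHom with hM
  have hMC : M ≤ C' := by
    rintro _ ⟨y, hy, rfl⟩
    refine mem_centralizer_singleton_iff.2 ?_
    show g * y * g⁻¹ * (g * t * g⁻¹) = g * t * g⁻¹ * (g * y * g⁻¹)
    rw [conj_mul, conj_mul, (om_comm hy).eq]
  have hn : (M.subgroupOf C').Normal := by
    refine ⟨fun y hy c => ?_⟩
    rw [mem_subgroupOf] at hy ⊢
    obtain ⟨b, hb, e⟩ := hy
    have hb' : (y : G) = g * b * g⁻¹ := e.symm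
    refine ⟨g⁻¹ * c * g * b * (g⁻¹ * c * g)⁻¹, ?_, ?_⟩
    · refine (mem_normalizer_iff.1 (om_normalized t (mem_centralizer_singleton_iff.2 ?_)) b).1 hb
      have hc := mem_centralizer_singleton_iff.1 c.2
      calc g⁻¹ * (c : G) * g * t = g⁻¹ * ((c : G) * (g * t * g⁻¹)) * g := by group
        _ = g⁻¹ * (g * t * g⁻¹ * c) * g := by rw [hc]
        _ = _ := by group
    · show g * (g⁻¹ * c * g * b * (g⁻¹ * c * g)⁻¹) * g⁻¹ = ((c * y * c⁻¹ : C') : G)
      rw [Subgroup.coe_mul, Subgroup.coe_mul, Subgroup.coe_inv, hb']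
      group
  haveI := hn
  have hodd : Odd (Nat.card (M.subgroupOf C')) := by
    rw [Nat.card_congr (subgroupOfEquivOfLe hMC).toEquiv, hM,
      card_map_of_injective (MulAut.conj g).injective]
    exact odd_om t
  have hmem : g * x * g⁻¹ ∈ M := ⟨x, hx, rfl⟩
  exact ⟨⟨_, hMC hmem⟩, HallCore.le_pPrimeCore (Nat.coprime_two_right.2 hodd)
    (mem_subgroupOf.2 hmem), rfl⟩

section

variable (hs : SD f)
include hs

theorem f_one : f oneC = 1 := by
  have := hs.mul_two oneC oneC two_facts.1 two_facts.1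
  rw [GL23CentModel.one_mC] at this
  exact left_eq_mul.1 this

theorem f_cent (x : Coord) : f x ∈ centralizer ({f tC} : Set G) :=
  mem_centralizer_singleton_iff.2 (hs.cent_t x).eq

theorem f_comm_t (x : Coord) : Commute (f x) (f tC) := hs.cent_t x

theorem conj_om {c : G} (hc : Commute c (f tC)) {o : G} (ho : o ∈ Om (f tC)) :
    c * o * c⁻¹ ∈ Om (f tC) :=
  (mem_normalizer_iff.1 (om_normalized _ (mem_centralizer_singleton_iff.2 hc.eq)) o).1 ho

/-- Exact inverse on the two-part. -/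
theorem two_inv {x : Coord} (hx : pSD x) : f (invC x) = (f x)⁻¹ :=
  eq_inv_of_mul_eq_one_right (by
    rw [← hs.mul_two x _ hx (closed_pSD.2.1 x hx), mC_invC, f_one hs])

/-- Exact conjugation on the two-part. -/
theorem two_cj {g x : Coord} (hg : pSD g) (hx : pSD x) : f (cjC g x) = f g * f x * (f g)⁻¹ := by
  rw [hs.mul_two _ _ (closed_pSD.2.2 g hg x hx) (closed_pSD.2.1 g hg), hs.mul_two g x hg hx, two_inv hs hg]

/-- Exact powers on the two-part. -/
theorem two_pow {x : Coord} (hx : pSD x) : ∀ n : ℕ, f (powC x n) = f x ^ n ∧ pSD (powC x n)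
  | 0 => ⟨by rw [powC, f_one hs, pow_zero], closed_pSD.1⟩
  | n + 1 => ⟨by rw [powC, hs.mul_two x _ hx (two_pow hx n).2, (two_pow hx n).1, ← pow_succ'],
      closed_pSD.2.2 x hx _ (two_pow hx n).2⟩

theorem mulO (x y : Coord) {a b : G} (ha : a ∈ Om (f tC)) (hb : b ∈ Om (f tC)) :
    ∃ o ∈ Om (f tC), f x * a * (f y * b) = f (mC x y) * o := by
  refine ⟨(f (mC x y))⁻¹ * (f x * f y) * ((f y)⁻¹ * a * f y) * b,
    mul_mem (mul_mem (hs.mul x y) ?_) hb, by group⟩
  simpa using conj_om hs (hs.cent_t y).inv_left ha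

theorem invO (x : Coord) {a : G} (ha : a ∈ Om (f tC)) :
    ∃ o ∈ Om (f tC), (f x * a)⁻¹ = f (invC x) * o := by
  obtain ⟨o, ho, e⟩ := mulO hs x (invC x) ha (one_mem _)
  rw [mC_invC, f_one hs, one_mul, mul_one] at e
  exact ⟨o⁻¹, inv_mem ho, inv_eq_of_mul_eq_one_right (by rw [← mul_assoc, e, mul_inv_cancel])⟩

theorem cjO (x y : Coord) {a b : G} (ha : a ∈ Om (f tC)) (hb : b ∈ Om (f tC)) :
    ∃ o ∈ Om (f tC), f x * a * (f y * b) * (f x * a)⁻¹ = f (cjC x y) * o := by
  obtain ⟨c, hc, e⟩ := mulO hs x y ha hb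
  obtain ⟨d, hd, e'⟩ := invO hs x ha
  rw [e, e']
  exact mulO hs _ _ hc hd

theorem powO (x : Coord) {a : G} (ha : a ∈ Om (f tC)) :
    ∀ n : ℕ, ∃ o ∈ Om (f tC), (f x * a) ^ n = f (powC x n) * o
  | 0 => ⟨1, one_mem _, by rw [powC, f_one hs, pow_zero, one_mul]⟩
  | n + 1 => by
    obtain ⟨o, ho, e⟩ := powO x ha n
    rw [pow_succ', e]
    exact mulO hs x _ ha ho

theorem meetO {x : Coord} {o : G} (ho : o ∈ Om (f tC)) (h : f x * o ∈ Om (f tC)) : x = oneC :=
  hs.meet x (by simpa using mul_mem h (inv_mem ho))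

theorem coord_unique {x y : Coord} {o o' : G} (ho : o ∈ Om (f tC)) (ho' : o' ∈ Om (f tC))
    (e : f x * o = f y * o') : x = y := by
  obtain ⟨a, ha, ea⟩ := invO hs y ho'
  obtain ⟨b, hb, eb⟩ := mulO hs (invC y) x ha ho
  rw [← ea, e, inv_mul_cancel] at eb
  exact cancel_inv x y (meetO hs hb (eb ▸ one_mem _))

/-- The cube of an element is trivial modulo the core once its order is odd there. -/
theorem cube_one {x : Coord} {a : G} (ha : a ∈ Om (f tC)) {d : ℕ} (hd : Odd d)
    (h : (f x * a) ^ d ∈ Om (f tC)) : powC x 3 = oneC := by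
  obtain ⟨o, ho, e⟩ := powO hs x ha 48
  rw [pow48, f_one hs, one_mul] at e
  obtain ⟨o', ho', e'⟩ := powO hs x ha 3
  exact meetO hs ho' (e' ▸ cube_mem hd h (e ▸ ho))

theorem act_sl {x : Coord} (hx : pSL x) {o : G} (ho : o ∈ Om (f tC)) : Commute (f x) o := by
  have := hs.act x o ho
  rw [if_pos hx, mul_inv_eq_iff_eq_mul] at this
  exact this

theorem act_out {x : Coord} (hx : ¬ pSL x) {o : G} (ho : o ∈ Om (f tC)) :
    f x * o * (f x)⁻¹ = o⁻¹ := by
  have := hs.act x o ho
  rwa [if_neg hx] at this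

/-- Elements of odd order in the centraliser of the involution. -/
theorem odd_form {c : G} (hc : Commute c (f tC)) (hodd : Odd (orderOf c)) :
    ∃ x : Coord, powC x 3 = oneC ∧ ∃ o ∈ Om (f tC), f x * o = c ∧ Commute (f x) o := by
  obtain ⟨x, o, ho, rfl⟩ := hs.cent c hc
  have hx3 := cube_one hs ho hodd (by rw [pow_orderOf_eq_one]; exact one_mem _)
  exact ⟨x, hx3, o, ho, rfl, act_sl hs (cube_sl x hx3) ho⟩

theorem card_cent : Nat.card (centralizer ({f tC} : Set G)) = 48 * Nat.card (Om (f tC)) := by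
  have hb : Function.Bijective fun q : Coord × Om (f tC) =>
      (⟨f q.1 * q.2, mul_mem (f_cent hs _) (om_le _ q.2.2)⟩ : centralizer ({f tC} : Set G)) := by
    constructor
    · rintro ⟨x, o⟩ ⟨y, o'⟩ e
      have e' : f x * (o : G) = f y * o' := congrArg Subtype.val e
      obtain rfl := coord_unique hs o.2 o'.2 e'
      exact Prod.ext rfl (Subtype.ext (mul_left_cancel e'))
    · rintro ⟨c, hc⟩
      obtain ⟨x, o, ho, e⟩ := hs.cent c (mem_centralizer_singleton_iff.1 hc)
      exact ⟨(x, ⟨o, ho⟩), Subtype.ext e⟩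
  rw [← Nat.card_eq_of_bijective _ hb, Nat.card_prod, Nat.card_eq_fintype_card (α := Coord)]
  congr 1

variable {V : Subgroup G} (h : Core G V) (hV : IsFour f V)
include h hV

theorem t_mem : f tC ∈ V ∧ f uC ∈ V ∧ f wC ∈ V :=
  ⟨(hV _).2 (Or.inr (Or.inl rfl)), (hV _).2 (Or.inr (Or.inr (Or.inl rfl))),
    (hV _).2 (Or.inr (Or.inr (Or.inr rfl)))⟩

theorem no_odd_fix {c : G} (hodd : Odd (orderOf c)) (h1 : Commute (f tC) c) (h2 : Commute (f uC) c) :
    c = 1 := by
  have hc : c ∈ centralizer (V : Set G) := by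
    refine mem_centralizer_iff.2 fun g hg => ?_
    rcases (hV g).1 hg with rfl | rfl | rfl | rfl
    · simp
    · exact h1.eq
    · exact h2.eq
    · rw [hs.mul_two _ _ two_facts.2.1 two_facts.2.2.1]; exact (h1.mul_left h2).eq
  rw [h.self_cent] at hc
  exact GWDih33.eq_one_of_two hodd (h.exp_two c hc)

theorem conj_t_cases {g : G} (hg : g ∈ normalizer (V : Set G)) :
    g * f tC * g⁻¹ = f tC ∨ g * f tC * g⁻¹ = f uC ∨ g * f tC * g⁻¹ = f wC := by
  rcases (hV _).1 ((mem_normalizer_iff.1 hg _).1 (t_mem hs h hV).1) with e | e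
  · exact absurd (conj_eq_one_iff.1 e) (GWDih33.ne_one hs.ot)
  · exact e

theorem pD_norm {c : Coord} (hc : pD c) : f c ∈ normalizer (V : Set G) := by
  have key : ∀ c, pD c → ∀ g ∈ V, f c * g * (f c)⁻¹ ∈ V := by
    intro c hc g hg
    have hcases : ∀ c, pD c → cjC c tC = tC ∧ cjC c oneC = oneC ∧
        (cjC c uC = uC ∨ cjC c uC = wC) ∧ (cjC c wC = uC ∨ cjC c wC = wC) := by decide +kernel
    obtain ⟨c1, c2, c3, c4⟩ := hcases c hc
    rcases (hV g).1 hg with rfl | rfl | rfl | rfl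
    · simp
    · rw [← two_cj hs (pD_two c hc) two_facts.2.1, c1]; exact (t_mem hs h hV).1
    · rw [← two_cj hs (pD_two c hc) two_facts.2.2.1]
      rcases c3 with e | e <;> rw [e]
      exacts [(t_mem hs h hV).2.1, (t_mem hs h hV).2.2]
    · rw [← two_cj hs (pD_two c hc) two_facts.2.2.2]
      rcases c4 with e | e <;> rw [e]
      exacts [(t_mem hs h hV).2.1, (t_mem hs h hV).2.2]
  refine mem_normalizer_iff.2 fun g => ⟨key c hc g, fun hg => ?_⟩
  have := key (invC c) (closed_pD.2.1 c hc) _ hg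
  simpa [two_inv hs (pD_two c hc), mul_assoc] using this

theorem swap : ∃ i : Coord, pSL i ∧ pD i ∧ f i * f uC * (f i)⁻¹ = f wC ∧
    f i * f wC * (f i)⁻¹ = f uC := by
  obtain ⟨c, hc, h1, h2⟩ := swap_vw
  have hD := pD_two c (Or.inr h1)
  exact ⟨c, hc, Or.inr h1, by rw [← two_cj hs hD two_facts.2.2.1, h1],
    by rw [← two_cj hs hD two_facts.2.2.2, h2]⟩

/-- The normaliser of the four-group moves the involution to the other two. -/
theorem exists_move : ∃ n ∈ normalizer (V : Set G), n * f tC * n⁻¹ = f uC := by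
  haveI : Fact (Nat.Prime 3) := ⟨Nat.prime_three⟩
  obtain ⟨g, hg⟩ := exists_prime_orderOf_dvd_card' (G := normalizer (V : Set G)) 3
    (by rw [h.card_norm]; norm_num)
  have hgo : orderOf (g : G) = 3 := by rwa [Subgroup.orderOf_coe]
  obtain ⟨i, -, hiD, -, hiw⟩ := swap hs h hV
  rcases conj_t_cases hs h hV g.2 with e | e | e
  · exfalso
    obtain ⟨x, hx3, o, ho, hxo, hco⟩ := odd_form hs (c := (g : G)) (mul_inv_eq_iff_eq_mul.1 e)
      (by rw [hgo]; decide)
    have hmem := (mem_normalizer_iff.1 g.2 _).1 (t_mem hs h hV).2.1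
    obtain ⟨o1, ho1, e1⟩ := cjO hs x uC ho (one_mem _)
    rw [mul_one] at e1
    rw [← hxo, e1] at hmem
    obtain ⟨d, hd, hdV⟩ : ∃ d, pV d ∧ f d * 1 = f (cjC x uC) * o1 := by
      rcases (hV _).1 hmem with e | e | e | e
      exacts [⟨oneC, Or.inl rfl, by rw [f_one hs, e, mul_one]⟩,
        ⟨tC, Or.inr (Or.inl rfl), by rw [e, mul_one]⟩,
        ⟨uC, Or.inr (Or.inr (Or.inl rfl)), by rw [e, mul_one]⟩,
        ⟨wC, Or.inr (Or.inr (Or.inr rfl)), by rw [e, mul_one]⟩]
    have hdx := coord_unique hs (one_mem _) ho1 hdV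
    obtain rfl := three_fix x hx3 (hdx ▸ hd)
    rw [f_one hs, one_mul] at hxo e1
    have hd1 : d = uC := hdx.trans (by decide +kernel)
    rw [← hdV, mul_one, hd1] at e1
    have hfix : o * o = 1 := by
      have h1 := act_out hs not_sl.1 ho
      rw [← mul_inv_eq_iff_eq_mul.1 e1, mul_inv_cancel_right] at h1
      exact mul_eq_one_iff_eq_inv.2 h1
    rw [GWDih33.eq_one_of_two (odd_of_mem (odd_om _) ho) hfix] at hxo
    rw [← hxo, orderOf_one] at hgo
    omega
  · exact ⟨g, g.2, e⟩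
  · refine ⟨f i * g, mul_mem (pD_norm hs h hV hiD) g.2, ?_⟩
    rw [show f i * (g : G) * f tC * (f i * g)⁻¹ = f i * ((g : G) * f tC * (g : G)⁻¹) * (f i)⁻¹ by group,
      e, hiw]

end

end Cfsg.Agent.Wong3x33.Crit55
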