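import Cfsg.Agent.Lib.Wong3Crit55Base
import Cfsg.Agent.Lib.CoprimeAction

/-!
Primitive groups with a suborbit of length three (S3686): the centraliser of a subgroup of the core.
-/

set_option autoImplicit false
set_option linter.style.haveILetI false
set_option linter.unusedSectionVars false
set_option synthInstance.maxSize 4096

namespace Cfsg.Agent.Wong3x33.Crit55

open Subgroup BinaryOctahedral GL23CentModel GL23Recog95
open Cfsg.Agent.GWDih33 (Om odd_om om_le om_comm om_normalized odd_of_mem)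

universe u

variable {G : Type u} [Group G] [Finite G] {f : Coord → G}

/-- The odd core of the centraliser of a subgroup. -/
def Oc (A : Subgroup G) : Subgroup G :=
  (Cfsg.oddCore (centralizer (A : Set G))).map (centralizer (A : Set G)).subtype

theorem oc_le (A : Subgroup G) : Oc A ≤ centralizer (A : Set G) := map_subtype_le _

theorem odd_oc (A : Subgroup G) : Odd (Nat.card (Oc A)) := by
  rw [Oc, card_map_of_injective (centralizer (A : Set G)).subtype_injective]
  exact Nat.coprime_two_right.1 (HallCore.coprime_card_pPrimeCore 2 _)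

theorem mem_oc {A : Subgroup G} {g : G} (hg : g ∈ centralizer (A : Set G)) :
    g ∈ Oc A ↔ (⟨g, hg⟩ : centralizer (A : Set G)) ∈ Cfsg.oddCore (centralizer (A : Set G)) := by
  refine ⟨fun ⟨x, hx, e⟩ => ?_, fun hx => ⟨_, hx, rfl⟩⟩
  rwa [show x = ⟨g, hg⟩ from Subtype.ext e] at hx

theorem le_oc {A M : Subgroup G} (hMC : M ≤ centralizer (A : Set G))
    (hn : ∀ c ∈ centralizer (A : Set G), ∀ m ∈ M, c * m * c⁻¹ ∈ M) (hodd : Odd (Nat.card M)) :
    M ≤ Oc A := by
  intro m hm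
  haveI : (M.subgroupOf (centralizer (A : Set G))).Normal :=
    ⟨fun y hy c => mem_subgroupOf.2 (hn _ c.2 _ (mem_subgroupOf.1 hy))⟩
  refine ⟨⟨m, hMC hm⟩, HallCore.le_pPrimeCore (Nat.coprime_two_right.2 ?_) (mem_subgroupOf.2 hm), rfl⟩
  rwa [Nat.card_congr (subgroupOfEquivOfLe hMC).toEquiv]

theorem cent_conj {A : Subgroup G} {g c : G} (hg : g ∈ normalizer (A : Set G))
    (hc : c ∈ centralizer (A : Set G)) : g * c * g⁻¹ ∈ centralizer (A : Set G) := by
  refine mem_centralizer_iff.2 fun a ha => ?_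
  have e := mem_centralizer_iff.1 hc _ ((mem_normalizer_iff''.1 hg a).1 ha)
  calc a * (g * c * g⁻¹) = g * (g⁻¹ * a * g * c) * g⁻¹ := by group
    _ = g * (c * (g⁻¹ * a * g)) * g⁻¹ := by rw [e]
    _ = _ := by group

theorem oc_norm {A : Subgroup G} {g : G} (hg : g ∈ normalizer (A : Set G)) {k : G} (hk : k ∈ Oc A) :
    g * k * g⁻¹ ∈ Oc A := by
  have hle : (Oc A).map (MulAut.conj g).toMonoidHom ≤ Oc A := by
    refine le_oc ?_ ?_ ?_
    · rintro _ ⟨y, hy, rfl⟩
      exact cent_conj hg (oc_le A hy)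
    · rintro c hc _ ⟨y, hy, rfl⟩
      refine ⟨g⁻¹ * c * g * y * (g⁻¹ * c * g)⁻¹, ?_, ?_⟩
      · have hc' : g⁻¹ * c * g ∈ centralizer (A : Set G) := by
          simpa using cent_conj (inv_mem hg) hc
        obtain ⟨y', hy', rfl⟩ := hy
        haveI : (Cfsg.oddCore (centralizer (A : Set G))).Normal := HallCore.pPrimeCore_normal 2 _
        exact ⟨_, Subgroup.Normal.conj_mem ‹_› y' hy' ⟨_, hc'⟩, rfl⟩
      · show g * (g⁻¹ * c * g * y * (g⁻¹ * c * g)⁻¹) * g⁻¹ = c * (g * y * g⁻¹) * c⁻¹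
        group
    · rw [card_map_of_injective (MulAut.conj g).injective]
      exact odd_oc A
  exact hle ⟨k, hk, rfl⟩

theorem conj_sqrt {K : Subgroup G} {z k : G} (hk : k ∈ K) (hodd : Odd (orderOf k))
    (hi : z * k * z⁻¹ = k⁻¹) : ∃ m ∈ K, m * z * m⁻¹ = k * z := by
  obtain ⟨j, hj⟩ := exists_sqrt hodd
  refine ⟨k ^ j, pow_mem hk j, ?_⟩
  have e : z * (k ^ j)⁻¹ = k ^ j * z := by
    rw [← mul_inv_eq_iff_eq_mul, ← conj_inv, ← conj_pow, hi, inv_pow, inv_inv]
  rw [mul_assoc, e, ← mul_assoc, hj]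

theorem relIndex_sup {K H : Subgroup G} (h : H ≤ normalizer (K : Set G)) :
    K.relIndex (H ⊔ K) = K.relIndex H := by
  have hK : K ≤ normalizer (K : Set G) := le_normalizer
  haveI : (K.subgroupOf (normalizer (K : Set G))).Normal := Subgroup.normal_in_normalizer
  rw [← relIndex_subgroupOf (sup_le h hK), ← relIndex_subgroupOf h, subgroupOf_sup h hK,
    Subgroup.relIndex_sup_right]

section

variable (hs : SD f) {A : Subgroup G} (hA : A ≤ Om (f tC)) (hA1 : A ≠ ⊥)
include hs hA hA1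

theorem sl_mem {x : Coord} (hx : pSL x) {o : G} (ho : o ∈ Om (f tC)) :
    f x * o ∈ centralizer (A : Set G) :=
  mem_centralizer_iff.2 fun a ha =>
    ((act_sl hs hx (hA ha)).mul_left (hs.comm o ho a (hA ha))).symm.eq

theorem om_cent : Om (f tC) ≤ centralizer (A : Set G) := fun o ho =>
  mem_centralizer_iff.2 fun a ha => (hs.comm a (hA ha) o ho).eq

theorem t_cent : f tC ∈ centralizer (A : Set G) :=
  mem_centralizer_iff.2 fun _ ha => (om_comm (hA ha)).symm.eq

theorem sl_form {c : G} (hcA : c ∈ centralizer (A : Set G)) (hc : Commute c (f tC)) :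
    ∃ x : Coord, pSL x ∧ ∃ o ∈ Om (f tC), f x * o = c := by
  obtain ⟨x, o, ho, e⟩ := hs.cent c hc
  refine ⟨x, ?_, o, ho, e⟩
  by_contra hx
  obtain ⟨⟨a, ha⟩, ha1⟩ := Subgroup.ne_bot_iff_exists_ne_one.1 hA1
  have h1 : c * a * c⁻¹ = a := by rw [← mem_centralizer_iff.1 hcA a ha, mul_inv_cancel_right]
  have h2 : c * a * c⁻¹ = a⁻¹ := by
    rw [← e, ← act_out hs hx (hA ha)]
    have : o * a * o⁻¹ = a := by rw [(hs.comm o ho a (hA ha)).eq, mul_inv_cancel_right]
    conv_rhs => rw [← this]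
    group
  rw [h1] at h2
  exact ha1 (Subtype.ext (GWDih33.eq_one_of_two (odd_of_mem (odd_om _) (hA ha))
    (mul_eq_one_iff_eq_inv.2 h2)))

theorem t_solitary {t : G} (htA : t ∈ centralizer (A : Set G)) (ht : orderOf t = 2)
    (hc : Commute t (f tC)) : t = f tC := by
  obtain ⟨x, hx, o, ho, rfl⟩ := sl_form hs hA hA1 htA hc
  have h2 := GWDih33.mul_self ht
  have hco := act_sl hs hx ho
  obtain ⟨o2, ho2, e2⟩ := powO hs x ho 2
  rw [pow_two, h2] at e2
  have h4 : mC x x = oneC := by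
    have e : powC x 2 = mC x x := (show ∀ x : Coord, powC x 2 = mC x x by decide +kernel) x
    rw [← e]
    exact meetO hs ho2 (e2 ▸ one_mem _)
  by_cases hx1 : x = oneC
  · exfalso
    rw [hx1, f_one hs, one_mul] at ht
    have := odd_of_mem (odd_om _) ho
    rw [ht] at this
    exact absurd this (by decide)
  · rw [inv_sl x ⟨h4, hx1⟩ hx] at ht ⊢
    have hh : (f tC * o) * (f tC * o) = 1 := GWDih33.mul_self ht
    rw [show f tC * o * (f tC * o) = f tC * (o * f tC) * o by group, ← (om_comm ho).eq,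
      show f tC * (f tC * o) * o = f tC * f tC * (o * o) by group, GWDih33.mul_self hs.ot, one_mul] at hh
    rw [GWDih33.eq_one_of_two (odd_of_mem (odd_om _) ho) hh, mul_one]

theorem comm_mem {g : G} (hg : g ∈ centralizer (A : Set G)) :
    f tC * g * (f tC)⁻¹ * g⁻¹ ∈ Oc A := by
  have hsol : ZStarBasic.Solitary (⟨f tC, t_cent hs hA hA1⟩ : centralizer (A : Set G)) := by
    refine ⟨(Subgroup.orderOf_mk _ _).trans hs.ot, fun t ht hc => Subtype.ext ?_⟩
    exact t_solitary hs hA hA1 t.2 ((Subgroup.orderOf_coe t).trans ht) (congrArg Subtype.val hc.eq)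
  exact ⟨_, ZStarTheorem.commutator_mem hsol.isolated ⟨g, hg⟩, rfl⟩

theorem inverted_mem {g : G} (hg : g ∈ centralizer (A : Set G)) (hodd : Odd (orderOf g))
    (hi : f tC * g * (f tC)⁻¹ = g⁻¹) : g ∈ Oc A := by
  have h1 := inv_mem (comm_mem hs hA hA1 hg)
  rw [hi, mul_inv_rev, inv_inv] at h1
  obtain ⟨k, hk⟩ := exists_sqrt hodd
  have : (g * g) ^ k = g := by rw [(Commute.refl g).mul_pow, hk]
  rw [← this]
  exact pow_mem h1 k

theorem frattini {g : G} (hg : g ∈ centralizer (A : Set G)) :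
    ∃ m ∈ Oc A, Commute (m⁻¹ * g) (f tC) := by
  have hk : g * f tC * g⁻¹ * (f tC)⁻¹ ∈ Oc A := by
    have := inv_mem (comm_mem hs hA hA1 hg)
    simpa [mul_assoc] using this
  set k := g * f tC * g⁻¹ * (f tC)⁻¹ with hk'
  have hz := GWDih33.inv_self hs.ot
  have hzz := GWDih33.mul_self hs.ot
  have hi : f tC * k * (f tC)⁻¹ = k⁻¹ := by
    rw [hk', mul_inv_rev, mul_inv_rev, mul_inv_rev, inv_inv, inv_inv, hz]
    calc f tC * (g * f tC * g⁻¹ * f tC) * f tC = f tC * (g * f tC * g⁻¹) * (f tC * f tC) := by group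
      _ = _ := by rw [hzz, mul_one]; group
  obtain ⟨m, hm, e⟩ := conj_sqrt hk (odd_of_mem (odd_oc A) hk) hi
  rw [hk', inv_mul_cancel_right] at e
  refine ⟨m, hm, ?_⟩
  have : m⁻¹ * g * f tC * (m⁻¹ * g)⁻¹ = f tC := by
    calc m⁻¹ * g * f tC * (m⁻¹ * g)⁻¹ = m⁻¹ * (g * f tC * g⁻¹) * m := by group
      _ = m⁻¹ * (m * f tC * m⁻¹) * m := by rw [e]
      _ = f tC := by group
  exact mul_inv_eq_iff_eq_mul.1 this

theorem oc_conj {c : G} (hc : c ∈ centralizer (A : Set G)) {k : G} (hk : k ∈ Oc A) :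
    c * k * c⁻¹ ∈ Oc A := by
  refine oc_norm (mem_normalizer_iff.2 fun a => ?_) hk
  constructor <;> intro ha
  · rwa [← mem_centralizer_iff.1 hc a ha, mul_inv_cancel_right]
  · have e := mem_centralizer_iff.1 (inv_mem hc) _ ha
    have : a = c * a * c⁻¹ := by
      calc a = c⁻¹ * (c * a * c⁻¹) * c := by group
        _ = c * a * c⁻¹ * c⁻¹ * c := by rw [e]
        _ = _ := by group
    rwa [← this] at ha

theorem oc_norm_le : Om (f tC) ≤ normalizer (Oc A : Set G) := fun o ho =>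
  mem_normalizer_iff.2 fun k => ⟨oc_conj hs hA hA1 (om_cent hs hA hA1 ho), fun hk => by
    have := oc_conj hs hA hA1 (inv_mem (om_cent hs hA hA1 ho)) hk
    simpa [mul_assoc] using this⟩

theorem om_le_oc : Om (f tC) ≤ Oc A := by
  refine le_sup_left.trans (le_oc (M := Om (f tC) ⊔ Oc A) (sup_le (om_cent hs hA hA1) (oc_le A)) ?_ ?_)
  · intro c hc
    obtain ⟨m, hm, hcm⟩ := frattini hs hA hA1 hc
    obtain ⟨x, hx, o, ho, e⟩ := sl_form hs hA hA1 (mul_mem (inv_mem (oc_le A hm)) hc) hcm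
    have hce : c = m * (f x * o) := by rw [e, mul_inv_cancel_left]
    have hle : (Om (f tC) ⊔ Oc A).map (MulAut.conj c).toMonoidHom ≤ Om (f tC) ⊔ Oc A := by
      rw [Subgroup.map_sup]
      refine sup_le ?_ ?_
      · rintro _ ⟨o', ho', rfl⟩
        show c * o' * c⁻¹ ∈ _
        have hfix : f x * o * o' * (f x * o)⁻¹ = o' := by
          rw [((act_sl hs hx ho').mul_left (hs.comm o ho o' ho')).eq, mul_inv_cancel_right]
        rw [hce, show m * (f x * o) * o' * (m * (f x * o))⁻¹ = m * (f x * o * o' * (f x * o)⁻¹) * m⁻¹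
          by group, hfix]
        exact mul_mem (mul_mem (mem_sup_right hm) (mem_sup_left ho')) (inv_mem (mem_sup_right hm))
      · rintro _ ⟨k, hk, rfl⟩
        exact mem_sup_right (oc_conj hs hA hA1 hc hk)
    exact fun y hy => hle ⟨y, hy, rfl⟩
  · have e : (Oc A).relIndex (Om (f tC) ⊔ Oc A) = (Oc A).relIndex (Om (f tC)) :=
      relIndex_sup (oc_norm_le hs hA hA1)
    have h2 := Subgroup.relIndex_mul_relIndex ⊥ (Oc A) (Om (f tC) ⊔ Oc A) bot_le le_sup_right
    rw [relIndex_bot_left, relIndex_bot_left, e] at h2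
    rw [← h2]
    exact (odd_oc A).mul ((odd_om _).of_dvd_nat (Subgroup.relIndex_dvd_card _ _))

theorem oc_inter {k : G} (hk : k ∈ Oc A) (hc : Commute k (f tC)) : k ∈ Om (f tC) := by
  obtain ⟨x, hx3, o, ho, e, -⟩ := odd_form hs hc (odd_of_mem (odd_oc A) hk)
  have hfx : f x ∈ Oc A := by
    have := mul_mem hk (inv_mem (om_le_oc hs hA hA1 ho))
    rwa [← e, mul_inv_cancel_right] at this
  by_cases hx1 : x = oneC
  · rw [← e, hx1, f_one hs, one_mul]; exact ho
  exfalso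
  obtain ⟨g, hg, hne⟩ := no_odd_sl x hx3 hx1
  obtain ⟨a, ha, ea⟩ := cjO hs g x (one_mem _) (one_mem _)
  rw [mul_one, mul_one] at ea
  obtain ⟨b, hb, eb⟩ := mulO hs x (cjC g x) (one_mem _) ha
  rw [mul_one, ← ea] at eb
  have hgA : f g ∈ centralizer (A : Set G) := by simpa using sl_mem hs hA hA1 hg (one_mem _)
  have hy : f (mC x (cjC g x)) * b ∈ Oc A := eb ▸ mul_mem hfx (oc_conj hs hA hA1 hgA hfx)
  exact absurd (cube_one hs hb (odd_of_mem (odd_oc A) hy) (by rw [pow_orderOf_eq_one]; exact one_mem _)) hne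

theorem norm_decomp {g : G} (hg : g ∈ normalizer (A : Set G)) :
    ∃ m ∈ Oc A, Commute (m⁻¹ * g) (f tC) := by
  have htA : g * f tC * g⁻¹ ∈ centralizer (A : Set G) := cent_conj hg (t_cent hs hA hA1)
  obtain ⟨m, hm, hcm⟩ := frattini hs hA hA1 htA
  obtain ⟨x, hx, o, ho, e⟩ := sl_form hs hA hA1 (mul_mem (inv_mem (oc_le A hm)) htA) hcm
  set t := g * f tC * g⁻¹ with ht
  have htt : t * t = 1 := by rw [ht, conj_mul, GWDih33.mul_self hs.ot, mul_one, mul_inv_cancel]
  have hm' : m * o ∈ Oc A := mul_mem hm (om_le_oc hs hA hA1 ho)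
  have he : t = m * o * f x := by
    rw [mul_assoc, ← (act_sl hs hx ho).eq, e, mul_inv_cancel_left]
  have hfc : f x ∈ centralizer (A : Set G) := by simpa using sl_mem hs hA hA1 hx (one_mem _)
  have hxx : f (mC x x) ∈ Oc A := by
    obtain ⟨b, hb, eb⟩ := mulO hs x x (one_mem _) (one_mem _)
    rw [mul_one] at eb
    rw [eq_mul_inv_iff_mul_eq.2 eb.symm]
    refine mul_mem ?_ (inv_mem (om_le_oc hs hA hA1 hb))
    have h1 : f x * f x = (f x * (m * o) * (f x)⁻¹)⁻¹ * (m * o)⁻¹ * (m * o * f x * (m * o * f x)) := by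
      group
    rw [h1, ← he, htt, mul_one]
    exact mul_mem (inv_mem (oc_conj hs hA hA1 hfc hm')) (inv_mem hm')
  have hx2 : mC x x = oneC := hs.meet _ (oc_inter hs hA hA1 hxx (f_comm_t hs _))
  have hxt : x = tC := by
    refine inv_sl x ⟨hx2, fun hx1 => ?_⟩ hx
    rw [hx1, f_one hs, mul_one] at he
    have ho2 : orderOf t = 2 := by rw [ht, GWDih33.order_conj, hs.ot]
    have := odd_of_mem (odd_oc A) (he ▸ hm')
    rw [ho2] at this
    exact absurd this (by decide)
  rw [hxt] at he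
  have hi : f tC * (m * o) * (f tC)⁻¹ = (m * o)⁻¹ := by
    rw [GWDih33.inv_self hs.ot]
    refine eq_inv_of_mul_eq_one_right ?_
    rw [← htt, he]; group
  obtain ⟨m', hm'', e'⟩ := conj_sqrt hm' (odd_of_mem (odd_oc A) hm') hi
  rw [← he] at e'
  refine ⟨m', hm'', ?_⟩
  have : m'⁻¹ * g * f tC * (m'⁻¹ * g)⁻¹ = f tC := by
    calc m'⁻¹ * g * f tC * (m'⁻¹ * g)⁻¹ = m'⁻¹ * t * m' := by rw [ht]; group
      _ = f tC := by rw [← e']; group
  exact mul_inv_eq_iff_eq_mul.1 this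

end

end Cfsg.Agent.Wong3x33.Crit55
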