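import Cfsg.Agent.Lib.Wong3DihFour27Layer

/-!
For S3686, dihedral case: a four group through `z` centralises no nontrivial element of the core of
`C(z)`. With `D` as in the frame for `(z, a)` and `D'` for `(a, z)`: a count of pairs of involutions
against the order bound gives `X ∩ D' ≠ 1`, so `D` and `D'` commute, and the three conjugates of `D`
generate an odd subgroup normalised by `N(V)`.
-/

set_option autoImplicit false
set_option linter.style.haveILetI false
set_option linter.unusedSectionVars false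

namespace Cfsg.Agent.Wong3DihFour27

open Subgroup Cfsg.Agent.DihedralPair68
open Cfsg.Agent.GWDih33 (Om om_le om_comm odd_om om_normalized odd_of_mem eq_one_of_two order_two
  order_conj mul_self ne_one inv_self)
open Cfsg.Agent.GWDihBounds11 (orderOf_refl orderOf_z refl_ne_z card_dih)
open Cfsg.Agent.ProductFusion68 (exists_conj_le inv_of_sq mem_normalizer_of_conj_mem)

universe u

variable {G : Type u} [Group G] [Finite G]

theorem card_orbit_mul (H : Subgroup G) (t : G) :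
    Nat.card {g : G // ∃ x ∈ H, x * t * x⁻¹ = g} *
      Nat.card (H ⊓ centralizer ({t} : Set G) : Subgroup G) = Nat.card H := by
  set C := (centralizer ({t} : Set G)).subgroupOf H
  have e1 : Nat.card C = Nat.card (H ⊓ centralizer ({t} : Set G) : Subgroup G) :=
    Nat.card_congr ⟨fun y => ⟨((y : H) : G), (y : H).2, y.2⟩, fun y => ⟨⟨y, y.2.1⟩, y.2.2⟩,
      fun y => rfl, fun y => rfl⟩
  have key : ∀ x y : H, (x : G) * t * (x : G)⁻¹ = (y : G) * t * (y : G)⁻¹ ↔ x⁻¹ * y ∈ C := by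
    intro x y
    rw [mem_subgroupOf, mem_centralizer_singleton_iff, Subgroup.coe_mul, Subgroup.coe_inv]
    constructor
    · intro h
      calc (x : G)⁻¹ * y * t = (x : G)⁻¹ * ((y : G) * t * (y : G)⁻¹) * y := by group
        _ = t * ((x : G)⁻¹ * y) := by rw [← h]; group
    · intro h
      calc (x : G) * t * (x : G)⁻¹ = x * (t * ((x : G)⁻¹ * y)) * (y : G)⁻¹ := by group
        _ = (y : G) * t * (y : G)⁻¹ := by rw [← h]; group
  have e2 : Nat.card (H ⧸ C) = Nat.card {g : G // ∃ x ∈ H, x * t * x⁻¹ = g} := by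
    refine Nat.card_congr (Equiv.ofBijective (Quotient.lift
      (fun x : H => (⟨(x : G) * t * (x : G)⁻¹, x, x.2, rfl⟩ : {g : G // ∃ x ∈ H, x * t * x⁻¹ = g}))
      (fun x y h => Subtype.ext ((key x y).2 (QuotientGroup.leftRel_apply.1 h)))) ⟨?_, ?_⟩)
    · rintro ⟨x⟩ ⟨y⟩ h
      exact Quotient.sound (QuotientGroup.leftRel_apply.2 ((key x y).1 (congrArg Subtype.val h)))
    · rintro ⟨g, x, hx, rfl⟩
      exact ⟨(⟨x, hx⟩ : H), rfl⟩
  rw [← e1, ← e2, ← Subgroup.index, mul_comm, C.card_mul_index]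

theorem mul_card_le {K : Subgroup G} {A B : Subgroup G} (hA : A ≤ K) (hB : B ≤ K)
    (h : ∀ g ∈ A, g ∈ B → g = 1) : Nat.card A * Nat.card B ≤ Nat.card K := by
  rw [← Nat.card_prod]
  refine Nat.card_le_card_of_injective
    (fun p : A × B => (⟨(p.1 : G) * p.2, mul_mem (hA p.1.2) (hB p.2.2)⟩ : K)) ?_
  rintro ⟨⟨a, ha⟩, ⟨b, hb⟩⟩ ⟨⟨a', ha'⟩, ⟨b', hb'⟩⟩ he
  have he' : a * b = a' * b' := congrArg Subtype.val he
  have e : a'⁻¹ * a = b' * b⁻¹ := by
    calc a'⁻¹ * a = a'⁻¹ * (a * b) * b⁻¹ := by group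
      _ = b' * b⁻¹ := by rw [he']; group
  have h1 := h _ (mul_mem (inv_mem ha') ha) (e ▸ mul_mem hb' (inv_mem hb))
  obtain rfl : a = a' := (inv_mul_eq_one.1 h1).symm
  obtain rfl : b = b' := mul_left_cancel he'
  rfl

namespace Frame

variable (F : Frame G)

theorem mem_cen_a {g : G} :
    g ∈ F.X ⊓ centralizer ({F.d.a} : Set G) ↔ g ∈ F.X ∧ Commute F.d.a g := by
  rw [mem_inf, mem_centralizer_singleton_iff]
  exact and_congr Iff.rfl ⟨fun h => (Eq.symm h : _), fun h => h.symm.eq⟩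

/-- The centralizer of `a` in `X` is twice an odd subgroup of the core of `C(a)`. -/
theorem card_cen_a :
    Nat.card (F.X ⊓ centralizer ({F.d.a} : Set G) : Subgroup G) ≤
      2 * Nat.card (F.X ⊓ Om F.d.a : Subgroup G) := by
  haveI : Fact (Nat.Prime 2) := ⟨Nat.prime_two⟩
  set C := F.X ⊓ centralizer ({F.d.a} : Set G) with hC
  have hza : Commute F.d.a F.d.z := (F.z_comm_S F.d.aD).symm
  have hzC : F.d.z ∈ C := F.mem_cen_a.2 ⟨F.z_mem_X, hza⟩
  obtain ⟨P, hP⟩ := (IsPGroup.of_card (n := 1)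
    (by rw [Nat.card_zpowers, Subgroup.orderOf_mk, F.oz, pow_one]) :
      IsPGroup 2 (zpowers (⟨F.d.z, hzC⟩ : C))).exists_le_sylow
  have hzP : (⟨F.d.z, hzC⟩ : C) ∈ (P : Subgroup C) := hP (mem_zpowers _)
  have hsmall : ∀ p : C, Commute F.d.z (p : G) → (p : G) = 1 ∨ (p : G) = F.d.z := by
    intro p hp
    obtain ⟨hpX, hpa⟩ := F.mem_cen_a.1 p.2
    rcases F.self _ hp hpa with e | e | e | e
    · exact Or.inl e
    · exact Or.inr e
    · exact absurd (e ▸ hpX) F.a_not
    · refine absurd ?_ F.a_not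
      have := mul_mem (e ▸ hpX) F.z_mem_X
      rwa [mul_assoc, F.d.z_sq, mul_one] at this
  have hPle : Nat.card (P : Subgroup C) ≤ 2 := by
    haveI : Nontrivial (P : Subgroup C) :=
      ⟨⟨⟨⟨F.d.z, hzC⟩, hzP⟩, 1, fun e => F.d.z_ne (congrArg (fun x : (P : Subgroup C) => ((x : C) : G)) e)⟩⟩
    haveI := P.isPGroup'.center_nontrivial
    obtain ⟨⟨c, hc⟩, hc1⟩ := exists_ne (1 : Subgroup.center (P : Subgroup C))
    have hcz : Commute F.d.z ((c : C) : G) :=
      congrArg (fun x : (P : Subgroup C) => ((x : C) : G)) (Subgroup.mem_center_iff.1 hc ⟨_, hzP⟩)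
    rcases hsmall c hcz with e | e
    · exact absurd (Subtype.ext (Subtype.ext (Subtype.ext e))) hc1
    · have hall : ∀ p : (P : Subgroup C), Commute F.d.z ((p : C) : G) := fun p => by
        have h := congrArg (fun x : (P : Subgroup C) => ((x : C) : G)) (Subgroup.mem_center_iff.1 hc p)
        simp only [Subgroup.coe_mul, e] at h
        exact h.symm
      classical
      have hinj : Function.Injective (fun p : (P : Subgroup C) => decide (((p : C) : G) = 1)) := by
        intro p q hpq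
        have hiff : ((p : C) : G) = 1 ↔ ((q : C) : G) = 1 := by simpa using hpq
        refine Subtype.ext (Subtype.ext ?_)
        rcases hsmall p (hall p) with e1 | e1 <;> rcases hsmall q (hall q) with e2 | e2
        · exact e1.trans e2.symm
        · exact absurd (e2.symm.trans (hiff.1 e1)) F.d.z_ne
        · exact absurd (e1.symm.trans (hiff.2 e2)) F.d.z_ne
        · exact e1.trans e2.symm
      simpa using Nat.card_le_card_of_injective _ hinj
  set Y := (F.X ⊓ Om F.d.a).subgroupOf C with hY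
  have hYle : F.X ⊓ Om F.d.a ≤ C := fun g hg => F.mem_cen_a.2 ⟨hg.1, om_comm hg.2⟩
  haveI hYn : Y.Normal := by
    refine ⟨fun y hy c => ?_⟩
    rw [hY, mem_subgroupOf] at hy ⊢
    obtain ⟨hcX, hca⟩ := F.mem_cen_a.1 c.2
    obtain ⟨hy1, hy2⟩ := mem_inf.1 hy
    simp only [Subgroup.coe_mul, Subgroup.coe_inv]
    exact mem_inf.2 ⟨mul_mem (mul_mem hcX hy1) (inv_mem hcX),
      (mem_normalizer_iff.1 (om_normalized _ (mem_centralizer_singleton_iff.2 hca.eq.symm)) _).1 hy2⟩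
  have hYP : IsPGroup 2 (C ⧸ Y) := by
    intro q
    obtain ⟨c, rfl⟩ := QuotientGroup.mk_surjective q
    obtain ⟨a, m, hm, he⟩ := Nat.exists_eq_pow_mul_and_not_dvd (orderOf_pos (c : G)).ne' 2 (by norm_num)
    refine ⟨a, ?_⟩
    rw [← QuotientGroup.mk_pow, QuotientGroup.eq_one_iff, hY, mem_subgroupOf, SubmonoidClass.coe_pow]
    refine ⟨pow_mem (F.mem_cen_a.1 c.2).1 _, mem_om F.hdih F.oa ((F.mem_cen_a.1 c.2).2.pow_right _) ?_⟩
    rw [orderOf_pow' _ (pow_ne_zero _ two_ne_zero), he, Nat.gcd_eq_right (Dvd.intro m rfl),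
      Nat.mul_div_cancel_left _ (pow_pos two_pos a)]
    exact Nat.not_even_iff_odd.1 fun he' => hm (even_iff_two_dvd.1 he')
  obtain ⟨j, hj⟩ := IsPGroup.iff_card.1 hYP
  have hdiv : Y.index ∣ Nat.card (P : Subgroup C) := by
    refine (Nat.Coprime.dvd_of_dvd_mul_right (n := (P : Subgroup C).index) ?_ ?_)
    · rw [Subgroup.index, hj]
      exact Nat.Coprime.pow_left j ((Nat.Prime.coprime_iff_not_dvd Nat.prime_two).2 P.not_dvd_index)
    · rw [(P : Subgroup C).card_mul_index]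
      exact Y.index_dvd_card
  rw [← Y.card_mul_index, Nat.card_congr (subgroupOfEquivOfLe hYle).toEquiv, mul_comm 2]
  exact Nat.mul_le_mul_left _ ((Nat.le_of_dvd Nat.card_pos hdiv).trans hPle)

/-- The elements of `O` inverted by `w`. -/
def Iw : Subgroup G where
  carrier := {o | o ∈ F.O ∧ F.w * o * F.w⁻¹ = o⁻¹}
  one_mem' := ⟨one_mem _, by group⟩
  mul_mem' := fun {a b} ha hb => ⟨mul_mem ha.1 hb.1, by
    rw [← conj_mul, ha.2, hb.2, mul_inv_rev, (F.comm_O (inv_mem ha.1) (inv_mem hb.1)).eq]⟩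
  inv_mem' := fun {a} ha => ⟨inv_mem ha.1, by rw [← conj_inv, ha.2]⟩

/-- The involutions of `C_X(z)`. -/
theorem inv_decomp {g : G} (hg : g ∈ F.X) (h2 : orderOf g = 2) (hc : Commute F.d.z g) :
    ∃ o ∈ F.Iw, ∃ s ∈ F.T, g = o * s := by
  obtain ⟨o, ho, s, hs, rfl⟩ := F.decomp hc
  have hsX : s ∈ F.X := by simpa using mul_mem (inv_mem (F.O_le_X ho)) hg
  have hT : s ∈ F.T := ⟨hs, hsX⟩
  have hsq := mul_self h2
  have e : o * (s * o * s⁻¹) * (s * s) = 1 := by
    rw [← hsq]; group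
  obtain ⟨e1, e2⟩ := F.decomp_uniq (mul_mem ho (F.conj_O (F.z_comm_S hs) ho)) (one_mem _)
    (mul_mem hs hs) (one_mem _) (e.trans (one_mul 1).symm)
  refine ⟨o, ⟨ho, ?_⟩, s, hT, rfl⟩
  have hinv : s * o * s⁻¹ = o⁻¹ := eq_inv_of_mul_eq_one_right e1
  by_cases hrot : s ∈ zpowers (F.d.r * F.d.r)
  · rw [commute_iff_conj.1 (F.rot2_comm hrot ho)] at hinv
    rw [F.eq_one_of_inverted ho hinv]; group
  · obtain ⟨y, hy, rfl⟩ := F.dT.refl_cases (x := s) ⟨hT, hrot⟩
    rw [← hinv]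
    calc F.w * o * F.w⁻¹ = F.w * (y * o * y⁻¹) * F.w⁻¹ := by
          rw [commute_iff_conj.1 (F.rot2_comm hy ho)]
      _ = F.w * y * o * (F.w * y)⁻¹ := by group

/-- `X` meets the odd core of `C(a)` in more than the index of `Dc`. -/
theorem big : Nat.card F.O < Nat.card (F.X ⊓ Om F.d.a : Subgroup G) * Nat.card F.Dc := by
  classical
  by_contra hlt
  rw [not_lt] at hlt
  set X := F.X with hXdef
  let A := {g : G // ∃ x ∈ X, x * F.d.z * x⁻¹ = g}
  let B := {g : G // ∃ x ∈ X, x * F.d.a * x⁻¹ = g}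
  have hA : Nat.card A * Nat.card (centralizer ({F.d.z} : Set G) ⊓ X : Subgroup G) = Nat.card X := by
    rw [inf_comm]; exact card_orbit_mul X F.d.z
  have hB : Nat.card B * Nat.card (X ⊓ centralizer ({F.d.a} : Set G) : Subgroup G) = Nat.card X :=
    card_orbit_mul X F.d.a
  set cX := Nat.card (centralizer ({F.d.z} : Set G) ⊓ X : Subgroup G) with hcX
  set cv := Nat.card (X ⊓ centralizer ({F.d.a} : Set G) : Subgroup G) with hcv
  have hAX : ∀ g : G, (∃ x ∈ X, x * F.d.z * x⁻¹ = g) → g ∈ X ∧ orderOf g = 2 := by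
    rintro _ ⟨x, hx, rfl⟩
    exact ⟨mul_mem (mul_mem hx F.z_mem_X) (inv_mem hx), by rw [order_conj, F.oz]⟩
  have hBN : ∀ g : G, (∃ x ∈ X, x * F.d.a * x⁻¹ = g) →
      orderOf g = 2 ∧ g ∉ X ∧ (∀ o ∈ F.Dc, g * o * g⁻¹ = o⁻¹) := by
    rintro _ ⟨x, hx, rfl⟩
    have hinv : ∀ o ∈ F.Dc, x * F.d.a * x⁻¹ * o * (x * F.d.a * x⁻¹)⁻¹ = o⁻¹ := fun o ho => by
      have hc : Commute x⁻¹ o := F.mem_X.1 (inv_mem hx) o ho
      have hc' : Commute x o⁻¹ := F.mem_X.1 hx _ (inv_mem ho)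
      calc x * F.d.a * x⁻¹ * o * (x * F.d.a * x⁻¹)⁻¹
          = x * (F.d.a * (x⁻¹ * o * x) * F.d.a⁻¹) * x⁻¹ := by group
        _ = o⁻¹ := by rw [hc.eq, mul_assoc o, inv_mul_cancel, mul_one, F.a_inv ho,
            commute_iff_conj.1 hc']
    exact ⟨by rw [order_conj, F.oa], F.not_mem_of_inverts hinv, hinv⟩
  -- pairs with a common partner
  let Az := {g : A // Commute F.d.z (g : G)}
  let Bz := {g : B // Commute F.d.z (g : G)}
  let Aa := {g : A // Commute F.d.a (g : G)}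
  let Ba := {g : B // Commute F.d.a (g : G)}
  have hpairs : Nat.card A * Nat.card B ≤
      Nat.card A * (Nat.card Az * Nat.card Bz) + Nat.card B * (Nat.card Aa * Nat.card Ba) := by
    have hAinv : ∀ {x : G}, x ∈ X → ∀ g : A, ∃ x' ∈ X, x' * F.d.z * x'⁻¹ = x * (g : G) * x⁻¹ := by
      rintro x hx ⟨_, y, hy, rfl⟩
      exact ⟨x * y, mul_mem hx hy, by group⟩
    have hBinv : ∀ {x : G}, x ∈ X → ∀ g : B, ∃ x' ∈ X, x' * F.d.a * x'⁻¹ = x * (g : G) * x⁻¹ := by
      rintro x hx ⟨_, y, hy, rfl⟩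
      exact ⟨x * y, mul_mem hx hy, by group⟩
    choose xa hxa hxa' using fun t : A => t.2
    choose xb hxb hxb' using fun t : B => t.2
    let f : (A × Az × Bz) ⊕ (B × Aa × Ba) → A × B := fun s => match s with
      | Sum.inl (t, x, y) => (⟨_, hAinv (hxa t) x.1⟩, ⟨_, hBinv (hxa t) y.1⟩)
      | Sum.inr (t, x, y) => (⟨_, hAinv (hxb t) x.1⟩, ⟨_, hBinv (hxb t) y.1⟩)
    have hf : Function.Surjective f := by
      rintro ⟨⟨x, hx⟩, ⟨y, hy⟩⟩
      obtain ⟨hxX, hxo⟩ := hAX x hx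
      obtain ⟨hyo, hyX, hyi⟩ := hBN y hy
      obtain ⟨p, hp⟩ : ∃ p, p = x * y := ⟨_, rfl⟩
      have hpX : p ∉ X := fun h => hyX (by
        have := mul_mem (inv_mem hxX) h
        rwa [hp, inv_mul_cancel_left] at this)
      have hp2 : p ^ 2 ∈ X := by
        rw [pow_two, hp, show x * y * (x * y) = x * (y * x * y⁻¹) * (y * y) by group, mul_self hyo, mul_one]
        exact mul_mem hxX (F.conj_X hyi hxX)
      obtain ⟨m, hm⟩ : Even (orderOf p) := by
        by_contra hodd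
        obtain ⟨l, hl⟩ := Nat.not_even_iff_odd.1 hodd
        refine hpX ?_
        have e : p = (p ^ 2) ^ (l + 1) := by
          rw [← pow_mul, show 2 * (l + 1) = orderOf p + 1 by omega, pow_succ, pow_orderOf_eq_one, one_mul]
        rw [e]; exact pow_mem hp2 _
      obtain ⟨t, ht⟩ : ∃ t, t = p ^ m := ⟨_, rfl⟩
      have hpos := orderOf_pos p
      have ht1 : t ≠ 1 := fun e => by
        have := Nat.le_of_dvd (by omega) (orderOf_dvd_of_pow_eq_one (ht ▸ e))
        omega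
      have htt : t * t = 1 := by rw [ht, ← pow_add, ← hm, pow_orderOf_eq_one]
      have ht2 : orderOf t = 2 := order_two htt ht1
      have hflip : x * p * x⁻¹ = p⁻¹ := by
        rw [hp, mul_inv_rev, inv_self hxo, inv_self hyo, ← mul_assoc, mul_self hxo, one_mul]
      have hxt : Commute t x := by
        refine (commute_iff_conj.2 ?_ : Commute x t).symm
        rw [ht, ← conj_pow, hflip, inv_pow, ← ht, inv_self ht2]
      have hyt : Commute t y := by
        have hy' : y = x * p := by rw [hp, ← mul_assoc, mul_self hxo, one_mul]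
        rw [hy']
        exact hxt.mul_right (ht ▸ (Commute.refl p).pow_left m)
      have hpull : ∀ {c s : G}, c * s * c⁻¹ = t → ∀ g : G, Commute t g → Commute s (c⁻¹ * g * c) :=
        fun {c s} e g hg => (Commute.conj_iff c).1 (by
          rw [e, show c * (c⁻¹ * g * c) * c⁻¹ = g by group]; exact hg)
      by_cases htX : t ∈ X
      · obtain ⟨c, hc, e⟩ := (F.good_X).one_class htX ht2
        set tA : A := ⟨t, c, hc, e⟩
        obtain ⟨xA, hxA⟩ : ∃ a : A, (a : G) = (xa tA)⁻¹ * x * xa tA := by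
          obtain ⟨x', hx', e'⟩ := hAinv (inv_mem (hxa tA)) ⟨x, hx⟩
          exact ⟨⟨_, x', hx', e'⟩, by simp⟩
        obtain ⟨yB, hyB⟩ : ∃ b : B, (b : G) = (xa tA)⁻¹ * y * xa tA := by
          obtain ⟨x', hx', e'⟩ := hBinv (inv_mem (hxa tA)) ⟨y, hy⟩
          exact ⟨⟨_, x', hx', e'⟩, by simp⟩
        refine ⟨Sum.inl (tA, ⟨xA, hxA ▸ hpull (hxa' tA) x hxt⟩, ⟨yB, hyB ▸ hpull (hxa' tA) y hyt⟩), ?_⟩
        refine Prod.ext (Subtype.ext ?_) (Subtype.ext ?_)
        · simp only [f, hxA]; group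
        · simp only [f, hyB]; group
      · obtain ⟨c, hc, e⟩ := F.outer ht2 (fun o ho => by
          have hxo' : x * o * x⁻¹ = o := commute_iff_conj.1 (F.mem_X.1 hxX o ho)
          have hgn : p ∈ normalizer (F.Dc : Set G) := by
            rw [hp]
            refine mul_mem (mem_normalizer_of_conj_mem fun q hq => ?_)
              (mem_normalizer_of_conj_mem fun q hq => ?_)
            · rw [commute_iff_conj.1 (F.mem_X.1 hxX q hq)]; exact hq
            · rw [hyi q hq]; exact inv_mem hq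
          exact (mem_normalizer_iff.1 (ht ▸ pow_mem hgn m) o).1 ho) htX
        set tB : B := ⟨t, c, hc, e⟩
        obtain ⟨xA, hxA⟩ : ∃ a : A, (a : G) = (xb tB)⁻¹ * x * xb tB := by
          obtain ⟨x', hx', e'⟩ := hAinv (inv_mem (hxb tB)) ⟨x, hx⟩
          exact ⟨⟨_, x', hx', e'⟩, by simp⟩
        obtain ⟨yB, hyB⟩ : ∃ b : B, (b : G) = (xb tB)⁻¹ * y * xb tB := by
          obtain ⟨x', hx', e'⟩ := hBinv (inv_mem (hxb tB)) ⟨y, hy⟩
          exact ⟨⟨_, x', hx', e'⟩, by simp⟩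
        refine ⟨Sum.inr (tB, ⟨xA, hxA ▸ hpull (hxb' tB) x hxt⟩, ⟨yB, hyB ▸ hpull (hxb' tB) y hyt⟩), ?_⟩
        refine Prod.ext (Subtype.ext ?_) (Subtype.ext ?_)
        · simp only [f, hxA]; group
        · simp only [f, hyB]; group
    have h := Nat.card_le_card_of_surjective f hf
    rw [Nat.card_sum, Nat.card_prod, Nat.card_prod, Nat.card_prod, Nat.card_prod, Nat.card_prod] at h
    exact h
  -- the four counts
  have hAz : Nat.card Az ≤ Nat.card F.Iw * 2 ^ F.d.k := by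
    rw [← F.card_T, ← Nat.card_prod]
    have hd : ∀ g : Az, ∃ p : F.Iw × F.T, ((g : A) : G) = (p.1 : G) * p.2 := fun g => by
      obtain ⟨o, ho, s, hs, e⟩ := F.inv_decomp (hAX _ g.1.2).1 (hAX _ g.1.2).2 g.2
      exact ⟨(⟨o, ho⟩, ⟨s, hs⟩), e⟩
    choose p hp using hd
    exact Nat.card_le_card_of_injective p fun g g' e => Subtype.ext (Subtype.ext (by rw [hp g, hp g', e]))
  have hBz : Nat.card Bz ≤ cX := by
    refine Nat.card_le_card_of_injective (fun g : Bz =>
      (⟨((g : B) : G) * F.d.a, ?_⟩ : (centralizer ({F.d.z} : Set G) ⊓ X : Subgroup G)))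
      fun g g' e => Subtype.ext (Subtype.ext (mul_right_cancel (congrArg Subtype.val e)))
    refine ⟨mem_centralizer_singleton_iff.2 (g.2.mul_right (F.z_comm_S F.d.aD)).eq.symm, ?_⟩
    obtain ⟨-, hn, hi⟩ := hBN _ g.1.2
    exact (F.norm_pm fun o ho => by rw [hi o ho]; exact inv_mem ho).resolve_left hn
  have hAa : Nat.card Aa ≤ cv := by
    refine Nat.card_le_card_of_injective (fun g : Aa =>
      (⟨((g : A) : G), F.mem_cen_a.2 ⟨(hAX _ g.1.2).1, g.2⟩⟩ :
        (X ⊓ centralizer ({F.d.a} : Set G) : Subgroup G)))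
      fun g g' e => Subtype.ext (Subtype.ext (congrArg (Subtype.val (p := fun y => y ∈ _)) e))
  have hBa : Nat.card Ba ≤ cv := by
    refine Nat.card_le_card_of_injective (fun g : Ba =>
      (⟨((g : B) : G) * F.d.a, ?_⟩ : (X ⊓ centralizer ({F.d.a} : Set G) : Subgroup G)))
      fun g g' e => Subtype.ext (Subtype.ext (mul_right_cancel (congrArg Subtype.val e)))
    obtain ⟨-, hn, hi⟩ := hBN _ g.1.2
    exact F.mem_cen_a.2 ⟨(F.norm_pm fun o ho => by rw [hi o ho]; exact inv_mem ho).resolve_left hn,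
      g.2.mul_right (Commute.refl _)⟩
  have hcv2 := F.card_cen_a
  have hIw : Nat.card F.Iw * Nat.card F.Dc ≤ Nat.card F.O :=
    mul_card_le (fun o ho => ho.1) F.Dc_le fun o ho hd => F.eq_one_of_inverted ho.1 (by
      conv_lhs => rw [← commute_iff_conj.1 (F.mem_Dc.1 hd).2]
      exact ho.2)
  obtain ⟨-, hlow⟩ := (F.good_X).bounds
  have hcXv : cX = Nat.card F.O * 2 ^ F.d.k := F.card_cen_X
  set M := 2 ^ F.d.k with hM
  set n := Nat.card F.O
  set dd := Nat.card F.Dc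
  set Ya := Nat.card (X ⊓ Om F.d.a : Subgroup G)
  set xX := Nat.card X
  set iw := Nat.card F.Iw
  have hM8 : 8 ≤ M := le_trans (by norm_num) (Nat.pow_le_pow_right two_pos F.hk)
  have hx0 : 0 < xX := Nat.card_pos
  have h1 : xX ≤ cX * cv * (iw * M + cv) := by
    refine Nat.le_of_mul_le_mul_left ?_ hx0
    calc xX * xX = (Nat.card A * cX) * (Nat.card B * cv) := by rw [hA, hB]
      _ = cX * cv * (Nat.card A * Nat.card B) := by ring
      _ ≤ cX * cv * (Nat.card A * (iw * M * cX) + Nat.card B * (cv * cv)) :=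
          Nat.mul_le_mul_left _ (hpairs.trans (Nat.add_le_add
            (Nat.mul_le_mul_left _ (Nat.mul_le_mul hAz hBz)) (Nat.mul_le_mul_left _ (Nat.mul_le_mul hAa hBa))))
      _ = cX * cv * (iw * M) * (Nat.card A * cX) + cX * cv * cv * (Nat.card B * cv) := by ring
      _ = xX * (cX * cv * (iw * M + cv)) := by rw [hA, hB]; ring
  have hdv : dd * cv ≤ 2 * n := by
    calc dd * cv ≤ dd * (2 * Ya) := Nat.mul_le_mul_left _ hcv2
      _ = 2 * (Ya * dd) := by ring
      _ ≤ 2 * n := Nat.mul_le_mul_left _ hlt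
  have h2 : dd ^ 2 * xX ≤ (n * M) * (2 * n) * (n * M + 2 * n) := by
    calc dd ^ 2 * xX ≤ dd ^ 2 * (cX * cv * (iw * M + cv)) := Nat.mul_le_mul_left _ h1
      _ = cX * (dd * cv) * ((iw * dd) * M + dd * cv) := by ring
      _ ≤ cX * (2 * n) * (n * M + 2 * n) :=
          Nat.mul_le_mul (Nat.mul_le_mul_left _ hdv)
            (Nat.add_le_add (Nat.mul_le_mul_right _ hIw) hdv)
      _ = _ := by rw [hcXv]
  have h3 : (n * M) ^ 3 * ((M - 1) * (M - 2)) ≤ (n * M) ^ 3 * (4 * (M + 2)) := by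
    calc (n * M) ^ 3 * ((M - 1) * (M - 2)) ≤ 2 * dd ^ 2 * xX * M ^ 2 := hlow
      _ = 2 * M ^ 2 * (dd ^ 2 * xX) := by ring
      _ ≤ 2 * M ^ 2 * ((n * M) * (2 * n) * (n * M + 2 * n)) := Nat.mul_le_mul_left _ h2
      _ = _ := by ring
  have h4 := Nat.le_of_mul_le_mul_left h3 (pow_pos (Nat.mul_pos Nat.card_pos (by omega)) 3)
  obtain ⟨N, hN⟩ : ∃ N, M = N + 8 := ⟨M - 8, by omega⟩
  rw [hN, show N + 8 - 1 = N + 7 by omega, show N + 8 - 2 = N + 6 by omega] at h4
  nlinarith [Nat.zero_le (N * N)]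

/-- Opposite frames have commuting fixed-point groups. -/
theorem comm_opposite (F' : Frame G) (hz : F'.d.z = F.d.a)
    (hO : Nat.card F'.O = Nat.card F.O) (hD : Nat.card F'.Dc = Nat.card F.Dc) :
    ∀ o ∈ F.Dc, ∀ p ∈ F'.Dc, Commute o p := by
  obtain ⟨y, hyX, hy, hy1⟩ : ∃ y, y ∈ F.X ∧ y ∈ F'.Dc ∧ y ≠ 1 := by
    by_contra h
    push Not at h
    have := mul_card_le (K := Om F.d.a) (A := F.X ⊓ Om F.d.a) (B := F'.Dc) inf_le_right
      (hz ▸ F'.Dc_le) (fun g hg hg' => h g hg.1 hg')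
    have hO' : Nat.card (Om F.d.a) = Nat.card F.O := by rw [← hO, ← hz]; rfl
    rw [hD, hO'] at this
    exact absurd F.big (not_lt.2 this)
  intro o ho p hp
  exact F'.mem_X.1 (F'.mem_X_of_commute hy hy1 (F.mem_X.1 hyX o ho).symm) p hp

end Frame

/-- A frame from a four group `{z, a}` and an involution `u` with fixed points in the core. -/
theorem exists_frame (hd : Wong3x33.Dih G) (hone : ∀ s t : G, orderOf s = 2 → orderOf t = 2 → IsConj s t)
    (h16 : 16 ∣ Nat.card G) {z a u : G} (hz : orderOf z = 2) (ha : orderOf a = 2) (hza : a ≠ z)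
    (hca : Commute z a) (hinv : ∀ o ∈ Om z, a * o * a⁻¹ = o⁻¹)
    (hself : ∀ g : G, Commute z g → Commute a g → g = 1 ∨ g = z ∨ g = a ∨ g = a * z)
    (hu : orderOf u = 2) (huz : u ≠ z) (hcu : Commute z u)
    (hnt : ∃ o ∈ Om z, Commute u o ∧ o ≠ 1) :
    ∃ F : Frame G, F.d.z = z ∧ F.d.a = a ∧ ∀ o, o ∈ F.Dc ↔ o ∈ Om z ∧ Commute u o := by
  haveI : Fact (Nat.Prime 2) := ⟨Nat.prime_two⟩
  obtain ⟨S₁⟩ : Nonempty (Sylow 2 G) := inferInstance
  obtain ⟨n, hn, ⟨e₁⟩⟩ := hd S₁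
  obtain ⟨d₁, -⟩ := exists_dih S₁.isPGroup' hn e₁
  obtain ⟨g, hg⟩ := isConj_iff.1 (hone d₁.z z (orderOf_z d₁) hz)
  set S₂ := g • S₁ with hS₂
  have hmem₂ : ∀ y, y ∈ (S₂ : Subgroup G) → g⁻¹ * y * g ∈ (S₁ : Subgroup G) := by
    rintro y ⟨w, hw, rfl⟩
    simp [mul_assoc]
    exact hw
  have hS₂z : (S₂ : Subgroup G) ≤ centralizer ({z} : Set G) := fun y hy => by
    refine mem_centralizer_singleton_iff.2 ?_
    have h := ((Commute.conj_iff g).2 (d₁.z_comm (hmem₂ y hy))).eq.symm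
    rwa [hg, show g * (g⁻¹ * y * g) * g⁻¹ = y by group] at h
  have hzS₂ : z ∈ (S₂ : Subgroup G) := ⟨d₁.z, d₁.z_mem, by simpa using hg⟩
  have haC : a ∈ centralizer ({z} : Set G) := mem_centralizer_singleton_iff.2 hca.eq.symm
  obtain ⟨c, hc⟩ := exists_conj_le (S₂.subtype hS₂z) (IsPGroup.of_card (n := 1)
    (by rw [Nat.card_zpowers, Subgroup.orderOf_mk, ha, pow_one]) :
      IsPGroup 2 (zpowers (⟨a, haC⟩ : centralizer ({z} : Set G))))
  have hcS := hc _ (mem_zpowers _)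
  rw [Sylow.coe_subtype, mem_subgroupOf] at hcS
  simp only [Subgroup.coe_mul, Subgroup.coe_inv] at hcS
  have hcz : Commute z (c : G) := (mem_centralizer_singleton_iff.1 c.2).symm
  set S := (c : G)⁻¹ • S₂ with hSdef
  have hmemS : ∀ y, (c : G) * y * (c : G)⁻¹ ∈ (S₂ : Subgroup G) → y ∈ (S : Subgroup G) := fun y hy =>
    ⟨_, hy, by simp [mul_assoc]⟩
  have haS : a ∈ (S : Subgroup G) := hmemS a hcS
  have hzS : z ∈ (S : Subgroup G) := hmemS z (by rw [commute_iff_conj.1 hcz.symm]; exact hzS₂)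
  have hzZ : ∀ s ∈ (S : Subgroup G), s * z = z * s := by
    rintro s ⟨y, hy, rfl⟩
    have hy' : Commute z y := (mem_centralizer_singleton_iff.1 (hS₂z hy)).symm
    simpa [mul_assoc] using (((hcz.inv_right).mul_right hy').mul_right hcz).eq.symm
  obtain ⟨n', hn', ⟨eS⟩⟩ := hd S
  obtain ⟨d₀, hd₀⟩ := GWDihIndex11.exists_dih_with S hn' eS hz hzS hzZ
  have hra : d₀.Refl a := (d₀.cases_sq haS (mul_self ha) (ne_one ha)).resolve_left (hd₀ ▸ hza)
  let d : DihedralPair68.Dih (S : Subgroup G) :=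
    ⟨d₀.r, a, d₀.k, d₀.hk, d₀.rD, haS, mul_self ha, d₀.refl_conj hra (mem_zpowers _), d₀.ord,
      fun x hx => by
        by_cases hx' : x ∈ zpowers d₀.r
        · exact Or.inl hx'
        · exact Or.inr (d₀.refl_mul_refl hra ⟨hx, hx'⟩), hra.2⟩
  have hdz : d.z = z := hd₀
  have hk : 3 ≤ d.k := by
    by_contra hlt
    have hv := GWDihBounds11.dvd_card S d
    have h := (Nat.Prime.pow_dvd_iff_le_factorization Nat.prime_two (Nat.card_pos (α := G)).ne').1
      (show 2 ^ 4 ∣ Nat.card G from by norm_num; exact h16)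
    omega
  -- the involution `u` is conjugate in the centralizer of `z` to a reflection like `a * r`
  have huC : u ∈ centralizer ({z} : Set G) := mem_centralizer_singleton_iff.2 hcu.eq.symm
  have hSz : (S : Subgroup G) ≤ centralizer ({z} : Set G) := fun s hs =>
    mem_centralizer_singleton_iff.2 (hzZ s hs)
  obtain ⟨b, hb⟩ := exists_conj_le (S.subtype hSz) (IsPGroup.of_card (n := 1)
    (by rw [Nat.card_zpowers, Subgroup.orderOf_mk, hu, pow_one]) :
      IsPGroup 2 (zpowers (⟨u, huC⟩ : centralizer ({z} : Set G))))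
  have hbS := hb _ (mem_zpowers _)
  rw [Sylow.coe_subtype, mem_subgroupOf] at hbS
  simp only [Subgroup.coe_mul, Subgroup.coe_inv] at hbS
  have hbz : Commute z (b : G) := (mem_centralizer_singleton_iff.1 b.2).symm
  have hnorm : ∀ {c : G}, Commute z c → ∀ o ∈ Om z, c * o * c⁻¹ ∈ Om z := fun hc o ho =>
    (mem_normalizer_iff.1 (om_normalized z (mem_centralizer_singleton_iff.2 hc.eq.symm)) o).1 ho
  set s := (b : G) * u * (b : G)⁻¹ with hs
  have hso : orderOf s = 2 := by rw [hs, order_conj, hu]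
  have hsz : s ≠ d.z := by
    rw [hdz]
    intro e
    apply huz
    calc u = (b : G)⁻¹ * s * b := by rw [hs]; group
      _ = z := by rw [e, mul_assoc, hbz.eq, inv_mul_cancel_left]
  have hrs : d.Refl s := (d.cases_sq hbS (mul_self hso) (ne_one hso)).resolve_left hsz
  obtain ⟨y, hy, hys⟩ := d.refl_class hrs
  have hyz : Commute z y := (hzZ y hy).symm
  set cc := y * (b : G)
  have hcc : Commute z cc := hyz.mul_right hbz
  have himg : cc * u * cc⁻¹ = y * s * y⁻¹ := by simp only [cc, hs]; group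
  obtain ⟨o₀, ho₀, hou, ho1⟩ := hnt
  have hw : cc * u * cc⁻¹ = d.a * d.r := by
    rw [himg]
    refine hys.resolve_left fun e => ho1 ?_
    have h1 : Commute a (cc * o₀ * cc⁻¹) := by
      have := (Commute.conj_iff cc).2 hou
      rwa [himg, e] at this
    have h2 := hinv _ (hnorm hcc o₀ ho₀)
    rw [h1.eq, mul_inv_cancel_right] at h2
    have h3 : cc * o₀ * cc⁻¹ = 1 := eq_one_of_two
      (by rw [order_conj]; exact odd_of_mem (odd_om z) ho₀)
      (by nth_rw 1 [h2]; exact inv_mul_cancel _)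
    simpa using h3
  let F : Frame G :=
    ⟨S, d, hk, hd, hone, by rw [hdz]; exact hinv, by rw [hdz]; exact hself,
      cc * o₀ * cc⁻¹, by rw [hdz]; exact hnorm hcc o₀ ho₀, by
        rw [← hw]; exact ⟨(Commute.conj_iff cc).2 hou, by simpa using ho1⟩⟩
  refine ⟨F, hdz, rfl, fun o => ?_⟩
  have hzo : F.d.z = z := hdz
  constructor
  · intro ho
    have h' := F.cen_norm (g := cc⁻¹) (by rw [hzo]; exact hcc.inv_right) ho
    have h'' := F.cen_norm (g := cc) (by rw [hzo]; exact hcc) ho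
    have hO : o ∈ Om z := hzo ▸ F.Dc_le ho
    refine ⟨hO, ?_⟩
    have e := (F.mem_Dc.1 h'').2
    change Commute (d.a * d.r) _ at e
    rw [← hw, Commute.conj_iff] at e
    exact e
  · rintro ⟨ho, hc⟩
    have h1 : cc * o * cc⁻¹ ∈ F.Dc := F.mem_Dc.2 ⟨by
      show cc * o * cc⁻¹ ∈ Om F.d.z
      rw [hzo]; exact hnorm hcc o ho, by
      show Commute (d.a * d.r) _
      rw [← hw]; exact (Commute.conj_iff cc).2 hc⟩
    have h2 := F.cen_norm (g := cc⁻¹) (by rw [hzo]; exact hcc.inv_right) h1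
    rwa [show cc⁻¹ * (cc * o * cc⁻¹) * cc⁻¹⁻¹ = o by group] at h2

end Cfsg.Agent.Wong3DihFour27

namespace Cfsg.Agent.Wong3x33

open Subgroup
open Cfsg.Agent.GWDih33 (Om om_comm odd_om odd_of_mem order_conj mul_self ne_one order_two)
open Cfsg.Agent.Wong3DihFour27 (conj_mem_om exists_frame commute_iff_conj)

universe u

variable {G : Type u} [Group G] [Finite G] {V : Subgroup G}

/-- A four group through `z` centralises no nontrivial element of the core of `C(z)`. -/
theorem other_four (h : Core G V) (hd : Dih G) (hone : ∀ s t : G, orderOf s = 2 → orderOf t = 2 → IsConj s t)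
    (hinv : ∀ z ∈ V, ∀ v ∈ V, z ≠ 1 → v ≠ 1 → v ≠ z → ∀ o ∈ Om z, v * o * v⁻¹ = o⁻¹)
    {z u : G} (hz : z ∈ V) (hz1 : z ≠ 1) (hu : orderOf u = 2) (huz : u ≠ z) (hc : Commute z u) :
    ∀ o ∈ Om z, Commute u o → o = 1 := by
  classical
  by_contra hcon
  push Not at hcon
  obtain ⟨o₀, ho₀, hou₀, ho1⟩ := hcon
  have hord : ∀ t ∈ V, t ≠ 1 → orderOf t = 2 := fun t ht ht1 => order_two (h.exp_two t ht) ht1
  have hcomm : ∀ s ∈ V, ∀ t ∈ V, Commute s t := fun s hs t ht => by
    have e := h.exp_two _ (mul_mem hs ht)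
    have h1 : s * t = t⁻¹ * s⁻¹ := by rw [← mul_inv_rev]; exact eq_inv_of_mul_eq_one_right e
    rwa [inv_eq_of_mul_eq_one_right (h.exp_two s hs), inv_eq_of_mul_eq_one_right (h.exp_two t ht)] at h1
  have hfour : ∀ s ∈ V, ∀ t ∈ V, s ≠ 1 → t ≠ 1 → t ≠ s → ∀ g ∈ V,
      g = 1 ∨ g = s ∨ g = t ∨ g = t * s := by
    intro s hs t ht hs1 ht1 hts g hg
    by_contra hne
    push Not at hne
    obtain ⟨n1, n2, n3, n4⟩ := hne
    have n5 : t * s ≠ 1 := fun e => hts (by
      have e' := eq_inv_of_mul_eq_one_left e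
      rwa [inv_eq_of_mul_eq_one_right (h.exp_two s hs)] at e')
    have n6 : t * s ≠ s := fun e => ht1 (mul_eq_right.1 e)
    have n7 : t * s ≠ t := fun e => hs1 (mul_eq_left.1 e)
    have hsub : ({1, s, t, t * s, g} : Set G) ⊆ (V : Set G) := by
      intro y hy
      simp only [Set.mem_insert_iff, Set.mem_singleton_iff] at hy
      rcases hy with rfl | rfl | rfl | rfl | rfl
      exacts [one_mem V, hs, ht, mul_mem ht hs, hg]
    have h5 : ({1, s, t, t * s, g} : Set G).ncard = 5 := by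
      rw [Set.ncard_insert_of_notMem, Set.ncard_insert_of_notMem, Set.ncard_insert_of_notMem,
        Set.ncard_pair n4.symm]
      · simp [n7.symm, n3.symm]
      · simp [hts.symm, n6.symm, n2.symm]
      · simp [hs1.symm, ht1.symm, n5.symm, n1.symm]
    have h6 := Set.ncard_le_ncard hsub
    rw [h5, ← Nat.card_coe_set_eq, SetLike.coe_sort_coe, h.card_four] at h6
    omega
  have hself : ∀ s ∈ V, ∀ t ∈ V, s ≠ 1 → t ≠ 1 → t ≠ s → ∀ g : G, Commute s g → Commute t g →
      g = 1 ∨ g = s ∨ g = t ∨ g = t * s := by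
    intro s hs t ht hs1 ht1 hts g hsg htg
    refine hfour s hs t ht hs1 ht1 hts g ?_
    have hmem : g ∈ centralizer (V : Set G) := by
      refine mem_centralizer_iff.2 fun v hv => ?_
      rcases hfour s hs t ht hs1 ht1 hts v hv with rfl | rfl | rfl | rfl
      exacts [(Commute.one_left g).eq, hsg.eq, htg.eq, (htg.mul_left hsg).eq]
    rwa [h.self_cent] at hmem
  -- frames at each involution of `V`
  have key : ∀ t ∈ V, t ≠ 1 → ∀ a ∈ V, a ≠ 1 → a ≠ t → ∀ g : G, g * z * g⁻¹ = t →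
      ∃ F : Wong3DihFour27.Frame G, F.d.z = t ∧ F.d.a = a ∧
        ∀ o, o ∈ F.Dc ↔ g⁻¹ * o * g ∈ Om z ∧ Commute u (g⁻¹ * o * g) := by
    intro t ht ht1 a ha ha1 hat g hg
    have hco : ∀ o, g * (g⁻¹ * o * g) * g⁻¹ = o := fun o => by group
    obtain ⟨F, h1, h2, h3⟩ := exists_frame (u := g * u * g⁻¹) hd hone h.sixteen (hord t ht ht1)
      (hord a ha ha1) hat (hcomm t ht a ha) (hinv t ht a ha ht1 ha1 hat)
      (hself t ht a ha ht1 ha1 hat) (by rw [order_conj, hu])
      (fun e => huz (by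
        rw [← hg] at e
        exact mul_left_cancel (mul_right_cancel e)))
      (by rw [← hg]; exact (Commute.conj_iff g).2 hc)
      ⟨g * o₀ * g⁻¹, hg ▸ conj_mem_om hd (hord z hz hz1) g ho₀, (Commute.conj_iff g).2 hou₀,
        by simpa using ho1⟩
    refine ⟨F, h1, h2, fun o => (h3 o).trans (and_congr ⟨fun ho => ?_, fun ho => ?_⟩ ?_)⟩
    · have h4 := conj_mem_om hd (hord t ht ht1) g⁻¹ ho
      rwa [inv_inv, ← hg, show g⁻¹ * (g * z * g⁻¹) * g = z by group] at h4
    · have h4 := conj_mem_om hd (hord z hz hz1) g ho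
      rwa [hco, hg] at h4
    · conv_lhs => rw [← hco o]
      exact Commute.conj_iff g
  -- the union of the three conjugates
  set U : Set G := {o | ∃ g : G, g * z * g⁻¹ ∈ V ∧ g⁻¹ * o * g ∈ Om z ∧ Commute u (g⁻¹ * o * g)}
    with hU
  have hUmem : ∀ o ∈ U, ∃ t ∈ V, t ≠ 1 ∧ o ∈ Om t := by
    rintro o ⟨g, hg, ho, -⟩
    refine ⟨_, hg, by simpa using hz1, ?_⟩
    have h4 := conj_mem_om hd (hord z hz hz1) g ho
    rwa [show g * (g⁻¹ * o * g) * g⁻¹ = o by group] at h4
  have hUcomm : ∀ o ∈ U, ∀ p ∈ U, Commute o p := by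
    rintro o ⟨g, hg, hoO, hou⟩ p ⟨g', hg', hpO, hpu⟩
    have ht1 : g * z * g⁻¹ ≠ 1 := by simpa using hz1
    have ht1' : g' * z * g'⁻¹ ≠ 1 := by simpa using hz1
    by_cases he : g' * z * g'⁻¹ = g * z * g⁻¹
    · have h1 := conj_mem_om hd (hord z hz hz1) g hoO
      have h2 := conj_mem_om hd (hord z hz hz1) g' hpO
      rw [show g * (g⁻¹ * o * g) * g⁻¹ = o by group] at h1
      rw [show g' * (g'⁻¹ * p * g') * g'⁻¹ = p by group, he] at h2
      obtain ⟨a, ha, ha1, hat⟩ : ∃ a ∈ V, a ≠ 1 ∧ a ≠ g * z * g⁻¹ := by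
        by_contra hno
        push Not at hno
        have hle : (V : Set G) ⊆ {1, g * z * g⁻¹} := fun v hv => by
          by_cases hv1 : v = 1
          · exact Or.inl hv1
          · exact Or.inr (hno v hv hv1)
        have h5 := (Set.ncard_le_ncard hle).trans (Set.ncard_insert_le _ _)
        rw [← Nat.card_coe_set_eq, SetLike.coe_sort_coe, h.card_four, Set.ncard_singleton] at h5
        omega
      obtain ⟨F, hFz, -, -⟩ := key _ hg ht1 a ha ha1 hat g rfl
      exact F.comm_O (show o ∈ Om F.d.z by rw [hFz]; exact h1) (show p ∈ Om F.d.z by rw [hFz]; exact h2)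
    · obtain ⟨F, hFz, hFa, hFD⟩ := key _ hg ht1 _ hg' ht1' he g rfl
      obtain ⟨F', hF'z, -, hF'D⟩ := key _ hg' ht1' _ hg ht1 (Ne.symm he) g' rfl
      have hbij : ∀ (K K' : Subgroup G) (c : G), (∀ x, x ∈ K' ↔ c⁻¹ * x * c ∈ K) →
          Nat.card K' = Nat.card K := fun K K' c hK => Nat.card_congr
        ⟨fun x => ⟨_, (hK x).1 x.2⟩, fun x => ⟨c * x * c⁻¹, (hK _).2 (by simpa [mul_assoc] using x.2)⟩,
          fun x => Subtype.ext (by simp [mul_assoc]), fun x => Subtype.ext (by simp [mul_assoc])⟩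
      refine F.comm_opposite F' (hF'z.trans hFa.symm) (hbij _ _ (g' * g⁻¹) fun x => ?_)
        (hbij _ _ (g' * g⁻¹) fun x => ?_) o ((hFD o).2 ⟨hoO, hou⟩) p ((hF'D p).2 ⟨hpO, hpu⟩)
      · show x ∈ Om F'.d.z ↔ (g' * g⁻¹)⁻¹ * x * (g' * g⁻¹) ∈ Om F.d.z
        rw [hF'z, hFz]
        constructor
        · intro hx
          have h4 := conj_mem_om hd (hord _ hg' ht1') (g' * g⁻¹)⁻¹ hx
          rwa [inv_inv, show (g' * g⁻¹)⁻¹ * (g' * z * g'⁻¹) * (g' * g⁻¹) = g * z * g⁻¹ by group] at h4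
        · intro hx
          have h4 := conj_mem_om hd (hord _ hg ht1) (g' * g⁻¹) hx
          rwa [show g' * g⁻¹ * (g * z * g⁻¹) * (g' * g⁻¹)⁻¹ = g' * z * g'⁻¹ by group,
            show g' * g⁻¹ * ((g' * g⁻¹)⁻¹ * x * (g' * g⁻¹)) * (g' * g⁻¹)⁻¹ = x by group] at h4
      · rw [hF'D, hFD, show g⁻¹ * ((g' * g⁻¹)⁻¹ * x * (g' * g⁻¹)) * g = g'⁻¹ * x * g' by group]
  have hUodd : ∀ x ∈ closure U, Odd (orderOf x) := by
    have hUc : ∀ x ∈ closure U, ∀ y ∈ closure U, Commute x y := by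
      have h1 : U ⊆ (centralizer U : Subgroup G) := fun o ho =>
        mem_centralizer_iff.2 fun p hp => (hUcomm p hp o ho).eq
      have h2 : closure U ≤ centralizer U := (closure_le _).2 h1
      intro x hx y hy
      have h3 : closure U ≤ centralizer {x} := (closure_le _).2 fun p hp =>
        mem_centralizer_singleton_iff.2 (mem_centralizer_iff.1 (h2 hx) p hp)
      exact (mem_centralizer_singleton_iff.1 (h3 hy) : Commute y x).symm
    intro x hx
    induction hx using closure_induction with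
    | mem x hx =>
      obtain ⟨t, -, -, hxt⟩ := hUmem x hx
      exact odd_of_mem (odd_om t) hxt
    | one => simp
    | mul x y hx hy ihx ihy => exact (ihx.mul ihy).of_dvd_nat (hUc x hx y hy).orderOf_mul_dvd_mul_orderOf
    | inv x _ ih => simpa using ih
  have hodd : Odd (Nat.card (closure U)) := by
    haveI : Fact (Nat.Prime 2) := ⟨Nat.prime_two⟩
    refine Nat.not_even_iff_odd.1 fun he => ?_
    obtain ⟨x, hx⟩ := exists_prime_orderOf_dvd_card' 2 (even_iff_two_dvd.1 he)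
    have h1 := hUodd x x.2
    rw [Subgroup.orderOf_coe, hx] at h1
    exact absurd h1 (by decide)
  have hnorm : normalizer (V : Set G) ≤ normalizer ((closure U : Subgroup G) : Set G) := by
    intro n hn
    refine ProductFusion68.mem_normalizer_of_conj_mem fun x hx => ?_
    induction hx using closure_induction with
    | mem x hx =>
      obtain ⟨g, hg, h1, h2⟩ := hx
      refine subset_closure ⟨n * g, ?_, ?_, ?_⟩
      · rw [show n * g * z * (n * g)⁻¹ = n * (g * z * g⁻¹) * n⁻¹ by group]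
        exact (mem_normalizer_iff.1 hn _).1 hg
      all_goals rw [show (n * g)⁻¹ * (n * x * n⁻¹) * (n * g) = g⁻¹ * x * g by group]
      exacts [h1, h2]
    | one => simp
    | mul x y _ _ ihx ihy => rw [← conj_mul]; exact mul_mem ihx ihy
    | inv x _ ih => rw [← conj_inv]; exact inv_mem ih
  have hbot := h.star U hUmem hodd hnorm
  have hmem : o₀ ∈ closure U := subset_closure ⟨1, by simpa using hz, by simpa using ho₀,
    by simpa using hou₀⟩
  rw [hbot, mem_bot] at hmem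
  exact ho1 hmem

end Cfsg.Agent.Wong3x33
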