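import Cfsg.Agent.Lib.Wong3Setup33
import Cfsg.Agent.Lib.GWDihHypL27
import Cfsg.Agent.Lib.Wong3DihFour27

/-!
The dihedral case of S3686: one class of involutions, inversion of the cores by the four-group, and
the hypothesis of the generalized dihedral core, given that the further involutions of the
centraliser act on the cores without fixed points.
-/

set_option autoImplicit false
set_option linter.unusedSectionVars false

namespace Cfsg.Agent.Wong3x33

open Subgroup
open Cfsg.Agent.GWDih33 (Om)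

universe u

variable {G : Type u} [Group G] [Finite G] {V : Subgroup G}

theorem one_class_dih (h : Core G V) (hd : Dih G) :
    ∀ s t : G, orderOf s = 2 → orderOf t = 2 → IsConj s t := by
  haveI := h.simple
  haveI : Fact (Nat.Prime 2) := ⟨Nat.prime_two⟩
  obtain ⟨S⟩ : Nonempty (Sylow 2 G) := inferInstance
  obtain ⟨n, hn, ⟨eS⟩⟩ := hd S
  obtain ⟨d, -⟩ := DihedralPair68.exists_dih S.2 hn eS
  exact GWDihHypL27.one_class S d h.nonab

theorem inverts_core (h : Core G V) (_hd : Dih G) : ∀ z ∈ V, ∀ v ∈ V, z ≠ 1 → v ≠ 1 → v ≠ z →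
    ∀ o ∈ Om z, v * o * v⁻¹ = o⁻¹ := by
  intro z hz v hv hz1 hv1 hvz
  have hV : V ≤ centralizer (V : Set G) := h.self_cent.ge
  have hvzc : Commute v z := ((mem_centralizer_iff.1 (hV hv)) z hz).symm
  have hvC : v ∈ centralizer ({z} : Set G) := mem_centralizer_singleton_iff.2 hvzc.eq
  refine GWDihHypL27.invert_of_fpf (h.exp_two v hv)
    (fun c hc => (mem_normalizer_iff.1 (GWDih33.om_normalized z hvC) c).1 hc) fun c hc hvc => ?_
  have hcV : c ∈ V := by
    rw [← h.self_cent]
    have hzz := h.exp_two z hz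
    have hvv := h.exp_two v hv
    classical
    have hcase : ∀ w ∈ V, w = 1 ∨ w = z ∨ w = v ∨ w = z * v := by
      intro w hw
      have hzv1 : z * v ≠ 1 := fun e => hvz (mul_left_cancel (e.trans hzz.symm))
      have hs : ({1, z, v, z * v} : Finset G).card = 4 := by
        simp [hz1.symm, hv1.symm, hzv1.symm, hvz.symm, hv1, hz1]
      have hsub : (({1, z, v, z * v} : Finset G) : Set G) = (V : Set G) := by
        refine Set.eq_of_subset_of_ncard_le ?_ ?_ (Set.toFinite _)
        · simp [Set.insert_subset_iff, hz, hv, mul_mem hz hv]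
        · rw [Set.ncard_coe_finset, hs, ← Nat.card_coe_set_eq]
          exact h.card_four.le
      have hw' : w ∈ (({1, z, v, z * v} : Finset G) : Set G) := hsub.symm ▸ hw
      simpa using hw'
    refine mem_centralizer_iff.2 fun w hw => ?_
    rcases hcase w hw with rfl | rfl | rfl | rfl
    · rw [one_mul, mul_one]
    · exact (GWDih33.om_comm hc).eq
    · exact hvc.eq
    · exact ((GWDih33.om_comm hc).mul_left hvc).eq
  exact GWDih33.eq_one_of_two (GWDih33.odd_of_mem (GWDih33.odd_om z) hc) (h.exp_two c hcV)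

/-- In a group with dihedral Sylow 2-subgroups the odd elements centralising an involution lie in the core. -/
theorem mem_om_dih (hd : Dih G) {t : G} (ht : orderOf t = 2) {g : G} (hg : Commute t g)
    (hodd : Odd (orderOf g)) : g ∈ Om t := by
  haveI : Fact (Nat.Prime 2) := ⟨Nat.prime_two⟩
  obtain ⟨S⟩ : Nonempty (Sylow 2 G) := inferInstance
  obtain ⟨n, hn, hS⟩ := hd S
  obtain ⟨N, hN, hNodd, k, hk⟩ := Cfsg.Agent.S0514.result S n hn hS t ht
  haveI := hN
  have hgC : g ∈ centralizer ({t} : Set G) := mem_centralizer_singleton_iff.2 hg.symm.eq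
  refine ⟨⟨g, hgC⟩, HallCore.le_pPrimeCore (Nat.coprime_two_right.2 hNodd) ?_, rfl⟩
  rw [← QuotientGroup.eq_one_iff, ← orderOf_eq_one_iff]
  refine Nat.eq_one_of_dvd_coprimes (Nat.Coprime.pow_left k (Nat.coprime_two_left.2 hodd))
    (hk ▸ ?_) ?_
  · exact orderOf_dvd_natCard (QuotientGroup.mk (⟨g, hgC⟩ : centralizer ({t} : Set G)) : _ ⧸ N)
  · refine (orderOf_map_dvd (QuotientGroup.mk' N) (⟨g, hgC⟩ : centralizer ({t} : Set G))).trans ?_
    rw [orderOf_mk]

/-- The hypothesis of the generalized dihedral core, given fixed-point-freeness on the cores. -/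
theorem hyp_of_four (h : Core G V) (hd : Dih G)
    (hfour : ∀ z ∈ V, z ≠ 1 → ∀ u, orderOf u = 2 → u ≠ z → Commute z u →
      ∀ o ∈ Om z, Commute u o → o = 1) : GWDih33.Hyp G := by
  refine ⟨h.simple, h.nonab, hd, one_class_dih h hd, fun t u ht hu hne hc g hg hgc => ?_⟩
  have hVb : V ≠ ⊥ := fun e => by simpa [e] using h.card_four
  obtain ⟨z, hz, hz1⟩ := V.bot_or_exists_ne_one.resolve_left hVb
  have hzo : orderOf z = 2 := GWDih33.order_two (h.exp_two z hz) hz1
  obtain ⟨l, hl⟩ := isConj_iff.1 (one_class_dih h hd t z ht hzo)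
  have hu' : orderOf (l * u * l⁻¹) = 2 := by rw [GWDih33.order_conj]; exact hu
  have hne' : l * u * l⁻¹ ≠ z := fun e => hne (by
    rw [← hl] at e
    exact mul_left_cancel (mul_right_cancel e))
  have hc' : Commute z (l * u * l⁻¹) := hl ▸ (Commute.conj_iff l).2 hc
  have hg' : l * g * l⁻¹ ∈ Om z := mem_om_dih hd hzo (hl ▸ (Commute.conj_iff l).2 hgc)
    (by rw [GWDih33.order_conj]; exact hg)
  have huC : l * u * l⁻¹ ∈ centralizer ({z} : Set G) := mem_centralizer_singleton_iff.2 hc'.eq.symm
  have key := GWDihHypL27.invert_of_fpf (GWDih33.mul_self hu')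
    (fun c hc => (mem_normalizer_iff.1 (GWDih33.om_normalized z huC) c).1 hc)
    (fun c hc hcu => hfour z hz hz1 _ hu' hne' hc' c hc hcu) _ hg'
  have h' : l * (u * g * u⁻¹) * l⁻¹ = l * g⁻¹ * l⁻¹ := by
    calc l * (u * g * u⁻¹) * l⁻¹ = l * u * l⁻¹ * (l * g * l⁻¹) * (l * u * l⁻¹)⁻¹ := by group
      _ = (l * g * l⁻¹)⁻¹ := key
      _ = l * g⁻¹ * l⁻¹ := by group
  exact mul_left_cancel (mul_right_cancel h')

/-- The dihedral case satisfies the hypothesis of the generalized dihedral core. -/
theorem hyp_of_dih (h : Core G V) (hd : Dih G) : GWDih33.Hyp G :=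
  hyp_of_four h hd fun _ hz hz1 _ hu huz hc =>
    other_four h hd (one_class_dih h hd) (inverts_core h hd) hz hz1 hu huz hc

end Cfsg.Agent.Wong3x33
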