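import Cfsg.Agent.Lib.Wong3Setup33
import Cfsg.Agent.Lib.GWDihHypL27

/-!
For S3686, dihedral case: a four group `⟨z, a⟩` that is its own centralizer, `a` inverting the odd
core `O` of `C(z)`, and a reflection `w = a r` of a Sylow 2-subgroup with `D = C_O(w)` nontrivial.
Structure of `C(z)`, of the centralizer `X` of `D` and of the normalizer of `D`.
-/

set_option autoImplicit false
set_option linter.style.haveILetI false
set_option linter.unusedSectionVars false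

namespace Cfsg.Agent.Wong3DihFour27

open Subgroup Cfsg.Agent.DihedralPair68
open Cfsg.Agent.GWDih33 (Om om_le om_comm odd_om om_normalized odd_of_mem eq_one_of_two order_two
  order_conj mul_self ne_one inv_self)
open Cfsg.Agent.GWDihBounds11 (orderOf_refl orderOf_z refl_ne_z card_dih)
open Cfsg.Agent.ProductFusion68 (exists_conj_le inv_of_sq)

universe u

variable {G : Type u} [Group G] [Finite G]

/-- Odd elements commuting with an involution lie in the core of its centralizer. -/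
theorem mem_om (hd : Wong3x33.Dih G) {t : G} (ht : orderOf t = 2) {g : G} (hg : Commute t g)
    (hodd : Odd (orderOf g)) : g ∈ Om t := by
  haveI : Fact (Nat.Prime 2) := ⟨Nat.prime_two⟩
  obtain ⟨S⟩ : Nonempty (Sylow 2 G) := inferInstance
  obtain ⟨n, hn, hS⟩ := hd S
  obtain ⟨N, hN, hNodd, k, hk⟩ := Cfsg.Agent.S0514.result S n hn hS t ht
  haveI := hN
  have hgC : g ∈ centralizer ({t} : Set G) := mem_centralizer_singleton_iff.2 hg.symm.eq
  refine ⟨⟨g, hgC⟩, HallCore.le_pPrimeCore (Nat.coprime_two_right.2 hNodd) ?_, rfl⟩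
  rw [← QuotientGroup.eq_one_iff, ← orderOf_eq_one_iff]
  refine Nat.eq_one_of_dvd_coprimes (Nat.Coprime.pow_left k (Nat.coprime_two_left.2 hodd))
    (hk ▸ ?_) ?_
  · exact orderOf_dvd_natCard (QuotientGroup.mk (⟨g, hgC⟩ : centralizer ({t} : Set G)) : _ ⧸ N)
  · refine (orderOf_map_dvd (QuotientGroup.mk' N) (⟨g, hgC⟩ : centralizer ({t} : Set G))).trans ?_
    rw [orderOf_mk]

theorem conj_mem_om (hd : Wong3x33.Dih G) {t : G} (ht : orderOf t = 2) (g : G) {x : G}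
    (hx : x ∈ Om t) : g * x * g⁻¹ ∈ Om (g * t * g⁻¹) :=
  mem_om hd (by rw [order_conj]; exact ht) ((Commute.conj_iff g).2 (om_comm hx))
    (by rw [order_conj]; exact odd_of_mem (odd_om t) hx)

theorem commute_iff_conj {a b : G} : Commute a b ↔ a * b * a⁻¹ = b := by
  rw [commute_iff_eq, mul_inv_eq_iff_eq_mul]

/-- The frame. -/
structure Frame (G : Type u) [Group G] where
  S : Sylow 2 G
  d : DihedralPair68.Dih (S : Subgroup G)
  hk : 3 ≤ d.k
  hdih : Wong3x33.Dih G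
  one : ∀ s t : G, orderOf s = 2 → orderOf t = 2 → IsConj s t
  inv : ∀ o ∈ Om d.z, d.a * o * d.a⁻¹ = o⁻¹
  self : ∀ g : G, Commute d.z g → Commute d.a g → g = 1 ∨ g = d.z ∨ g = d.a ∨ g = d.a * d.z
  nt : ∃ o ∈ Om d.z, Commute (d.a * d.r) o ∧ o ≠ 1

namespace Frame

variable (F : Frame G)

/-- The odd core. -/
def O : Subgroup G := Om F.d.z
/-- The reflection not conjugate to `a` in the Sylow subgroup. -/
def w : G := F.d.a * F.d.r
/-- The fixed points of `w`. -/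
def Dc : Subgroup G := F.O ⊓ centralizer ({F.w} : Set G)
/-- The centralizer of `Dc`. -/
def X : Subgroup G := centralizer (F.Dc : Set G)

theorem oz : orderOf F.d.z = 2 := orderOf_z F.d

theorem oa : orderOf F.d.a = 2 := orderOf_refl F.d F.d.refl_a

theorem refl_w : F.d.Refl F.w := F.d.refl_ar

theorem ow : orderOf F.w = 2 := orderOf_refl F.d F.refl_w

theorem mem_O {g : G} : g ∈ F.O ↔ Commute F.d.z g ∧ Odd (orderOf g) :=
  ⟨fun h => ⟨om_comm h, odd_of_mem (odd_om _) h⟩, fun h => mem_om F.hdih F.oz h.1 h.2⟩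

theorem odd_O : Odd (Nat.card F.O) := odd_om _

theorem eq_one_of_inverted {o : G} (ho : o ∈ F.O) (h : o = o⁻¹) : o = 1 :=
  eq_one_of_two (odd_of_mem F.odd_O ho) (by nth_rw 1 [h]; exact inv_mul_cancel o)

theorem conj_O {c o : G} (hc : Commute F.d.z c) (ho : o ∈ F.O) : c * o * c⁻¹ ∈ F.O :=
  (mem_normalizer_iff.1 (om_normalized _ (mem_centralizer_singleton_iff.2 hc.eq.symm)) o).1 ho

theorem comm_O {o p : G} (ho : o ∈ F.O) (hp : p ∈ F.O) : Commute o p := by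
  have e := F.inv _ (mul_mem ho hp)
  rw [← conj_mul, F.inv o ho, F.inv p hp, ← mul_inv_rev, inv_inj] at e
  exact e.symm

theorem z_comm_S {s : G} (hs : s ∈ (F.S : Subgroup G)) : Commute F.d.z s := F.d.z_comm hs

theorem rr_comm {o : G} (ho : o ∈ F.O) : Commute (F.d.r * F.d.r) o :=
  GWDihHypL27.sq_commute F.inv F.d.a2 F.d.conj ho (F.conj_O (F.z_comm_S F.d.rD) ho)

theorem rot2_comm {y o : G} (hy : y ∈ zpowers (F.d.r * F.d.r)) (ho : o ∈ F.O) : Commute y o := by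
  obtain ⟨i, rfl⟩ := hy
  exact (F.rr_comm ho).zpow_left i

theorem mem_Dc {g : G} : g ∈ F.Dc ↔ g ∈ F.O ∧ Commute F.w g := by
  rw [Dc, mem_inf, mem_centralizer_singleton_iff]
  exact and_congr Iff.rfl ⟨fun h => (Eq.symm h : _), fun h => h.symm.eq⟩

theorem Dc_le : F.Dc ≤ F.O := inf_le_left

theorem exists_ne_one : ∃ o ∈ F.Dc, o ≠ 1 := by
  obtain ⟨o, ho, hc, h1⟩ := F.nt
  exact ⟨o, F.mem_Dc.2 ⟨ho, hc⟩, h1⟩

theorem odd_Dc {o : G} (ho : o ∈ F.Dc) : Odd (orderOf o) := odd_of_mem F.odd_O (F.Dc_le ho)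

theorem mem_X {g : G} : g ∈ F.X ↔ ∀ o ∈ F.Dc, Commute g o := by
  rw [X, mem_centralizer_iff]
  exact ⟨fun h o ho => (h o ho).symm, fun h o ho => (h o ho).symm⟩

theorem O_le_X : F.O ≤ F.X := fun _ ho => F.mem_X.2 fun _ hp => F.comm_O ho (F.Dc_le hp)

theorem a_inv {o : G} (ho : o ∈ F.Dc) : F.d.a * o * F.d.a⁻¹ = o⁻¹ := F.inv o (F.Dc_le ho)

theorem r_inv {o : G} (ho : o ∈ F.Dc) : F.d.r * o * F.d.r⁻¹ = o⁻¹ := by
  have h1 : F.w * o * F.w⁻¹ = o := commute_iff_conj.1 (F.mem_Dc.1 ho).2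
  have h2 : F.d.r = F.d.a * F.w := by rw [w, ← mul_assoc, F.d.a2, one_mul]
  rw [h2]
  calc F.d.a * F.w * o * (F.d.a * F.w)⁻¹ = F.d.a * (F.w * o * F.w⁻¹) * F.d.a⁻¹ := by group
    _ = o⁻¹ := by rw [h1, F.a_inv ho]

/-- The elements of the Sylow subgroup by their action. -/
theorem S_cases {s : G} (hs : s ∈ (F.S : Subgroup G)) :
    (s ∈ zpowers (F.d.r * F.d.r)) ∨ (∃ y ∈ zpowers (F.d.r * F.d.r), s = F.w * y) ∨
    (∃ y ∈ zpowers (F.d.r * F.d.r), s = F.d.r * y) ∨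
    (∃ y ∈ zpowers (F.d.r * F.d.r), s = F.d.a * y) := by
  have e : ∀ l : ℤ, F.d.r ^ (2 * l) = (F.d.r * F.d.r) ^ l := fun l => by rw [zpow_mul, zpow_two]
  rcases F.d.cases s hs with ⟨i, hi⟩ | ⟨i, hi⟩
  · have hi' : F.d.r ^ i = s := hi
    rcases Int.even_or_odd' i with ⟨l, rfl | rfl⟩
    · exact Or.inl ⟨l, by show (F.d.r * F.d.r) ^ l = s; rw [← e, hi']⟩
    · exact Or.inr (Or.inr (Or.inl ⟨_, zpow_mem_zpowers _ l, by
        rw [← hi', add_comm, zpow_add, zpow_one, e]⟩))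
  · have hi' : F.d.r ^ i = F.d.a * s := hi
    have hs' : s = F.d.a * F.d.r ^ i := by rw [hi', ← mul_assoc, F.d.a2, one_mul]
    rcases Int.even_or_odd' i with ⟨l, rfl | rfl⟩
    · exact Or.inr (Or.inr (Or.inr ⟨_, zpow_mem_zpowers _ l, by rw [hs', e]⟩))
    · exact Or.inr (Or.inl ⟨_, zpow_mem_zpowers _ l, by
        rw [hs', add_comm, zpow_add, zpow_one, e, w, mul_assoc]⟩)

theorem w_mem_X : F.w ∈ F.X := F.mem_X.2 fun _ ho => (F.mem_Dc.1 ho).2

theorem rot2_mem_X {y : G} (hy : y ∈ zpowers (F.d.r * F.d.r)) : y ∈ F.X :=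
  F.mem_X.2 fun _ ho => F.rot2_comm hy (F.Dc_le ho)

theorem z_mem_X : F.d.z ∈ F.X := F.mem_X.2 fun _ ho => om_comm (F.Dc_le ho)

theorem not_mem_of_inverts {g : G} (h : ∀ o ∈ F.Dc, g * o * g⁻¹ = o⁻¹) : g ∉ F.X := by
  intro hg
  obtain ⟨o, ho, h1⟩ := F.exists_ne_one
  refine h1 (F.eq_one_of_inverted (F.Dc_le ho) ?_)
  rw [← h o ho, commute_iff_conj.1 (F.mem_X.1 hg o ho)]

/-- Each element of the Sylow subgroup fixes or inverts `Dc`. -/
theorem S_pm {s : G} (hs : s ∈ (F.S : Subgroup G)) :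
    s ∈ F.X ∨ ∀ o ∈ F.Dc, s * o * s⁻¹ = o⁻¹ := by
  rcases F.S_cases hs with h | ⟨y, hy, rfl⟩ | ⟨y, hy, rfl⟩ | ⟨y, hy, rfl⟩
  · exact Or.inl (F.rot2_mem_X h)
  · exact Or.inl (mul_mem F.w_mem_X (F.rot2_mem_X hy))
  · refine Or.inr fun o ho => ?_
    calc F.d.r * y * o * (F.d.r * y)⁻¹ = F.d.r * (y * o * y⁻¹) * F.d.r⁻¹ := by group
      _ = o⁻¹ := by rw [commute_iff_conj.1 (F.rot2_comm hy (F.Dc_le ho)), F.r_inv ho]
  · refine Or.inr fun o ho => ?_
    calc F.d.a * y * o * (F.d.a * y)⁻¹ = F.d.a * (y * o * y⁻¹) * F.d.a⁻¹ := by group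
      _ = o⁻¹ := by rw [commute_iff_conj.1 (F.rot2_comm hy (F.Dc_le ho)), F.a_inv ho]

theorem r_not : F.d.r ∉ F.X := F.not_mem_of_inverts fun _ ho => F.r_inv ho

theorem a_not : F.d.a ∉ F.X := F.not_mem_of_inverts fun _ ho => F.a_inv ho

theorem o_inter_S {o : G} (ho : o ∈ F.O) (hs : o ∈ (F.S : Subgroup G)) : o = 1 := by
  obtain ⟨n, hn⟩ := F.S.isPGroup' ⟨o, hs⟩
  have h1 : orderOf o ∣ 2 ^ n := orderOf_dvd_of_pow_eq_one (by simpa using congrArg Subtype.val hn)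
  exact orderOf_eq_one_iff.1 (Nat.eq_one_of_dvd_coprimes
    (Nat.Coprime.pow_left n (Nat.coprime_two_left.2 (odd_of_mem F.odd_O ho))) h1 dvd_rfl)

theorem decomp_uniq {o o' s s' : G} (ho : o ∈ F.O) (ho' : o' ∈ F.O) (hs : s ∈ (F.S : Subgroup G))
    (hs' : s' ∈ (F.S : Subgroup G)) (h : o * s = o' * s') : o = o' ∧ s = s' := by
  have e : o'⁻¹ * o = s' * s⁻¹ := by
    calc o'⁻¹ * o = o'⁻¹ * (o * s) * s⁻¹ := by group
      _ = s' * s⁻¹ := by rw [h]; group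
  have h1 := F.o_inter_S (mul_mem (inv_mem ho') ho) (e ▸ mul_mem hs' (inv_mem hs))
  obtain rfl : o = o' := (inv_mul_eq_one.1 h1).symm
  exact ⟨rfl, mul_left_cancel h⟩

theorem decomp {g : G} (hg : Commute F.d.z g) :
    ∃ o ∈ F.O, ∃ s ∈ (F.S : Subgroup G), g = o * s := by
  have hO : ∀ c, c ∈ F.O ↔ Commute F.d.z c ∧ Odd (orderOf c) := fun c => F.mem_O
  have h := GWDihHypL27.cen_le_sup F.S F.d F.O hO (mem_centralizer_singleton_iff.2 hg.eq.symm)
  rw [sup_comm, ← SetLike.mem_coe, Subgroup.coe_mul_of_left_le_normalizer_right (F.S : Subgroup G) F.O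
    (fun s hs => om_normalized _ (mem_centralizer_singleton_iff.2 (F.z_comm_S hs).eq.symm))] at h
  obtain ⟨s, hs, o, ho, rfl⟩ := h
  exact ⟨s * o * s⁻¹, F.conj_O (F.z_comm_S hs) ho, s, hs, by group⟩

theorem cen_pm {g : G} (hg : Commute F.d.z g) :
    g ∈ F.X ∨ ∀ o ∈ F.Dc, g * o * g⁻¹ = o⁻¹ := by
  obtain ⟨o, ho, s, hs, rfl⟩ := F.decomp hg
  rcases F.S_pm hs with h | h
  · exact Or.inl (mul_mem (F.O_le_X ho) h)
  · refine Or.inr fun p hp => ?_
    calc o * s * p * (o * s)⁻¹ = o * (s * p * s⁻¹) * o⁻¹ := by group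
      _ = p⁻¹ := by
        rw [h p hp, commute_iff_conj.1 (F.comm_O ho (inv_mem (F.Dc_le hp)))]

/-- The centralizer of `z` normalises `Dc`. -/
theorem cen_norm {g o : G} (hg : Commute F.d.z g) (ho : o ∈ F.Dc) : g * o * g⁻¹ ∈ F.Dc := by
  rcases F.cen_pm hg with h | h
  · rw [commute_iff_conj.1 (F.mem_X.1 h o ho)]; exact ho
  · rw [h o ho]; exact inv_mem ho

/-- The Sylow subgroup of `X`. -/
def T : Subgroup G := (F.S : Subgroup G) ⊓ F.X

theorem T_cases {s : G} (hs : s ∈ F.T) :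
    s ∈ zpowers (F.d.r * F.d.r) ∨ F.w * s ∈ zpowers (F.d.r * F.d.r) := by
  rcases F.S_cases hs.1 with h | ⟨y, hy, rfl⟩ | ⟨y, hy, rfl⟩ | ⟨y, hy, rfl⟩
  · exact Or.inl h
  · refine Or.inr ?_
    rw [← mul_assoc, mul_self F.ow, one_mul]; exact hy
  · exact absurd (show F.d.r ∈ F.X by simpa using mul_mem (show F.d.r * y ∈ F.X from hs.2) (inv_mem (F.rot2_mem_X hy))) F.r_not
  · exact absurd (show F.d.a ∈ F.X by simpa using mul_mem (show F.d.a * y ∈ F.X from hs.2) (inv_mem (F.rot2_mem_X hy))) F.a_not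

/-- The generators of `T`. -/
def dT : DihedralPair68.Dih F.T where
  r := F.d.r * F.d.r
  a := F.w
  k := F.d.k - 1
  hk := by have := F.hk; omega
  rD := ⟨mul_mem F.d.rD F.d.rD, F.rot2_mem_X (mem_zpowers _)⟩
  aD := ⟨F.refl_w.1, F.w_mem_X⟩
  a2 := mul_self F.ow
  conj := by
    rw [← conj_mul, F.d.refl_conj F.refl_w (mem_zpowers _), ← mul_inv_rev]
  ord := by
    rw [← pow_two, orderOf_pow' _ two_ne_zero, F.d.ord, F.d.two_pow_k,
      Nat.gcd_eq_right (Dvd.intro _ rfl), Nat.mul_div_cancel_left _ two_pos]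
  cases := fun x hx => F.T_cases hx
  anot := fun h => F.refl_w.2 (Subgroup.zpowers_le.2 (mul_mem (mem_zpowers _) (mem_zpowers _)) h)

theorem dT_z : F.dT.z = F.d.z := by
  have := F.hk
  show (F.d.r * F.d.r) ^ (2 ^ (F.d.k - 1 - 1)) = F.d.r ^ (2 ^ (F.d.k - 1))
  rw [← pow_two, ← pow_mul, ← pow_succ', show F.d.k - 1 - 1 + 1 = F.d.k - 1 by omega]

theorem card_T : Nat.card F.T = 2 ^ F.d.k := by
  rw [card_dih F.dT]
  have := F.hk
  show 2 * 2 ^ (F.d.k - 1) = 2 ^ F.d.k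
  rw [← pow_succ', show F.d.k - 1 + 1 = F.d.k by omega]

theorem eight_dvd_T : 8 ∣ Nat.card F.T := by
  rw [card_T, show (8 : ℕ) = 2 ^ 3 by norm_num]
  exact pow_dvd_pow 2 F.hk

theorem rr_sq_ne : F.d.r * F.d.r * (F.d.r * F.d.r) ≠ 1 := by
  rw [← pow_two, ← pow_two, ← pow_mul]
  refine pow_ne_one_of_lt_orderOf (by norm_num) ?_
  rw [F.d.ord]
  calc 2 * 2 < 2 ^ 3 := by norm_num
    _ ≤ 2 ^ F.d.k := Nat.pow_le_pow_right two_pos F.hk

/-- An element sending `r²` into the Sylow subgroup centralises `z`. -/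
theorem fix_z {g : G} (h : g * (F.d.r * F.d.r) * g⁻¹ ∈ (F.S : Subgroup G)) :
    g * F.d.z * g⁻¹ = F.d.z := by
  have hrot : g * (F.d.r * F.d.r) * g⁻¹ ∈ zpowers F.d.r := by
    by_contra hn
    refine F.rr_sq_ne ?_
    have h1 := F.d.refl_sq ⟨h, hn⟩
    rw [conj_mul, conj_eq_one_iff] at h1
    exact h1
  have hz : F.d.z = (F.d.r * F.d.r) ^ (2 ^ (F.d.k - 1 - 1)) := F.dT_z.symm
  refine F.d.rot_sq ?_ ?_ ?_
  · rw [hz, ← conj_pow]; exact pow_mem hrot _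
  · rw [conj_mul, F.d.z_sq]; group
  · rw [Ne, conj_eq_one_iff]; exact F.d.z_ne

theorem commute_of_fix {g : G} (h : g * F.d.z * g⁻¹ = F.d.z) : Commute F.d.z g :=
  (commute_iff_conj.2 h).symm

/-- An involution of `C(z)` is conjugate in `C(z)` into the Sylow subgroup. -/
theorem conj_into_S {x : G} (hx : orderOf x = 2) (hc : Commute F.d.z x) :
    ∃ c, Commute F.d.z c ∧ c * x * c⁻¹ ∈ (F.S : Subgroup G) := by
  have hle : (F.S : Subgroup G) ≤ centralizer ({F.d.z} : Set G) := fun s hs =>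
    mem_centralizer_singleton_iff.2 (F.z_comm_S hs).eq.symm
  have hxC : x ∈ centralizer ({F.d.z} : Set G) := mem_centralizer_singleton_iff.2 hc.eq.symm
  have hp : IsPGroup 2 (zpowers (⟨x, hxC⟩ : centralizer ({F.d.z} : Set G))) :=
    IsPGroup.of_card (n := 1) (by rw [Nat.card_zpowers, Subgroup.orderOf_mk, hx, pow_one])
  obtain ⟨g, hg⟩ := exists_conj_le (F.S.subtype hle) hp
  have h := hg _ (mem_zpowers _)
  rw [Sylow.coe_subtype, mem_subgroupOf] at h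
  exact ⟨g, (mem_centralizer_singleton_iff.1 g.2).symm, by simpa using h⟩

theorem card_decomp (K : Subgroup G) (hK : ∀ g ∈ K, Commute F.d.z g)
    (hsplit : ∀ o ∈ F.O, ∀ s ∈ (F.S : Subgroup G), o * s ∈ K → o ∈ K) :
    Nat.card K = Nat.card (F.O ⊓ K : Subgroup G) * Nat.card ((F.S : Subgroup G) ⊓ K : Subgroup G) := by
  rw [← Nat.card_prod]
  refine (Nat.card_congr (Equiv.ofBijective
    (fun p : (F.O ⊓ K : Subgroup G) × ((F.S : Subgroup G) ⊓ K : Subgroup G) =>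
      (⟨(p.1 : G) * p.2, mul_mem p.1.2.2 p.2.2.2⟩ : K)) ⟨?_, ?_⟩)).symm
  · rintro ⟨⟨o, ho⟩, ⟨s, hs⟩⟩ ⟨⟨o', ho'⟩, ⟨s', hs'⟩⟩ h
    obtain ⟨rfl, rfl⟩ := F.decomp_uniq ho.1 ho'.1 hs.1 hs'.1 (congrArg Subtype.val h)
    rfl
  · rintro ⟨g, hg⟩
    obtain ⟨o, ho, s, hs, rfl⟩ := F.decomp (hK g hg)
    have h1 := hsplit o ho s hs hg
    exact ⟨(⟨o, ho, h1⟩, ⟨s, hs, by simpa using mul_mem (inv_mem h1) hg⟩), rfl⟩

theorem card_cen_X :
    Nat.card (centralizer ({F.d.z} : Set G) ⊓ F.X : Subgroup G) = Nat.card F.O * 2 ^ F.d.k := by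
  rw [F.card_decomp (centralizer ({F.d.z} : Set G) ⊓ F.X) (fun g hg => (mem_centralizer_singleton_iff.1 hg.1).symm)
    (fun o ho _ _ _ => ⟨mem_centralizer_singleton_iff.2 (om_comm ho).eq.symm, F.O_le_X ho⟩), ← F.card_T]
  congr 1
  · rw [show F.O ⊓ (centralizer ({F.d.z} : Set G) ⊓ F.X) = F.O from
      inf_eq_left.2 (le_inf (om_le _) F.O_le_X)]
  · congr 1
    refine congrArg (fun K : Subgroup G => (K : Type u)) ?_
    ext g
    exact ⟨fun h => ⟨h.1, h.2.2⟩, fun h => ⟨h.1, mem_centralizer_singleton_iff.2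
      (F.z_comm_S h.1).eq.symm, h.2⟩⟩

end Frame

end Cfsg.Agent.Wong3DihFour27
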