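import Cfsg.Agent.Lib.Wong3DihFour27Frame

/-!
For S3686, dihedral case: the centralizer `X` of `D` has one class of involutions, the order formula
bounds its order, and `X` is the centralizer of each nontrivial element of `D`.
-/

set_option autoImplicit false
set_option linter.style.haveILetI false
set_option linter.unusedSectionVars false

namespace Cfsg.Agent.Wong3DihFour27

open Subgroup Cfsg.Agent.DihedralPair68
open Cfsg.Agent.GWDih33 (Om om_le om_comm odd_om om_normalized odd_of_mem eq_one_of_two order_two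
  order_conj mul_self ne_one inv_self)
open Cfsg.Agent.GWDihBounds11 (orderOf_refl orderOf_z refl_ne_z card_dih)
open Cfsg.Agent.ProductFusion68 (exists_conj_le inv_of_sq mem_normalizer_of_conj_mem)

universe u

theorem normal_of_two {Y : Type u} [Group Y] [Finite Y]
    (hone : ∀ s t : Y, orderOf s = 2 → orderOf t = 2 → IsConj s t) {K : Subgroup Y} [K.Normal]
    (hK : 2 ∣ Nat.card K) : ∀ t : Y, orderOf t = 2 → t ∈ K := by
  haveI : Fact (Nat.Prime 2) := ⟨Nat.prime_two⟩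
  obtain ⟨⟨k, hk⟩, hk2⟩ := exists_prime_orderOf_dvd_card' 2 hK
  intro t ht
  obtain ⟨g, hg⟩ := isConj_iff.1 (hone k t (by rw [Subgroup.orderOf_mk] at hk2; exact hk2) ht)
  rw [← hg]
  exact (inferInstance : K.Normal).conj_mem k hk g

/-- A subgroup of index at most five contains all involutions in its core, when there is one class of
involutions and the Sylow subgroup has order at least eight and is generated by involutions. -/
theorem involution_mem_core {Y : Type u} [Group Y] [Finite Y]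
    (hone : ∀ s t : Y, orderOf s = 2 → orderOf t = 2 → IsConj s t) (R : Sylow 2 Y)
    (h8 : 8 ∣ Nat.card (R : Subgroup Y))
    (hgen : ∀ x ∈ (R : Subgroup Y), ∃ a b : Y, x = a * b ∧ (a = 1 ∨ orderOf a = 2) ∧ (b = 1 ∨ orderOf b = 2))
    (H : Subgroup Y) (hi : H.index ≤ 5) : ∀ t : Y, orderOf t = 2 → t ∈ H.normalCore := by
  classical
  haveI : Fact (Nat.Prime 2) := ⟨Nat.prime_two⟩
  haveI := Fintype.ofFinite (Y ⧸ H)
  set φ := MulAction.toPermHom Y (Y ⧸ H)
  have hker : φ.ker = H.normalCore := (normalCore_eq_ker H).symm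
  rw [← hker]
  rcases Nat.even_or_odd (Nat.card φ.ker) with he | ho
  · exact normal_of_two hone (even_iff_two_dvd.1 he)
  exfalso
  have h8Y : 8 ∣ Nat.card Y := h8.trans (card_subgroup_dvd_card _)
  have h8r : 8 ∣ Nat.card φ.range := by
    rw [← φ.ker.card_mul_index, index_ker] at h8Y
    refine (Nat.Coprime.dvd_of_dvd_mul_left ?_ h8Y)
    rw [show (8 : ℕ) = 2 ^ 3 by norm_num]
    exact Nat.Coprime.pow_left 3 (Nat.coprime_two_left.2 ho)
  set σ := (Equiv.Perm.sign).comp φ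
  by_cases hσ : ∀ y, σ y = 1
  · have hle : φ.range ≤ alternatingGroup (Y ⧸ H) := by
      rintro _ ⟨y, rfl⟩
      exact Equiv.Perm.mem_alternatingGroup.2 (hσ y)
    have h := h8r.trans (card_dvd_of_le hle)
    have hn : Fintype.card (Y ⧸ H) ≤ 5 := by rw [← Nat.card_eq_fintype_card]; exact hi
    rcases subsingleton_or_nontrivial (Y ⧸ H) with hs | hnt
    · haveI := hs
      rw [Nat.card_of_subsingleton (1 : alternatingGroup (Y ⧸ H))] at h
      omega
    · haveI := hnt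
      have h2 := two_mul_card_alternatingGroup (α := Y ⧸ H)
      rw [Fintype.card_perm] at h2
      rw [Nat.card_eq_fintype_card] at h
      have h1 : 1 < Fintype.card (Y ⧸ H) := Fintype.one_lt_card
      generalize Fintype.card (alternatingGroup (Y ⧸ H)) = m at h h2
      generalize Fintype.card (Y ⧸ H) = n at h2 hn h1
      interval_cases n <;> simp [Nat.factorial] at h2 <;> omega
  · push Not at hσ
    obtain ⟨y, hy⟩ := hσ
    have hidx : σ.ker.index = 2 := by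
      rw [index_ker]
      have h1 : σ.range = ⊤ := by
        rw [eq_top_iff]
        intro x _
        rcases Int.units_eq_one_or x with rfl | rfl
        · exact one_mem _
        · exact ⟨y, (Int.units_eq_one_or _).resolve_left hy⟩
      rw [h1, card_top, Nat.card_eq_fintype_card, Fintype.card_units_int]
    have hall : ∀ t : Y, orderOf t = 2 → t ∈ σ.ker := normal_of_two hone (by
      have h := σ.ker.card_mul_index
      rw [hidx] at h
      omega)
    have hR : (R : Subgroup Y) ≤ σ.ker := by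
      intro x hx
      obtain ⟨a, b, rfl, ha, hb⟩ := hgen x hx
      refine mul_mem ?_ ?_
      · rcases ha with rfl | ha
        exacts [one_mem _, hall a ha]
      · rcases hb with rfl | hb
        exacts [one_mem _, hall b hb]
    exact R.not_dvd_index ⟨_, by rw [← relIndex_mul_index hR, hidx, mul_comm]⟩

variable {G : Type u} [Group G] [Finite G]

namespace Frame

variable (F : Frame G)

/-- A subgroup over `X` meeting `C(z)` in that of `X`. -/
structure Good (L : Subgroup G) : Prop where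
  le : F.X ≤ L
  cz : ∀ c, Commute F.d.z c → c ∈ L → c ∈ F.X

theorem good_X : F.Good F.X := ⟨le_rfl, fun _ _ h => h⟩

theorem good_cent {o : G} (ho : o ∈ F.Dc) (ho1 : o ≠ 1) : F.Good (centralizer ({o} : Set G)) := by
  refine ⟨fun g hg => mem_centralizer_singleton_iff.2 (F.mem_X.1 hg o ho).eq, fun c hc hco => ?_⟩
  refine (F.cen_pm hc).resolve_right fun h => ho1 (F.eq_one_of_inverted (F.Dc_le ho) ?_)
  rw [← h o ho, commute_iff_conj.1 (mem_centralizer_singleton_iff.1 hco : Commute c o)]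

variable {F} {L : Subgroup G}

theorem Good.exists_sylow (hL : F.Good L) :
    ∃ R : Sylow 2 L, (R : Subgroup L) = F.T.subgroupOf L := by
  haveI : Fact (Nat.Prime 2) := ⟨Nat.prime_two⟩
  have hTle : F.T ≤ L := inf_le_right.trans hL.le
  obtain ⟨R, hR⟩ := ((F.S.isPGroup'.to_le (inf_le_left : F.T ≤ _)).comap_subtype
    (K := L)).exists_le_sylow
  refine ⟨R, le_antisymm ?_ hR⟩
  obtain ⟨c, hc⟩ := exists_conj_le F.S (R.isPGroup'.map L.subtype)
  have hrr : F.d.r * F.d.r ∈ F.T := F.dT.rD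
  have hcz := F.fix_z (hc _ ⟨⟨_, hTle hrr⟩, hR (mem_subgroupOf.2 hrr), rfl⟩)
  have hRz : (R : Subgroup L).map L.subtype ≤ centralizer ({F.d.z} : Set G) ⊓ F.X := by
    rintro _ ⟨y, hy, rfl⟩
    have h1 := F.z_comm_S (hc _ ⟨y, hy, rfl⟩)
    rw [← hcz] at h1
    have h2 := (Commute.conj_iff c).1 h1
    exact ⟨mem_centralizer_singleton_iff.2 h2.eq.symm, hL.cz _ h2 y.2⟩
  intro y hy
  have hd := card_dvd_of_le hRz
  rw [F.card_cen_X, card_map_of_injective L.subtype_injective] at hd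
  obtain ⟨n, hn⟩ := IsPGroup.iff_card.1 R.isPGroup'
  rw [hn] at hd
  have hd' : 2 ^ n ∣ 2 ^ F.d.k :=
    (Nat.Coprime.pow_left n (Nat.coprime_two_left.2 F.odd_O)).dvd_of_dvd_mul_left hd
  have heq := eq_of_le_of_card_ge hR (by
    rw [hn]
    refine le_of_le_of_eq ?_ ((F.card_T).symm.trans (Nat.card_congr (subgroupOfEquivOfLe hTle).toEquiv).symm)
    exact Nat.le_of_dvd (by positivity) hd')
  show y ∈ Subgroup.comap L.subtype ((F.S : Subgroup G) ⊓ F.X)
  rw [heq]; exact hy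

variable (F)

/-- An element normalising `X` and moving `w` onto `z` comes from `X`. -/
theorem norm_cases {g : G} (hg : ∀ o ∈ F.Dc, g * o * g⁻¹ ∈ F.Dc) :
    ∃ x ∈ F.X, Commute F.d.z (x * g) ∧ ∀ t ∈ F.T, x * g * t * (x * g)⁻¹ ∈ F.T := by
  haveI : Fact (Nat.Prime 2) := ⟨Nat.prime_two⟩
  have hgN : g ∈ normalizer (F.Dc : Set G) := mem_normalizer_of_conj_mem hg
  have hX : ∀ x ∈ F.X, g * x * g⁻¹ ∈ F.X := by
    intro x hx
    refine F.mem_X.2 fun o ho => ?_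
    have h1 : g⁻¹ * o * g ∈ F.Dc := (mem_normalizer_iff''.1 hgN o).1 ho
    have h2 := (Commute.conj_iff g).2 (F.mem_X.1 hx _ h1)
    rwa [show g * (g⁻¹ * o * g) * g⁻¹ = o by group] at h2
  have hTle : F.T ≤ F.X := inf_le_right
  obtain ⟨R, hR⟩ := (F.good_X).exists_sylow
  have hp : IsPGroup 2 ((F.T.map (MulAut.conj g).toMonoidHom).subgroupOf F.X) :=
    ((F.S.isPGroup'.to_le (inf_le_left : F.T ≤ _)).map _).comap_subtype
  obtain ⟨x, hx⟩ := exists_conj_le R hp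
  have hT : ∀ t ∈ F.T, (x : G) * g * t * ((x : G) * g)⁻¹ ∈ F.T := by
    intro t ht
    have h1 := hx ⟨g * t * g⁻¹, hX t (hTle ht)⟩ (mem_subgroupOf.2 ⟨t, ht, rfl⟩)
    rw [hR, mem_subgroupOf] at h1
    rw [show (x : G) * g * t * ((x : G) * g)⁻¹ = x * (g * t * g⁻¹) * (x : G)⁻¹ by group]
    simpa using h1
  exact ⟨x, x.2, F.commute_of_fix (F.fix_z (hT _ F.dT.rD).1), hT⟩

/-- The normalizer of `Dc` is `X` with one coset more. -/
theorem norm_pm {g : G} (hg : ∀ o ∈ F.Dc, g * o * g⁻¹ ∈ F.Dc) : g ∈ F.X ∨ g * F.d.a ∈ F.X := by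
  obtain ⟨x, hx, hc, -⟩ := F.norm_cases hg
  rcases F.cen_pm hc with h | h
  · exact Or.inl (by simpa using mul_mem (inv_mem hx) h)
  · refine Or.inr ?_
    have h1 : x * g * F.d.a ∈ F.X := by
      refine F.mem_X.2 fun o ho => commute_iff_conj.2 ?_
      calc x * g * F.d.a * o * (x * g * F.d.a)⁻¹ = x * g * (F.d.a * o * F.d.a⁻¹) * (x * g)⁻¹ := by group
        _ = o := by rw [F.a_inv ho, h _ (inv_mem ho), inv_inv]
    have h2 := mul_mem (inv_mem hx) h1
    rwa [show x⁻¹ * (x * g * F.d.a) = g * F.d.a by group] at h2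

theorem conj_X {g : G} (hg : ∀ o ∈ F.Dc, g * o * g⁻¹ = o⁻¹) {x : G} (hx : x ∈ F.X) :
    g * x * g⁻¹ ∈ F.X := by
  refine F.mem_X.2 fun o ho => ?_
  have h2 := (Commute.conj_iff g).2 (F.mem_X.1 hx _ (inv_mem ho))
  rwa [hg _ (inv_mem ho), inv_inv] at h2

/-- The reflections of `T` are conjugate to `z` in `X`. -/
theorem fused {t : G} (ht : F.dT.Refl t) : ∃ x ∈ F.X, x * F.d.z * x⁻¹ = t := by
  obtain ⟨g, hg⟩ := isConj_iff.1 (F.one F.w F.d.z F.ow F.oz)
  have hD : ∀ o ∈ F.Dc, g * o * g⁻¹ ∈ F.Dc := by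
    intro o ho
    obtain ⟨hoO, how⟩ := F.mem_Dc.1 ho
    have h1 : g * o * g⁻¹ ∈ F.O := F.mem_O.2 ⟨by
      rw [← hg]; exact (Commute.conj_iff g).2 how,
      by rw [order_conj]; exact F.odd_Dc ho⟩
    set x := g * F.d.z * g⁻¹ with hxdef
    have hxz : Commute F.d.z x := by
      rw [← hg]
      exact (Commute.conj_iff g).2 (F.z_comm_S F.refl_w.1).symm
    obtain ⟨c, hc, hcS⟩ := F.conj_into_S (x := x) (by rw [hxdef, order_conj, F.oz]) hxz
    have hcx : Commute (c * x * c⁻¹) (c * (g * o * g⁻¹) * c⁻¹) :=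
      (Commute.conj_iff c).2 ((Commute.conj_iff g).2 (om_comm (F.Dc_le ho)))
    have hxne : c * x * c⁻¹ ≠ F.d.z := by
      intro e
      have e1 : x = F.d.z := by
        calc x = c⁻¹ * (c * x * c⁻¹) * c := by group
          _ = F.d.z := by rw [e, mul_assoc, hc.eq, inv_mul_cancel_left]
      have e2 : g * F.d.z * g⁻¹ = g * F.w * g⁻¹ := by rw [hg, ← hxdef, e1]
      exact refl_ne_z F.d F.refl_w (mul_left_cancel (mul_right_cancel e2)).symm
    have hp : c * (g * o * g⁻¹) * c⁻¹ ∈ F.O := F.conj_O hc h1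
    have hpD : c * (g * o * g⁻¹) * c⁻¹ ∈ F.Dc := by
      refine F.mem_Dc.2 ⟨hp, ?_⟩
      set p := c * (g * o * g⁻¹) * c⁻¹
      set s := c * x * c⁻¹
      have hso : orderOf s = 2 := by simp only [s, hxdef, order_conj, F.oz]
      have hrefl : F.d.Refl s :=
        (F.d.cases_sq hcS (mul_self hso) (ne_one hso)).resolve_left hxne
      rcases F.S_cases hcS with h | ⟨y, hy, e⟩ | ⟨y, hy, e⟩ | ⟨y, hy, e⟩
      · exact absurd (Subgroup.zpowers_le.2 (mul_mem (mem_zpowers _) (mem_zpowers _)) h) hrefl.2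
      · have h2 : F.w = s * y⁻¹ := by rw [e, mul_inv_cancel_right]
        rw [h2]
        exact hcx.mul_left (F.rot2_comm (inv_mem hy) hp)
      · exact absurd (show s ∈ zpowers F.d.r by
          rw [e]; exact mul_mem (mem_zpowers _)
            (Subgroup.zpowers_le.2 (mul_mem (mem_zpowers _) (mem_zpowers _)) hy)) hrefl.2
      · have h2 : F.d.a = s * y⁻¹ := by rw [e, mul_inv_cancel_right]
        have h3 := F.inv p hp
        rw [h2, commute_iff_conj.1 (hcx.mul_left (F.rot2_comm (inv_mem hy) hp))] at h3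
        rw [F.eq_one_of_inverted hp h3]
        exact Commute.one_right _
    have h4 := F.cen_norm hc.inv_right hpD
    rwa [show c⁻¹ * (c * (g * o * g⁻¹) * c⁻¹) * c⁻¹⁻¹ = g * o * g⁻¹ by group] at h4
  obtain ⟨x, hx, hc, hT⟩ := F.norm_cases hD
  set w' := x * g * F.w * (x * g)⁻¹ with hw'
  have hw'z : w' = x * F.d.z * x⁻¹ := by rw [hw', ← hg]; group
  have hrefl : F.dT.Refl w' := by
    have hw'T : w' ∈ F.T := hT _ F.dT.aD
    refine (F.dT.cases_sq hw'T ?_ ?_).resolve_left fun e => ?_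
    · rw [hw', conj_mul, mul_self F.ow]; group
    · rw [hw', Ne, conj_eq_one_iff]; exact ne_one F.ow
    · rw [F.dT_z] at e
      have e2 : x * g * F.w * (x * g)⁻¹ = x * g * F.d.z * (x * g)⁻¹ := by
        rw [← hw', e, commute_iff_conj.1 hc.symm]
      exact refl_ne_z F.d F.refl_w (mul_left_cancel (mul_right_cancel e2))
  obtain ⟨y, hy, hy'⟩ := F.dT.refl_class hrefl
  have hbase : ∃ b ∈ F.X, b * F.d.z * b⁻¹ = F.w ∨ b * F.d.z * b⁻¹ = F.w * (F.d.r * F.d.r) :=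
    ⟨y * x, mul_mem hy.2 hx, by
      rw [show y * x * F.d.z * (y * x)⁻¹ = y * (x * F.d.z * x⁻¹) * y⁻¹ by group, ← hw'z]
      exact hy'⟩
  have hr : ∀ {s b : G}, b ∈ F.X → b * F.d.z * b⁻¹ = s →
      ∃ b' ∈ F.X, b' * F.d.z * b'⁻¹ = F.d.r * s * F.d.r⁻¹ := by
    intro s b hb e
    refine ⟨F.d.r * b * F.d.r⁻¹, F.conj_X (fun o ho => F.r_inv ho) hb, ?_⟩
    rw [← e, show F.d.r * b * F.d.r⁻¹ * F.d.z * (F.d.r * b * F.d.r⁻¹)⁻¹ =
      F.d.r * b * (F.d.r⁻¹ * F.d.z * F.d.r) * b⁻¹ * F.d.r⁻¹ by group]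
    rw [mul_assoc F.d.r⁻¹, (F.z_comm_S F.d.rD).eq, inv_mul_cancel_left]
    group
  have hrr : F.d.r * F.w * F.d.r⁻¹ = F.w * (F.d.r * F.d.r)⁻¹ := by
    have h := F.d.refl_conj F.refl_w (mem_zpowers F.d.r)
    rw [mul_inv_eq_iff_eq_mul] at h
    calc F.d.r * F.w * F.d.r⁻¹ = F.w * (F.w * F.d.r) * F.w * F.d.r⁻¹ := by
          rw [← mul_assoc F.w F.w, mul_self F.ow, one_mul]
      _ = F.w * (F.d.r⁻¹ * F.w) * F.w * F.d.r⁻¹ := by rw [h]
      _ = F.w * F.d.r⁻¹ * (F.w * F.w) * F.d.r⁻¹ := by group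
      _ = F.w * (F.d.r * F.d.r)⁻¹ := by rw [mul_self F.ow]; group
  have hboth : (∃ b ∈ F.X, b * F.d.z * b⁻¹ = F.w) ∧
      ∃ b ∈ F.X, b * F.d.z * b⁻¹ = F.w * (F.d.r * F.d.r) := by
    set q := F.d.r * F.d.r with hq
    obtain ⟨b, hb, e | e⟩ := hbase
    · refine ⟨⟨b, hb, e⟩, ?_⟩
      obtain ⟨b', hb', e'⟩ := hr hb e
      rw [hrr] at e'
      refine ⟨q⁻¹ * b', mul_mem (inv_mem (F.rot2_mem_X (mem_zpowers _))) hb', ?_⟩
      have hwq := F.dT.refl_conj F.dT.refl_a (mem_zpowers q)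
      change F.w * q * F.w⁻¹ = q⁻¹ at hwq
      rw [mul_inv_eq_iff_eq_mul] at hwq
      calc q⁻¹ * b' * F.d.z * (q⁻¹ * b')⁻¹ = q⁻¹ * (b' * F.d.z * b'⁻¹) * q := by group
        _ = q⁻¹ * F.w * q⁻¹ * q := by rw [e']; group
        _ = F.w * q := by rw [mul_assoc _ q⁻¹, inv_mul_cancel, mul_one, ← hwq]
    · obtain ⟨b', hb', e'⟩ := hr hb e
      refine ⟨⟨b', hb', e'.trans ?_⟩, b, hb, e⟩
      calc F.d.r * (F.w * q) * F.d.r⁻¹ = F.d.r * F.w * F.d.r⁻¹ * q := by rw [hq]; group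
        _ = F.w := by rw [hrr, inv_mul_cancel_right]
  obtain ⟨y', hy'', hy'''⟩ := F.dT.refl_class ht
  obtain ⟨b, hb, e⟩ : ∃ b ∈ F.X, b * F.d.z * b⁻¹ = y' * t * y'⁻¹ := by
    rcases hy''' with e | e <;> rw [e]
    · exact hboth.1
    · exact hboth.2
  refine ⟨y'⁻¹ * b, mul_mem (inv_mem hy''.2) hb, ?_⟩
  rw [show y'⁻¹ * b * F.d.z * (y'⁻¹ * b)⁻¹ = y'⁻¹ * (b * F.d.z * b⁻¹) * y' by group, e]
  group

variable {F} {L : Subgroup G}

theorem Good.one_class (hL : F.Good L) {t : G} (ht : t ∈ L) (h2 : orderOf t = 2) :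
    ∃ x ∈ L, x * F.d.z * x⁻¹ = t := by
  haveI : Fact (Nat.Prime 2) := ⟨Nat.prime_two⟩
  obtain ⟨R, hR⟩ := hL.exists_sylow
  have hp : IsPGroup 2 (zpowers (⟨t, ht⟩ : L)) :=
    IsPGroup.of_card (n := 1) (by rw [Nat.card_zpowers, Subgroup.orderOf_mk, h2, pow_one])
  obtain ⟨c, hc⟩ := exists_conj_le R hp
  have h := hc _ (mem_zpowers _)
  rw [hR, mem_subgroupOf] at h
  simp only [Subgroup.coe_mul, Subgroup.coe_inv] at h
  have ho : orderOf ((c : G) * t * (c : G)⁻¹) = 2 := by rw [order_conj, h2]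
  obtain ⟨x, hx, e⟩ : ∃ x ∈ L, x * F.d.z * x⁻¹ = (c : G) * t * (c : G)⁻¹ := by
    rcases F.dT.cases_sq h (mul_self ho) (ne_one ho) with e | e
    · exact ⟨1, one_mem L, by rw [e, F.dT_z]; group⟩
    · obtain ⟨x, hx, hxe⟩ := F.fused e
      exact ⟨x, hL.le hx, hxe⟩
  refine ⟨(c : G)⁻¹ * x, mul_mem (inv_mem c.2) hx, ?_⟩
  rw [show (c : G)⁻¹ * x * F.d.z * ((c : G)⁻¹ * x)⁻¹ = (c : G)⁻¹ * (x * F.d.z * x⁻¹) * c by group, e]
  group

theorem Good.isConj (hL : F.Good L) (s t : L) (hs : orderOf s = 2) (ht : orderOf t = 2) : IsConj s t := by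
  obtain ⟨x, hx, e⟩ := hL.one_class s.2 (by rw [Subgroup.orderOf_coe, hs])
  obtain ⟨y, hy, e'⟩ := hL.one_class t.2 (by rw [Subgroup.orderOf_coe, ht])
  refine isConj_iff.2 ⟨⟨y * x⁻¹, mul_mem hy (inv_mem hx)⟩, Subtype.ext ?_⟩
  simp only [Subgroup.coe_mul, Subgroup.coe_inv]
  rw [← e, ← e']
  group

variable (F)

theorem card_pair {x : G} (hx2 : orderOf x = 2) (hxX : x ∈ F.X) (hxz : x ≠ F.d.z)
    (hc : Commute F.d.z x) :
    centralizer ({F.d.z, x} : Set G) ≤ F.X ∧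
      Nat.card (centralizer ({F.d.z, x} : Set G)) = 4 * Nat.card F.Dc := by
  classical
  obtain ⟨c, hcz, hcS⟩ := F.conj_into_S hx2 hc
  set s := c * x * c⁻¹ with hs
  have hsX : s ∈ F.X := by
    refine F.mem_X.2 fun o ho => ?_
    have h := (Commute.conj_iff c).2 (F.mem_X.1 hxX _ (F.cen_norm hcz.inv_right ho))
    rwa [show c * (c⁻¹ * o * c⁻¹⁻¹) * c⁻¹ = o by group] at h
  have hso : orderOf s = 2 := by rw [hs, order_conj, hx2]
  have hsz : s ≠ F.d.z := by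
    intro e
    apply hxz
    calc x = c⁻¹ * s * c := by rw [hs]; group
      _ = F.d.z := by rw [e, mul_assoc, hcz.eq, inv_mul_cancel_left]
  have hrefl : F.dT.Refl s :=
    (F.dT.cases_sq ⟨hcS, hsX⟩ (mul_self hso) (ne_one hso)).resolve_left (by rw [F.dT_z]; exact hsz)
  have hdrefl : F.d.Refl s := (F.d.cases_sq hcS (mul_self hso) (ne_one hso)).resolve_left hsz
  have hfix : ∀ o ∈ F.O, Commute s o → o ∈ F.Dc := by
    intro o ho hso'
    refine F.mem_Dc.2 ⟨ho, ?_⟩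
    obtain ⟨y, hy, e⟩ : ∃ y ∈ zpowers (F.d.r * F.d.r), s = F.w * y := F.dT.refl_cases hrefl
    have h2 : F.w = s * y⁻¹ := by rw [e, mul_inv_cancel_right]
    rw [h2]
    exact hso'.mul_left (F.rot2_comm (inv_mem hy) ho)
  set K := centralizer ({F.d.z, s} : Set G) with hK
  have hmem : ∀ g, g ∈ K ↔ Commute F.d.z g ∧ Commute s g := fun g =>
    GWDihBounds11.mem_centralizer_pair
  have hsplit : ∀ o ∈ F.O, ∀ t ∈ (F.S : Subgroup G), o * t ∈ K → o ∈ K := by
    intro o ho t ht hot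
    have h2 := ((hmem _).1 hot).2
    have h3 : s * o * s⁻¹ * (s * t * s⁻¹) = o * t := by
      rw [conj_mul, h2.eq, mul_inv_cancel_right]
    exact (hmem o).2 ⟨om_comm ho, commute_iff_conj.2 (F.decomp_uniq (F.conj_O (F.z_comm_S hcS) ho) ho
      (mul_mem (mul_mem hcS ht) (inv_mem hcS)) ht h3).1⟩
  have hSK : ∀ t ∈ (F.S : Subgroup G), Commute s t → t = 1 ∨ t = F.d.z ∨ t = s ∨ t = s * F.d.z :=
    fun t ht h => F.d.comm_refl hdrefl ht h
  have hle : K ≤ F.X := by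
    intro g hg
    obtain ⟨o, ho, t, ht, rfl⟩ := F.decomp ((hmem g).1 hg).1
    refine mul_mem (F.O_le_X ho) ?_
    have hok := hsplit o ho t ht hg
    have htk := ((hmem _).1 (show t ∈ K by simpa using mul_mem (inv_mem hok) hg)).2
    rcases hSK t ht htk with rfl | rfl | rfl | rfl
    exacts [one_mem _, F.z_mem_X, hsX, mul_mem hsX F.z_mem_X]
  have hconj : ∀ g, g ∈ centralizer ({F.d.z, x} : Set G) ↔ c * g * c⁻¹ ∈ K := by
    intro g
    rw [GWDihBounds11.mem_centralizer_pair, hmem]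
    have hzc : c * F.d.z * c⁻¹ = F.d.z := commute_iff_conj.1 hcz.symm
    exact and_congr (by conv_rhs => rw [← hzc]; rw [Commute.conj_iff]) (Commute.conj_iff c).symm
  refine ⟨fun g hg => ?_, ?_⟩
  · have h := hle ((hconj g).1 hg)
    refine F.mem_X.2 fun o ho => ?_
    exact (Commute.conj_iff c).1 (F.mem_X.1 h _ (F.cen_norm hcz ho))
  · have e : Nat.card (centralizer ({F.d.z, x} : Set G)) = Nat.card K := Nat.card_congr
      ⟨fun g => ⟨c * g * c⁻¹, (hconj g).1 g.2⟩,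
        fun g => ⟨c⁻¹ * g * c, (hconj _).2 (by simpa [mul_assoc] using g.2)⟩,
        fun g => Subtype.ext (by simp [mul_assoc]), fun g => Subtype.ext (by simp [mul_assoc])⟩
    rw [e, F.card_decomp K (fun g hg => ((hmem g).1 hg).1) hsplit]
    have h1 : F.O ⊓ K = F.Dc := by
      ext o
      exact ⟨fun h => hfix o h.1 ((hmem o).1 h.2).2, fun h => ⟨F.Dc_le h, (hmem o).2
        ⟨om_comm (F.Dc_le h), F.mem_X.1 hsX o h⟩⟩⟩
    have h2 : ((((F.S : Subgroup G) ⊓ K : Subgroup G)) : Set G) = {1, F.d.z, s, s * F.d.z} := by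
      ext t
      simp only [coe_inf, Set.mem_inter_iff, SetLike.mem_coe, Set.mem_insert_iff, Set.mem_singleton_iff]
      refine ⟨fun h => hSK t h.1 ((hmem t).1 h.2).2, ?_⟩
      have hz : F.d.z ∈ K := (hmem _).2 ⟨Commute.refl _, (F.z_comm_S hcS).symm⟩
      have hsK : s ∈ K := (hmem _).2 ⟨F.z_comm_S hcS, Commute.refl _⟩
      rintro (rfl | rfl | rfl | rfl)
      exacts [⟨one_mem _, one_mem _⟩, ⟨F.d.z_mem, hz⟩, ⟨hcS, hsK⟩,
        ⟨mul_mem hcS F.d.z_mem, mul_mem hsK hz⟩]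
    have h4 : Nat.card ((F.S : Subgroup G) ⊓ K : Subgroup G) = 4 := by
      rw [← SetLike.coe_sort_coe, Nat.card_coe_set_eq, h2]
      have h1z : s * F.d.z ≠ 1 := F.d.refl_ne (F.d.refl_z hdrefl)
      have h2z : s * F.d.z ≠ F.d.z := refl_ne_z F.d (F.d.refl_z hdrefl)
      have h3z : s * F.d.z ≠ s := fun e => F.d.z_ne (mul_eq_left.1 e)
      rw [Set.ncard_insert_of_notMem, Set.ncard_insert_of_notMem, Set.ncard_pair h3z.symm]
      · simp [hsz.symm, h2z.symm]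
      · simp [F.d.z_ne.symm, (ne_one hso).symm, h1z.symm]
    rw [h1, h4, mul_comm]

variable {F}

/-- The order bounds. -/
theorem Good.bounds (hL : F.Good L) :
    2 * Nat.card F.Dc ^ 2 * Nat.card L * (2 ^ F.d.k) ^ 2 ≤
        (Nat.card F.O * 2 ^ F.d.k) ^ 3 * ((2 ^ F.d.k + 1) * (2 ^ F.d.k + 2)) ∧
      (Nat.card F.O * 2 ^ F.d.k) ^ 3 * ((2 ^ F.d.k - 1) * (2 ^ F.d.k - 2)) ≤
        2 * Nat.card F.Dc ^ 2 * Nat.card L * (2 ^ F.d.k) ^ 2 := by
  obtain ⟨R, hR⟩ := hL.exists_sylow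
  have hTle : F.T ≤ L := inf_le_right.trans hL.le
  obtain ⟨dL, hk, hz⟩ : ∃ dL : DihedralPair68.Dih (R : Subgroup L),
      dL.k = F.d.k - 1 ∧ (dL.z : G) = F.d.z := by
    rw [hR]
    refine ⟨GWDihIndex11.sub F.dT hTle rfl, rfl, ?_⟩
    rw [← F.dT_z]
    simp [DihedralPair68.Dih.z, GWDihIndex11.sub]
  have hkd : ∀ x : L, orderOf x = 2 → x ≠ dL.z → Commute dL.z x →
      Nat.card (centralizer ({dL.z, x} : Set L)) = 4 * Nat.card F.Dc := by
    intro x hx hxz hc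
    have hcG : Commute F.d.z (x : G) := by
      have := congrArg Subtype.val hc.eq
      simpa [hz, commute_iff_eq] using this
    have h := F.card_pair (by rw [Subgroup.orderOf_coe, hx]) (hL.cz _ hcG x.2)
      (fun e => hxz (Subtype.ext (e.trans hz.symm))) hcG
    rw [GWDihIndex11.card_centralizer_pair L dL.z x (by rw [hz]; exact h.1.trans hL.le), hz, h.2]
  have h := GWDihBounds11.bounds R dL hL.isConj hkd
  have hcz : centralizer ({F.d.z} : Set G) ⊓ L = centralizer ({F.d.z} : Set G) ⊓ F.X :=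
    le_antisymm (fun g hg => ⟨hg.1, hL.cz g (mem_centralizer_singleton_iff.1 hg.1).symm hg.2⟩)
      (inf_le_inf_left _ hL.le)
  rw [GWDihIndex11.card_centralizer_single L dL.z, hz, hcz, F.card_cen_X, hk, ← pow_succ',
    show F.d.k - 1 + 1 = F.d.k by have := F.hk; omega] at h
  exact h

/-- The good subgroups equal `X`. -/
theorem Good.eq_X (hL : F.Good L) : L = F.X := by
  obtain ⟨R, hR⟩ := hL.exists_sylow
  have hTle : F.T ≤ L := inf_le_right.trans hL.le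
  have hTR : ∀ {g : G} (hg : g ∈ F.T), (⟨g, hTle hg⟩ : L) ∈ (R : Subgroup L) := fun hg => by
    rw [hR]; exact mem_subgroupOf.2 hg
  obtain ⟨hhi, -⟩ := hL.bounds
  obtain ⟨-, hlo⟩ := (F.good_X).bounds
  set H := F.X.subgroupOf L with hH
  have hcard : Nat.card L = H.index * Nat.card F.X := by
    rw [mul_comm, ← Nat.card_congr (subgroupOfEquivOfLe hL.le).toEquiv]
    exact H.card_mul_index.symm
  have hM : 8 ≤ 2 ^ F.d.k :=
    le_trans (by norm_num) (Nat.pow_le_pow_right two_pos F.hk)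
  have hi : H.index ≤ 5 := by
    refine GWDihIndex11.le_of_le_five (a := 2 * Nat.card F.Dc ^ 2 * Nat.card F.X * (2 ^ F.d.k) ^ 2)
      (N := 2 ^ F.d.k) (by omega) (pow_pos (Nat.mul_pos Nat.card_pos (Nat.two_pow_pos _)) 3) ?_ hlo
    refine le_of_eq_of_le ?_ hhi
    rw [hcard]; ring
  have hcore := involution_mem_core hL.isConj R
    (by rw [hR, Nat.card_congr (subgroupOfEquivOfLe hTle).toEquiv]; exact F.eight_dvd_T) (by
      intro x hx
      rw [hR, mem_subgroupOf] at hx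
      have hrefl : ∀ y ∈ F.T, y ∉ zpowers (F.d.r * F.d.r) → ∀ hy : y ∈ L, orderOf (⟨y, hy⟩ : L) = 2 :=
        fun y hy hn hyL => by rw [Subgroup.orderOf_mk]; exact orderOf_refl F.dT ⟨hy, hn⟩
      by_cases hrot : (x : G) ∈ zpowers (F.d.r * F.d.r)
      · refine ⟨⟨F.w, hTle F.dT.aD⟩, ⟨F.w * x, hTle (mul_mem F.dT.aD hx)⟩, Subtype.ext ?_,
          Or.inr (hrefl _ F.dT.aD F.dT.anot _), Or.inr (hrefl _ (mul_mem F.dT.aD hx) ?_ _)⟩
        · simp [← mul_assoc, mul_self F.ow]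
        · intro h
          exact F.dT.anot ((Subgroup.mul_mem_cancel_right _ hrot).1 h)
      · exact ⟨x, 1, (mul_one x).symm, Or.inr (hrefl _ hx hrot x.2), Or.inl rfl⟩)
    H hi
  refine le_antisymm (fun l hl => ?_) hL.le
  have hzL : F.d.z ∈ L := hL.le F.z_mem_X
  have h1 := hcore (⟨l, hl⟩ * ⟨F.d.z, hzL⟩ * (⟨l, hl⟩ : L)⁻¹)
    (by rw [order_conj, Subgroup.orderOf_mk, F.oz])
  have h2 : l * F.d.z * l⁻¹ ∈ F.X := by
    have := normalCore_le H h1
    simpa [hH, mem_subgroupOf] using this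
  obtain ⟨x, hx, e⟩ := (F.good_X).one_class h2 (by rw [order_conj, F.oz])
  have h3 : (x⁻¹ * l) * F.d.z * (x⁻¹ * l)⁻¹ = F.d.z := by
    rw [show x⁻¹ * l * F.d.z * (x⁻¹ * l)⁻¹ = x⁻¹ * (l * F.d.z * l⁻¹) * x by group, ← e]
    group
  have h4 := hL.cz _ (F.commute_of_fix h3) (mul_mem (inv_mem (hL.le hx)) hl)
  simpa using mul_mem hx h4

variable (F)

/-- The centralizer of each nontrivial element of `Dc` is `X`. -/
theorem mem_X_of_commute {o : G} (ho : o ∈ F.Dc) (ho1 : o ≠ 1) {g : G} (hg : Commute g o) :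
    g ∈ F.X :=
  (F.good_cent ho ho1).eq_X ▸ mem_centralizer_singleton_iff.2 hg.eq

/-- The involutions of the normalizer outside `X` are conjugate to `a` under `X`. -/
theorem outer {t : G} (ht : orderOf t = 2) (hN : ∀ o ∈ F.Dc, t * o * t⁻¹ ∈ F.Dc) (hX : t ∉ F.X) :
    ∃ x ∈ F.X, x * F.d.a * x⁻¹ = t := by
  haveI : Fact (Nat.Prime 2) := ⟨Nat.prime_two⟩
  set N := normalizer (F.Dc : Set G)
  have hSN : (F.S : Subgroup G) ≤ N := fun s hs =>
    mem_normalizer_of_conj_mem fun o ho => F.cen_norm (F.z_comm_S hs) ho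
  have htN : t ∈ N := mem_normalizer_of_conj_mem hN
  have hp : IsPGroup 2 (zpowers (⟨t, htN⟩ : N)) :=
    IsPGroup.of_card (n := 1) (by rw [Nat.card_zpowers, Subgroup.orderOf_mk, ht, pow_one])
  obtain ⟨c, hc⟩ := exists_conj_le (F.S.subtype hSN) hp
  have h := hc _ (mem_zpowers _)
  rw [Sylow.coe_subtype, mem_subgroupOf] at h
  simp only [Subgroup.coe_mul, Subgroup.coe_inv] at h
  set s := (c : G) * t * (c : G)⁻¹ with hs
  have hcD : ∀ o ∈ F.Dc, (c : G) * o * (c : G)⁻¹ ∈ F.Dc := fun o ho =>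
    (mem_normalizer_iff.1 c.2 o).1 ho
  have hcD' : ∀ o ∈ F.Dc, (c : G)⁻¹ * o * (c : G) ∈ F.Dc := fun o ho =>
    (mem_normalizer_iff''.1 c.2 o).1 ho
  have hsX : s ∉ F.X := by
    intro hsx
    refine hX (F.mem_X.2 fun o ho => ?_)
    exact (Commute.conj_iff (c : G)).1 (F.mem_X.1 hsx _ (hcD o ho))
  have hso : orderOf s = 2 := by rw [hs, order_conj, ht]
  have hrefl : F.d.Refl s :=
    (F.d.cases_sq h (mul_self hso) (ne_one hso)).resolve_left fun e => hsX (e ▸ F.z_mem_X)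
  obtain ⟨y, hyS, hy⟩ := F.d.refl_class hrefl
  have hy' : y * s * y⁻¹ = F.d.a := hy.resolve_right fun e => by
    refine hsX ?_
    have hs' : s = y⁻¹ * F.w * y := by rw [w, ← e]; group
    refine F.mem_X.2 fun o ho => ?_
    rw [hs']
    have h5 := (Commute.conj_iff y⁻¹).2 (F.mem_Dc.1 (F.cen_norm (F.z_comm_S hyS) ho)).2
    rwa [inv_inv, show y⁻¹ * (y * o * y⁻¹) * y = o by group] at h5
  obtain ⟨g, hg, hgt⟩ : ∃ g, (∀ o ∈ F.Dc, g * o * g⁻¹ ∈ F.Dc) ∧ g * F.d.a * g⁻¹ = t := by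
    refine ⟨(c : G)⁻¹ * y⁻¹, fun o ho => ?_, ?_⟩
    · have := hcD' _ (F.cen_norm (F.z_comm_S (inv_mem hyS)) ho)
      rwa [show (c : G)⁻¹ * y⁻¹ * o * ((c : G)⁻¹ * y⁻¹)⁻¹ =
        (c : G)⁻¹ * (y⁻¹ * o * y⁻¹⁻¹) * c by group]
    · rw [← hy', hs]; group
  rcases F.norm_pm hg with hgX | hgX
  · exact ⟨g, hgX, hgt⟩
  · refine ⟨g * F.d.a, hgX, ?_⟩
    rw [← hgt]
    group

end Frame

end Cfsg.Agent.Wong3DihFour27
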