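import Mathlib

/-!
Eigenspaces of a central element in a finite group representation: dimensions and traces through
character values.
-/

set_option autoImplicit false
set_option linter.unusedSectionVars false

namespace Cfsg.Agent.Wong3Eigen42

open Module

variable {H : Type*} [Group H] {M : Type*} [AddCommGroup M] [Module ℂ M] [FiniteDimensional ℂ M]

/-- the trace -/
noncomputable def tr (σ : H →* Module.End ℂ M) (g : H) : ℂ := LinearMap.trace ℂ M (σ g)

theorem tr_one (σ : H →* Module.End ℂ M) : tr σ 1 = (finrank ℂ M : ℂ) := by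
  simp [tr]

theorem tr_conj (σ : H →* Module.End ℂ M) (h g : H) : tr σ (h * g * h⁻¹) = tr σ g := by
  rw [tr, tr, map_mul, LinearMap.trace_mul_comm, ← map_mul, ← mul_assoc, inv_mul_cancel, one_mul]

theorem tr_conj_eq (σ : H →* Module.End ℂ M) {h g g' : H} (e : h * g * h⁻¹ = g') :
    tr σ g' = tr σ g := by rw [← e, tr_conj]

/-- the eigenspace of `z` for the value `a` -/
abbrev eig (σ : H →* Module.End ℂ M) (z : H) (a : ℂ) : Submodule ℂ M :=
  Module.End.eigenspace (σ z) a

theorem eig_maps (σ : H →* Module.End ℂ M) {z g : H} (a : ℂ) (hg : Commute g z) :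
    ∀ v ∈ eig σ z a, σ g v ∈ eig σ z a := by
  intro v hv
  rw [Module.End.mem_eigenspace_iff] at hv ⊢
  rw [← Module.End.mul_apply, ← map_mul, ← hg.eq, map_mul, Module.End.mul_apply, hv, map_smul]

/-- the centralizer of `z` on an eigenspace of `z` -/
noncomputable def res (σ : H →* Module.End ℂ M) (z : H) (a : ℂ) :
    Subgroup.centralizer ({z} : Set H) →* Module.End ℂ (eig σ z a) where
  toFun g := (σ (g : H)).restrict (eig_maps σ a (Subgroup.mem_centralizer_singleton_iff.1 g.2))
  map_one' := by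
    apply LinearMap.ext
    intro v
    apply Subtype.ext
    simp
  map_mul' g g' := by
    apply LinearMap.ext
    intro v
    apply Subtype.ext
    simp

theorem res_apply (σ : H →* Module.End ℂ M) {z : H} {a : ℂ}
    (g : Subgroup.centralizer ({z} : Set H)) (v : eig σ z a) :
    ((res σ z a g v : eig σ z a) : M) = σ (g : H) v := rfl

theorem tr_res (σ : H →* Module.End ℂ M) {z : H} {a : ℂ} {m : ℕ} (hm : 0 < m) (hz : z ^ m = 1)
    (ha : a ^ m = 1) (g : Subgroup.centralizer ({z} : Set H)) :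
    tr (res σ z a) g = (m : ℂ)⁻¹ * ∑ j ∈ Finset.range m, a⁻¹ ^ j * tr σ ((g : H) * z ^ j) := by
  have ha0 : a ≠ 0 := by
    rintro rfl
    rw [zero_pow hm.ne'] at ha
    exact zero_ne_one ha
  have hmz : (m : ℂ) ≠ 0 := Nat.cast_ne_zero.2 hm.ne'
  set S : Module.End ℂ M := ∑ j ∈ Finset.range m, a⁻¹ ^ j • σ z ^ j with hS
  set P : Module.End ℂ M := (m : ℂ)⁻¹ • S with hP
  have hzS : σ z * S = a • S := by
    have h0 : a⁻¹ ^ m • σ z ^ m = a⁻¹ ^ 0 • σ z ^ 0 := by
      rw [← map_pow, hz, map_one, inv_pow, ha, inv_one, pow_zero, pow_zero]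
    have key : ∑ j ∈ Finset.range m, a⁻¹ ^ (j + 1) • σ z ^ (j + 1) = S := by
      have h1 := Finset.sum_range_succ' (fun j => a⁻¹ ^ j • σ z ^ j) m
      rw [Finset.sum_range_succ, h0, ← hS] at h1
      exact (add_right_cancel h1).symm
    calc σ z * S = ∑ j ∈ Finset.range m, a • (a⁻¹ ^ (j + 1) • σ z ^ (j + 1)) := by
          rw [hS, Finset.mul_sum]
          refine Finset.sum_congr rfl fun j _ => ?_
          rw [mul_smul_comm, ← pow_succ', smul_smul, pow_succ' a⁻¹, ← mul_assoc,
            mul_inv_cancel₀ ha0, one_mul]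
      _ = a • S := by rw [← Finset.smul_sum, key]
  have hPmem : ∀ v, P v ∈ eig σ z a := by
    intro v
    rw [Module.End.mem_eigenspace_iff, ← Module.End.mul_apply, hP, mul_smul_comm, hzS, smul_comm,
      LinearMap.smul_apply]
  have hfix : ∀ v ∈ eig σ z a, P v = v := by
    intro v hv
    have hpow : ∀ j, (σ z ^ j) v = a ^ j • v := by
      intro j
      induction j with
      | zero => simp
      | succ k ih =>
        rw [pow_succ', Module.End.mul_apply, ih, map_smul, Module.End.mem_eigenspace_iff.1 hv,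
          smul_smul, ← pow_succ]
    rw [hP, LinearMap.smul_apply, hS, LinearMap.sum_apply]
    simp_rw [LinearMap.smul_apply, hpow, smul_smul, ← mul_pow, inv_mul_cancel₀ ha0, one_pow,
      one_smul]
    rw [Finset.sum_const, Finset.card_range, ← Nat.cast_smul_eq_nsmul ℂ, smul_smul,
      inv_mul_cancel₀ hmz, one_smul]
  have hmem : ∀ v, (σ (g : H) * P) v ∈ eig σ z a := fun v =>
    eig_maps σ a (Subgroup.mem_centralizer_singleton_iff.1 g.2) _ (hPmem v)
  have h1 := LinearMap.trace_restrict_eq_of_forall_mem _ (σ (g : H) * P) hmem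
  have h2 : (σ (g : H) * P).restrict (fun v _ => hmem v) = res σ z a g := by
    apply LinearMap.ext
    intro v
    apply Subtype.ext
    show (σ (g : H) * P) (v : M) = σ (g : H) v
    rw [Module.End.mul_apply, hfix v v.2]
  rw [tr, ← h2]
  refine h1.trans ?_
  rw [hP, mul_smul_comm, map_smul, hS, Finset.mul_sum, map_sum, smul_eq_mul]
  congr 1
  refine Finset.sum_congr rfl fun j _ => ?_
  rw [mul_smul_comm, map_smul, smul_eq_mul]
  simp only [tr, MonoidHom.map_mul, MonoidHom.map_pow]

theorem dim_eig (σ : H →* Module.End ℂ M) {z : H} {a : ℂ} {m : ℕ} (hm : 0 < m) (hz : z ^ m = 1)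
    (ha : a ^ m = 1) :
    (finrank ℂ (eig σ z a) : ℂ) = (m : ℂ)⁻¹ * ∑ j ∈ Finset.range m, a⁻¹ ^ j * tr σ (z ^ j) := by
  rw [← tr_one (res σ z a), tr_res σ hm hz ha]
  simp

theorem eq_smul_of_finrank (σ : H →* Module.End ℂ M) {z : H} {a : ℂ}
    (h : finrank ℂ (eig σ z a) = finrank ℂ M) : σ z = a • 1 := by
  have ht := Submodule.eq_top_of_finrank_eq h
  apply LinearMap.ext
  intro v
  have hv : v ∈ eig σ z a := by rw [ht]; exact Submodule.mem_top
  rw [Module.End.mem_eigenspace_iff] at hv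
  rw [hv, LinearMap.smul_apply, Module.End.one_apply]

/-- scalar if the traces of all powers are those of a scalar -/
theorem eq_smul_of_tr [Finite H] (σ : H →* Module.End ℂ M) {z : H} {a : ℂ}
    (ha : a ^ orderOf z = 1) (h : ∀ j : ℕ, tr σ (z ^ j) = a ^ j * (finrank ℂ M : ℂ)) :
    σ z = a • 1 := by
  have hm := orderOf_pos z
  have ha0 : a ≠ 0 := by
    rintro rfl
    rw [zero_pow hm.ne'] at ha
    exact zero_ne_one ha
  refine eq_smul_of_finrank σ ?_
  have hd := dim_eig σ hm (pow_orderOf_eq_one z) ha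
  simp_rw [h, ← mul_assoc, ← mul_pow, inv_mul_cancel₀ ha0, one_pow, one_mul] at hd
  rw [Finset.sum_const, Finset.card_range, nsmul_eq_mul, ← mul_assoc,
    inv_mul_cancel₀ (Nat.cast_ne_zero.2 hm.ne'), one_mul] at hd
  exact_mod_cast hd

theorem tr_pow_of_smul (σ : H →* Module.End ℂ M) {g : H} {a : ℂ} (h : σ g = a • 1) (j : ℕ) :
    tr σ (g ^ j) = a ^ j * (finrank ℂ M : ℂ) := by
  rw [tr, map_pow, h, smul_pow, one_pow, map_smul, LinearMap.trace_one, smul_eq_mul]

theorem det_ne_zero (σ : H →* Module.End ℂ M) (g : H) : LinearMap.det (σ g) ≠ 0 := by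
  intro h
  have : LinearMap.det (σ g) * LinearMap.det (σ g⁻¹) = 1 := by
    rw [← map_mul, ← map_mul, mul_inv_cancel, map_one, map_one]
  rw [h, zero_mul] at this
  exact zero_ne_one this

theorem det_smul_one (a : ℂ) : LinearMap.det (a • (1 : Module.End ℂ M)) = a ^ finrank ℂ M := by
  rw [LinearMap.det_smul, map_one, mul_one]

theorem scalar_commutator (σ : H →* Module.End ℂ M) {i j c : H} {a : ℂ} (hc : i * j = c * (j * i))
    (ha : σ c = a • 1) : a ^ finrank ℂ M = 1 := by
  have h := congrArg (fun g => LinearMap.det (σ g)) hc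
  simp only [map_mul, ha, det_smul_one] at h
  have hne := mul_ne_zero (det_ne_zero σ j) (det_ne_zero σ i)
  exact mul_right_cancel₀ hne (by rw [one_mul, ← h, mul_comm])

theorem even_dim (σ : H →* Module.End ℂ M) {a b z : H} (hab : a * b = z * (b * a))
    (hz : σ z = (-1 : ℂ) • 1) : Even (finrank ℂ M) :=
  neg_one_pow_eq_one_iff_even (by norm_num) |>.1 (scalar_commutator σ hab hz)

theorem scalar_of_two (σ : H →* Module.End ℂ M) {o a b z : H} (hab : a * b = z * (b * a))
    (hz : σ z = (-1 : ℂ) • 1) (hao : Commute a o) (hbo : Commute b o) (hzo : Commute z o)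
    (hd : finrank ℂ M = 2) : ∃ c : ℂ, σ o = c • 1 := by
  haveI : Nontrivial M := Module.finrank_pos_iff.1 (by rw [hd]; norm_num)
  obtain ⟨c, hc⟩ := Module.End.exists_eigenvalue (σ o)
  refine ⟨c, eq_smul_of_finrank σ ?_⟩
  let K := Subgroup.centralizer ({o} : Set H)
  let a' : K := ⟨a, Subgroup.mem_centralizer_singleton_iff.2 hao.eq⟩
  let b' : K := ⟨b, Subgroup.mem_centralizer_singleton_iff.2 hbo.eq⟩
  let z' : K := ⟨z, Subgroup.mem_centralizer_singleton_iff.2 hzo.eq⟩
  have he : Even (finrank ℂ (eig σ o c)) := by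
    refine even_dim (res σ o c) (a := a') (b := b') (z := z') (Subtype.ext hab) ?_
    apply LinearMap.ext
    intro v
    apply Subtype.ext
    show σ z (v : M) = _
    rw [hz]
    simp
  have hpos : 0 < finrank ℂ (eig σ o c) :=
    Nat.pos_of_ne_zero fun h0 => hc (Submodule.finrank_eq_zero.1 h0)
  have hle := Submodule.finrank_le (eig σ o c)
  obtain ⟨r, hr⟩ := he
  omega

theorem sum_tr_group (σ : H →* Module.End ℂ M) (R : Subgroup H) [Fintype R] :
    ∃ m : ℕ, ∑ r : R, tr σ (r : H) = (Nat.card R : ℂ) * (m : ℂ) := by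
  let ρ : Representation ℂ R M := σ.comp R.subtype
  haveI : Invertible (Nat.card R : ℂ) := invertibleOfNonzero (Nat.cast_ne_zero.2 Nat.card_pos.ne')
  refine ⟨finrank ℂ (Representation.invariants ρ), ?_⟩
  rw [← Representation.card_inv_mul_sum_char_eq_finrank (ρ := ρ), ← mul_assoc,
    mul_inv_cancel₀ (Nat.cast_ne_zero.2 Nat.card_pos.ne'), one_mul]
  rfl

end Cfsg.Agent.Wong3Eigen42
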