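import Mathlib
import Cfsg.Agent.Lib.Wong3Setup33
import Cfsg.Agent.Lib.GWDihPSL72
import Cfsg.Agent.Lib.DicksonFourGroups
import Cfsg.Agent.Lib.PSLCard
import Cfsg.Agent.S0802
import Cfsg.Agent.S0805

/-!
In `PSL(2, q)` with a maximal four-group normaliser of order 24 the number `q` is a prime `±1` mod 16.
-/

set_option autoImplicit false
set_option linter.unusedSectionVars false

namespace Cfsg.Agent.Wong3x33

open Subgroup

universe u

section psl

variable {F : Type} [Field F] [Finite F]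

local notation "PSL₂" => Matrix.ProjectiveSpecialLinearGroup (Fin 2) F

/-- In a subgroup of order divisible by 8 that contains an `Alt(4)`, some four-group has normaliser
of order divisible by 24. -/
theorem exists_four_norm {L : Subgroup PSL₂} (hL8 : 8 ∣ Nat.card L) {ι : alternatingGroup (Fin 4) →* PSL₂}
    (hι : Function.Injective ι) (hιL : ∀ a, ι a ∈ L) :
    ∃ W : Subgroup PSL₂, IsKleinFour W ∧
      24 ∣ Nat.card (L ⊓ normalizer (W : Set PSL₂) : Subgroup PSL₂) := by
  classical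
  have : Fact (Nat.Prime 2) := ⟨Nat.prime_two⟩
  let s1 : alternatingGroup (Fin 4) :=
    ⟨Equiv.swap 0 1 * Equiv.swap 2 3, by rw [Equiv.Perm.mem_alternatingGroup]; decide⟩
  let s2 : alternatingGroup (Fin 4) :=
    ⟨Equiv.swap 0 2 * Equiv.swap 1 3, by rw [Equiv.Perm.mem_alternatingGroup]; decide⟩
  let c : alternatingGroup (Fin 4) :=
    ⟨Equiv.swap 0 1 * Equiv.swap 1 2, by rw [Equiv.Perm.mem_alternatingGroup]; decide⟩
  have e1 : s1 * s1 = 1 := by decide
  have e2 : s2 * s2 = 1 := by decide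
  have e3 : s1 * s2 = s2 * s1 := by decide
  have k1 : ι s1 * ι s1 = 1 := by rw [← map_mul, e1, map_one]
  have k2 : ι s2 * ι s2 = 1 := by rw [← map_mul, e2, map_one]
  have k3 : ι s1 * ι s2 = ι s2 * ι s1 := by rw [← map_mul, ← map_mul, e3]
  set W := DicksonFourGroups.four (ι s1) (ι s2) k1 k2 k3 with hWdef
  have hW : IsKleinFour W := DicksonFourGroups.isKleinFour_four
    ((map_ne_one_iff ι hι).mpr (by decide)) ((map_ne_one_iff ι hι).mpr (by decide))
    (hι.ne (by decide))
  have hWL : W ≤ L := DicksonFourGroups.four_le (hιL _) (hιL _)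
  refine ⟨W, hW, ?_⟩
  have hcn : ι c ∈ normalizer (W : Set PSL₂) := by
    refine DicksonMaximal.mem_normalizer_of fun y hy => ?_
    rcases DicksonFourGroups.mem_four.mp hy with rfl | rfl | rfl | rfl
    · rw [mul_one, mul_inv_cancel]; exact one_mem _
    · rw [← map_inv, ← map_mul, ← map_mul]
      rcases (by decide : c * s1 * c⁻¹ = s1 ∨ c * s1 * c⁻¹ = s2 ∨ c * s1 * c⁻¹ = s1 * s2) with
        e | e | e <;> rw [e]
      · exact DicksonFourGroups.left_mem_four
      · exact DicksonFourGroups.right_mem_four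
      · rw [map_mul]; exact mul_mem DicksonFourGroups.left_mem_four DicksonFourGroups.right_mem_four
    · rw [← map_inv, ← map_mul, ← map_mul]
      rcases (by decide : c * s2 * c⁻¹ = s1 ∨ c * s2 * c⁻¹ = s2 ∨ c * s2 * c⁻¹ = s1 * s2) with
        e | e | e <;> rw [e]
      · exact DicksonFourGroups.left_mem_four
      · exact DicksonFourGroups.right_mem_four
      · rw [map_mul]; exact mul_mem DicksonFourGroups.left_mem_four DicksonFourGroups.right_mem_four
    · rw [← map_mul, ← map_inv, ← map_mul, ← map_mul]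
      rcases (by decide : c * (s1 * s2) * c⁻¹ = s1 ∨ c * (s1 * s2) * c⁻¹ = s2 ∨
          c * (s1 * s2) * c⁻¹ = s1 * s2) with e | e | e <;> rw [e]
      · exact DicksonFourGroups.left_mem_four
      · exact DicksonFourGroups.right_mem_four
      · rw [map_mul]; exact mul_mem DicksonFourGroups.left_mem_four DicksonFourGroups.right_mem_four
  have h3 : 3 ∣ Nat.card (L ⊓ normalizer (W : Set PSL₂) : Subgroup PSL₂) := by
    have ho : orderOf (ι c) = 3 := by
      rw [orderOf_injective ι hι]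
      exact orderOf_eq_prime (by decide) (by decide)
    rw [← ho]
    exact Subgroup.orderOf_dvd_natCard _ ⟨hιL c, hcn⟩
  -- a Sylow 2-subgroup of `L` over `W`
  have hW2 : IsPGroup 2 (W.subgroupOf L) := IsPGroup.of_card (n := 2) (by
    rw [Nat.card_congr (Subgroup.subgroupOfEquivOfLe hWL).toEquiv, hW.card_four]; rfl)
  obtain ⟨S, hS⟩ := hW2.exists_le_sylow
  have hS8 : 8 ∣ Nat.card (S : Subgroup L) := by
    rw [S.card_eq_multiplicity]
    exact (show 8 = 2 ^ 3 from rfl) ▸ Nat.pow_dvd_pow 2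
      ((Nat.Prime.pow_dvd_iff_le_factorization Nat.prime_two Nat.card_pos.ne').1
        ((show 8 = 2 ^ 3 from rfl) ▸ hL8))
  have hSn : Group.IsNilpotent (S : Subgroup L) := S.isPGroup'.isNilpotent
  set W' := (W.subgroupOf L).subgroupOf (S : Subgroup L) with hW'
  have hW'c : Nat.card W' = 4 := by
    rw [hW', Nat.card_congr (Subgroup.subgroupOfEquivOfLe hS).toEquiv,
      Nat.card_congr (Subgroup.subgroupOfEquivOfLe hWL).toEquiv, hW.card_four]
  have hlt : W' < ⊤ := lt_top_iff_ne_top.2 fun e => by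
    rw [e, Subgroup.card_top] at hW'c
    rw [hW'c] at hS8
    omega
  have hN := (normalizerCondition_of_isNilpotent : NormalizerCondition (S : Subgroup L)) W' hlt
  obtain ⟨k, hk⟩ := IsPGroup.iff_card.1
    (S.isPGroup'.to_subgroup (normalizer (W' : Set (S : Subgroup L))))
  have h4 : 4 < Nat.card (normalizer (W' : Set (S : Subgroup L))) := by
    rw [← hW'c]
    exact lt_of_le_of_ne (Subgroup.card_le_of_le hN.le) fun e =>
      hN.ne (Subgroup.eq_of_le_of_card_ge hN.le e.ge)
  have h8 : 8 ∣ Nat.card (L ⊓ normalizer (W : Set PSL₂) : Subgroup PSL₂) := by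
    let R : Subgroup PSL₂ :=
      ((normalizer (W' : Set (S : Subgroup L))).map (S : Subgroup L).subtype).map L.subtype
    have hR : Nat.card R = 2 ^ k := by
      rw [Subgroup.card_map_of_injective L.subtype_injective,
        Subgroup.card_map_of_injective (S : Subgroup L).subtype_injective, hk]
    have hRle : R ≤ L ⊓ normalizer (W : Set PSL₂) := by
      rintro _ ⟨_, ⟨x, hx, rfl⟩, rfl⟩
      refine ⟨((x : (S : Subgroup L)) : L).2, DicksonMaximal.mem_normalizer_of fun y hy => ?_⟩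
      have hyS : (⟨y, hWL hy⟩ : L) ∈ (S : Subgroup L) := hS hy
      exact (Subgroup.mem_normalizer_iff.1 hx ⟨⟨y, hWL hy⟩, hyS⟩).1 hy
    have hk3 : 3 ≤ k := by
      rw [hk] at h4
      by_contra hlt3
      have : 2 ^ k ≤ 2 ^ 2 := Nat.pow_le_pow_right two_pos (by omega)
      omega
    exact ((show 8 = 2 ^ 3 from rfl) ▸ Nat.pow_dvd_pow 2 hk3).trans
      (hR ▸ Subgroup.card_dvd_of_le hRle)
  exact Nat.Coprime.mul_dvd_of_dvd_of_dvd (by norm_num : Nat.Coprime 8 3) h8 h3

end psl

variable {G : Type u} [Group G] [Finite G]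

/-- No proper subgroup of order above 24 and divisible by 8 contains an `Alt(4)`. -/
theorem no_big_sub {V : Subgroup G} (h : Core G V) (hmax : IsCoatom (normalizer (V : Set G)))
    {F : Type} [Field F] [Finite F] (h2 : (2 : F) ≠ 0)
    (e : G ≃* Matrix.ProjectiveSpecialLinearGroup (Fin 2) F)
    {L : Subgroup (Matrix.ProjectiveSpecialLinearGroup (Fin 2) F)} (hL8 : 8 ∣ Nat.card L)
    (hgt : 24 < Nat.card L) (hlt : L ≠ ⊤)
    {ι : alternatingGroup (Fin 4) →* Matrix.ProjectiveSpecialLinearGroup (Fin 2) F}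
    (hι : Function.Injective ι) (hιL : ∀ a, ι a ∈ L) : False := by
  obtain ⟨W, hW, h24⟩ := exists_four_norm hL8 hι hιL
  have hV : IsKleinFour V := by
    refine ⟨h.card_four, ?_⟩
    have : Nontrivial V := Finite.one_lt_card_iff_nontrivial.1 (by rw [h.card_four]; norm_num)
    rw [Monoid.exponent_eq_prime_iff Nat.prime_two]
    intro x hx
    exact orderOf_eq_prime (Subtype.ext (by simpa [sq] using h.exp_two x x.2)) hx
  have hV' := DicksonFourGroups.map_klein hV e.toMonoidHom e.injective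
  obtain ⟨φ, hφ⟩ := DicksonFourGroups.exists_aut_between h2 hW hV'
  let ψ : Matrix.ProjectiveSpecialLinearGroup (Fin 2) F ≃* G := φ.trans e.symm
  have hWV : W.map ψ.toMonoidHom = V := by
    rw [show ψ.toMonoidHom = e.symm.toMonoidHom.comp φ.toMonoidHom from rfl, ← Subgroup.map_map, hφ,
      Subgroup.map_map]
    conv_rhs => rw [← Subgroup.map_id V]
    exact congrArg (fun f => V.map f) (MonoidHom.ext fun x => e.symm_apply_apply x)
  set M := (L ⊓ normalizer (W : Set _)).map ψ.toMonoidHom with hM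
  have hMle : M ≤ normalizer (V : Set G) := by
    rw [← hWV]
    exact (Subgroup.map_mono inf_le_right).trans (Subgroup.le_normalizer_map _)
  have hMc : 24 ∣ Nat.card M := by
    rwa [hM, Subgroup.card_map_of_injective (f := ψ.toMonoidHom) ψ.injective]
  have hMeq : M = normalizer (V : Set G) := Subgroup.eq_of_le_of_card_ge hMle (by
    rw [h.card_norm]
    exact Nat.le_of_dvd Nat.card_pos hMc)
  have hle : normalizer (V : Set G) ≤ L.map ψ.toMonoidHom := hMeq ▸ Subgroup.map_mono inf_le_left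
  rcases hmax.le_iff.1 hle with h1 | h1
  · apply hlt
    apply Subgroup.map_injective (f := ψ.toMonoidHom) ψ.injective
    rw [h1, Subgroup.map_top_of_surjective _ ψ.surjective]
  · have h3 := congrArg (fun K : Subgroup G => Nat.card K) h1
    simp only [Subgroup.card_map_of_injective (f := ψ.toMonoidHom) ψ.injective, h.card_norm] at h3
    omega

/-- With a maximal four-group normaliser `q` is a prime congruent to `±1` modulo 16. -/
theorem prime_of_psl {V : Subgroup G} (h : Core G V) (hyp : GWDih33.Hyp G)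
    (hmax : IsCoatom (normalizer (V : Set G))) :
    ∃ p : ℕ, p.Prime ∧ (p % 16 = 1 ∨ p % 16 = 15) ∧
      Nonempty (G ≃* Matrix.ProjectiveSpecialLinearGroup (Fin 2) (ZMod p)) := by
  obtain ⟨F, iF, iFF, hodd, h3, ⟨e⟩⟩ := GWDihPSL72.psl hyp
  obtain ⟨p, m, hp, hpm⟩ : ∃ p m : ℕ, p.Prime ∧ Fintype.card F = p ^ m := by
    obtain ⟨p, hc⟩ := CharP.exists F
    obtain ⟨n, hp, hn⟩ := FiniteField.card F p
    exact ⟨p, n, hp, hn⟩
  have hqn : Nat.card F = Fintype.card F := Nat.card_eq_fintype_card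
  have hodd' : Odd p := by
    rcases hp.eq_two_or_odd' with rfl | h'
    · rcases m with _ | m
      · rw [pow_zero] at hpm; omega
      · rw [hpm] at hodd
        exact absurd hodd (by rw [Nat.not_odd_iff_even, pow_succ]; exact even_two.mul_left _)
    · exact h'
  have h2 : (2 : F) ≠ 0 := PSL2SylowTwo.two_ne_zero_of_odd (hqn ▸ hodd)
  have hm : m ≠ 0 := by
    rintro rfl
    rw [pow_zero] at hpm; omega
  set q := Nat.card F with hq
  have hqp : q = p ^ m := hqn.trans hpm
  have hq3 : 3 < q := hqn ▸ h3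
  have hG : 2 * Nat.card G = q * (q ^ 2 - 1) := by
    have h1 := PSLCard.card_PSL_mul (F := F) 2
    have h2' := PSLCard.card_PGL (F := F) (ι := Fin 2)
    rw [PSLCard.card_PGL2 (F := F)] at h2'
    rw [← h2', ← hq] at h1
    have hg : Nat.gcd 2 (q - 1) = 2 := by
      refine Nat.gcd_eq_left ?_
      obtain ⟨j, hj⟩ := hqn ▸ hodd
      exact ⟨j, by omega⟩
    rw [hg, ← Nat.card_congr e.toEquiv] at h1
    exact h1
  have h32 : q ^ 2 % 32 = 1 := by
    have hd : 32 ∣ q * (q ^ 2 - 1) := hG ▸ (show 32 = 2 * 16 from rfl) ▸ mul_dvd_mul_left 2 h.sixteen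
    have hc : Nat.Coprime 32 q := by
      rw [show 32 = 2 ^ 5 from rfl]
      exact Nat.Coprime.pow_left _ ((Nat.coprime_primes Nat.prime_two hp).2
        (by rintro rfl; exact absurd hodd' (by decide)) |>.pow_right m |> fun x => hqp ▸ x)
    have hd2 := hc.dvd_of_dvd_mul_left hd
    have hge : 1 ≤ q ^ 2 := Nat.one_le_pow _ _ (by omega)
    omega
  have hchar : CharP F p := by
    obtain ⟨p', hc⟩ := CharP.exists F
    obtain ⟨n, hp', hn⟩ := FiniteField.card F p'
    have : p' = p := by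
      have := (Nat.prime_dvd_prime_iff_eq hp' hp).1 (hp'.dvd_of_dvd_pow (n := m)
        (by rw [← hpm, hn]; exact dvd_pow_self _ n.ne_zero))
      exact this
    exact this ▸ hc
  by_cases hm1 : m = 1
  · subst hm1
    rw [pow_one] at hqp hpm
    have := Fact.mk hp
    refine ⟨p, hp, ?_, ⟨e.trans (PSLCard.pslEquivOfCard (by rw [Nat.card_zmod, ← hqp]))⟩⟩
    rw [hqp, Nat.pow_mod] at h32
    have hlt : p % 32 < 32 := Nat.mod_lt _ (by norm_num)
    have he : p % 16 = p % 32 % 16 := (Nat.mod_mod_of_dvd p (by norm_num)).symm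
    rw [he]
    generalize p % 32 = x at h32 hlt ⊢
    interval_cases x <;> simp_all
  exfalso
  have := Fact.mk hp
  have hp3 : 3 ≤ p := by
    have := hp.two_le
    rcases hodd' with ⟨j, hj⟩
    omega
  -- the subfield order
  obtain ⟨r, d, hd1, hrd, hrK⟩ : ∃ r d : ℕ, 2 ≤ d ∧ r ^ d = q ∧
      ((Even d ∧ d = 2 ∧ r = p ^ (m / 2)) ∨ (Odd d ∧ r = p)) := by
    rcases Nat.even_or_odd m with hme | hmo
    · refine ⟨p ^ (m / 2), 2, le_rfl, ?_, Or.inl ⟨even_two, rfl, rfl⟩⟩
      rw [hqp, ← pow_mul, Nat.div_mul_cancel (even_iff_two_dvd.1 hme)]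
    · exact ⟨p, m, by omega, hqp.symm, Or.inr ⟨hmo, rfl⟩⟩
  have hrodd : Odd r := by
    rcases hrK with ⟨-, -, rfl⟩ | ⟨-, rfl⟩
    · exact hodd'.pow
    · exact hodd'
  obtain ⟨j, hj, hrp⟩ : ∃ j, j ≠ 0 ∧ r = p ^ j := by
    rcases hrK with ⟨hde, rfl, rfl⟩ | ⟨-, rfl⟩
    · refine ⟨m / 2, fun e0 => ?_, rfl⟩
      rw [e0, pow_zero, one_pow] at hrd
      omega
    · exact ⟨1, one_ne_zero, (pow_one _).symm⟩
  let K := GaloisField p j
  have hKc : Nat.card K = r := (GaloisField.card p j hj).trans hrp.symm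
  have : Fintype K := Fintype.ofFinite K
  have hKc' : Fintype.card K = r := Nat.card_eq_fintype_card.symm.trans hKc
  have hKcp : CharP K p := inferInstance
  obtain ⟨A, ⟨eA⟩⟩ := (Cfsg.Agent.S0802.result (F := K) p j (hKc'.trans hrp)).2
    (fun hh => absurd (hh.1 ▸ hodd') (by decide))
  obtain ⟨⟨H₁, ⟨e₁⟩⟩, hPGL⟩ := Cfsg.Agent.S0805.result (F := F) (K := K) (q := q)
    hqn.symm (hqn ▸ hodd) d (by omega) (by rw [hKc', hrd])
  have hr3 : 3 ≤ r := hrp ▸ hp3.trans (Nat.le_self_pow hj p)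
  have hsq : r ^ 2 ≤ q := hrd ▸ Nat.pow_le_pow_right (by omega) hd1
  have hPGLc : Nat.card (Matrix.ProjGenLinGroup (Fin 2) K) = r * (r ^ 2 - 1) := by
    rw [PSLCard.card_PGL2, hKc]
  have hPSLc : 2 * Nat.card (Matrix.ProjectiveSpecialLinearGroup (Fin 2) K) = r * (r ^ 2 - 1) := by
    have h1 := PSLCard.card_PSL_mul (F := K) 2
    rw [← PSLCard.card_PGL (F := K) (ι := Fin 2), hPGLc, hKc] at h1
    have hg : Nat.gcd 2 (r - 1) = 2 := by
      refine Nat.gcd_eq_left ?_
      obtain ⟨i, hi⟩ := hrodd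
      exact ⟨i, by omega⟩
    rwa [hg] at h1
  have hbig : ∀ n : ℕ, n ≤ r * (r ^ 2 - 1) → n < Nat.card G := by
    intro n hn
    have h1 : r * (r ^ 2 - 1) ≤ r * (q - 1) := Nat.mul_le_mul_left _ (by omega)
    have h4 : 2 * (r * (q - 1)) < q * (q ^ 2 - 1) := by
      have h5 : r * 3 ≤ q := le_trans (Nat.mul_le_mul_left r hr3) (by rw [← sq]; exact hsq)
      have h6 : q - 1 ≤ q ^ 2 - 1 := by
        have := Nat.le_self_pow two_ne_zero q; omega
      calc 2 * (r * (q - 1)) < 3 * r * (q - 1) := by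
            rw [← mul_assoc]
            exact Nat.mul_lt_mul_of_pos_right (by omega) (by omega)
        _ ≤ q * (q - 1) := Nat.mul_le_mul_right _ (by omega)
        _ ≤ q * (q ^ 2 - 1) := Nat.mul_le_mul_left _ h6
    omega
  have hne_top : ∀ L : Subgroup (Matrix.ProjectiveSpecialLinearGroup (Fin 2) F),
      Nat.card L ≤ r * (r ^ 2 - 1) → L ≠ ⊤ := fun L hL e' => by
    have := hbig _ hL
    rw [e', Subgroup.card_top, ← Nat.card_congr e.toEquiv] at this
    exact lt_irrefl _ this
  rcases hrK with ⟨hde, hd2, -⟩ | ⟨hdo, hrp'⟩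
  · obtain ⟨H₂, ⟨e₂⟩⟩ := hPGL.2 hde
    let ι : alternatingGroup (Fin 4) →* Matrix.ProjectiveSpecialLinearGroup (Fin 2) F :=
      H₂.subtype.comp (e₂.symm.toMonoidHom.comp
        (Matrix.ProjectiveSpecialLinearGroup.toPGL.comp (A.subtype.comp eA.symm.toMonoidHom)))
    have hι : Function.Injective ι := H₂.subtype_injective.comp (e₂.symm.injective.comp
      (Matrix.ProjectiveSpecialLinearGroup.toPGL_injective.comp
        (A.subtype_injective.comp eA.symm.injective)))
    have hc : Nat.card H₂ = r * (r ^ 2 - 1) := (Nat.card_congr e₂.toEquiv).trans hPGLc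
    have h9 : r ≠ 3 := by
      intro e3
      rw [← hrd, e3, hd2] at h32
      norm_num at h32
    refine no_big_sub h hmax h2 e (L := H₂) ?_ ?_ (hne_top _ hc.le) hι fun a => Subtype.prop _
    · rw [hc]
      refine Dvd.dvd.mul_left ?_ _
      obtain ⟨i, rfl⟩ := hrodd
      obtain ⟨t, ht⟩ := Nat.even_mul_succ_self i
      have : (2 * i + 1) ^ 2 = 4 * (i * (i + 1)) + 1 := by ring
      exact ⟨t, by omega⟩
    · rw [hc]
      have h5 : 5 ≤ r := by
        rcases hrodd with ⟨i, hi⟩
        omega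
      have h6 : 24 ≤ r ^ 2 - 1 := by
        have := Nat.pow_le_pow_left h5 2
        omega
      calc 24 < 5 * 24 := by norm_num
        _ ≤ r * (r ^ 2 - 1) := Nat.mul_le_mul h5 h6
  · let ι : alternatingGroup (Fin 4) →* Matrix.ProjectiveSpecialLinearGroup (Fin 2) F :=
      H₁.subtype.comp (e₁.symm.toMonoidHom.comp (A.subtype.comp eA.symm.toMonoidHom))
    have hι : Function.Injective ι := H₁.subtype_injective.comp (e₁.symm.injective.comp
      (A.subtype_injective.comp eA.symm.injective))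
    have hc : 2 * Nat.card H₁ = r * (r ^ 2 - 1) := by rw [Nat.card_congr e₁.toEquiv, hPSLc]
    -- `r ^ 2 = 1` modulo 32
    have hr32 : r ^ 2 % 32 = 1 := by
      obtain ⟨i, hi⟩ := hdo
      have hy8 : r ^ 2 % 8 = 1 := by
        rw [Nat.pow_mod]
        have : ∀ x < 8, x % 2 = 1 → x ^ 2 % 8 = 1 := by decide
        exact this _ (Nat.mod_lt _ (by norm_num))
          (by rw [Nat.mod_mod_of_dvd r (by norm_num)]; exact Nat.odd_iff.1 hrodd)
      have hq2 : q ^ 2 = r ^ 2 * ((r ^ 2) ^ 2) ^ i := by rw [← hrd, hi]; ring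
      rw [hq2] at h32
      have hlt : r ^ 2 % 32 < 32 := Nat.mod_lt _ (by norm_num)
      have h84 : ((r ^ 2) ^ 2) % 16 = 1 := by
        rw [Nat.pow_mod]
        have : ∀ x < 16, x % 8 = 1 → x ^ 2 % 16 = 1 := by decide
        exact this _ (Nat.mod_lt _ (by norm_num)) (by rw [Nat.mod_mod_of_dvd _ (by norm_num)]; exact hy8)
      have hz : (((r ^ 2) ^ 2) ^ i) % 16 = 1 := by simp [Nat.pow_mod, h84]
      rw [Nat.mul_mod] at h32
      have hzl : (((r ^ 2) ^ 2) ^ i) % 32 < 32 := Nat.mod_lt _ (by norm_num)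
      have h16 : ∀ x < 32, ∀ z < 32, x % 8 = 1 → z % 16 = 1 → x * z % 32 = 1 → x % 16 = 1 := by
        decide
      have hx16 := h16 _ hlt _ hzl (by rw [Nat.mod_mod_of_dvd _ (by norm_num)]; exact hy8)
        (by rw [Nat.mod_mod_of_dvd _ (by norm_num)]; exact hz) h32
      have hz32 : (((r ^ 2) ^ 2) ^ i) % 32 = 1 := by
        rw [Nat.pow_mod, Nat.pow_mod (r ^ 2)]
        have : ∀ x < 32, x % 16 = 1 → x ^ 2 % 32 = 1 := by decide
        simp [this _ hlt hx16]
      rw [hz32, mul_one, Nat.mod_mod] at h32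
      exact h32
    refine no_big_sub h hmax h2 e (L := H₁) ?_ ?_ (hne_top _ (by omega)) hι fun a => Subtype.prop _
    · have h16 : 16 ∣ r * (r ^ 2 - 1) := Dvd.dvd.mul_left
        (by have := Nat.one_le_pow 2 r (by omega); omega) r
      omega
    · have h7 : 32 ≤ r ^ 2 - 1 := by
        have := Nat.pow_le_pow_left hr3 2
        omega
      have := Nat.mul_le_mul hr3 h7
      omega

end Cfsg.Agent.Wong3x33
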