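import Mathlib
import Cfsg.Agent.Lib.Wong3Setup33
import Cfsg.Agent.Lib.Wong3EndPsl49
import Cfsg.Agent.Lib.GolayStab

/-!
`M11` has no maximal four-group normaliser of order 24: such a group would fix or permute the one or
three fixed points of the four-group in the sharply 4-transitive action on eleven points.
-/

set_option autoImplicit false
set_option linter.unusedSectionVars false

open scoped Pointwise
open Cfsg (GolayPt)

namespace Cfsg.Agent.Wong3x33

open Subgroup

universe u

/-- The eleven points. -/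
abbrev Eleven : Type := {x : GolayPt // x ∈ Cfsg.Spor.squareDodecad.erase (some 0)}

theorem o_mem : (some 0 : GolayPt) ∈ Cfsg.Spor.squareDodecad := by
  rw [GolayM24.squareDodecad_eq]
  decide +kernel

theorem card_eleven : Fintype.card Eleven = 11 := by
  rw [Fintype.card_coe, Finset.card_erase_of_mem o_mem, GolayM24.squareDodecad_eq]
  decide +kernel

theorem m11_spec {g : Equiv.Perm GolayPt} (hg : g ∈ Cfsg.Spor.M11) :
    g ∈ Cfsg.Spor.M12 ∧ g (some 0) = some 0 ∧
      ∀ x ∈ Cfsg.Spor.squareDodecad.erase (some 0),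
        g x ∈ Cfsg.Spor.squareDodecad.erase (some 0) := by
  obtain ⟨h12, h0⟩ := Subgroup.mem_inf.1 hg
  have h0' : g (some 0) = some 0 := MulAction.mem_stabilizer_iff.1 h0
  refine ⟨h12, h0', fun x hx => ?_⟩
  rw [Finset.mem_erase] at hx ⊢
  refine ⟨fun e => hx.1 (g.injective (e.trans h0'.symm)), ?_⟩
  have h1 := (GolayM24.mem_M12.1 h12).2
  rw [← GolayM24.squareDodecad_eq] at h1
  rw [← h1]
  exact Finset.smul_mem_smul_finset hx.2

theorem cons_mem {I : Type} (e : Fin 4 ≃ I) (x : I → Eleven) (hx : Function.Injective x) :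
    Function.Injective (Fin.cons (some 0) (fun i => (x (e i) : GolayPt)) : Fin 5 → GolayPt) ∧
      ∀ i, (Fin.cons (some 0) (fun i => (x (e i) : GolayPt)) : Fin 5 → GolayPt) i ∈
        Cfsg.Spor.squareDodecad := by
  refine ⟨Fin.cons_injective_iff.2 ⟨?_, Subtype.val_injective.comp (hx.comp e.injective)⟩, fun i => ?_⟩
  · rintro ⟨i, hi⟩
    exact (Finset.mem_erase.1 (x (e i)).2).1 hi
  · cases i using Fin.cases with
    | zero => exact o_mem
    | succ j => exact Finset.mem_of_mem_erase (x (e j)).2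

/-- Four points can be moved to any four points. -/
theorem exists_four {I : Type} (e : Fin 4 ≃ I) (x y : I → Eleven) (hx : Function.Injective x)
    (hy : Function.Injective y) :
    ∃ g : Cfsg.Spor.M11, ∀ i, (g : Equiv.Perm GolayPt) (x i) = y i := by
  obtain ⟨hx1, hx2⟩ := cons_mem e x hx
  obtain ⟨hy1, hy2⟩ := cons_mem e y hy
  obtain ⟨g, ⟨hg, hgi⟩, -⟩ := GolayStab.existsUnique_M12 _ _ hx1 hy1 hx2 hy2
  have h0 := hgi 0
  rw [Fin.cons_zero, Fin.cons_zero] at h0
  refine ⟨⟨g, Subgroup.mem_inf.2 ⟨hg, MulAction.mem_stabilizer_iff.2 h0⟩⟩, fun i => ?_⟩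
  have h1 := hgi (e.symm i).succ
  simpa using h1

/-- An element fixing four points is trivial. -/
theorem eq_one_four {I : Type} (e : Fin 4 ≃ I) (x : I → Eleven) (hx : Function.Injective x)
    (g : Cfsg.Spor.M11) (hg : ∀ i, (g : Equiv.Perm GolayPt) (x i) = x i) : g = 1 := by
  obtain ⟨hx1, hx2⟩ := cons_mem e x hx
  obtain ⟨g₀, -, huniq⟩ := GolayStab.existsUnique_M12 _ _ hx1 hx1 hx2 hx2
  obtain ⟨h12, h0, -⟩ := m11_spec g.2
  have h1 : (g : Equiv.Perm GolayPt) = g₀ := huniq _ ⟨h12, fun i => by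
    cases i using Fin.cases with
    | zero => simpa using h0
    | succ j => simpa using hg (e j)⟩
  have h2 : (1 : Equiv.Perm GolayPt) = g₀ := huniq _ ⟨one_mem _, fun i => rfl⟩
  exact Subtype.ext (h1.trans h2.symm)

/-- The action on the eleven points. -/
@[reducible] def actEleven : MulAction Cfsg.Spor.M11 Eleven where
  smul g x := ⟨(g : Equiv.Perm GolayPt) x, (m11_spec g.2).2.2 x x.2⟩
  one_smul _ := Subtype.ext rfl
  mul_smul _ _ _ := Subtype.ext rfl

theorem m11_four (V : Subgroup Cfsg.Spor.M11) (h4 : Nat.card V = 4)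
    (h24 : Nat.card (normalizer (V : Set Cfsg.Spor.M11)) = 24)
    (hmax : IsCoatom (normalizer (V : Set Cfsg.Spor.M11))) : False := by
  classical
  let _ := actEleven
  have : Fact (Nat.Prime 2) := ⟨Nat.prime_two⟩
  have hV2 : IsPGroup 2 V := IsPGroup.of_card (n := 2) (by rw [h4]; rfl)
  set F : Set Eleven := MulAction.fixedPoints V Eleven with hF
  have hodd : Odd F.ncard := by
    have h1 := hV2.card_modEq_card_fixedPoints Eleven
    rw [Nat.card_eq_fintype_card, card_eleven, Nat.card_coe_set_eq, ← hF] at h1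
    exact Nat.odd_iff.2 (by unfold Nat.ModEq at h1; omega)
  have hmemF : ∀ x : Eleven, x ∈ F ↔ ∀ v ∈ V, v • x = x := fun x =>
    ⟨fun hx v hv => hx ⟨v, hv⟩, fun hx v => hx v v.2⟩
  by_cases hbig : 4 ≤ F.ncard
  · have h1 : Fintype.card (Fin 4) ≤ Fintype.card F := by
      rw [Fintype.card_fin, ← Nat.card_eq_fintype_card, Nat.card_coe_set_eq]; exact hbig
    obtain ⟨f⟩ := Function.Embedding.nonempty_of_card_le h1
    have hbot : V = ⊥ := (Subgroup.eq_bot_iff_forall V).2 fun v hv =>
      eq_one_four (Equiv.refl _) (fun i => (f i : Eleven)) (Subtype.val_injective.comp f.injective) v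
        fun i => congrArg Subtype.val ((hmemF _).1 (f i).2 v hv)
    rw [hbot, Subgroup.card_bot] at h4
    omega
  set T : Subgroup Cfsg.Spor.M11 := MulAction.stabilizer Cfsg.Spor.M11 F with hT
  have hmemT : ∀ g, g ∈ T ↔ g • F = F := fun g => MulAction.mem_stabilizer_iff
  have hNT : normalizer (V : Set Cfsg.Spor.M11) ≤ T := by
    intro n hn
    have hsub : ∀ m ∈ normalizer (V : Set Cfsg.Spor.M11), ∀ x ∈ F, m • x ∈ F := by
      intro m hm x hx
      rw [hmemF]
      intro v hv
      have h1 := (hmemF x).1 hx (m⁻¹ * v * m) (Cfsg.Agent.CoprimeAction.conj_mem' hm hv)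
      rw [mul_smul, mul_smul, inv_smul_eq_iff] at h1
      exact h1
    rw [hmemT]
    refine Set.Subset.antisymm ?_ fun x hx => ⟨n⁻¹ • x, hsub _ (inv_mem hn) x hx, smul_inv_smul n x⟩
    rintro _ ⟨x, hx, rfl⟩
    exact hsub n hn x hx
  have hk : F.ncard = 1 ∨ F.ncard = 3 := by
    obtain ⟨j, hj⟩ := hodd
    omega
  set k := 4 - F.ncard with hkdef
  have hFc : Fintype.card F = F.ncard := by rw [← Nat.card_eq_fintype_card, Nat.card_coe_set_eq]
  let eI : Fin 4 ≃ F ⊕ Fin k := (Fintype.equivFinOfCardEq (by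
    rw [Fintype.card_sum, Fintype.card_fin, hFc]; omega)).symm
  have hFC : Fintype.card (Fᶜ : Set Eleven) = 11 - F.ncard := by
    rw [Fintype.card_compl_set, card_eleven, hFc]
  obtain ⟨base⟩ : Nonempty (Fin k ↪ (Fᶜ : Set Eleven)) :=
    Function.Embedding.nonempty_of_card_le (by rw [Fintype.card_fin, hFC]; omega)
  -- `T` is proper
  have hTne : T ≠ ⊤ := by
    intro e
    obtain ⟨x, hx⟩ : F.Nonempty := Set.nonempty_of_ncard_ne_zero (by omega)
    let i₀ : Fin k := ⟨0, by omega⟩
    let src : F ⊕ Fin k → Eleven := Sum.elim Subtype.val (fun i => (base i : Eleven))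
    have hsrc : Function.Injective src := Function.Injective.sumElim Subtype.val_injective
      (Subtype.val_injective.comp base.injective) fun a i => fun e' => (base i).2 (e' ▸ a.2)
    obtain ⟨g, hg⟩ := exists_four eI src (src ∘ Equiv.swap (Sum.inl ⟨x, hx⟩) (Sum.inr i₀)) hsrc
      (hsrc.comp (Equiv.injective _))
    have h1 := hg (Sum.inl ⟨x, hx⟩)
    rw [Function.comp_apply, Equiv.swap_apply_left] at h1
    have h2 : g • F = F := (hmemT g).1 (e ▸ Subgroup.mem_top g)
    have h3 : g • x ∈ F := h2 ▸ Set.smul_mem_smul_set hx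
    have h4 : g • x = (base i₀ : Eleven) := Subtype.ext h1
    exact (base i₀).2 (h4 ▸ h3)
  have hTeq : T = normalizer (V : Set Cfsg.Spor.M11) :=
    ((hmax.le_iff).1 hNT).resolve_left hTne
  -- `T` is large
  have hbigT : Nat.card (Equiv.Perm F × (Fin k ↪ (Fᶜ : Set Eleven))) ≤ Nat.card T := by
    have hex : ∀ q : Equiv.Perm F × (Fin k ↪ (Fᶜ : Set Eleven)), ∃ g : T,
        (∀ a : F, (g : Cfsg.Spor.M11) • (a : Eleven) = q.1 a) ∧
        ∀ i, (g : Cfsg.Spor.M11) • (base i : Eleven) = q.2 i := by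
      rintro ⟨σ, em⟩
      let src : F ⊕ Fin k → Eleven := Sum.elim Subtype.val (fun i => (base i : Eleven))
      let tgt : F ⊕ Fin k → Eleven := Sum.elim (fun a => (σ a : Eleven)) (fun i => (em i : Eleven))
      obtain ⟨g, hg⟩ := exists_four eI src tgt
        (Function.Injective.sumElim Subtype.val_injective (Subtype.val_injective.comp base.injective)
          fun a i => fun e' => (base i).2 (e' ▸ a.2))
        (Function.Injective.sumElim (Subtype.val_injective.comp σ.injective)
          (Subtype.val_injective.comp em.injective) fun a i => fun e' => (em i).2 (e' ▸ (σ a).2))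
      have ha : ∀ a : F, g • (a : Eleven) = σ a := fun a => Subtype.ext (hg (Sum.inl a))
      refine ⟨⟨g, (hmemT g).2 ?_⟩, ha, fun i => Subtype.ext (hg (Sum.inr i))⟩
      refine Set.Subset.antisymm ?_ fun x hx => ⟨σ.symm ⟨x, hx⟩, Subtype.prop _, by
        show g • ((σ.symm ⟨x, hx⟩ : F) : Eleven) = x
        rw [ha, Equiv.apply_symm_apply]⟩
      rintro _ ⟨x, hx, rfl⟩
      show g • x ∈ F
      rw [ha ⟨x, hx⟩]
      exact Subtype.prop _
    choose f hf using hex
    refine Nat.card_le_card_of_injective f fun q q' e => ?_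
    refine Prod.ext (Equiv.ext fun a => Subtype.ext ?_)
      (Function.Embedding.ext fun i => Subtype.ext ?_)
    · rw [← (hf q).1 a, ← (hf q').1 a, e]
    · rw [← (hf q).2 i, ← (hf q').2 i, e]
  rw [hTeq, h24, Nat.card_prod, Nat.card_eq_fintype_card, Nat.card_eq_fintype_card,
    Fintype.card_perm, Fintype.card_embedding_eq, Fintype.card_fin, hFC, hFc, hkdef] at hbigT
  rcases hk with e | e <;> rw [e] at hbigT <;> revert hbigT <;> decide

/-- In the hypothesis of S3686 a maximal normaliser excludes `M11`. -/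
theorem not_m11_max {G : Type u} [Group G] [Finite G] {V : Subgroup G} (h : Core G V)
    (hmax : IsCoatom (normalizer (V : Set G))) : ¬ Cfsg.Spor.IsoM11 G := by
  rintro ⟨e⟩
  have hN : (normalizer (V : Set G)).map e.toMonoidHom =
      normalizer ((V.map e.toMonoidHom : Subgroup Cfsg.Spor.M11) : Set Cfsg.Spor.M11) :=
    Subgroup.map_equiv_normalizer_eq V e
  refine m11_four (V.map e.toMonoidHom) ?_ ?_ ?_
  · rw [Subgroup.card_map_of_injective (f := e.toMonoidHom) e.injective, h.card_four]
  · rw [← hN, Subgroup.card_map_of_injective (f := e.toMonoidHom) e.injective, h.card_norm]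
  · rw [← hN]
    exact (e.mapSubgroup.isCoatom_iff _).2 hmax

end Cfsg.Agent.Wong3x33
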