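import Cfsg.Agent.Lib.Wong3Setup33
import Cfsg.Agent.S3304

/-!
Coordinates on the centraliser of an involution with quotient `GL(2,3)` by its odd core, when a
self-centralising four-group lies in it: the core is abelian, the determinant gives the action on it,
and a Sylow 2-subgroup lifts the coordinates of the semidihedral group.
-/

set_option autoImplicit false

set_option linter.style.haveILetI false
set_option linter.unusedSectionVars false

namespace Cfsg.Agent.Wong3x33

open Subgroup BinaryOctahedral GL23CentModel GL23Recog95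
open Cfsg.Agent.GWDih33 (Om)

universe u

namespace Frame89

/-- conjugates of the noncentral involution, and the neutral element -/
abbrev gens : Finset Coord := insert oneC (Finset.univ.image fun g => cjC g uC)

theorem gen_words : ∀ x, ∃ a ∈ gens, ∃ b ∈ gens, ∃ c ∈ gens, ∃ d ∈ gens,
    x = mC a (mC b (mC c d)) := by decide +kernel

theorem not_pSL_conj : ∀ g, ¬ pSL (cjC g uC) := by decide +kernel

theorem pSL_mul : ∀ x y, pSL (mC x y) ↔ (pSL x ↔ pSL y) := by decide +kernel

theorem pSD_of : ∀ y, powC y 8 = oneC → powC (mC uC y) 8 = oneC → pSD y := by decide +kernel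

theorem conj_one_t : ∀ g x, (cjC g x = oneC ↔ x = oneC) ∧ (cjC g x = tC ↔ x = tC) := by
  decide +kernel

theorem conj_conj : ∀ g x, cjC g (cjC (invC g) x) = x := by decide +kernel

theorem one_left : ∀ x, mC oneC x = x := by decide +kernel

theorem mC_eq_one : ∀ x y, mC x y = oneC → y = invC x := by decide +kernel

theorem inv_left : ∀ x, mC (invC x) x = oneC := by decide +kernel

variable {G : Type u} [Group G]

theorem conj_mul_eq (c a b : G) : c * (a * b) * c⁻¹ = c * a * c⁻¹ * (c * b * c⁻¹) := by group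

/-- Coordinates on the centraliser of `z` with kernel its odd core. -/
structure Coords (z : G) (φ : G → Coord) : Prop where
  mul : ∀ a b, Commute a z → Commute b z → φ (a * b) = mC (φ a) (φ b)
  surj : ∀ x, ∃ a, Commute a z ∧ φ a = x
  ker : ∀ a, Commute a z → (φ a = oneC ↔ a ∈ Om z)

theorem exists_coords {z : G}
    (hq : Nonempty ((centralizer ({z} : Set G)) ⧸ Cfsg.oddCore (centralizer ({z} : Set G)) ≃*
      GL (Fin 2) (ZMod 3))) : ∃ φ : G → Coord, Coords z φ := by
  classical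
  obtain ⟨e⟩ := hq
  haveI : (Cfsg.oddCore (centralizer ({z} : Set G))).Normal := HallCore.pPrimeCore_normal 2 _
  let E := Equiv.ofBijective _ S3304.gl_bij
  let π : centralizer ({z} : Set G) →* GL (Fin 2) (ZMod 3) :=
    e.toMonoidHom.comp (QuotientGroup.mk' (Cfsg.oddCore (centralizer ({z} : Set G))))
  let φ : G → Coord := fun a =>
    if ha : a ∈ centralizer ({z} : Set G) then E.symm (π ⟨a, ha⟩) else oneC
  have hmem : ∀ {a : G}, Commute a z → a ∈ centralizer ({z} : Set G) := fun ha =>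
    mem_centralizer_singleton_iff.2 ha.eq
  have hφ : ∀ (a : G) (ha : a ∈ centralizer ({z} : Set G)), φ a = E.symm (π ⟨a, ha⟩) :=
    fun a ha => dif_pos ha
  have hF : BinaryOctahedral.Frame (MonoidHom.mk' S3304.glQ S3304.glQ_mul) S3304.glC S3304.glU 1 :=
    ⟨S3304.gl_facts.1, S3304.gl_facts.2.1, S3304.gl_facts.2.2.1, S3304.gl_facts.2.2.2.1,
      S3304.gl_facts.2.2.2.2, Or.inl rfl⟩
  have hEmul : ∀ x y, E (mC x y) = E x * E y := fun x y => toH_mul hF x y
  have hEone : E oneC = 1 := by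
    have h1 := hEmul oneC oneC
    rw [one_mC] at h1
    exact mul_left_cancel (a := E oneC) (by rw [← h1, mul_one])
  refine ⟨φ, ?_, ?_, ?_⟩
  · intro a b ha hb
    rw [hφ _ (hmem ha), hφ _ (hmem hb), hφ _ (hmem (ha.mul_left hb))]
    apply E.injective
    rw [hEmul, E.apply_symm_apply, E.apply_symm_apply, E.apply_symm_apply, ← map_mul]
    rfl
  · intro x
    have hπ : Function.Surjective π := e.surjective.comp (QuotientGroup.mk'_surjective _)
    obtain ⟨a, ha⟩ := hπ (E x)
    refine ⟨a, mem_centralizer_singleton_iff.1 a.2, ?_⟩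
    rw [hφ _ a.2, ha, E.symm_apply_apply]
  · intro a ha
    rw [hφ _ (hmem ha), Equiv.symm_apply_eq, hEone]
    show e _ = 1 ↔ _
    rw [e.map_eq_one_iff, QuotientGroup.mk'_apply, QuotientGroup.eq_one_iff]
    constructor
    · exact fun h => ⟨_, h, rfl⟩
    · rintro ⟨b, hb, rfl⟩
      exact hb

namespace Coords

variable {z : G} {φ : G → Coord}

theorem map_one (hC : Coords z φ) : φ 1 = oneC :=
  (hC.ker 1 (Commute.one_left z)).2 (one_mem _)

theorem map_inv (hC : Coords z φ) {a : G} (ha : Commute a z) : φ a⁻¹ = invC (φ a) := by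
  refine mC_eq_one _ _ ?_
  rw [← hC.mul a a⁻¹ ha ha.inv_left, mul_inv_cancel, hC.map_one]

theorem map_pow (hC : Coords z φ) {a : G} (ha : Commute a z) : ∀ n, φ (a ^ n) = powC (φ a) n
  | 0 => by rw [pow_zero, hC.map_one]; rfl
  | n + 1 => by rw [pow_succ', hC.mul a _ ha (ha.pow_left n), map_pow hC ha n]; rfl

theorem eq_mul (hC : Coords z φ) {a b : G} (ha : Commute a z) (hb : Commute b z) (h : φ a = φ b) :
    a⁻¹ * b ∈ Om z := by
  refine (hC.ker _ (ha.inv_left.mul_left hb)).1 ?_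
  rw [hC.mul _ _ ha.inv_left hb, hC.map_inv ha, ← h]
  exact inv_left _

/-- Conjugated coordinates. -/
theorem conj (hC : Coords z φ) (g : Coord) : Coords z fun a => cjC g (φ a) := by
  obtain ⟨c, hc, rfl⟩ := hC.surj g
  have hcj : ∀ a, Commute a z → φ (c * a * c⁻¹) = cjC (φ c) (φ a) := fun a ha => by
    rw [hC.mul _ _ (hc.mul_left ha) hc.inv_left, hC.mul _ _ hc ha, hC.map_inv hc]
  refine ⟨fun a b ha hb => ?_, fun x => ?_, fun a ha => ?_⟩
  · show cjC (φ c) (φ (a * b)) = mC (cjC (φ c) (φ a)) (cjC (φ c) (φ b))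
    rw [← hcj _ (ha.mul_left hb), ← hcj _ ha, ← hcj _ hb, conj_mul_eq,
      hC.mul _ _ ((hc.mul_left ha).mul_left hc.inv_left) ((hc.mul_left hb).mul_left hc.inv_left)]
  · obtain ⟨a, ha, e⟩ := hC.surj (cjC (invC (φ c)) x)
    exact ⟨a, ha, by rw [e, conj_conj]⟩
  · rw [(conj_one_t (φ c) (φ a)).1, hC.ker a ha]

variable [Finite G]

theorem image_z (hC : Coords z φ) (hz : orderOf z = 2) : φ z = tC := by
  refine gl_t_unique _ ⟨?_, fun e => ?_⟩ fun y => ?_
  · rw [← hC.mul z z (Commute.refl z) (Commute.refl z), GWDih33.mul_self hz, hC.map_one]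
  · have := GWDih33.odd_of_mem (GWDih33.odd_om z) ((hC.ker z (Commute.refl z)).1 e)
    rw [hz] at this
    exact absurd this (by decide)
  · obtain ⟨b, hb, rfl⟩ := hC.surj y
    rw [← hC.mul z b (Commute.refl z) hb, ← hC.mul b z hb (Commute.refl z), hb.eq]

end Coords

variable [Finite G] {V : Subgroup G}

/-- The elements of a four-group. -/
theorem four_elems (h4 : Nat.card V = 4) (h2 : ∀ v ∈ V, v * v = 1) {z v : G} (hz : z ∈ V)
    (hv : v ∈ V) (hz1 : z ≠ 1) (hv1 : v ≠ 1) (hvz : v ≠ z) :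
    ∀ g, g ∈ V ↔ g = 1 ∨ g = z ∨ g = v ∨ g = z * v := by
  classical
  have hne : z * v ≠ 1 := fun e => hvz (by
    rw [← inv_eq_of_mul_eq_one_right e]
    exact inv_eq_of_mul_eq_one_right (h2 z hz))
  have hnz : z * v ≠ z := fun e => hv1 (mul_eq_left.1 e)
  have hnv : z * v ≠ v := fun e => hz1 (mul_eq_right.1 e)
  let s : Finset G := {1, z, v, z * v}
  have hs : s.card = 4 := by
    rw [Finset.card_eq_succ]
    refine ⟨1, {z, v, z * v}, ?_, rfl, ?_⟩
    · simp [Ne.symm hz1, Ne.symm hv1, Ne.symm hne]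
    · rw [Finset.card_insert_of_notMem (by simp [Ne.symm hvz, Ne.symm hnz]),
        Finset.card_insert_of_notMem (by simp [Ne.symm hnv]), Finset.card_singleton]
  have hsub : (s : Set G) ⊆ (V : Set G) := by
    intro x hx
    simp only [s, Finset.coe_insert, Finset.coe_singleton, Set.mem_insert_iff,
      Set.mem_singleton_iff] at hx
    rcases hx with rfl | rfl | rfl | rfl
    exacts [one_mem V, hz, hv, mul_mem hz hv]
  have heq : (s : Set G) = (V : Set G) := by
    refine Set.eq_of_subset_of_ncard_le hsub ?_ (Set.toFinite _)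
    rw [Set.ncard_coe_finset, hs, ← h4]
    exact le_of_eq (Nat.card_coe_set_eq _).symm
  intro g
  rw [← SetLike.mem_coe, ← heq]
  simp [s]

/-- The action of the centraliser on the core. -/
theorem Coords.act {z v : G} {φ : G → Coord} (hC : Coords z φ) (hvz : Commute v z) (hv : φ v = uC)
    (hinv : ∀ o ∈ Om z, v * o * v⁻¹ = o⁻¹) :
    ∀ a, Commute a z → ∀ o ∈ Om z, a * o * a⁻¹ = if pSL (φ a) then o else o⁻¹ := by
  have hmemC : ∀ {a : G}, Commute a z → a ∈ centralizer ({z} : Set G) := fun ha =>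
    mem_centralizer_singleton_iff.2 ha.eq
  have hn : ∀ a, Commute a z → ∀ o ∈ Om z, a * o * a⁻¹ ∈ Om z := fun a ha o ho =>
    (mem_normalizer_iff.1 (GWDih33.om_normalized z (hmemC ha)) o).1 ho
  have hcomm : ∀ a ∈ Om z, ∀ b ∈ Om z, a * b * a⁻¹ = b := by
    intro a ha b hb
    have e := hinv _ (mul_mem ha hb)
    rw [conj_mul_eq, hinv a ha, hinv b hb, ← mul_inv_rev, inv_inj] at e
    rw [← e, mul_inv_cancel_right]
  let P : Coord → Prop := fun x => ∀ a, Commute a z → φ a = x → ∀ o ∈ Om z,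
    a * o * a⁻¹ = if pSL x then o else o⁻¹
  have hmk : ∀ x b, Commute b z → φ b = x →
      (∀ o ∈ Om z, b * o * b⁻¹ = if pSL x then o else o⁻¹) → P x := by
    intro x b hb he hbo a ha hea o ho
    have hk : b⁻¹ * a ∈ Om z := hC.eq_mul hb ha (he.trans hea.symm)
    calc a * o * a⁻¹ = b * ((b⁻¹ * a) * o * (b⁻¹ * a)⁻¹) * b⁻¹ := by group
      _ = _ := by rw [hcomm _ hk o ho, hbo o ho]
  have hone : P oneC := hmk _ 1 (Commute.one_left z) hC.map_one fun o _ => by
    rw [if_pos (by decide +kernel), one_mul, inv_one, mul_one]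
  have hmul : ∀ x y, P x → P y → P (mC x y) := by
    intro x y hx hy
    obtain ⟨a, ha, hea⟩ := hC.surj x
    obtain ⟨b, hb, heb⟩ := hC.surj y
    refine hmk _ (a * b) (ha.mul_left hb) (by rw [hC.mul a b ha hb, hea, heb]) fun o ho => ?_
    have hm : pSL (mC x y) ↔ (pSL x ↔ pSL y) := pSL_mul x y
    calc a * b * o * (a * b)⁻¹ = a * (b * o * b⁻¹) * a⁻¹ := by group
      _ = _ := by
        rw [hy b hb heb o ho]
        by_cases hyp : pSL y
        · rw [if_pos hyp, hx a ha hea o ho]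
          by_cases hxp : pSL x
          · rw [if_pos hxp, if_pos (hm.2 (iff_of_true hxp hyp))]
          · rw [if_neg hxp, if_neg fun h => hxp ((hm.1 h).2 hyp)]
        · rw [if_neg hyp, hx a ha hea o⁻¹ (inv_mem ho)]
          by_cases hxp : pSL x
          · rw [if_pos hxp, if_neg fun h => hyp ((hm.1 h).1 hxp)]
          · rw [if_neg hxp, if_pos (hm.2 (iff_of_false hxp hyp)), inv_inv]
  have hgen : ∀ x ∈ gens, P x := by
    intro x hx
    rcases Finset.mem_insert.1 hx with rfl | hx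
    · exact hone
    obtain ⟨g, -, rfl⟩ := Finset.mem_image.1 hx
    obtain ⟨c, hc, rfl⟩ := hC.surj g
    refine hmk _ (c * v * c⁻¹) ((hc.mul_left hvz).mul_left hc.inv_left) ?_ fun o ho => ?_
    · rw [hC.mul _ _ (hc.mul_left hvz) hc.inv_left, hC.mul _ _ hc hvz, hC.map_inv hc, hv]
    rw [if_neg (not_pSL_conj _)]
    have h' : c⁻¹ * o * c⁻¹⁻¹ ∈ Om z := hn c⁻¹ hc.inv_left o ho
    calc c * v * c⁻¹ * o * (c * v * c⁻¹)⁻¹ = c * (v * (c⁻¹ * o * c⁻¹⁻¹) * v⁻¹) * c⁻¹ := by group
      _ = o⁻¹ := by rw [hinv _ h']; group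
  intro a ha
  obtain ⟨p, hp, q, hq, r, hr, s, hs, hw⟩ := gen_words (φ a)
  exact (hw.symm ▸ hmul _ _ (hgen p hp) (hmul _ _ (hgen q hq) (hmul _ _ (hgen r hr) (hgen s hs))) :
    P (φ a)) a ha rfl

/-- The order of the centraliser. -/
theorem card_cent {z : G}
    (hq : Nonempty ((centralizer ({z} : Set G)) ⧸ Cfsg.oddCore (centralizer ({z} : Set G)) ≃*
      GL (Fin 2) (ZMod 3))) :
    Nat.card (centralizer ({z} : Set G)) = 48 * Nat.card (Om z) := by
  obtain ⟨e⟩ := hq
  have hGL : Nat.card (GL (Fin 2) (ZMod 3)) = 48 := by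
    rw [← Nat.card_congr (Equiv.ofBijective _ S3304.gl_bij), card_coord]
  rw [Subgroup.card_eq_card_quotient_mul_card_subgroup
    (Cfsg.oddCore (centralizer ({z} : Set G))), Nat.card_congr e.toEquiv, hGL, Om,
    card_map_of_injective (centralizer ({z} : Set G)).subtype_injective]

/-- A Sylow 2-subgroup of the centraliser is a complete set of lifts of the semidihedral group. -/
theorem Coords.sylow {z v : G} {φ : G → Coord} (hC : Coords z φ)
    (hcard : Nat.card (centralizer ({z} : Set G)) = 48 * Nat.card (Om z))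
    (hz : orderOf z = 2) (hvz : Commute v z) (hv2 : v * v = 1) (hv : φ v = uC) :
    ∃ P : Subgroup G, z ∈ P ∧ v ∈ P ∧ (∀ a ∈ P, Commute a z) ∧ (∀ a ∈ P, a ∈ Om z → a = 1) ∧
      ∀ x, pSD x → ∃ a ∈ P, φ a = x := by
  classical
  haveI : Fact (Nat.Prime 2) := ⟨Nat.prime_two⟩
  let C := centralizer ({z} : Set G)
  have hzC : z ∈ C := mem_centralizer_singleton_iff.2 rfl
  have hvC : v ∈ C := mem_centralizer_singleton_iff.2 hvz.eq
  let W : Subgroup C := closure {⟨z, hzC⟩, ⟨v, hvC⟩}
  have hW : IsPGroup 2 W := by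
    have hsq : ∀ w ∈ W, w * w = 1 ∧ ∀ y ∈ ({⟨z, hzC⟩, ⟨v, hvC⟩} : Set C), Commute w y := by
      intro w hw
      refine closure_induction ?_ ⟨mul_one 1, fun y _ => Commute.one_left y⟩ ?_ ?_ hw
      · intro y hy
        have hc : Commute (⟨z, hzC⟩ : C) ⟨v, hvC⟩ := Subtype.ext hvz.symm.eq
        rcases hy with rfl | hy
        · refine ⟨Subtype.ext (GWDih33.mul_self hz), ?_⟩
          rintro x (rfl | rfl)
          exacts [Commute.refl _, hc]
        · rw [Set.mem_singleton_iff] at hy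
          subst hy
          refine ⟨Subtype.ext hv2, ?_⟩
          rintro x (rfl | rfl)
          exacts [hc.symm, Commute.refl _]
      · rintro a b ha hb ⟨ha2, hac⟩ ⟨hb2, hbc⟩
        have hab : Commute a b := by
          refine closure_induction (p := fun y _ => Commute a y) ?_ (Commute.one_right a) ?_ ?_ hb
          · exact fun y hy => hac y hy
          · exact fun _ _ _ _ h1 h2 => h1.mul_right h2
          · exact fun _ _ h => h.inv_right
        refine ⟨?_, fun y hy => (hac y hy).mul_left (hbc y hy)⟩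
        rw [hab.symm.mul_mul_mul_comm, ha2, hb2, one_mul]
      · rintro a ha ⟨ha2, hac⟩
        refine ⟨?_, fun y hy => (hac y hy).inv_left⟩
        rw [← mul_inv_rev, ha2, inv_one]
    exact fun w => ⟨1, Subtype.ext (by rw [pow_one, pow_two]; exact (hsq w w.2).1)⟩
  obtain ⟨S, hWS⟩ := hW.exists_le_sylow
  let P : Subgroup G := (S : Subgroup C).map C.subtype
  have hPC : ∀ a ∈ P, Commute a z := by
    rintro _ ⟨a, -, rfl⟩
    exact mem_centralizer_singleton_iff.1 a.2
  obtain ⟨k, hk⟩ := IsPGroup.iff_card.1 (S.2.map C.subtype)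
  have hmeet : ∀ a ∈ P, a ∈ Om z → a = 1 := by
    intro a ha ho
    rw [← orderOf_eq_one_iff]
    obtain ⟨m, hm⟩ := S.2.map C.subtype ⟨a, ha⟩
    refine Nat.eq_one_of_dvd_coprimes (Nat.Coprime.pow_left m (Nat.coprime_two_left.2
      (GWDih33.odd_of_mem (GWDih33.odd_om z) ho))) ?_ dvd_rfl
    exact orderOf_dvd_of_pow_eq_one (congrArg Subtype.val hm)
  have hP16 : Nat.card P = 16 := by
    have hPS : Nat.card P = Nat.card (S : Subgroup C) := card_map_of_injective C.subtype_injective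
    have hidx : ¬ 2 ∣ (S : Subgroup C).index := S.not_dvd_index
    have hcop : Nat.Coprime 2 (S : Subgroup C).index := (Nat.prime_two.coprime_iff_not_dvd).2 hidx
    have hmul : Nat.card P * (S : Subgroup C).index = 48 * Nat.card (Om z) := by
      rw [hPS, Subgroup.card_mul_index, ← hcard]
    refine Nat.dvd_antisymm ?_ ?_
    · have h1 : Nat.card P ∣ 16 * (3 * Nat.card (Om z)) := ⟨_, by rw [hmul]; ring⟩
      refine Nat.Coprime.dvd_of_dvd_mul_right ?_ h1
      rw [show P = (S : Subgroup C).map C.subtype from rfl, hk]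
      exact (Nat.coprime_two_left.2 ((by decide : Odd 3).mul (GWDih33.odd_om z))).pow_left k
    · have h1 : 16 ∣ Nat.card P * (S : Subgroup C).index := ⟨3 * Nat.card (Om z), by rw [hmul]; ring⟩
      exact (Nat.Coprime.pow_left 4 hcop).dvd_of_dvd_mul_right h1
  have hzP : z ∈ P := ⟨⟨z, hzC⟩, hWS (subset_closure (Set.mem_insert _ _)), rfl⟩
  have hvP : v ∈ P := ⟨⟨v, hvC⟩, hWS (subset_closure (Set.mem_insert_of_mem _ rfl)), rfl⟩
  refine ⟨P, hzP, hvP, hPC, hmeet, ?_⟩
  have hpow : ∀ a ∈ P, a ^ 16 = 1 := by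
    intro a ha
    have := congrArg Subtype.val (pow_card_eq_one' (x := (⟨a, ha⟩ : P)))
    rwa [hP16] at this
  have h8 : ∀ x : Coord, powC x 16 = oneC → powC x 8 = oneC := by decide +kernel
  have hsub : ∀ a : P, pSD (φ a) := by
    intro a
    refine pSD_of _ (h8 _ ?_) (h8 _ ?_)
    · rw [← hC.map_pow (hPC a a.2), hpow a a.2, hC.map_one]
    · rw [← hv, ← hC.mul v a hvz (hPC a a.2), ← hC.map_pow (hvz.mul_left (hPC a a.2)),
        hpow _ (mul_mem hvP a.2), hC.map_one]
  let ψ : P → {x : Coord // pSD x} := fun a => ⟨φ a, hsub a⟩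
  have hinj : Function.Injective ψ := by
    intro a b e
    have h1 := hC.eq_mul (hPC a a.2) (hPC b b.2) (congrArg Subtype.val e)
    have := hmeet _ (mul_mem (inv_mem a.2) b.2) h1
    exact Subtype.ext (inv_mul_eq_one.1 this)
  have hbij := hinj.bijective_of_nat_card_le (by
    rw [Nat.card_eq_fintype_card (α := {x : Coord // pSD x}), Fintype.card_subtype, card_pSD, hP16])
  intro x hx
  obtain ⟨a, ha⟩ := hbij.2 ⟨x, hx⟩
  exact ⟨a, a.2, congrArg Subtype.val ha⟩

end Frame89

variable {G : Type u} [Group G]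

open Frame89 in
/-- The semidihedral configuration with the four-group in its coordinates. -/
theorem exists_sd [Finite G] {V : Subgroup G} (h : Core G V)
    (hone : ∀ s t : G, orderOf s = 2 → orderOf t = 2 → IsConj s t)
    (htwo : Nat.card G % 32 = 16)
    (hq : ∀ z ∈ V, z ≠ 1 → Nonempty ((centralizer ({z} : Set G)) ⧸
      Cfsg.oddCore (centralizer ({z} : Set G)) ≃* GL (Fin 2) (ZMod 3))) :
    ∃ f : Coord → G, SD f ∧ IsFour f V := by
  classical
  obtain ⟨z, hzV, hz1⟩ : ∃ z ∈ V, z ≠ 1 := by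
    refine (V.ne_bot_iff_exists_ne_one.1 fun e => ?_).elim fun a ha =>
      ⟨a, a.2, fun e => ha (Subtype.ext e)⟩
    have := h.card_four
    rw [e, card_bot] at this
    omega
  obtain ⟨v, hvV, hv1, hvz⟩ : ∃ v ∈ V, v ≠ 1 ∧ v ≠ z := by
    by_contra hc
    push Not at hc
    have hsub : (V : Set G) ⊆ {1, z} := fun g hg => by
      by_cases hg1 : g = 1
      · exact Or.inl hg1
      · exact Or.inr (hc g hg hg1)
    have h1 := Set.ncard_le_ncard hsub (Set.toFinite _)
    rw [Set.ncard_pair (Ne.symm hz1), ← Nat.card_coe_set_eq] at h1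
    have := h.card_four
    simp only [SetLike.coe_sort_coe] at h1
    omega
  have hz : orderOf z = 2 := GWDih33.order_two (h.exp_two z hzV) hz1
  have hv : orderOf v = 2 := GWDih33.order_two (h.exp_two v hvV) hv1
  have hcvz : Commute v z := by
    have hc := h.self_cent.symm ▸ hzV
    exact Subgroup.mem_centralizer_iff.1 hc v hvV
  have hV := four_elems h.card_four h.exp_two hzV hvV hz1 hv1 hvz
  have hinv : ∀ o ∈ Om z, v * o * v⁻¹ = o⁻¹ := by
    rcases inverts_or_fixes (H := Om z) (GWDih33.mul_self hv) (fun o ho =>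
      (mem_normalizer_iff.1 (GWDih33.om_normalized z (mem_centralizer_singleton_iff.2 hcvz.eq)) o).1
        ho) with hi | ⟨o, ho, hne, hc⟩
    · exact hi
    refine absurd ?_ hne
    have hmem : o ∈ V := by
      rw [← h.self_cent, Subgroup.mem_centralizer_iff]
      intro g hg
      rcases (hV g).1 hg with rfl | rfl | rfl | rfl
      exacts [by rw [one_mul, mul_one], (GWDih33.om_comm ho).eq, hc.eq,
        ((GWDih33.om_comm ho).mul_left hc).eq]
    exact GWDih33.eq_one_of_two (GWDih33.odd_of_mem (GWDih33.odd_om z) ho) (h.exp_two o hmem)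
  obtain ⟨φ₀, hC₀⟩ := exists_coords (hq z hzV hz1)
  have hvi : IsInv (φ₀ v) := by
    refine ⟨?_, fun e => ?_⟩
    · rw [← hC₀.mul v v hcvz hcvz, GWDih33.mul_self hv, hC₀.map_one]
    · have := GWDih33.odd_of_mem (GWDih33.odd_om z) ((hC₀.ker v hcvz).1 e)
      rw [hv] at this
      exact absurd this (by decide)
  obtain ⟨g, hg⟩ : ∃ g, cjC g (φ₀ v) = (1, 0, 1) := by
    refine (inv_cases _ hvi).resolve_left fun e => hvz ?_
    have h1 := hC₀.eq_mul (Commute.refl z) hcvz ((hC₀.image_z hz).trans e.symm)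
    have h2 : z⁻¹ * v * (z⁻¹ * v) = 1 := by
      rw [(hcvz.symm.inv_left).symm.mul_mul_mul_comm, GWDih33.inv_self hz, GWDih33.mul_self hz,
        GWDih33.mul_self hv, one_mul]
    exact (inv_mul_eq_one.1 (GWDih33.eq_one_of_two
      (GWDih33.odd_of_mem (GWDih33.odd_om z) h1) h2)).symm
  obtain ⟨φ, hC, hφv⟩ : ∃ φ : G → Coord, Coords z φ ∧ φ v = uC := ⟨_, hC₀.conj g, hg⟩
  have hφz := hC.image_z hz
  obtain ⟨P, hzP, hvP, hPC, hmeet, hP⟩ :=
    hC.sylow (card_cent (hq z hzV hz1)) hz hcvz (GWDih33.mul_self hv) hφv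
  choose p hpP hpφ using hP
  choose a haz haφ using hC.surj
  let f : Coord → G := fun x => if hx : pSD x then p x hx else a x
  have hfC : ∀ x, Commute (f x) z := by
    intro x
    by_cases hx : pSD x
    · simp only [f, dif_pos hx]; exact hPC _ (hpP x hx)
    · simp only [f, dif_neg hx]; exact haz x
  have hfφ : ∀ x, φ (f x) = x := by
    intro x
    by_cases hx : pSD x
    · simp only [f, dif_pos hx]; exact hpφ x hx
    · simp only [f, dif_neg hx]; exact haφ x
  have hfP : ∀ x, pSD x → f x ∈ P := fun x hx => by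
    simp only [f, dif_pos hx]; exact hpP x hx
  have huniq : ∀ x, pSD x → ∀ b ∈ P, φ b = x → f x = b := fun x hx b hb e =>
    inv_mul_eq_one.1 (hmeet _ (mul_mem (inv_mem (hfP x hx)) hb)
      (hC.eq_mul (hfC x) (hPC b hb) ((hfφ x).trans e.symm)))
  have ht : f tC = z := huniq _ (by decide +kernel) z hzP hφz
  have hu : f uC = v := huniq _ (by decide +kernel) v hvP hφv
  have hw : f wC = z * v := huniq _ (by decide +kernel) _ (mul_mem hzP hvP)
    (by rw [hC.mul z v (Commute.refl z) hcvz, hφz, hφv])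
  refine ⟨f, ⟨?_, ?_, ?_, fun x y e => ?_, ?_, ?_, ?_, ?_, ?_, hone, htwo⟩, ?_⟩
  · intro x y
    rw [ht]
    refine hC.eq_mul (hfC _) ((hfC x).mul_left (hfC y)) ?_
    rw [hfφ, hC.mul _ _ (hfC x) (hfC y), hfφ, hfφ]
  · intro x y hx hy
    exact huniq _ (closed_pSD.2.2 x hx y hy) _ (mul_mem (hfP x hx) (hfP y hy))
      (by rw [hC.mul _ _ (hfC x) (hfC y), hfφ, hfφ])
  · intro x
    rw [ht]
    exact hfC x
  · rw [← hfφ x, e, hfφ y]
  · rw [ht]; exact hz
  · intro c hc
    rw [ht] at hc ⊢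
    exact ⟨φ c, (f (φ c))⁻¹ * c, hC.eq_mul (hfC _) hc (hfφ _), mul_inv_cancel_left _ _⟩
  · intro x hx
    rw [ht] at hx
    rw [← hfφ x]
    exact (hC.ker _ (hfC x)).2 hx
  · rw [ht]
    intro b hb c hc
    have e := hinv _ (mul_mem hb hc)
    rw [conj_mul_eq, hinv b hb, hinv c hc, ← mul_inv_rev, inv_inj] at e
    exact e.symm
  · intro x o ho
    rw [ht] at ho
    rw [hC.act hcvz hφv hinv (f x) (hfC x) o ho, hfφ]
  · intro g
    rw [ht, hu, hw]
    exact hV g

/-- With trivial core the coordinates are a homomorphism. -/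
theorem sd_exact [Finite G] {f : Coord → G} (hs : SD f) (h1 : Om (f tC) = ⊥) :
    ∀ x y, f (mC x y) = f x * f y := fun x y => by
  have := hs.mul x y
  rw [h1, Subgroup.mem_bot] at this
  exact inv_mul_eq_one.1 this

end Cfsg.Agent.Wong3x33
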