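import Cfsg.Agent.Lib.CycSyl43TwoFusion

/-!
A simple group whose Sylow 2-subgroup has a cyclic subgroup of index at most two has one class of
involutions and dihedral or semidihedral Sylow 2-subgroups.
-/

set_option autoImplicit false

namespace Cfsg.Agent.Wong3Fusion78

open Subgroup Cfsg.Agent.CycSyl43

universe u

variable {T : Type u} [Group T] [Finite T]

theorem center_eq_bot (hs : IsSimpleGroup T) (hnc : ∃ a b : T, a * b ≠ b * a) : center T = ⊥ := by
  haveI := hs
  rcases IsSimpleGroup.eq_bot_or_eq_top_of_normal (center T) inferInstance with h | h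
  · exact h
  · obtain ⟨a, b, hab⟩ := hnc
    exact absurd (mem_center_iff.1 (h ▸ mem_top b : b ∈ center T) a) hab

theorem not_isolated (hs : IsSimpleGroup T) (hnc : ∃ a b : T, a * b ≠ b * a) (h2d : 2 ∣ Nat.card T)
    (z : T) : ¬ Cfsg.IsIsolatedInvolution z := by
  intro hz
  haveI := hs
  have hO : Cfsg.pPrimeCore 2 T = ⊥ := by
    rcases IsSimpleGroup.eq_bot_or_eq_top_of_normal _ (HallCore.pPrimeCore_normal 2 T) with h | h
    · exact h
    · have h1 := ZStarTheorem.odd_card_pPrimeCore (G := T)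
      rw [h, card_top] at h1
      exact absurd h2d fun h2 => Nat.not_even_iff_odd.2 h1 (even_iff_two_dvd.2 h2)
  have h2 := ZStarTheorem.mem_center_of_isolated hz hO
  rw [center_eq_bot hs hnc, mem_bot] at h2
  have h3 := hz.1
  rw [h2, orderOf_one] at h3
  omega

theorem no_index_two (hs : IsSimpleGroup T) (hnc : ∃ a b : T, a * b ≠ b * a) (M : Subgroup T)
    (hM : M.Normal) : M.index ≠ 2 := by
  intro h
  haveI := hs
  rcases IsSimpleGroup.eq_bot_or_eq_top_of_normal M hM with e | e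
  · rw [e, index_bot] at h
    haveI : Fact (Nat.Prime 2) := ⟨Nat.prime_two⟩
    haveI := isCyclic_of_prime_card (p := 2) h
    obtain ⟨a, b, hab⟩ := hnc
    exact hab ((IsCyclic.commGroup (α := T)).mul_comm a b)
  · rw [e, index_top] at h
    omega

/-- One class of involutions, and a dihedral or semidihedral Sylow 2-subgroup, in a simple group whose
Sylow 2-subgroup has a cyclic subgroup of index at most two (as in `CycSyl43.two_cases`). -/
theorem two_cases {T : Type u} [Group T] [Finite T] (hs : IsSimpleGroup T)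
    (hnc : ∃ a b : T, a * b ≠ b * a) (h2d : 2 ∣ Nat.card T) (S : Sylow 2 T)
    (hsmall : ∃ C : Subgroup ↥(S : Subgroup T), IsCyclic C ∧ C.index ∣ 2) :
    ∃ (t : T), orderOf t = 2 ∧ t ∈ (S : Subgroup T) ∧
      (∀ s ∈ (S : Subgroup T), s * t = t * s) ∧
      (∀ u v : T, orderOf u = 2 → orderOf v = 2 → IsConj u v) ∧
      ((∃ k : ℕ, 1 ≤ k ∧ Nonempty ((S : Subgroup T) ≃* DihedralGroup (2 ^ k))) ∨
        Cfsg.IsQuasiDihedral ↥(S : Subgroup T)) := by
  haveI : Fact (Nat.Prime 2) := ⟨Nat.prime_two⟩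
  have hS : IsPGroup 2 (S : Subgroup T) := S.2
  -- involutions
  obtain ⟨x₀, hx₀⟩ := exists_prime_orderOf_dvd_card' 2 h2d
  have hconjS : ∀ x : T, orderOf x = 2 → ∃ g : T, g * x * g⁻¹ ∈ (S : Subgroup T) := by
    intro x hx
    obtain ⟨R, hR⟩ := (IsPGroup.of_card (n := 1) (by
      rw [Nat.card_zpowers, hx, pow_one]) : IsPGroup 2 (zpowers x)).exists_le_sylow
    obtain ⟨g, hg⟩ := MulAction.exists_smul_eq T R S
    refine ⟨g, ?_⟩
    rw [← hg, Sylow.smul_def, ← SetLike.mem_coe]
    exact Set.smul_mem_smul_set (hR (mem_zpowers x))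
  have hord : ∀ g x : T, orderOf (g * x * g⁻¹) = orderOf x := fun g x =>
    MulEquiv.orderOf_eq (MulAut.conj g) x
  by_cases hone : ∀ x y : T, x ∈ (S : Subgroup T) → y ∈ (S : Subgroup T) → orderOf x = 2 →
      orderOf y = 2 → x = y
  · exfalso
    obtain ⟨g, hg⟩ := hconjS x₀ hx₀
    have hz : orderOf (g * x₀ * g⁻¹) = 2 := by rw [hord, hx₀]
    refine not_isolated hs hnc h2d _ (isolated_of_unfused (S := S) hz (fun s hs => ?_) fun h hh => ?_)
    · have := hone _ _ (mul_mem (mul_mem hs hg) (inv_mem hs)) hg (by rw [hord, hz]) hz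
      exact mul_inv_eq_iff_eq_mul.1 this
    · exact hone _ _ hh hg (by rw [hord, hz]) hz
  push Not at hone
  obtain ⟨x₁, x₂, hx₁, hx₂, ho₁, ho₂, hne⟩ := hone
  -- the cyclic subgroup
  obtain ⟨C₀, hC₀, hidx⟩ := hsmall
  obtain ⟨c₀, rfl⟩ := (C₀.isCyclic_iff_exists_zpowers_eq_top).mp hC₀
  obtain ⟨k, hk⟩ := IsPGroup.iff_orderOf.1 hS c₀
  have hidx2 : (zpowers c₀).index = 2 := by
    rcases (Nat.dvd_prime Nat.prime_two).1 hidx with e | e
    · exfalso
      rw [index_eq_one] at e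
      haveI : IsCyclic (S : Subgroup T) := ⟨c₀, fun x => show x ∈ zpowers c₀ by rw [e]; exact mem_top x⟩
      rcases k with _ | n
      · rw [pow_zero, orderOf_eq_one_iff] at hk
        have : (⟨x₁, hx₁⟩ : (S : Subgroup T)) ∈ zpowers c₀ := e ▸ mem_top _
        rw [hk, zpowers_one_eq_bot, mem_bot] at this
        have h1 := congrArg Subtype.val this
        rw [show x₁ = 1 from h1, orderOf_one] at ho₁
        omega
      · have key : ∀ x : T, ∀ hx : x ∈ (S : Subgroup T), orderOf x = 2 →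
            (⟨x, hx⟩ : (S : Subgroup T)) = c₀ ^ (2 ^ n) := by
          intro x hx ho
          refine (PGroupsCyclic.sq_eq_one_or_eq hk (e ▸ mem_top _) ?_).resolve_left fun h => ?_
          · refine Subtype.ext ?_
            show x ^ 2 = 1
            rw [← ho, pow_orderOf_eq_one]
          · rw [show x = 1 from congrArg Subtype.val h, orderOf_one] at ho
            omega
        exact hne (congrArg Subtype.val ((key _ hx₁ ho₁).trans (key _ hx₂ ho₂).symm))
    · exact e
  haveI hCn : (zpowers c₀).Normal := normal_of_index_eq_two hidx2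
  have hcard : Nat.card (S : Subgroup T) = 2 * 2 ^ k := by
    rw [← (zpowers c₀).card_mul_index, hidx2, Nat.card_zpowers, hk, mul_comm]
  obtain ⟨n, rfl⟩ : ∃ n, k = n + 1 := by
    refine ⟨k - 1, ?_⟩
    by_contra hk0
    have h2 : Nat.card (S : Subgroup T) = 2 := by
      rw [hcard, show k = 0 by omega, pow_zero, mul_one]
    haveI := Fintype.ofFinite (S : Subgroup T)
    have h3 : 2 < Fintype.card (S : Subgroup T) := Fintype.two_lt_card_iff.2
      ⟨1, ⟨x₁, hx₁⟩, ⟨x₂, hx₂⟩,
        fun h => by rw [← show (1 : T) = x₁ from congrArg Subtype.val h, orderOf_one] at ho₁; omega,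
        fun h => by rw [← show (1 : T) = x₂ from congrArg Subtype.val h, orderOf_one] at ho₂; omega,
        fun h => hne (congrArg Subtype.val h)⟩
    rw [← Nat.card_eq_fintype_card] at h3
    omega
  set z₀ := c₀ ^ (2 ^ n) with hz₀
  have hzC : z₀ ∈ zpowers c₀ := pow_mem (mem_zpowers _) _
  have hz₀2 : orderOf z₀ = 2 := by
    rw [hz₀, orderOf_pow_of_dvd (by positivity) (hk ▸ pow_dvd_pow 2 n.le_succ), hk, pow_succ,
      Nat.mul_div_cancel_left _ (by positivity)]
  have hCinv : ∀ x ∈ zpowers c₀, orderOf x = 2 → x = z₀ := fun x hx ho =>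
    (PGroupsCyclic.sq_eq_one_or_eq hk hx (orderOf_dvd_iff_pow_eq_one.1 ho.dvd)).resolve_left
      fun h => by rw [h, orderOf_one] at ho; omega
  obtain ⟨u₀, hu2, huC⟩ : ∃ u₀ : (S : Subgroup T), orderOf u₀ = 2 ∧ u₀ ∉ zpowers c₀ := by
    by_contra h
    push Not at h
    have h1 := hCinv _ (h ⟨x₁, hx₁⟩ (by rw [Subgroup.orderOf_mk, ho₁]))
      (by rw [Subgroup.orderOf_mk, ho₁])
    have h2 := hCinv _ (h ⟨x₂, hx₂⟩ (by rw [Subgroup.orderOf_mk, ho₂]))
      (by rw [Subgroup.orderOf_mk, ho₂])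
    exact hne (congrArg Subtype.val (h1.trans h2.symm))
  have hu1 : u₀ ^ 2 = 1 := orderOf_dvd_iff_pow_eq_one.1 hu2.dvd
  have hcases : ∀ s : (S : Subgroup T), s ∈ zpowers c₀ ∨ s * u₀ ∈ zpowers c₀ := by
    intro s
    by_cases hs : s ∈ zpowers c₀
    · exact Or.inl hs
    · exact Or.inr ((mul_mem_iff_of_index_two hidx2).2 (iff_of_false hs huC))
  -- everything commutes with what commutes with `c₀` and `u₀`
  have hcommS : ∀ w : (S : Subgroup T), Commute c₀ w → Commute u₀ w → ∀ s, Commute s w := by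
    intro w h1 h2 s
    rcases hcases s with h | h
    · obtain ⟨j, rfl⟩ := mem_zpowers_iff.1 h
      exact h1.zpow_left j
    · obtain ⟨j, hj⟩ := mem_zpowers_iff.1 h
      rw [show s = c₀ ^ j * u₀⁻¹ by rw [hj, mul_inv_cancel_right]]
      exact (h1.zpow_left j).mul_left h2.inv_left
  have hzc : ∀ s : (S : Subgroup T), Commute s z₀ := by
    refine hcommS z₀ (Commute.self_pow c₀ _) (mul_inv_eq_iff_eq_mul.1 ?_)
    exact hCinv _ (hCn.conj_mem _ hzC u₀) ((MulEquiv.orderOf_eq (MulAut.conj u₀) z₀).trans hz₀2)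
  set z : T := (z₀ : T) with hz
  have hzo : orderOf z = 2 := by rw [hz, Subgroup.orderOf_coe, hz₀2]
  have hzcT : ∀ s ∈ (S : Subgroup T), s * z = z * s := fun s hs =>
    congrArg Subtype.val (hzc ⟨s, hs⟩).eq
  -- one class, by transfer
  have hclassS : ∀ x ∈ (S : Subgroup T), orderOf x = 2 → IsConj x z := by
    intro x hx ho
    by_contra hcon
    obtain ⟨M, hMn, hM, -⟩ := TransferThompson.thompson_transfer S
      ((zpowers c₀).map (S : Subgroup T).subtype) (map_subtype_le _)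
      (by rw [relIndex, subgroupOf, comap_map_eq_self_of_injective (subtype_injective _), hidx2])
      ho hx (by
        rintro g ⟨y, hy, hyg⟩
        have hy2 : orderOf y = 2 := by
          rw [← Subgroup.orderOf_coe, show (y : T) = g * x * g⁻¹ from hyg, hord, ho]
        refine hcon (isConj_iff.2 ⟨g, ?_⟩)
        rw [← hyg, hCinv y hy hy2]
        rfl)
    exact no_index_two hs hnc M hMn hM
  have hclass : ∀ x : T, orderOf x = 2 → IsConj x z := by
    intro x hx
    obtain ⟨g, hg⟩ := hconjS x hx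
    exact (isConj_iff.2 ⟨g, rfl⟩ : IsConj x (g * x * g⁻¹)).trans
      (hclassS _ hg (by rw [hord, hx]))
  refine ⟨z, hzo, z₀.2, hzcT, fun a b ha hb => (hclass a ha).trans (hclass b hb).symm, ?_⟩
  -- no square root of `z` centralises all involutions of `S`
  have bad : ∀ w₀ ∈ zpowers c₀, w₀ ^ 2 = z₀ → Commute u₀ w₀ → False := by
    intro w₀ hw hw2 huw
    have hcw : Commute c₀ w₀ := by
      obtain ⟨j, rfl⟩ := mem_zpowers_iff.1 hw
      exact Commute.self_zpow c₀ j
    have hall := hcommS w₀ hcw huw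
    have hwz : (w₀ : T) ^ 2 = z := congrArg Subtype.val hw2
    refine not_isolated hs hnc h2d z (isolated_of_unfused hzo hzcT fun g hg => ?_)
    set x := g * z * g⁻¹ with hx
    have hxo : orderOf x = 2 := by rw [hx, hord, hzo]
    have hxw : Commute x (w₀ : T) := congrArg Subtype.val (hall ⟨x, hg⟩).eq
    have hgx : g⁻¹ * x * g = z := by rw [hx]; group
    obtain ⟨y, hy, hyS⟩ := conj_into_sylow hzcT (P := zpowers (g⁻¹ * (w₀ : T) * g))
      (by
        obtain ⟨j, hj⟩ := IsPGroup.iff_orderOf.1 hS w₀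
        refine IsPGroup.of_card (n := j) ?_
        rw [Nat.card_zpowers, show g⁻¹ * (w₀ : T) * g = MulAut.conj g⁻¹ (w₀ : T) by simp,
          MulEquiv.orderOf_eq, Subgroup.orderOf_coe, hj])
      (zpowers_le.2 (mem_centralizer_singleton_iff.2 (by
        have h1 := hxw.symm.map (MulAut.conj g⁻¹).toMonoidHom
        simpa [← hgx, mul_assoc] using h1.eq)))
    set h := y * g⁻¹ with hh
    have hhx : h * x * h⁻¹ = z := by
      calc h * x * h⁻¹ = y * (g⁻¹ * x * g) * y⁻¹ := by rw [hh]; group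
        _ = z := by rw [hgx, mem_centralizer_singleton_iff.1 hy, mul_inv_cancel_right]
    have hhw : h * (w₀ : T) * h⁻¹ ∈ (S : Subgroup T) := by
      have := hyS _ (mem_zpowers _)
      rwa [show y * (g⁻¹ * (w₀ : T) * g) * y⁻¹ = h * (w₀ : T) * h⁻¹ by rw [hh]; group] at this
    have hsq : (⟨h * (w₀ : T) * h⁻¹, hhw⟩ : (S : Subgroup T)) ^ 2 ∈ zpowers c₀ :=
      sq_mem_of_index_two hidx2 _
    have hhz : h * z * h⁻¹ = z := by
      have e : (((⟨h * (w₀ : T) * h⁻¹, hhw⟩ : (S : Subgroup T)) ^ 2 : (S : Subgroup T)) : T) =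
          h * z * h⁻¹ := by
        rw [SubmonoidClass.coe_pow, conj_pow, hwz]
      rw [← e]
      exact congrArg Subtype.val (hCinv _ hsq (by rw [← Subgroup.orderOf_coe, e, hord, hzo]))
    exact mul_left_cancel (mul_right_cancel (hhx.trans hhz.symm))
  -- the action of `u₀` on `c₀`
  obtain ⟨r, hr⟩ := PGroupsCyclic.exists_conj_eq_zpow hCn u₀
  have hr2 : (2 : ℤ) ^ (n + 1) ∣ r ^ 2 - 1 := by
    have h := PGroupsCyclic.conj_iterate hr 2
    rw [hu1, one_mul, inv_one, mul_one] at h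
    have h' : c₀ ^ (r ^ 2) = c₀ ^ (1 : ℤ) := by rw [zpow_one]; exact h.symm
    rw [PGroupsCyclic.zpow_eq_iff_dvd, hk] at h'
    exact_mod_cast h'
  have hdih : u₀ * c₀ * u₀⁻¹ = c₀⁻¹ →
      ∃ k : ℕ, 1 ≤ k ∧ Nonempty ((S : Subgroup T) ≃* DihedralGroup (2 ^ k)) := fun h =>
    ⟨n + 1, by omega, PGroupsCyclic.nonempty_mulEquiv_dihedral hk huC h hu1 hcard⟩
  have hcne : c₀ ≠ 1 := fun h => by
    rw [h, orderOf_one] at hk
    have : 1 < 2 ^ (n + 1) := Nat.one_lt_two_pow n.succ_ne_zero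
    omega
  rcases PGroupsCyclic.int_sq_sub_one hr2 with h | h
  · -- `u₀` fixes `c₀` up to `z₀`
    have hroot : ∀ m, n = m + 1 → u₀ * c₀ ^ (2 ^ m) * u₀⁻¹ = c₀ ^ (2 ^ m) → False := by
      intro m hm he
      refine bad (c₀ ^ (2 ^ m)) (pow_mem (mem_zpowers _) _) ?_ (mul_inv_eq_iff_eq_mul.1 he)
      rw [← pow_mul, hz₀, hm, pow_succ]
    rcases zpow_cases hk h with e | e
    · rw [zpow_one] at e
      rcases n with _ | m
      · refine Or.inl (hdih ?_)
        rw [hr, e, eq_inv_iff_mul_eq_one, ← pow_two]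
        simpa [hk] using pow_orderOf_eq_one c₀
      · exact (hroot m rfl (by rw [← conj_pow, hr, e])).elim
    · rw [zpow_one] at e
      rcases n with _ | m
      · exfalso
        have h1 : u₀ * c₀ * u₀⁻¹ = 1 := by
          rw [hr, e, pow_zero, pow_one, ← pow_two]
          simpa [hk] using pow_orderOf_eq_one c₀
        exact hcne (conj_eq_one_iff.1 h1)
      rcases m with _ | m
      · refine Or.inl (hdih ?_)
        rw [hr, e, eq_inv_iff_mul_eq_one, ← pow_succ', ← pow_succ]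
        simpa [hk] using pow_orderOf_eq_one c₀
      · refine (hroot (m + 1) rfl ?_).elim
        rw [← conj_pow, hr, e, (Commute.self_pow c₀ _).mul_pow, ← pow_mul c₀ (2 ^ _), ← pow_add,
          show 2 ^ (m + 1 + 1) * 2 ^ (m + 1) = 2 ^ (m + 1 + 1 + 1) * 2 ^ m by ring]
        rw [pow_add, pow_mul, ← hk, pow_orderOf_eq_one, one_pow, mul_one]
  · -- `u₀` inverts `c₀` up to `z₀`
    have h' : (2 : ℤ) ^ n ∣ r - (-1) := by simpa using h
    rcases zpow_cases hk h' with e | e
    · refine Or.inl (hdih ?_)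
      rw [hr, e, zpow_neg_one]
    · rw [zpow_neg_one] at e
      rcases n with _ | m
      · exfalso
        have h1 : u₀ * c₀ * u₀⁻¹ = 1 := by rw [hr, e, pow_zero, pow_one, inv_mul_cancel]
        exact hcne (conj_eq_one_iff.1 h1)
      rcases m with _ | m
      · refine (bad c₀ (mem_zpowers _) (by rw [hz₀]; norm_num) (mul_inv_eq_iff_eq_mul.1 ?_)).elim
        rw [hr, e, show (2 : ℕ) ^ (0 + 1) = 1 + 1 from rfl, pow_succ, pow_one, inv_mul_cancel_left]
      · refine Or.inr ⟨m + 1 + 1 + 1, by omega, ?_, c₀, u₀, hk, hu2, ?_⟩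
        · rw [hcard, pow_succ' 2 (m + 1 + 1 + 1)]
        · rw [hr, e, show m + 1 + 1 + 1 - 1 = m + 1 + 1 by omega, inv_mul_eq_iff_eq_mul,
            ← pow_succ', Nat.sub_add_cancel Nat.one_le_two_pow]

end Cfsg.Agent.Wong3Fusion78
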