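import Mathlib

/-!
A group with an involution `a` whose centraliser is a four-group `{1, a, w, a * w}`, `a` conjugate to
`a * w` but not to `w`.

For `q` conjugate to `w` the product `a * q` has even order, and the involution of the cyclic group it
generates lies in the four-group and commutes with `q`. Hence `q` commutes with `w`: the class of `w`
consists of commuting involutions, and it is centralised by a subgroup on which `a` has very few
fixed points.
-/

set_option autoImplicit false

namespace Cfsg.Agent.Wong3Invol78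

variable {X : Type*} [Group X]

/-- The standing hypothesis. -/
structure Four (a w : X) : Prop where
  ha : a * a = 1
  hw : w * w = 1
  hw1 : w ≠ 1
  comm : Commute a w
  cent : ∀ c, Commute c a → c = 1 ∨ c = a ∨ c = w ∨ c = a * w
  ne : ¬ IsConj a w
  conj : IsConj a (a * w)

variable {a w u : X}

theorem Four.inv_a (h : Four a w) : a⁻¹ = a := inv_eq_of_mul_eq_one_right h.ha

theorem Four.sq_class (h : Four a w) {q : X} (hq : IsConj w q) : q * q = 1 := by
  obtain ⟨g, rfl⟩ := isConj_iff.1 hq
  rw [conj_mul, h.hw, mul_one, mul_inv_cancel]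

theorem Four.uniq (h : Four a w) {c : X} (hca : Commute c a) (hc : IsConj w c) : c = w := by
  rcases h.cent c hca with rfl | rfl | rfl | rfl
  · obtain ⟨g, hg⟩ := isConj_iff.1 hc
    exact absurd (conj_eq_one_iff.1 hg) h.hw1
  · exact absurd hc.symm h.ne
  · rfl
  · exact absurd (h.conj.trans hc.symm) h.ne

theorem Four.uniq' (h : Four a w) {c : X} (hca : Commute c (a * w)) (hc : IsConj w c) : c = w := by
  obtain ⟨g, hg⟩ := isConj_iff.1 h.conj
  have key : ∀ d, Commute d (a * w) → IsConj w d → g⁻¹ * d * g = w := by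
    intro d hd hdc
    refine h.uniq ?_ (hdc.trans (isConj_iff.2 ⟨g⁻¹, by rw [inv_inv]⟩))
    have h2 := hd.map (MulAut.conj g⁻¹).toMonoidHom
    rw [← hg] at h2
    simpa [mul_assoc] using h2
  have h1 := key c hca hc
  have h2 := key w (h.comm.symm.mul_right (Commute.refl w)) (IsConj.refl w)
  calc c = g * (g⁻¹ * c * g) * g⁻¹ := by group
    _ = g * (g⁻¹ * w * g) * g⁻¹ := by rw [h1, h2]
    _ = w := by group

theorem Four.commute_w [Finite X] (h : Four a w) {q : X} (hq : IsConj w q) : Commute q w := by
  set r := a * q with hr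
  have hqq := h.sq_class hq
  have hqi : q⁻¹ = q := inv_eq_of_mul_eq_one_right hqq
  have har : a * r * a⁻¹ = r⁻¹ := by
    rw [hr, h.inv_a, mul_inv_rev, hqi, h.inv_a, ← mul_assoc, h.ha, one_mul]
  rcases Nat.even_or_odd (orderOf r) with ⟨l, hl⟩ | ⟨k, hk⟩
  · set i := r ^ l with hi
    have hii : i * i = 1 := by rw [hi, ← pow_add, ← hl, pow_orderOf_eq_one]
    have hpos := orderOf_pos r
    have hi1 : i ≠ 1 := pow_ne_one_of_lt_orderOf (by omega) (by omega)
    have hai : Commute a i := by
      have h1 : a * i * a⁻¹ = i := by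
        rw [hi, ← conj_pow, har, inv_pow]
        exact inv_eq_of_mul_eq_one_right hii
      exact mul_inv_eq_iff_eq_mul.1 h1
    have hqi' : Commute q i := by
      rw [show q = a * r by rw [hr, ← mul_assoc, h.ha, one_mul]]
      exact hai.mul_left (Commute.self_pow r l)
    rcases h.cent i hai.symm with e | e | e | e
    · exact absurd e hi1
    · rw [h.uniq (e ▸ hqi') hq]
    · exact e ▸ hqi'
    · rw [h.uniq' (e ▸ hqi') hq]
  · exfalso
    refine h.ne (IsConj.trans ?_ hq.symm)
    refine isConj_iff.2 ⟨r ^ k, ?_⟩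
    have h1 : a * (r ^ k)⁻¹ * a⁻¹ = r ^ k := by
      rw [← conj_inv, ← conj_pow, har, inv_pow, inv_inv]
    have h2 : r ^ (k + k) = r⁻¹ := by
      refine eq_inv_of_mul_eq_one_left ?_
      rw [← pow_succ, ← two_mul, ← hk, pow_orderOf_eq_one]
    calc r ^ k * a * (r ^ k)⁻¹ = r ^ k * (a * (r ^ k)⁻¹ * a⁻¹) * a := by group
      _ = r ^ (k + k) * a := by rw [h1, pow_add]
      _ = q := by rw [h2, hr, mul_inv_rev, hqi, h.inv_a, mul_assoc, h.ha, mul_one]

theorem Four.pairwise [Finite X] (h : Four a w) {p q : X} (hp : IsConj w p) (hq : IsConj w q) :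
    Commute p q := by
  obtain ⟨g, rfl⟩ := isConj_iff.1 hp
  have h1 := (h.commute_w (hq.trans (isConj_iff.2 ⟨g⁻¹, by rw [inv_inv]⟩) : IsConj w (g⁻¹ * q * g))).symm.map
    (MulAut.conj g).toMonoidHom
  simpa [mul_assoc] using h1

theorem solvable_perm_three : Group.IsSolvable (Equiv.Perm (Fin 3)) := by
  haveI : Fact (Nat.Prime 3) := ⟨Nat.prime_three⟩
  haveI : IsCyclic (alternatingGroup (Fin 3)) :=
    isCyclic_of_prime_card (p := 3) (by rw [nat_card_alternatingGroup]; simp; decide)
  letI := IsCyclic.commGroup (α := alternatingGroup (Fin 3))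
  refine Group.isSolvable_of_ker_le_range (alternatingGroup (Fin 3)).subtype
    (Equiv.Perm.sign : Equiv.Perm (Fin 3) →* ℤˣ) ?_
  rw [Subgroup.range_subtype]
  rfl

/-- Such a group is solvable if some other member `u` of the class of `w` has `a * u * a = u * w`. -/
theorem Four.solvable [Finite X] (h : Four a w) (hu : IsConj w u) (hau : a * u * a = u * w)
    (huw : u ≠ w) : Group.IsSolvable X := by
  classical
  have hinv := h.inv_a
  set M : Subgroup X := Subgroup.centralizer {q | IsConj w q} with hMdef
  have hM : ∀ {m : X}, m ∈ M → ∀ q, IsConj w q → Commute q m := fun hm q hq =>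
    Subgroup.mem_centralizer_iff.1 hm q hq
  have hBM : ∀ {q : X}, IsConj w q → q ∈ M := fun {q} hq =>
    Subgroup.mem_centralizer_iff.2 fun p hp => (h.pairwise hp hq).eq
  have hwM : w ∈ M := hBM (IsConj.refl w)
  haveI hMn : M.Normal := ⟨fun m hm g => Subgroup.mem_centralizer_iff.2 fun q hq => by
    have h1 : Commute (g⁻¹ * q * g) m :=
      hM hm _ (IsConj.trans hq (isConj_iff.2 ⟨g⁻¹, by rw [inv_inv]⟩))
    have h2 := h1.map (MulAut.conj g).toMonoidHom
    simp only [MulEquiv.coe_toMonoidHom, MulAut.conj_apply] at h2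
    rwa [show g * (g⁻¹ * q * g) * g⁻¹ = q by group] at h2⟩
  have haM : a ∉ M := fun ha => h.hw1 (by
    have h1 : a * u = u * a := (hM ha u hu).symm
    rw [h1, mul_assoc, h.ha, mul_one] at hau
    exact left_eq_mul.1 hau)
  have hfix : ∀ m ∈ M, Commute m a → m = 1 ∨ m = w := by
    intro m hm hma
    rcases h.cent m hma with rfl | rfl | rfl | rfl
    · exact Or.inl rfl
    · exact absurd hm haM
    · exact Or.inr rfl
    · exfalso
      have := mul_mem hm (inv_mem hwM)
      rw [mul_inv_cancel_right] at this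
      exact haM this
  have huM := hBM hu
  have huu := h.sq_class hu
  have huw' : Commute u w := h.commute_w hu
  -- the subgroup of the elements moved inside `{1, w}`
  have hfour : ∀ m ∈ M, (m⁻¹ * (a * m * a) = 1 ∨ m⁻¹ * (a * m * a) = w) →
      m = 1 ∨ m = w ∨ m = u ∨ m = w * u := by
    rintro m hm (e | e)
    · have hc : Commute m a := by
        have h1 : a * m * a = m := (inv_mul_eq_one.1 e).symm
        show m * a = a * m
        calc m * a = a * m * a * a := by rw [h1]
          _ = a * m := by rw [mul_assoc (a * m), h.ha, mul_one]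
      rcases hfix m hm hc with rfl | rfl <;> simp
    · have h1 : a * m * a = m * w := inv_mul_eq_iff_eq_mul.1 e
      have h2 : Commute (m * u) a := by
        have h3 : a * (m * u) * a = m * u := by
          calc a * (m * u) * a = (a * m * a) * (a * u * a) := by
                simp only [mul_assoc]; rw [← mul_assoc a a, h.ha, one_mul]
            _ = m * u := by
                rw [h1, hau, mul_assoc m w, ← mul_assoc w u, ← huw'.eq, mul_assoc u w w, h.hw, mul_one]
        show m * u * a = a * (m * u)
        calc m * u * a = a * (m * u) * a * a := by rw [h3]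
          _ = a * (m * u) := by rw [mul_assoc (a * (m * u)), h.ha, mul_one]
      rcases hfix _ (mul_mem hm huM) h2 with e' | e'
      · exact Or.inr (Or.inr (Or.inl (by
          rw [eq_inv_of_mul_eq_one_left e', inv_eq_of_mul_eq_one_right huu])))
      · refine Or.inr (Or.inr (Or.inr ?_))
        rw [← e', mul_assoc, huu, mul_one]
  have hB : ∀ q, IsConj w q → q = w ∨ q = u ∨ q = w * u := by
    intro q hq
    have hq' : IsConj w (a * q * a) := hq.trans (isConj_iff.2 ⟨a, by rw [hinv]⟩)
    have hc := h.pairwise hq hq'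
    have he : Commute (q * (a * q * a)) a := by
      show q * (a * q * a) * a = a * (q * (a * q * a))
      rw [hc.eq]
      calc a * q * a * q * a = a * (q * (a * q * a)) := by group
        _ = _ := by rw [← hc.eq]
    have hq2 := h.sq_class hq
    rcases hfour q (hBM hq) (by
      rw [inv_eq_of_mul_eq_one_right hq2]
      exact hfix _ (mul_mem (hBM hq) (hBM hq')) he) with rfl | rfl | rfl | rfl
    · obtain ⟨g, hg⟩ := isConj_iff.1 hq
      exact absurd (conj_eq_one_iff.1 hg) h.hw1
    all_goals simp
  -- the quotient of `M`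
  have hcenM : ∀ {m : M}, ((m : X) = 1 ∨ (m : X) = w ∨ (m : X) = u ∨ (m : X) = w * u) →
      ∀ k : M, k * m = m * k := by
    intro m hm k
    refine Subtype.ext ?_
    show (k : X) * m = m * k
    rcases hm with e | e | e | e <;> rw [e]
    · simp
    · exact (hM k.2 w (IsConj.refl w)).symm.eq
    · exact (hM k.2 u hu).symm.eq
    · exact ((hM k.2 w (IsConj.refl w)).symm.mul_right (hM k.2 u hu).symm).eq
  have hexp : ∀ e : X, (e = 1 ∨ e = w ∨ e = u ∨ e = w * u) → e⁻¹ = e := by
    rintro e (rfl | rfl | rfl | rfl)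
    · exact inv_one
    · exact inv_eq_of_mul_eq_one_right h.hw
    · exact inv_eq_of_mul_eq_one_right huu
    · rw [mul_inv_rev, inv_eq_of_mul_eq_one_right huu, inv_eq_of_mul_eq_one_right h.hw]
      exact huw'.eq
  have hwcen : ∀ k : M, Commute (k : X) w := fun k => (hM k.2 w (IsConj.refl w)).symm
  let σ : X → X := fun m => m⁻¹ * (a * m * a)
  have hσmul : ∀ m n : M, (σ (m : X) = 1 ∨ σ (m : X) = w) →
      σ ((m : X) * n) = σ (m : X) * σ (n : X) := by
    intro m n hm
    have h1 : Commute (n : X)⁻¹ (σ (m : X)) := by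
      rcases hm with e | e <;> rw [e]
      · exact Commute.one_right _
      · exact (hwcen n).inv_left
    calc σ ((m : X) * n) = (n : X)⁻¹ * σ (m : X) * (a * n * a) := by
          simp only [σ, mul_inv_rev, mul_assoc]; rw [← mul_assoc a a, h.ha, one_mul]
      _ = σ (m : X) * σ (n : X) := by rw [h1.eq]; simp only [σ, mul_assoc]
  let K : Subgroup M :=
    { carrier := {m | σ (m : X) = 1 ∨ σ (m : X) = w}
      one_mem' := Or.inl (by simp [σ, h.ha])
      mul_mem' := by
        intro m n hm hn
        show σ ((m : X) * n) = 1 ∨ σ ((m : X) * n) = w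
        rw [hσmul m n hm]
        rcases hm with e | e <;> rcases hn with e' | e' <;> simp [e, e', h.hw]
      inv_mem' := by
        intro m hm
        show σ ((m⁻¹ : M) : X) = 1 ∨ σ ((m⁻¹ : M) : X) = w
        have h1 : m⁻¹ = m := Subtype.ext (by
          rw [Subgroup.coe_inv]; exact hexp _ (hfour _ m.2 hm))
        rw [h1]; exact hm }
  have hK : ∀ m ∈ K, ∀ k : M, k * m = m * k := fun m hm => hcenM (hfour _ m.2 hm)
  haveI : K.Normal := ⟨fun m hm g => by rwa [hK m hm g, mul_inv_cancel_right]⟩
  have hMa : ∀ m ∈ M, a * m * a ∈ M := fun m hm => by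
    have := hMn.conj_mem m hm a
    rwa [hinv] at this
  let φ : M →* M := MonoidHom.mk' (fun m => ⟨a * m * a, hMa m m.2⟩) fun m n => Subtype.ext (by
    simp only [Subgroup.coe_mul, mul_assoc]; rw [← mul_assoc a a, h.ha, one_mul])
  have hφK : K ≤ K.comap φ := by
    intro m hm
    show σ (a * m * a) = 1 ∨ σ (a * m * a) = w
    have h1 : σ (a * m * a) = (σ (m : X))⁻¹ := by
      simp only [σ, mul_inv_rev, hinv, inv_inv, mul_assoc]
      rw [← mul_assoc a a, h.ha, one_mul, mul_one]
    rw [h1]
    rcases hm with e | e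
    · exact Or.inl (by rw [e, inv_one])
    · exact Or.inr (by rw [e, inv_eq_of_mul_eq_one_right h.hw])
  set φ' : M ⧸ K →* M ⧸ K := QuotientGroup.map K K φ hφK with hφ'
  have hmk : ∀ m : M, φ' (m : M ⧸ K) = ((φ m : M) : M ⧸ K) := fun m => QuotientGroup.map_mk K K φ hφK m
  have hinvol : Function.Involutive φ' := by
    intro q
    obtain ⟨m, rfl⟩ := QuotientGroup.mk_surjective q
    rw [hmk, hmk]
    congr 1
    refine Subtype.ext ?_
    show a * (a * m * a) * a = (m : X)
    simp only [mul_assoc, h.ha, mul_one]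
    rw [← mul_assoc, h.ha, one_mul]
  have hfpf : MonoidHom.FixedPointFree φ' := by
    intro q hq
    obtain ⟨m, rfl⟩ := QuotientGroup.mk_surjective q
    rw [hmk, eq_comm, QuotientGroup.eq] at hq
    have he := hfour _ (m⁻¹ * φ m).2 hq
    set e : X := ((m⁻¹ * φ m : M) : X) with hedef
    have hev : e = σ (m : X) := rfl
    have h2 : a * e * a = e⁻¹ := by
      rw [hev]
      simp only [σ, mul_inv_rev, hinv, inv_inv, mul_assoc]
      rw [h.ha, mul_one]
    rw [hexp e he] at h2
    have h3 : Commute e a := by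
      show e * a = a * e
      calc e * a = a * e * a * a := by rw [h2]
        _ = a * e := by rw [mul_assoc (a * e), h.ha, mul_one]
    refine (QuotientGroup.eq_one_iff m).2 ?_
    show σ (m : X) = 1 ∨ σ (m : X) = w
    rw [← hev]
    exact hfix e (m⁻¹ * φ m).2 h3
  haveI hsK : Group.IsSolvable K :=
    Group.isSolvable_of_comm fun p q => Subtype.ext (hK q q.2 p)
  haveI hsQ : Group.IsSolvable (M ⧸ K) := Group.isSolvable_of_comm (hfpf.commute_all_of_involutive hinvol)
  haveI hsM : Group.IsSolvable M :=
    Group.isSolvable_of_ker_le_range K.subtype (QuotientGroup.mk' K)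
      (by rw [QuotientGroup.ker_mk', Subgroup.range_subtype])
  -- the action on the class
  let B := {q : X // IsConj w q}
  let act : X →* Equiv.Perm B :=
    MonoidHom.mk' (fun g => Equiv.subtypeEquiv (MulAut.conj g).toEquiv fun q => by
      show IsConj w q ↔ IsConj w (g * q * g⁻¹)
      exact ⟨fun hq => hq.trans (isConj_iff.2 ⟨g, rfl⟩),
        fun hq => hq.trans (isConj_iff.2 ⟨g, rfl⟩ : IsConj q (g * q * g⁻¹)).symm⟩)
      fun g k => Equiv.ext fun q => Subtype.ext (by simp [mul_assoc])
  have hker : act.ker ≤ M.subtype.range := by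
    intro g hg
    rw [Subgroup.range_subtype, hMdef, Subgroup.mem_centralizer_iff]
    intro q hq
    have h1 : g * q * g⁻¹ = q := by
      exact congrArg (fun p : Equiv.Perm B => ((p ⟨q, hq⟩ : B) : X)) (MonoidHom.mem_ker.1 hg)
    exact (mul_inv_eq_iff_eq_mul.1 h1).symm
  haveI := Fintype.ofFinite B
  have hcard : Fintype.card B ≤ Fintype.card (Fin 3) := by
    have hinj : Function.Injective (fun q : B => (⟨(q : X), by
        rcases hB _ q.2 with e | e | e <;> simp [e]⟩ : ({w, u, w * u} : Finset X))) :=
      fun p q hpq => Subtype.ext (congrArg (fun z : ({w, u, w * u} : Finset X) => (z : X)) hpq)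
    have h1 := Fintype.card_le_of_injective _ hinj
    rw [Fintype.card_coe] at h1
    exact h1.trans (Finset.card_le_three.trans (Fintype.card_fin 3).ge)
  obtain ⟨emb⟩ := Function.Embedding.nonempty_of_card_le hcard
  haveI := solvable_perm_three
  haveI : Group.IsSolvable (Equiv.Perm B) :=
    Group.isSolvable_of_isSolvable_injective (Equiv.Perm.viaEmbeddingHom_injective emb)
  exact Group.isSolvable_of_ker_le_range M.subtype act hker

end Cfsg.Agent.Wong3Invol78
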