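import Cfsg.Agent.Lib.Wong3Setup33
import Cfsg.Agent.Lib.Wong3Eigen42

/-!
The semidihedral configuration of S3686 has no natural layer in the centralizer of an element of
order three of the core, given a character of degree twelve or ten.
-/

set_option autoImplicit false
set_option linter.unusedSectionVars false
set_option linter.style.haveILetI false

namespace Cfsg.Agent.Wong3x33

open Subgroup BinaryOctahedral GL23CentModel GL23Recog95
open Cfsg.Agent.GWDih33 (Om om_comm odd_of_mem)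
open Cfsg.Agent.Wong3Eigen42

universe u

namespace Layer42

/-- two noncommuting quaternion elements -/
abbrev qa : Coord := (QuaternionGroup.a 1, 0, 0)

/-- the second one -/
abbrev qb : Coord := (QuaternionGroup.xa 0, 0, 0)

theorem q_facts : mC qa qb = mC tC (mC qb qa) := by decide +kernel

theorem q_pow : ∀ q q' : Q8, q ≠ q' →
    powC (mC (invC (q, 0, 0)) (q', 0, 0)) 1 = tC ∨ powC (mC (invC (q, 0, 0)) (q', 0, 0)) 2 = tC := by
  decide +kernel

variable {G : Type u} [Group G] {f : Coord → G}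

theorem pSD_facts : pSD oneC ∧ pSD qa ∧ pSD qb ∧ pSD tC ∧ pSD (mC qa qb) ∧ pSD (mC qb qa) := by
  decide +kernel

theorem f_one (hs : SD f) : f oneC = 1 := by
  have h := hs.mul_two oneC oneC pSD_facts.1 pSD_facts.1
  rw [one_mC] at h
  exact mul_eq_left.1 h.symm

theorem f_inv (hs : SD f) {c : Coord} (hc : pSD c) : f (invC c) = (f c)⁻¹ := by
  refine (inv_eq_of_mul_eq_one_right ?_).symm
  rw [← hs.mul_two c _ hc (closed_pSD.2.1 c hc), mC_invC, f_one hs]

theorem pow_mem_pSD {c : Coord} (hc : pSD c) : ∀ n, pSD (powC c n)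
  | 0 => pSD_facts.1
  | n + 1 => closed_pSD.2.2 c hc _ (pow_mem_pSD hc n)

theorem f_pow (hs : SD f) {c : Coord} (hc : pSD c) : ∀ n, f (powC c n) = f c ^ n
  | 0 => by rw [powC, pow_zero]; exact f_one hs
  | n + 1 => by rw [powC, hs.mul_two c _ hc (pow_mem_pSD hc n), f_pow hs hc n, pow_succ']

theorem f_tt (hs : SD f) (c : Coord) : Commute (f c) (f tC) := hs.cent_t c

theorem sl_comm (hs : SD f) {c : Coord} (hc : pSL c) {o : G} (ho : o ∈ Om (f tC)) :
    Commute (f c) o := by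
  have h := hs.act c o ho
  rw [if_pos hc] at h
  exact mul_inv_eq_iff_eq_mul.1 h

theorem tt_self (hs : SD f) : f tC * f tC = 1 := by
  rw [← pow_two, ← hs.ot, pow_orderOf_eq_one]

theorem cube_root {z : ℂ} (hz : z ^ 3 = 1) (hz1 : z ≠ 1) :
    1 + z + z ^ 2 = 0 ∧ z⁻¹ = z ^ 2 ∧ z⁻¹ ^ 2 = z := by
  have h0 : z ≠ 0 := by
    rintro rfl
    norm_num at hz
  have hi : z⁻¹ = z ^ 2 := inv_eq_of_mul_eq_one_right (by rw [← pow_succ', hz])
  refine ⟨?_, hi, ?_⟩
  · have h : (z - 1) * (1 + z + z ^ 2) = 0 := by linear_combination hz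
    exact (mul_eq_zero.1 h).resolve_left (sub_ne_zero.2 hz1)
  · rw [hi]
    linear_combination z * hz

theorem eq_zero_of_odd_root {a : ℂ} {m : ℕ} (hm : Odd m) (h4 : a ^ 4 = 1) (ha : a ^ m = 1) :
    a = 1 := by
  have h := pow_gcd_eq_one.2 ⟨h4, ha⟩
  have hg : Nat.gcd 4 m = 1 := by
    have h2 : Nat.Coprime 2 m := hm.coprime_two_left
    exact Nat.Coprime.pow_left 2 h2
  rwa [hg, pow_one] at h

theorem two_order {g : G} (h2 : g * g = 1) (hodd : Odd (orderOf g)) : g = 1 :=
  GWDih33.eq_one_of_two hodd h2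

theorem smul_one_inj {M : Type*} [AddCommGroup M] [Module ℂ M] [Nontrivial M] {a b : ℂ}
    (h : a • (1 : Module.End ℂ M) = b • 1) : a = b := by
  obtain ⟨v, hv⟩ := exists_ne (0 : M)
  have := LinearMap.congr_fun h v
  simp only [LinearMap.smul_apply, Module.End.one_apply] at this
  exact smul_left_injective ℂ hv this

end Layer42

open Layer42

set_option maxHeartbeats 1600000

variable {G : Type u} [Group G] [Finite G] {f : Coord → G}

theorem no_natLayer (hsimp : IsSimpleGroup G) (hs : SD f) (hd : DegData f) {x : G} {W : Subgroup G}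
    (hl : NatLayer f x W) : False := by
  classical
  obtain ⟨χ, n, k, hnk, hχ1, hχt⟩ := hd
  obtain ⟨N, ρ, -, hρ⟩ := χ.2
  have hnk' : (n = k + 8 ∧ 0 < k) := by omega
  set t : G := f tC with ht
  have htt : t * t = 1 := tt_self hs
  have htinv : t⁻¹ = t := inv_eq_of_mul_eq_one_right htt
  have hto : ∀ o ∈ Om t, tr ρ (t * o) = (k : ℂ) := fun o ho =>
    (congrFun hρ (t * o)).trans (hχt o ho)
  have hρn : tr ρ 1 = (n : ℂ) := (congrFun hρ 1).trans hχ1
  have hN : Module.finrank ℂ (Fin N → ℂ) = n := by exact_mod_cast (tr_one ρ).symm.trans hρn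
  -- faithful
  have hker : MonoidHom.ker ρ = ⊥ := by
    rcases (MonoidHom.normal_ker ρ).eq_bot_or_eq_top with h | h
    · exact h
    · exfalso
      have h1 : ρ t = 1 := MonoidHom.mem_ker.1 (by rw [h]; exact mem_top t)
      have h2 := hto 1 (one_mem _)
      rw [mul_one, tr, h1, LinearMap.trace_one, hN] at h2
      have : n = k := by exact_mod_cast h2
      omega
  have faith : ∀ g : G, ρ g = 1 → g = 1 := fun g hg => by
    have : g ∈ MonoidHom.ker ρ := MonoidHom.mem_ker.2 hg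
    rwa [hker, mem_bot] at this
  -- the element `x`
  have hx3 : x ^ 3 = 1 := hl.order ▸ pow_orderOf_eq_one x
  have hxne : x ≠ 1 := by
    intro h
    have := hl.order
    rw [h, orderOf_one] at this
    norm_num at this
  let H : Subgroup G := centralizer ({x} : Set G)
  have hxt : Commute t x := om_comm hl.mem
  let T : H := ⟨t, mem_centralizer_singleton_iff.2 hxt.eq⟩
  let A : H := ⟨f qa, mem_centralizer_singleton_iff.2 (sl_comm hs rfl hl.mem).eq⟩
  let B : H := ⟨f qb, mem_centralizer_singleton_iff.2 (sl_comm hs rfl hl.mem).eq⟩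
  have hT2 : T ^ 2 = 1 := Subtype.ext (by simp [T, pow_two, htt])
  have hAB : A * B = T * (B * A) := Subtype.ext (by
    show f qa * f qb = t * (f qb * f qa)
    obtain ⟨-, ha, hb, ht0, -, hba⟩ := pSD_facts
    rw [ht, ← hs.mul_two qa qb ha hb, ← hs.mul_two qb qa hb ha, ← hs.mul_two tC _ ht0 hba, q_facts])
  have hAT : Commute A T := Subtype.ext (f_tt hs qa).eq
  have hBT : Commute B T := Subtype.ext (f_tt hs qb).eq
  -- conjugation of `x` to its inverse
  have hxx : tr ρ (x ^ 2) = tr ρ x := by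
    refine tr_conj_eq ρ (h := f uC) ?_
    rw [hs.act uC x hl.mem, if_neg (by decide)]
    exact inv_eq_of_mul_eq_one_right (by rw [← pow_succ', hx3])
  -- notation for the three layers
  let σ : ∀ a : ℂ, H →* Module.End ℂ (eig ρ x a) := fun a => res ρ x a
  let d : ℂ → ℕ := fun a => Module.finrank ℂ (eig ρ x a)
  have htr : ∀ (a : ℂ), a ^ 3 = 1 → ∀ g : H, tr (σ a) g =
      (3 : ℂ)⁻¹ * (tr ρ (g : G) + a⁻¹ * tr ρ ((g : G) * x) + a⁻¹ ^ 2 * tr ρ ((g : G) * x ^ 2)) := by
    intro a ha g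
    rw [tr_res ρ (by norm_num) hx3 ha]
    simp [Finset.sum_range_succ]
  have hdim : ∀ (a : ℂ), a ^ 3 = 1 →
      (d a : ℂ) = (3 : ℂ)⁻¹ * ((n : ℂ) + a⁻¹ * tr ρ x + a⁻¹ ^ 2 * tr ρ x) := by
    intro a ha
    rw [show (d a : ℂ) = tr (σ a) 1 from (tr_one (σ a)).symm, htr a ha]
    simp [hρn, hxx]
  have hd1 : (d 1 : ℂ) = (3 : ℂ)⁻¹ * ((n : ℂ) + 2 * tr ρ x) := by
    rw [hdim 1 (one_pow 3)]; ring
  have hdz : ∀ a : ℂ, a ^ 3 = 1 → a ≠ 1 → (d a : ℂ) = (3 : ℂ)⁻¹ * ((n : ℂ) - tr ρ x) := by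
    intro a ha ha1
    obtain ⟨h1, h2, h3⟩ := cube_root ha ha1
    rw [hdim a ha, h3, h2]
    linear_combination (3 : ℂ)⁻¹ * tr ρ x * h1
  have htT : ∀ (a : ℂ), a ^ 3 = 1 → ∀ g : H, (g : G) ∈ Om t →
      tr (σ a) (T * g) = (3 : ℂ)⁻¹ * (k : ℂ) * (1 + a⁻¹ + a⁻¹ ^ 2) := by
    intro a ha g hg
    rw [htr a ha]
    rw [Subgroup.coe_mul, show (T : G) = t from rfl, mul_assoc t, mul_assoc t, hto _ hg,
      hto _ (mul_mem hg hl.mem), hto _ (mul_mem hg (pow_mem hl.mem 2))]
    ring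
  have htT1 : ∀ g : H, (g : G) ∈ Om t → tr (σ 1) (T * g) = (k : ℂ) := by
    intro g hg
    rw [htT 1 (one_pow 3) g hg]; simp; ring
  have htTz : ∀ (a : ℂ), a ^ 3 = 1 → a ≠ 1 → ∀ g : H, (g : G) ∈ Om t → tr (σ a) (T * g) = 0 := by
    intro a ha ha1 g hg
    obtain ⟨h1, h2, h3⟩ := cube_root ha ha1
    rw [htT a ha g hg, h3, h2]
    linear_combination (3 : ℂ)⁻¹ * (k : ℂ) * h1
  -- the minus spaces of `t`
  have hminus : ∀ (a : ℂ) (g : centralizer ({T} : Set H)),
      tr (res (σ a) T (-1)) g = (2 : ℂ)⁻¹ * (tr (σ a) (g : H) - tr (σ a) (T * (g : H))) := by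
    intro a g
    rw [tr_res (σ a) (by norm_num) hT2 (by norm_num)]
    simp [Finset.sum_range_succ, (mem_centralizer_singleton_iff.1 g.2)]
    ring
  let e : ℂ → ℕ := fun a => Module.finrank ℂ (eig (σ a) T (-1))
  have he1 : d 1 = k + 2 * e 1 := by
    have h := hminus 1 1
    rw [tr_one, OneMemClass.coe_one, tr_one, mul_one] at h
    have h2 := htT1 1 (one_mem _)
    rw [mul_one] at h2
    rw [h2] at h
    have : ((d 1 : ℕ) : ℂ) = ((k + 2 * e 1 : ℕ) : ℂ) := by
      push_cast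
      linear_combination -2 * h
    exact_mod_cast this
  have hez : ∀ a : ℂ, a ^ 3 = 1 → a ≠ 1 → d a = 2 * e a := by
    intro a ha ha1
    have h := hminus a 1
    rw [tr_one, OneMemClass.coe_one, tr_one, mul_one] at h
    have h2 := htTz a ha ha1 1 (one_mem _)
    rw [mul_one] at h2
    rw [h2] at h
    have : ((d a : ℕ) : ℂ) = ((2 * e a : ℕ) : ℂ) := by
      push_cast
      linear_combination -2 * h
    exact_mod_cast this
  have hneg : ∀ (a : ℂ) (g : centralizer ({T} : Set H)), (g : H) = T →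
      res (σ a) T (-1) g = (-1 : ℂ) • 1 := by
    intro a g hg
    apply LinearMap.ext
    intro v
    apply Subtype.ext
    rw [res_apply, hg, Module.End.mem_eigenspace_iff.1 v.2]
    simp
  let AT : centralizer ({T} : Set H) := ⟨A, mem_centralizer_singleton_iff.2 hAT.eq⟩
  let BT : centralizer ({T} : Set H) := ⟨B, mem_centralizer_singleton_iff.2 hBT.eq⟩
  let TT : centralizer ({T} : Set H) := ⟨T, mem_centralizer_singleton_iff.2 rfl⟩
  have heven : ∀ a : ℂ, Even (e a) := by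
    intro a
    have h : Even (Module.finrank ℂ (eig (σ a) T (-1))) :=
      even_dim (M := ↥(eig (σ a) T (-1))) (res (σ a) T (-1)) (a := AT) (b := BT) (z := TT) (Subtype.ext hAB) (hneg a TT rfl)
    exact h
  obtain ⟨w, hw⟩ : ∃ w : ℂ, IsPrimitiveRoot w 3 := ⟨_, Complex.isPrimitiveRoot_exp 3 (by norm_num)⟩
  have hw3 : w ^ 3 = 1 := hw.pow_eq_one
  have hw1 : w ≠ 1 := hw.ne_one (by norm_num)
  have hsum : d 1 + 2 * d w = n := by
    have : ((d 1 + 2 * d w : ℕ) : ℂ) = (n : ℂ) := by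
      push_cast
      rw [hd1, hdz w hw3 hw1]; ring
    exact_mod_cast this
  have hdw : d w = 4 ∧ d 1 = k ∧ e 1 = 0 := by
    have h1 := hez w hw3 hw1
    obtain ⟨r, hr⟩ := heven w
    rcases Nat.eq_zero_or_pos r with h0 | hpos
    · exfalso
      have hd1n : d 1 = n := by omega
      refine hxne (faith x ?_)
      have := eq_smul_of_finrank ρ (z := x) (a := 1) (by rw [hN]; exact hd1n)
      rwa [one_smul] at this
    · omega
  obtain ⟨hdw4, hdone, he10⟩ := hdw
  have hd4 : ∀ a : ℂ, a ^ 3 = 1 → a ≠ 1 → d a = 4 := by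
    intro a ha ha1
    rw [← hdw4]
    exact_mod_cast (hdz a ha ha1).trans (hdz w hw3 hw1).symm
  have he2 : ∀ a : ℂ, a ^ 3 = 1 → a ≠ 1 → e a = 2 := fun a ha ha1 => by
    have := hez a ha ha1
    have := hd4 a ha ha1
    omega
  -- an element trivial on the three layers is trivial
  have hall : ∀ g : H, σ 1 g = 1 → σ w g = 1 → σ (w ^ 2) g = 1 → (g : G) = 1 := by
    intro g h1 h2 h3
    refine faith _ ?_
    have hw2 : (w ^ 2) ^ 3 = 1 := by rw [← pow_mul, mul_comm, pow_mul, hw3, one_pow]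
    have hw21 : w ^ 2 ≠ 1 := hw.pow_ne_one_of_pos_of_lt (by norm_num) (by norm_num)
    have key : ∀ y : H, tr ρ (y : G) = tr (σ 1) y + tr (σ w) y + tr (σ (w ^ 2)) y := by
      intro y
      obtain ⟨e1, e2, e3⟩ := cube_root hw3 hw1
      obtain ⟨f1, f2, f3⟩ := cube_root hw2 hw21
      rw [htr 1 (one_pow 3), htr w hw3, htr _ hw2, e3, e2, f3, f2, inv_one]
      linear_combination -(3 : ℂ)⁻¹ * (tr ρ ((y : G) * x) + tr ρ ((y : G) * x ^ 2)) * e1
        - (3 : ℂ)⁻¹ * tr ρ ((y : G) * x) * w * hw3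
    have hsc : ρ (g : G) = (1 : ℂ) • 1 := by
      refine eq_smul_of_tr ρ (one_pow _) fun j => ?_
      rw [one_pow, one_mul, hN, ← SubmonoidClass.coe_pow, key]
      simp only [tr, map_pow, h1, h2, h3, one_pow, LinearMap.trace_one]
      have : ((d 1 + d w + d (w ^ 2) : ℕ) : ℂ) = (n : ℂ) := by
        rw [hd4 _ hw2 hw21, hdone, hdw4]
        norm_cast
        omega
      push_cast at this
      exact this
    rwa [one_smul] at hsc
  -- the fixed points act as scalars
  have hT1 : σ 1 T = 1 := by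
    have h := eq_smul_of_tr (σ 1) (z := T) (a := 1) (one_pow _) (fun j => ?_)
    · rwa [one_smul] at h
    rw [one_pow, one_mul, show Module.finrank ℂ (eig ρ x 1) = k from hdone]
    obtain ⟨i, rfl⟩ | ⟨i, rfl⟩ := Nat.even_or_odd j
    · rw [← two_mul, pow_mul, hT2, one_pow, tr_one]
      exact_mod_cast hdone
    · rw [pow_succ, pow_mul, hT2, one_pow, one_mul, ← mul_one T]
      exact htT1 1 (one_mem _)
  have hfix : ∀ g : H, (g : G) ∈ Om t → Commute g T → σ 1 g = 1 ∧
      ∀ a : ℂ, a ^ 3 = 1 → a ≠ 1 → ∃ c : ℂ, σ a g = c • 1 := by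
    intro g hg hgT
    constructor
    · have h := eq_smul_of_tr (σ 1) (z := g) (a := 1) (one_pow _) (fun j => ?_)
      · rwa [one_smul] at h
      rw [one_pow, one_mul, show Module.finrank ℂ (eig ρ x 1) = k from hdone,
        ← htT1 (g ^ j) (by rw [SubmonoidClass.coe_pow]; exact pow_mem hg j), tr, tr, map_mul, hT1,
        one_mul]
    · intro a ha ha1
      have hAg : Commute A g := Subtype.ext (sl_comm hs rfl hg).eq
      have hBg : Commute B g := Subtype.ext (sl_comm hs rfl hg).eq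
      let gT : centralizer ({T} : Set H) := ⟨g, mem_centralizer_singleton_iff.2 hgT.eq⟩
      obtain ⟨c, hc⟩ := scalar_of_two (M := ↥(eig (σ a) T (-1))) (res (σ a) T (-1)) (o := gT) (a := AT) (b := BT) (z := TT)
        (Subtype.ext hAB) (hneg a TT rfl) (Subtype.ext hAg.eq) (Subtype.ext hBg.eq)
        (Subtype.ext hgT.eq.symm) (he2 a ha ha1)
      haveI : Nontrivial (eig (σ a) T (-1)) :=
        Module.finrank_pos_iff.1 (show 0 < e a by rw [he2 a ha ha1]; norm_num)
      have hcm : c ^ orderOf g = 1 := by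
        have h := congrArg (fun u => u ^ orderOf g) hc
        simp only [← map_pow, smul_pow, one_pow] at h
        rw [show gT ^ orderOf g = 1 from Subtype.ext (pow_orderOf_eq_one g), map_one] at h
        exact smul_one_inj (M := ↥(eig (σ a) T (-1))) (h.symm.trans (one_smul ℂ _).symm)
      refine ⟨c, eq_smul_of_tr (σ a) hcm fun j => ?_⟩
      have h := hminus a (gT ^ j)
      rw [SubmonoidClass.coe_pow,
        htTz a ha ha1 _ (by rw [SubmonoidClass.coe_pow]; exact pow_mem hg j), sub_zero] at h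
      have h2 : tr (M := ↥(eig (σ a) T (-1))) (res (σ a) T (-1)) (gT ^ j) = c ^ j * (2 : ℂ) := by
        rw [tr_pow_of_smul (M := ↥(eig (σ a) T (-1))) (res (σ a) T (-1)) hc j,
          show Module.finrank ℂ (eig (σ a) T (-1)) = 2 from he2 a ha ha1]
        norm_num
      rw [h2] at h
      rw [show Module.finrank ℂ (eig ρ x a) = 4 from hd4 a ha ha1]
      push_cast
      linear_combination -2 * h
  -- `W` and its fixed points
  have hWH : W ≤ H := hl.le_cent
  set W0 : Subgroup G := W ⊓ centralizer ({t} : Set G) with hW0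
  have hcen : ∀ o ∈ W0, ∀ v ∈ W, Commute o v := by
    intro o ho v hv
    let o' : H := ⟨o, hWH ho.1⟩
    let v' : H := ⟨v, hWH hv⟩
    have ho' := hfix o' (hl.fix ho) (Subtype.ext (mem_centralizer_singleton_iff.1 ho.2))
    have key : ∀ a : ℂ, a ^ 3 = 1 → σ a (o' * v') = σ a (v' * o') := by
      intro a ha
      rcases eq_or_ne a 1 with rfl | ha1
      · rw [map_mul, map_mul, ho'.1, one_mul, mul_one]
      · obtain ⟨c, hc⟩ := ho'.2 a ha ha1
        rw [map_mul, map_mul, hc, smul_one_mul, mul_smul_one]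
    have hw2 : (w ^ 2) ^ 3 = 1 := by rw [← pow_mul, mul_comm, pow_mul, hw3, one_pow]
    have hc1 : ∀ a : ℂ, a ^ 3 = 1 → σ a (o' * v' * (v' * o')⁻¹) = 1 := fun a ha => by
      rw [map_mul, key a ha, ← map_mul, mul_inv_cancel, map_one]
    have := hall _ (hc1 1 (one_pow 3)) (hc1 w hw3) (hc1 _ hw2)
    rw [Subgroup.coe_mul, Subgroup.coe_inv, mul_inv_eq_one] at this
    exact this
  -- `W` is abelian
  have hcomm : ∀ i ∈ W, ∀ j ∈ W, Commute i j := by
    let W0' : Subgroup W := W0.subgroupOf W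
    haveI hn : W0'.Normal := ⟨fun o ho g => by
      have : g * o = o * g := Subtype.ext (hcen _ (mem_subgroupOf.1 ho) _ g.2).eq.symm
      rwa [this, mul_inv_cancel_right]⟩
    haveI : Fact (Nat.Prime 3) := ⟨Nat.prime_three⟩
    have h9 : Nat.card (W ⧸ W0') = 3 ^ 2 := by
      have h := W0'.card_eq_card_quotient_mul_card_subgroup
      rw [Nat.card_congr (Subgroup.subgroupOfEquivOfLe inf_le_left).toEquiv] at h
      have hc := hl.card
      rw [hc] at h
      exact Nat.eq_of_mul_eq_mul_right Nat.card_pos h.symm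
    have hqc : ∀ a b : W ⧸ W0', a * b = b * a := fun a b =>
      (IsPGroup.isMulCommutative_of_card_eq_prime_sq h9).is_comm.comm a b
    intro i hi j hj
    let i' : W := ⟨i, hi⟩
    let j' : W := ⟨j, hj⟩
    have hc : i * j * (j * i)⁻¹ ∈ W0 := by
      have hq : ((i' * j' : W) : W ⧸ W0') = ((j' * i' : W) : W ⧸ W0') := by
        rw [QuotientGroup.mk_mul, QuotientGroup.mk_mul]
        exact hqc _ _
      rw [QuotientGroup.eq_iff_div_mem, div_eq_mul_inv, mem_subgroupOf] at hq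
      simpa using hq
    set c : G := i * j * (j * i)⁻¹ with hcdef
    let c' : H := ⟨c, hWH hc.1⟩
    let iH : H := ⟨i, hWH hi⟩
    let jH : H := ⟨j, hWH hj⟩
    have hcij : iH * jH = c' * (jH * iH) := Subtype.ext (by
      show i * j = c * (j * i)
      rw [hcdef, inv_mul_cancel_right])
    have hc' := hfix c' (hl.fix hc) (Subtype.ext (mem_centralizer_singleton_iff.1 hc.2))
    have hodd : Odd (orderOf c') := by
      rw [← Subgroup.orderOf_coe]; exact odd_of_mem hl.odd hc.1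
    have hc1 : ∀ a : ℂ, a ^ 3 = 1 → a ≠ 1 → σ a c' = 1 := by
      intro a ha ha1
      obtain ⟨r, hr⟩ := hc'.2 a ha ha1
      have h4 := scalar_commutator (σ a) hcij hr
      rw [show Module.finrank ℂ (eig ρ x a) = 4 from hd4 a ha ha1] at h4
      haveI : Nontrivial (eig ρ x a) :=
        Module.finrank_pos_iff.1 (show 0 < d a by rw [hd4 a ha ha1]; norm_num)
      have hm : r ^ orderOf c' = 1 := by
        have h := congrArg (fun u => u ^ orderOf c') hr
        simp only [← map_pow, pow_orderOf_eq_one, map_one, smul_pow, one_pow] at h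
        exact smul_one_inj (M := ↥(eig ρ x a)) (h.symm.trans (one_smul ℂ _).symm)
      rw [hr, eq_zero_of_odd_root hodd h4 hm, one_smul]
    have hw2 : (w ^ 2) ^ 3 = 1 := by rw [← pow_mul, mul_comm, pow_mul, hw3, one_pow]
    have hw21 : w ^ 2 ≠ 1 := hw.pow_ne_one_of_pos_of_lt (by norm_num) (by norm_num)
    have := hall c' hc'.1 (hc1 w hw3 hw1) (hc1 _ hw2 hw21)
    exact mul_inv_eq_one.1 this
  -- the inverted part
  have hconjW : ∀ c : Coord, ∀ v ∈ W, f c * v * (f c)⁻¹ ∈ W := fun c v hv =>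
    (mem_normalizer_iff.1 (hl.norm c) v).1 hv
  let φ : W →* G :=
    { toFun := fun v => (v : G) * (t * (v : G) * t⁻¹)⁻¹
      map_one' := by simp
      map_mul' := fun u v => by
        have h : Commute (v : G) (t * (u : G) * t⁻¹)⁻¹ :=
          hcomm _ v.2 _ (inv_mem (hconjW tC _ u.2))
        have e : (t * ((u : G) * (v : G)) * t⁻¹)⁻¹ = (t * (v : G) * t⁻¹)⁻¹ * (t * (u : G) * t⁻¹)⁻¹ := by
          group
        simp only [Subgroup.coe_mul]
        rw [e, ← mul_assoc, mul_assoc (u : G)]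
        have h2 : Commute ((v : G) * (t * (v : G) * t⁻¹)⁻¹) (t * (u : G) * t⁻¹)⁻¹ :=
          hcomm _ (mul_mem v.2 (inv_mem (hconjW tC _ v.2))) _ (inv_mem (hconjW tC _ u.2))
        rw [mul_assoc (u : G), h2.eq, ← mul_assoc] }
  set R : Subgroup G := φ.range with hR
  have hRW : R ≤ W := by
    rintro _ ⟨v, rfl⟩
    exact mul_mem v.2 (inv_mem (hconjW tC _ v.2))
  have hRinv : ∀ r ∈ R, t * r * t⁻¹ = r⁻¹ := by
    rintro _ ⟨v, rfl⟩
    show t * ((v : G) * (t * (v : G) * t⁻¹)⁻¹) * t⁻¹ = ((v : G) * (t * (v : G) * t⁻¹)⁻¹)⁻¹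
    rw [mul_inv_rev, inv_inv]
    simp only [mul_inv_rev, inv_inv, htinv, mul_assoc, htt, mul_one]
  have hRodd : ∀ r ∈ R, Odd (orderOf r) := fun r hr => odd_of_mem hl.odd (hRW hr)
  have hR9 : Nat.card R = 9 := by
    have hk : φ.ker = W0.subgroupOf W := by
      ext v
      rw [MonoidHom.mem_ker, mem_subgroupOf, hW0, mem_inf, mem_centralizer_singleton_iff]
      show (v : G) * (t * (v : G) * t⁻¹)⁻¹ = 1 ↔ _
      rw [mul_inv_eq_one, eq_mul_inv_iff_mul_eq]
      exact ⟨fun h => ⟨v.2, h⟩, fun h => h.2⟩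
    have h := φ.ker.index_mul_card
    rw [Subgroup.index_ker, ← hR, hk,
      Nat.card_congr (Subgroup.subgroupOfEquivOfLe inf_le_left).toEquiv, hl.card] at h
    exact Nat.eq_of_mul_eq_mul_right Nat.card_pos h
  have hRconj : ∀ c : Coord, ∀ r ∈ R, f c * r * (f c)⁻¹ ∈ R := by
    rintro c _ ⟨v, rfl⟩
    refine ⟨⟨_, hconjW c v v.2⟩, ?_⟩
    show f c * (v : G) * (f c)⁻¹ * (t * (f c * (v : G) * (f c)⁻¹) * t⁻¹)⁻¹ =
      f c * ((v : G) * (t * (v : G) * t⁻¹)⁻¹) * (f c)⁻¹
    have h1 : t * f c = f c * t := (f_tt hs c).eq.symm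
    have h2 : (f c)⁻¹ * t⁻¹ = t⁻¹ * (f c)⁻¹ := by rw [← mul_inv_rev, ← mul_inv_rev, h1]
    have e : t * (f c * (v : G) * (f c)⁻¹) * t⁻¹ = f c * (t * (v : G) * t⁻¹) * (f c)⁻¹ := by
      rw [← mul_assoc, ← mul_assoc, h1, mul_assoc _ (f c)⁻¹, h2]
      simp only [mul_assoc]
    rw [e]
    group
  haveI : Fintype R := Fintype.ofFinite _
  obtain ⟨i, hi3⟩ := exists_prime_orderOf_dvd_card' 3 (G := R) (by rw [hR9]; norm_num)
    (hp := ⟨Nat.prime_three⟩)
  have hi1 : i ≠ 1 := by
    intro h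
    rw [h, orderOf_one] at hi3
    norm_num at hi3
  -- all nontrivial elements of `R` are conjugate
  let orb : Q8 → {r : R // r ≠ 1} := fun q => ⟨⟨f (q, 0, 0) * (i : G) * (f (q, 0, 0))⁻¹,
    hRconj _ _ i.2⟩, fun h => hi1 (Subtype.ext (conj_eq_one_iff.1 (congrArg Subtype.val h)))⟩
  have horb : Function.Bijective orb := by
    have hinj : Function.Injective orb := by
      intro q q' h
      by_contra hne
      have h' : f (q, 0, 0) * (i : G) * (f (q, 0, 0))⁻¹ =
          f (q', 0, 0) * (i : G) * (f (q', 0, 0))⁻¹ :=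
        congrArg (fun r : {r : R // r ≠ 1} => ((r : R) : G)) h
      have hc : Commute (f (mC (invC (q, 0, 0)) (q', 0, 0))) (i : G) := by
        rw [hs.mul_two _ _ (closed_pSD.2.1 _ rfl) rfl, f_inv hs (show pSD (q, 0, 0) from rfl)]
        show (f (q, 0, 0))⁻¹ * f (q', 0, 0) * (i : G) = (i : G) * ((f (q, 0, 0))⁻¹ * f (q', 0, 0))
        calc (f (q, 0, 0))⁻¹ * f (q', 0, 0) * (i : G)
            = (f (q, 0, 0))⁻¹ * (f (q', 0, 0) * (i : G) * (f (q', 0, 0))⁻¹) * f (q', 0, 0) := by group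
          _ = _ := by rw [← h']; group
      have hti : Commute t (i : G) := by
        rcases q_pow q q' hne with hp | hp
        · have := hc.pow_left 1
          rwa [← f_pow hs (closed_pSD.2.2 _ (closed_pSD.2.1 (q, 0, 0) rfl) (q', 0, 0) rfl), hp] at this
        · have := hc.pow_left 2
          rwa [← f_pow hs (closed_pSD.2.2 _ (closed_pSD.2.1 (q, 0, 0) rfl) (q', 0, 0) rfl), hp] at this
      have h2 := hRinv _ i.2
      rw [hti.eq, mul_inv_cancel_right] at h2
      refine hi1 (Subtype.ext (two_order ?_ (hRodd _ i.2)))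
      nth_rw 1 [h2]
      exact inv_mul_cancel _
    rw [Fintype.bijective_iff_injective_and_card]
    refine ⟨hinj, ?_⟩
    rw [Fintype.card_subtype_compl, Fintype.card_subtype_eq, ← Nat.card_eq_fintype_card (α := R),
      hR9]
    rfl
  have hconjR : ∀ r : R, r ≠ 1 → ∃ q : Q8, f (q, 0, 0) * (i : G) * (f (q, 0, 0))⁻¹ = r := by
    intro r hr
    obtain ⟨q, hq⟩ := horb.2 ⟨r, hr⟩
    exact ⟨q, congrArg (fun r : {r : R // r ≠ 1} => ((r : R) : G)) hq⟩
  have hRH : R ≤ H := hRW.trans hWH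
  let I : H := ⟨(i : G), hRH i.2⟩
  have hI3 : I ^ 3 = 1 := by
    refine Subtype.ext ?_
    show (i : G) ^ 3 = 1
    rw [← SubmonoidClass.coe_pow, ← hi3, pow_orderOf_eq_one, OneMemClass.coe_one]
  have hIT : T * I * T⁻¹ = I⁻¹ := Subtype.ext (hRinv _ i.2)
  have hI1 : σ 1 I = 1 := by
    have h := congrArg (σ 1) hIT
    rw [map_mul, map_mul, hT1, one_mul, show σ 1 T⁻¹ = 1 by
      have : T⁻¹ = T := Subtype.ext htinv
      rw [this, hT1], mul_one] at h
    have h2 : σ 1 (I ^ 2) = 1 := by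
      rw [pow_two, map_mul]
      nth_rw 2 [h]
      rw [← map_mul, mul_inv_cancel, map_one]
    calc σ 1 I = σ 1 (I ^ 3) * (σ 1 I) := by rw [hI3, map_one, one_mul]
      _ = σ 1 ((I ^ 2) ^ 2) := by rw [← map_mul, ← pow_succ, ← pow_mul]
      _ = 1 := by rw [map_pow, h2, one_pow]
  -- the four dimensional layers
  have hIz : ∀ a : ℂ, a ^ 3 = 1 → a ≠ 1 → σ a I = 1 := by
    intro a ha ha1
    have hd' : Module.finrank ℂ (eig ρ x a) = 4 := hd4 a ha ha1
    set s := tr (σ a) I with hsdef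
    have hI2 : tr (σ a) (I ^ 2) = s := by
      refine tr_conj_eq (σ a) (h := T) ?_
      rw [hIT]
      exact inv_eq_of_mul_eq_one_right (by rw [← pow_succ', hI3])
    have h1 := dim_eig (σ a) (z := I) (a := 1) (by norm_num) hI3 (one_pow 3)
    have h2 := dim_eig (σ a) (z := I) (a := w) (by norm_num) hI3 hw3
    simp [Finset.sum_range_succ, tr_one, hd', hI2, ← hsdef] at h1 h2
    haveI : Fintype (R.subgroupOf H) := Fintype.ofFinite _
    obtain ⟨m, hm⟩ := sum_tr_group (σ a) (R.subgroupOf H)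
    have hsum8 : ∑ r : R.subgroupOf H, tr (σ a) (r : H) = 4 + 8 * s := by
      have hcard : Fintype.card (R.subgroupOf H) = 9 := by
        rw [← Nat.card_eq_fintype_card,
          Nat.card_congr (Subgroup.subgroupOfEquivOfLe hRH).toEquiv, hR9]
      rw [Finset.sum_eq_add_sum_sdiff_singleton_of_mem (Finset.mem_univ (1 : R.subgroupOf H)),
        OneMemClass.coe_one, tr_one, hd', Finset.sum_congr rfl (g := fun _ => s) fun r hr => ?_,
        Finset.sum_const, Finset.card_sdiff, Finset.card_univ, hcard]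
      · simp
      · have hr1 : r ≠ 1 := by simpa using hr
        have hr' : (⟨((r : H) : G), mem_subgroupOf.1 r.2⟩ : R) ≠ 1 := by
          intro h
          exact hr1 (Subtype.ext (Subtype.ext (congrArg (fun z : R => (z : G)) h)))
        obtain ⟨q, hq⟩ := hconjR _ hr'
        have hQH : f (q, 0, 0) ∈ H :=
          mem_centralizer_singleton_iff.2 (sl_comm hs rfl hl.mem).eq
        exact tr_conj_eq (σ a) (h := (⟨_, hQH⟩ : H)) (Subtype.ext hq)
    rw [hm, Nat.card_congr (Subgroup.subgroupOfEquivOfLe hRH).toEquiv, hR9] at hsum8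
    obtain ⟨e1, e2, e3⟩ := cube_root hw3 hw1
    set p := Module.finrank ℂ (eig (σ a) I 1) with hp
    set r := Module.finrank ℂ (eig (σ a) I w) with hr
    have hP : (3 * (p : ℂ)) = 4 + 2 * s := by
      rw [h1]; ring
    have hRr : (3 * (r : ℂ)) = 4 - s := by
      rw [h2, ← inv_pow, e2]
      linear_combination s * e1 + s * w * hw3
    have n1 : ((9 * m + 24 * r : ℕ) : ℂ) = ((36 : ℕ) : ℂ) := by
      push_cast
      push_cast at hsum8
      linear_combination hsum8 + 8 * hRr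
    have n2 : ((p + 2 * r : ℕ) : ℂ) = ((4 : ℕ) : ℂ) := by
      push_cast
      linear_combination (3 : ℂ)⁻¹ * hP + 2 * (3 : ℂ)⁻¹ * hRr
    have n1' : 9 * m + 24 * r = 36 := by exact_mod_cast n1
    have n2' : p + 2 * r = 4 := by exact_mod_cast n2
    have hp4 : p = 4 := by omega
    have := eq_smul_of_finrank (σ a) (z := I) (a := 1) (by rw [← hp, hp4, hd'])
    rwa [one_smul] at this
  have hw2 : (w ^ 2) ^ 3 = 1 := by rw [← pow_mul, mul_comm, pow_mul, hw3, one_pow]
  have hw21 : w ^ 2 ≠ 1 := hw.pow_ne_one_of_pos_of_lt (by norm_num) (by norm_num)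
  exact hi1 (Subtype.ext (hall I hI1 (hIz w hw3 hw1) (hIz _ hw2 hw21)))

end Cfsg.Agent.Wong3x33
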