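import Cfsg.Agent.Lib.Wong3Setup33
import Cfsg.Agent.Lib.MaxClassTwo
import Cfsg.Agent.Lib.Wong3Fusion78
import Cfsg.Agent.Lib.Wong3Centre78

/-!
Local data for the semidihedral case of `Core`: one class of involutions, Sylow 2-subgroups of order
16, and `C(z) / O(C(z))` is `GL(2,3)`.
-/

set_option autoImplicit false
set_option linter.style.haveILetI false

namespace Cfsg.Agent.Wong3x33

open Subgroup BinaryOctahedral GL23CentModel GL23Recog95
open Cfsg.Agent.GWDih33 (Om)

universe u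

variable {G : Type u} [Group G] [Finite G] {V : Subgroup G}

theorem four_pair (h : Core G V) {z : G} (hz : z ∈ V) (hz1 : z ≠ 1) :
    ∃ v ∈ V, orderOf z = 2 ∧ orderOf v = 2 ∧ v ≠ z ∧
      ∀ c : G, Commute c z → Commute c v → c = 1 ∨ c = z ∨ c = v ∨ c = z * v := by
  classical
  obtain ⟨v, hv, hv1, hvz⟩ : ∃ v ∈ V, v ≠ 1 ∧ v ≠ z := by
    by_contra hno
    push Not at hno
    have hsub : (V : Set G) ⊆ {1, z} := fun e he => by
      by_cases e1 : e = 1
      · exact Or.inl e1
      · exact Or.inr (hno e he e1)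
    have h1 := Set.ncard_le_ncard hsub
    rw [← Nat.card_coe_set_eq, SetLike.coe_sort_coe, h.card_four, Set.ncard_pair (Ne.symm hz1)] at h1
    omega
  have hord : ∀ e ∈ V, e ≠ 1 → orderOf e = 2 := fun e he he1 =>
    orderOf_eq_prime (by rw [pow_two, h.exp_two e he]) he1
  refine ⟨v, hv, hord z hz hz1, hord v hv hv1, hvz, fun c hcz hcv => ?_⟩
  have hz2 := h.exp_two z hz
  have hV : ({1, z, v, z * v} : Set G) = V := by
    refine Set.eq_of_subset_of_ncard_le ?_ ?_ (Set.toFinite _)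
    · rintro e (rfl | rfl | rfl | rfl)
      exacts [one_mem V, hz, hv, mul_mem hz hv]
    · rw [← Nat.card_coe_set_eq (V : Set G), SetLike.coe_sort_coe, h.card_four]
      have e1 : z * v ≠ 1 := fun e => hvz (by
        rw [← eq_inv_of_mul_eq_one_right e |>.symm.trans rfl]
        exact inv_eq_of_mul_eq_one_right hz2)
      have e2 : z * v ≠ z := fun e => hv1 (mul_eq_left.1 e)
      have e3 : z * v ≠ v := fun e => hz1 (mul_eq_right.1 e)
      rw [Set.ncard_insert_of_notMem (by simp [hz1.symm, hv1.symm, e1.symm]),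
        Set.ncard_insert_of_notMem (by simp [hvz.symm, e2.symm]), Set.ncard_pair e3.symm]
  have hcV : c ∈ V := by
    rw [← h.self_cent, mem_centralizer_iff]
    intro e he
    rw [← hV] at he
    rcases he with rfl | rfl | rfl | rfl
    · simp
    · exact hcz.symm.eq
    · exact hcv.symm.eq
    · exact (hcz.mul_right hcv).symm.eq
  rw [← SetLike.mem_coe, ← hV] at hcV
  simpa using hcV

/-- The Sylow 2-subgroups are semidihedral, and there is one class of involutions. -/
theorem sylow_data (h : Core G V) (hd : ¬ Dih G) :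
    ∃ (S : Sylow 2 G) (t : G) (n : ℕ) (x y : G), CycSyl43TypesLocal.SD (S : Subgroup G) n x y ∧ orderOf t = 2 ∧
      t ∈ (S : Subgroup G) ∧ (∀ s ∈ (S : Subgroup G), s * t = t * s) ∧
      ∀ u v : G, orderOf u = 2 → orderOf v = 2 → IsConj u v := by
  haveI : Fact (Nat.Prime 2) := ⟨Nat.prime_two⟩
  have hVp : IsPGroup 2 V := IsPGroup.of_card (n := 2) h.card_four
  obtain ⟨S, hVS⟩ := hVp.exists_le_sylow
  obtain ⟨k, hk⟩ := IsPGroup.iff_card.1 S.2
  have h16 : 2 ^ 4 ∣ Nat.card G := h.sixteen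
  have hk4 : 4 ≤ k := by
    have h1 := (Nat.Prime.pow_dvd_iff_le_factorization Nat.prime_two Nat.card_pos.ne').1 h16
    rw [S.card_eq_multiplicity] at hk
    have h2 := Nat.pow_right_injective le_rfl hk
    omega
  have hA : Nat.card (V.subgroupOf (S : Subgroup G)) = 2 ^ 2 := by
    rw [Nat.card_congr (subgroupOfEquivOfLe hVS).toEquiv, h.card_four]; rfl
  have hC : centralizer (V.subgroupOf (S : Subgroup G) : Set (S : Subgroup G)) =
      V.subgroupOf (S : Subgroup G) := by
    ext s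
    rw [mem_centralizer_iff, mem_subgroupOf]
    constructor
    · intro hs
      rw [← h.self_cent, mem_centralizer_iff]
      intro e he
      exact congrArg Subtype.val (hs ⟨e, hVS he⟩ he)
    · intro hs e he
      refine Subtype.ext ?_
      have h1 : (s : G) ∈ centralizer (V : Set G) := h.self_cent.symm ▸ hs
      exact mem_centralizer_iff.1 h1 e he
  have hcl := MaxClassTwo.class_of_self_centralizing (p := 2) k _ hk _ hA hC
  obtain ⟨C, hCc, hCi⟩ := MaxClassTwo.exists_cyclic_index_two k _ hk (by omega) hcl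
  obtain ⟨t, hot, hm, hc, hf, hS⟩ := Wong3Fusion78.two_cases h.simple h.nonab
    ((dvd_pow_self 2 four_ne_zero).trans h16) S ⟨C, hCc, dvd_of_eq hCi⟩
  rcases hS with ⟨l, hl, ⟨e⟩⟩ | hqd
  · refine absurd (fun P => ⟨2 ^ l, ?_, ⟨?_⟩⟩) hd
    · exact le_trans (le_of_eq (pow_one 2).symm) (Nat.pow_le_pow_right two_pos hl)
    · exact (P.equiv S).trans e
  · obtain ⟨n, x, y, hsd⟩ := CycSyl43TypesLocal.exists_SD _ hqd
    exact ⟨S, t, n, x, y, hsd, hot, hm, hc, hf⟩

/-- The centraliser of an involution of `V` and the order of the Sylow 2-subgroups. -/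
theorem cent_data (h : Core G V) (hd : ¬ Dih G) {z : G} (hz : z ∈ V) (hz1 : z ≠ 1) :
    Nat.card G % 32 = 16 ∧
      Nonempty ((centralizer ({z} : Set G)) ⧸ Cfsg.oddCore (centralizer ({z} : Set G)) ≃*
        GL (Fin 2) (ZMod 3)) := by
  haveI : Fact (Nat.Prime 2) := ⟨Nat.prime_two⟩
  obtain ⟨v, hvV, hoz, hov, hvz, hself⟩ := four_pair h hz hz1
  obtain ⟨S, t, n, x, y, hsd, hot, hm, hc, hf⟩ := sylow_data h hd
  obtain ⟨g, hg⟩ := isConj_iff.1 (hf z t hoz hot)
  have hvz' : Commute v z := by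
    have h1 : v ∈ centralizer (V : Set G) := by rw [h.self_cent]; exact hvV
    exact (mem_centralizer_iff.1 h1 z hz).symm
  have hgv : orderOf (g * v * g⁻¹) = 2 := by rw [← hov]; exact MulEquiv.orderOf_eq (MulAut.conj g) v
  have hgc : Commute (g * v * g⁻¹) t := by
    have := hvz'.map (MulAut.conj g).toMonoidHom
    rw [← hg]; simpa using this
  obtain ⟨k, hk, hkS⟩ := CycSyl43.conj_into_sylow hc (P := zpowers (g * v * g⁻¹))
    (IsPGroup.of_card (n := 1) (by rw [Nat.card_zpowers, hgv, pow_one]))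
    (zpowers_le.2 (mem_centralizer_singleton_iff.2 hgc.eq))
  set γ := k * g with hγ
  have hkt : γ * z * γ⁻¹ = t := by
    rw [show γ * z * γ⁻¹ = k * (g * z * g⁻¹) * k⁻¹ by rw [hγ]; group, hg,
      mem_centralizer_singleton_iff.1 hk, mul_inv_cancel_right]
  have hvS : γ * v * γ⁻¹ ∈ (S : Subgroup G) := by
    rw [show γ * v * γ⁻¹ = k * (g * v * g⁻¹) * k⁻¹ by rw [hγ]; group]
    exact hkS _ (mem_zpowers _)
  -- move the Sylow subgroup instead
  let S' : Sylow 2 G := γ⁻¹ • S
  let c' : G →* G := (MulAut.conj γ⁻¹).toMonoidHom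
  have hS' : (S' : Subgroup G) = (S : Subgroup G).map c' := rfl
  have hback : ∀ e : G, γ * e * γ⁻¹ ∈ (S : Subgroup G) → e ∈ (S' : Subgroup G) := fun e he =>
    hS' ▸ ⟨_, he, by simp [c', mul_assoc]⟩
  have hsd' : CycSyl43TypesLocal.SD (S' : Subgroup G) n (c' x) (c' y) := by
    rw [hS']
    exact hsd.map c' fun s _ hs => (MulAut.conj γ⁻¹).injective (hs.trans (map_one _).symm)
  have hzc : ∀ s ∈ (S' : Subgroup G), s * z = z * s := by
    intro s hs
    rw [hS'] at hs
    obtain ⟨r, hr, rfl⟩ := hs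
    have hz' : z = c' t := by simp [c', ← hkt, mul_assoc]
    rw [hz', ← map_mul, ← map_mul, hc r hr]
  obtain ⟨h16, hiso⟩ := Wong3Centre78.centraliser_type h.simple h.nonab hoz (hback z (hkt ▸ hm)) hzc
    hsd' (hback v hvS) hov hvz hself
  refine ⟨?_, hiso⟩
  have h1 := card_mul_index (S' : Subgroup G)
  rw [h16] at h1
  obtain ⟨j, hj⟩ : Odd (S' : Subgroup G).index :=
    Nat.not_even_iff_odd.1 fun he => S'.not_dvd_index (even_iff_two_dvd.1 he)
  rw [hj] at h1
  omega

/-- One class of involutions, `|G|₂ = 16`, and the centralisers modulo core are `GL(2,3)`. -/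
theorem local_data (h : Core G V) (hd : ¬ Dih G) :
    (∀ s t : G, orderOf s = 2 → orderOf t = 2 → IsConj s t) ∧ Nat.card G % 32 = 16 ∧
    ∀ z ∈ V, z ≠ 1 → Nonempty
      ((centralizer ({z} : Set G)) ⧸ Cfsg.oddCore (centralizer ({z} : Set G)) ≃*
        GL (Fin 2) (ZMod 3)) := by
  obtain ⟨S, t, n, x, y, -, -, -, -, hf⟩ := sylow_data h hd
  refine ⟨hf, ?_, fun z hz hz1 => (cent_data h hd hz hz1).2⟩
  obtain ⟨z, hz, hz1⟩ : ∃ z ∈ V, z ≠ 1 := by
    by_contra hno
    push Not at hno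
    have e : V = ⊥ := V.eq_bot_iff_forall.2 hno
    have := h.card_four
    rw [e, card_bot] at this
    omega
  exact (cent_data h hd hz hz1).1

end Cfsg.Agent.Wong3x33
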