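import Cfsg.Agent.Lib.Wong3Red57Edge

/-!
Transfer for the point stabiliser `Sym(4) × 2` of a primitive group with a suborbit of length three.
-/

set_option autoImplicit false
set_option linter.style.haveILetI false
set_option linter.unusedSectionVars false

namespace Cfsg.Agent.Wong3x33.Red57

open Subgroup

universe u

variable {G : Type u} [Group G] [Finite G]

theorem V4_sq_mem : ∀ x : S4, x * x ∈ V4 ∨ (x * x * x = 1 ∧ x ≠ 1) := by decide +kernel

theorem V4_trans : ∀ v ∈ V4, v ≠ 1 → ∀ w ∈ V4, w ≠ 1 → ∃ y : S4, y * v * y⁻¹ = w := by decide +kernel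

theorem isSolvable_S4 : Group.IsSolvable S4 := by
  refine ⟨⟨3, eq_bot_iff.mpr ?_⟩⟩
  have h1 : derivedSeries S4 1 ≤ alternatingGroup (Fin 4) := by
    rw [derivedSeries_succ, derivedSeries_zero]
    exact commutator_le.mpr fun a _ b _ => by
      rw [Equiv.Perm.mem_alternatingGroup, map_commutatorElement]
      exact commutatorElement_eq_one_iff_mul_comm.mpr (mul_comm _ _)
  have h2 : derivedSeries S4 2 ≤ V4 := by
    rw [derivedSeries_succ]
    refine (commutator_mono h1 h1).trans (commutator_le.mpr fun a ha b hb => ?_)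
    revert a b
    show ∀ a : S4, Equiv.Perm.sign a = 1 → ∀ b, Equiv.Perm.sign b = 1 → a * b * a⁻¹ * b⁻¹ ∈ V4
    decide +kernel
  rw [derivedSeries_succ]
  refine (commutator_mono h2 h2).trans (commutator_le.mpr fun a ha b hb => ?_)
  rw [Subgroup.mem_bot]
  revert a b
  show ∀ a : S4, a ∈ V4 → ∀ b, b ∈ V4 → a * b * a⁻¹ * b⁻¹ = 1
  decide +kernel

variable {H : Subgroup G} {z₀ : G} {p : H →* S4} {q : S4 →* H}

/-- The subgroup generated by the two four-groups. -/
def Dg (g : G) (q : S4 →* H) : Subgroup G := Vg q ⊔ conjS g (Vg q)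

/-- What is proved about the edge. -/
theorem transfer_kernel (M : Model H z₀ p q) (hz : z₀ ≠ 1) {g : G} {T : Subgroup G}
    (E : Edge H p g T) :
    centralizer ({z₀} : Set G) = H ∧
      ∃ K : Subgroup G, K.Normal ∧ K.index = 2 ∧ z₀ ∉ K ∧ Vg q ≤ K ∧
        Nat.card (K ⊓ H : Subgroup G) = 24 ∧ 16 ∣ Nat.card K ∧
        Nat.card (Dg g q) = 8 ∧ Dg g q ≤ T := by
  classical
  haveI : Fact (Nat.Prime 2) := ⟨Nat.prime_two⟩
  set W := Wg p with hWdef
  set W2 := conjS g W with hW2
  set V := Vg q with hV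
  set V2 := conjS g V with hV2
  set D := Dg g q with hD
  have hker : Nat.card p.ker = 2 := by rw [M.card_ker, if_neg hz]
  have hWc : Nat.card W = 8 := by rw [hWdef, M.card_Wg, hker]
  have hHc : Nat.card H = 48 := by rw [M.card_H, hker]
  have hTc : Nat.card T = 16 := by rw [E.card, hWc]
  have hNc : Nat.card (normalizer (T : Set G)) = 32 := by rw [E.card_norm M, hWc]
  have hcz : centralizer ({z₀} : Set G) = H := by
    have hle : H ≤ centralizer ({z₀} : Set G) := fun h hh =>
      mem_centralizer_singleton_iff.2 (M.comm h hh).eq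
    rcases M.maxi.le_iff.1 hle with e | e
    · exfalso
      have hn : (zpowers z₀).Normal := ⟨fun n hn y => by
        obtain ⟨k, rfl⟩ := mem_zpowers_iff.1 hn
        have hy : Commute y z₀ :=
          mem_centralizer_singleton_iff.1 (show y ∈ centralizer ({z₀} : Set G) by rw [e]; exact mem_top y)
        rw [(hy.zpow_right k).eq, mul_inv_cancel_right]
        exact zpow_mem (mem_zpowers z₀) k⟩
      exact hz (zpowers_eq_bot.1 (M.free _ hn (zpowers_le.2 M.mem)))
    · exact e
  have hzW2' : z₀ ∈ W2 := E.cent_W2 M fun a ha => (M.comm a (E.leH (E.W2_le M ha))).symm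
  have hzV : z₀ ∉ V := by
    rintro ⟨v, hv, e⟩
    have h1 : q v = ⟨z₀, M.mem⟩ := Subtype.ext e
    have h2 := congrArg p h1
    rw [M.sec, (M.ker ⟨z₀, M.mem⟩).2 (Or.inr rfl)] at h2
    rw [h2, map_one] at h1
    exact hz (congrArg Subtype.val h1).symm
  have hsq : ∀ t ∈ T, t * t ∈ V := by
    intro t ht
    set t' : H := ⟨t, E.leH ht⟩
    rcases V4_sq_mem (p t') with e | ⟨e1, e2⟩
    · have hsq' : (t * t : G) = (q (p t' * p t') : G) := by
        rcases M.decomp t' with r | r
        · rw [map_mul, coe_mul, ← r]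
        · rw [map_mul, coe_mul]
          show (t' : G) * t' = _
          rw [r, Commute.mul_mul_mul_comm (M.comm _ (q (p t')).2).symm, M.sq, mul_one]
      rw [hsq']
      exact ⟨_, e, rfl⟩
    · exfalso
      have h3 : orderOf (p t') = 3 := orderOf_eq_prime (by rw [pow_three', e1]) e2
      have h4 : orderOf (p t') ∣ 16 :=
        (orderOf_map_dvd p t').trans ((Subgroup.orderOf_mk t (E.leH ht)).dvd.trans
          (hTc ▸ T.orderOf_dvd_natCard ht))
      rw [h3] at h4
      norm_num at h4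
  have hgi : g⁻¹ ∈ normalizer (T : Set G) := inv_mem (E.g_mem M)
  have hgiT : g⁻¹ ∉ T := fun h => E.gnot (E.leH (inv_mem_iff.1 h))
  have hswap := E.swap M hgi hgiT
  have hgg : g * g ∈ T := by
    by_contra h
    have := ((E.swap M (mul_mem (E.g_mem M) (E.g_mem M)) h).1)
    refine E.W2_ne M (Subgroup.eq_of_le_of_card_ge (fun a ha => ?_) (card_conjS g _).ge)
    obtain ⟨s, hs, hsW⟩ := E.exists_out M
    by_contra haW
    have h1 := (E.swap M (E.g_mem M) (fun r => E.gnot (E.leH r))).2
    have hW' : ∀ w ∈ W, g * g * w * (g * g)⁻¹ ∈ W := fun w hw => by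
      have := h1 _ (conj_mem_conjS (x := g) hw)
      simpa [mul_assoc] using this
    obtain ⟨w, hw, rfl⟩ := ha
    have h2 : conjS (g * g) W = W := Subgroup.eq_of_le_of_card_ge
      (by rintro _ ⟨b, hb, rfl⟩; exact hW' b hb) (card_conjS _ _).ge
    have h3 : conjS (g * g) W ≤ W2 := by rintro _ ⟨b, hb, rfl⟩; exact this b hb
    rw [h2] at h3
    exact E.W2_ne M (Subgroup.eq_of_le_of_card_ge h3 (card_conjS g _).le).symm
  -- the square `z`
  obtain ⟨s, hs, hsW⟩ := E.exists_out M
  have hsT := E.W2_le M hs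
  obtain ⟨w₁, hw₁, hw₁s⟩ : ∃ w ∈ W, ¬ Commute w s := by
    by_contra hn
    push Not at hn
    apply hsW
    show s ∈ W
    rw [hWdef, ← M.cent_Wg]
    exact mem_centralizer_iff.2 fun w hw => (hn w hw).eq
  set z := s * w₁ * (s * w₁) with hzdef
  have hswT : s * w₁ ∈ T := mul_mem hsT (E.leW hw₁)
  have hzV' : z ∈ V := hsq _ hswT
  have hzW : z ∈ W := M.Vg_le_Wg hzV'
  have hz1 : z ≠ 1 := by
    intro e
    apply hw₁s
    have hi : (s * w₁)⁻¹ = s * w₁ := inv_eq_of_mul_eq_one_right e
    rw [mul_inv_rev, inv_eq_of_mul_eq_one_right (E.W2_sq M hs),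
      inv_eq_of_mul_eq_one_right (M.Wg_sq hw₁)] at hi
    exact hi
  have hzs : Commute z s := by
    have h1 : Commute z (s * w₁) := (Commute.refl (s * w₁)).mul_left (Commute.refl (s * w₁))
    have h2 : Commute z w₁ := E.W_comm M hzW hw₁
    have := h1.mul_right h2.inv_right
    rwa [mul_inv_cancel_right] at this
  have hzW2 : z ∈ W2 := by
    refine E.cent_W2 M fun a ha => ?_
    by_cases haW : a ∈ W
    · exact E.W_comm M hzW haW
    · have hsa : s * a ∈ W := (E.mul_mem_W M hsT (E.W2_le M ha)).2 (iff_of_false hsW haW)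
      rw [show a = s * (s * a) by rw [← mul_assoc, E.W2_sq M hs, one_mul]]
      exact hzs.mul_right (E.W_comm M hzW hsa)
  have hVW2 : ∀ v ∈ V, v ∈ W2 → v = 1 ∨ v = z := by
    intro v hv hv2
    by_contra hne
    push Not at hne
    apply E.W2_ne M
    refine (Subgroup.eq_of_le_of_card_ge ?_ (card_conjS g _).le).symm
    have hVle : V ≤ W2 := by
      intro a ha
      -- the four elements of `V`
      have hS : ({1, v, z, v * z} : Finset G).card = 4 := by
        rw [Finset.card_insert_of_notMem, Finset.card_insert_of_notMem, Finset.card_pair]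
        · intro r; exact hne.1 (by simpa using r.symm)
        · simp only [Finset.mem_insert, Finset.mem_singleton, not_or]
          exact ⟨hne.2, fun r => hz1 (mul_eq_left.1 r.symm)⟩
        · simp only [Finset.mem_insert, Finset.mem_singleton, not_or]
          refine ⟨fun r => hne.1 r.symm, fun r => hz1 r.symm, fun r => hne.2 ?_⟩
          rw [← mul_inv_cancel_right v z, ← r, one_mul, inv_eq_of_mul_eq_one_right (M.Vg_sq hzV')]
      haveI := Fintype.ofFinite V
      have hsub : ({1, v, z, v * z} : Finset G) ⊆ (V : Set G).toFinset := by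
        intro c hc
        simp only [Finset.mem_insert, Finset.mem_singleton] at hc
        rw [Set.mem_toFinset]
        rcases hc with rfl | rfl | rfl | rfl
        exacts [one_mem _, hv, hzV', mul_mem hv hzV']
      have he := Finset.eq_of_subset_of_card_le hsub (by
        rw [hS, Set.toFinset_card]
        show Fintype.card V ≤ 4
        rw [← Nat.card_eq_fintype_card, M.card_Vg])
      have hc : a ∈ ({1, v, z, v * z} : Finset G) := by rw [he, Set.mem_toFinset]; exact ha
      simp only [Finset.mem_insert, Finset.mem_singleton] at hc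
      rcases hc with rfl | rfl | rfl | rfl
      exacts [one_mem _, hv2, hzW2, mul_mem hv2 hzW2]
    intro a ha
    rcases M.Wg_cases ha with r | ⟨b, hb, rfl⟩
    · exact hVle r
    · exact mul_mem (hVle hb) hzW2'
  have hgz : g * z * g⁻¹ = z := by
    have h1 : g * z * g⁻¹ ∈ V := by
      have h := hsq _ (E.gT _ hswT)
      rwa [show g * (s * w₁) * g⁻¹ * (g * (s * w₁) * g⁻¹) = g * z * g⁻¹ by rw [hzdef]; group] at h
    rcases hVW2 _ h1 (conj_mem_conjS hzW) with e | e
    · exact absurd (conj_eq_one_iff.1 e) hz1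
    · exact e
  have hzT : ∀ t ∈ T, Commute t z := by
    intro t ht
    rw [← E.sup_eq M] at ht
    have : W ⊔ W2 ≤ centralizer ({z} : Set G) := sup_le
      (fun a ha => mem_centralizer_singleton_iff.2 (E.W_comm M ha hzW).eq)
      (fun a ha => mem_centralizer_singleton_iff.2 (E.W2_comm M ha hzW2).eq)
    exact mem_centralizer_singleton_iff.1 (this ht)
  -- `D`
  have hVT : V ≤ T := M.Vg_le_Wg.trans E.leW
  have hV2T : V2 ≤ T := (map_mono M.Vg_le_Wg).trans (E.W2_le M)
  have hDT : D ≤ T := sup_le hVT hV2T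
  have hgnorm : ∀ a ∈ V2, g * a * g⁻¹ ∈ V := by
    rintro _ ⟨v, hv, rfl⟩
    have := (mem_normalizer_iff.1 (M.le_norm_Vg (E.leH hgg)) v).1 hv
    simpa [mul_assoc] using this
  have hTV2 : ∀ t ∈ T, ∀ a ∈ V2, t * a * t⁻¹ ∈ V2 := by
    rintro t ht _ ⟨v, hv, rfl⟩
    have h1 : g⁻¹ * t * g ∈ T := by
      simpa using (mem_normalizer_iff.1 hgi t).1 ht
    have h2 := (mem_normalizer_iff.1 (M.le_norm_Vg (E.leH h1)) v).1 hv
    rw [hV2, mem_conjS]
    simpa [mul_assoc] using h2
  have hNorm : normalizer (T : Set G) ≤ normalizer (D : Set G) := by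
    have key : ∀ x : G, (∀ a ∈ V, x * a * x⁻¹ ∈ D) → (∀ a ∈ V2, x * a * x⁻¹ ∈ D) →
        ∀ d ∈ D, x * d * x⁻¹ ∈ D := fun x h1 h2 d hd =>
      (show D ≤ D.comap (MulAut.conj x).toMonoidHom from sup_le h1 h2) hd
    have hTD : ∀ t ∈ T, ∀ d ∈ D, t * d * t⁻¹ ∈ D := fun t ht => key t
      (fun a ha => mem_sup_left ((mem_normalizer_iff.1 (M.le_norm_Vg (E.leH ht)) a).1 ha))
      (fun a ha => mem_sup_right (hTV2 t ht a ha))
    have hgD : ∀ d ∈ D, g * d * g⁻¹ ∈ D := key g
      (fun a ha => mem_sup_right (conj_mem_conjS ha)) (fun a ha => mem_sup_left (hgnorm a ha))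
    intro x hx
    have : ∀ x ∈ normalizer (T : Set G), ∀ d ∈ D, x * d * x⁻¹ ∈ D := by
      intro x hx d hd
      by_cases hxT : x ∈ T
      · exact hTD x hxT d hd
      · have h1 := (mul_mem_iff_of_index_two (E.index_norm M)
          (a := (⟨g, E.g_mem M⟩ : normalizer (T : Set G))⁻¹) (b := ⟨x, hx⟩)).2
          (iff_of_false (fun r => E.gnot (E.leH (inv_mem_iff.1 (r : g⁻¹ ∈ T)))) hxT)
        have h2 := hgD _ (hTD (g⁻¹ * x) h1 d hd)
        rwa [show g * (g⁻¹ * x * d * (g⁻¹ * x)⁻¹) * g⁻¹ = x * d * x⁻¹ by group] at h2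
    exact mem_normalizer_iff.2 fun d => ⟨this x hx d, fun hd => by
      simpa [mul_assoc] using this x⁻¹ (inv_mem hx) _ hd⟩
  have hDW : ∀ d ∈ D, d ∈ W → d ∈ V := by
    have hle : V ≤ normalizer (V2 : Set G) := fun t ht => mem_normalizer_iff.2 fun a =>
      ⟨hTV2 t (hVT ht) a, fun ha => by
        simpa [mul_assoc] using hTV2 t⁻¹ (inv_mem (hVT ht)) _ ha⟩
    intro d hd hdW
    have hd' : d ∈ ((V ⊔ V2 : Subgroup G) : Set G) := hd
    rw [coe_mul_of_left_le_normalizer_right V V2 hle] at hd'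
    obtain ⟨v, hv, b, hb, rfl⟩ := hd'
    have hbW : b ∈ W := (W.mul_mem_cancel_left (M.Vg_le_Wg hv)).1 hdW
    refine mul_mem hv ?_
    rw [SetLike.mem_coe, hV2, mem_conjS] at hb
    have h1 : g⁻¹ * b * g ∈ W2 := by simpa [mul_assoc] using hswap.1 b hbW
    rcases hVW2 _ hb h1 with e | e
    · rw [show b = g * (g⁻¹ * b * g) * g⁻¹ by group, e, mul_one, mul_inv_cancel]
      exact one_mem _
    · rw [show b = g * (g⁻¹ * b * g) * g⁻¹ by group, e, hgz]
      exact hzV'
  have hzD : z₀ ∉ D := fun h => hzV (hDW _ h M.z_mem_Wg)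
  have hcover : ∀ t ∈ T, t ∈ D ∨ t * z₀ ∈ D := by
    have hWD : ∀ w ∈ W, w ∈ D ∨ w * z₀ ∈ D := by
      intro w hw
      rcases M.Wg_cases hw with r | ⟨v, hv, rfl⟩
      · exact Or.inl (mem_sup_left r)
      · exact Or.inr (by rw [mul_assoc, M.sq, mul_one]; exact mem_sup_left hv)
    obtain ⟨b, hb, hbW⟩ : ∃ b ∈ V2, b ∉ W := by
      by_contra hn
      push Not at hn
      have hle : V2 ≤ V := fun b hb => hDW b (mem_sup_right hb) (hn b hb)
      have he : V2 = V := Subgroup.eq_of_le_of_card_ge hle (card_conjS g V).ge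
      have hg : g ∈ normalizer (V : Set G) := mem_normalizer_iff.2 fun a =>
        ⟨fun ha => he ▸ conj_mem_conjS ha, fun ha => by
          rw [← he, hV2, mem_conjS] at ha; simpa [mul_assoc] using ha⟩
      rw [hV, M.norm_Vg] at hg
      exact E.gnot hg
    intro t ht
    by_cases htW : t ∈ W
    · exact hWD t htW
    · have hbt : b⁻¹ * t ∈ W := (E.mul_mem_W M (inv_mem (hV2T hb)) ht).2
        (iff_of_false (fun r => hbW (inv_mem_iff.1 r)) htW)
      have hbD : b ∈ D := mem_sup_right hb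
      rcases hWD _ hbt with r | r
      · exact Or.inl (by simpa using mul_mem hbD r)
      · exact Or.inr (by simpa [mul_assoc] using mul_mem hbD r)
  -- the normaliser of `T` is a Sylow subgroup
  set N := normalizer (T : Set G) with hN
  have hTN : T ≤ N := le_normalizer
  have hzN : z₀ ∈ N := hTN (E.leW M.z_mem_Wg)
  have hN2 : IsPGroup 2 N := IsPGroup.of_card (n := 5) (by rw [hN, hNc]; norm_num)
  obtain ⟨S, hNS⟩ := hN2.exists_le_sylow
  have hNS' : N = (S : Subgroup G) := by
    by_contra hne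
    have hlt : N.subgroupOf (S : Subgroup G) < ⊤ := lt_top_iff_ne_top.2 fun r => hne
      (le_antisymm hNS (subgroupOf_eq_top.1 r))
    haveI := S.2.isNilpotent
    have hnc := normalizerCondition_of_isNilpotent _ hlt
    obtain ⟨x, hx, hxN⟩ := SetLike.exists_of_lt hnc
    apply hxN
    show (x : G) ∈ N
    have hxN' : ∀ a ∈ N, (x : G) * a * (x : G)⁻¹ ∈ N := fun a ha =>
      (mem_normalizer_iff.1 hx ⟨a, hNS ha⟩).1 ha
    have hin : ∀ X : Subgroup G, X ≤ T → (∀ a ∈ X, a * a = 1) → Nat.card X = 8 →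
        conjS (x : G) X ≤ T := by
      intro X hX hXsq hXc
      by_contra hnot
      obtain ⟨a, ha, haT⟩ := SetLike.not_le_iff_exists.1 hnot
      set A := conjS (x : G) X with hA
      have hAN : A ≤ N := by rintro _ ⟨b, hb, rfl⟩; exact hxN' b (hTN (hX hb))
      have hAc : Nat.card A = 8 := by rw [hA, card_conjS, hXc]
      have hAsq : ∀ b ∈ A, b * b = 1 := by
        rintro _ ⟨b, hb, rfl⟩
        rw [← map_mul, hXsq b hb, map_one]
      have h4 : 4 ≤ Nat.card (T ⊓ A : Subgroup G) := by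
        have h1 : T.relIndex A ∣ 2 := by
          have h := relIndex_dvd_index_of_normal (T.subgroupOf N) (A.subgroupOf N)
          rw [E.index_norm M, relIndex_subgroupOf hAN] at h
          exact h
        have h2 := SuborbitThree.card_mul_rel (T ⊓ A) A inf_le_right
        rw [inf_relIndex_right, hAc] at h2
        have := Nat.le_of_dvd (by norm_num) h1
        nlinarith
      have hle : (T ⊓ A : Subgroup G) ≤ W ⊓ W2 := by
        intro b hb
        have hab : a * b * a⁻¹ = b := by
          have hc : a * b = b * a := by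
            have h1 := hAsq _ (A.mul_mem ha hb.2)
            rw [← inv_eq_of_mul_eq_one_right h1, mul_inv_rev,
              inv_eq_of_mul_eq_one_right (hAsq a ha), inv_eq_of_mul_eq_one_right (hAsq b hb.2)]
          rw [hc, mul_inv_cancel_right]
        rcases E.involution_mem M hb.1 (hAsq b hb.2) with r | r
        · exact ⟨r, hab ▸ (E.swap M (hAN ha) haT).1 b r⟩
        · exact ⟨hab ▸ (E.swap M (hAN ha) haT).2 b r, r⟩
      have hW4 : Nat.card (W ⊓ W2 : Subgroup G) ≤ 4 := by
        obtain ⟨j, hj⟩ := card_dvd_of_le (inf_le_left : W ⊓ W2 ≤ W)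
        rw [hWc] at hj
        rcases (show j = 0 ∨ j = 1 ∨ 2 ≤ j by omega) with rfl | rfl | h2
        · omega
        · exfalso
          apply hsW
          have hWW : W ⊓ W2 = W := Subgroup.eq_of_le_of_card_ge inf_le_left (by rw [hWc]; omega)
          have : W = W2 := Subgroup.eq_of_le_of_card_ge (inf_eq_left.1 hWW) (card_conjS g W).le
          show s ∈ W
          rw [this]
          exact hs
        · nlinarith
      have he : (T ⊓ A : Subgroup G) = W ⊓ W2 := Subgroup.eq_of_le_of_card_ge hle (by omega)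
      have hzA : z₀ ∈ A := (he.symm ▸ (⟨M.z_mem_Wg, hzW2'⟩ : z₀ ∈ W ⊓ W2) : z₀ ∈ T ⊓ A).2
      refine haT (E.nT a ?_ fun t ht => (mem_normalizer_iff.1 (hAN ha) t).1 ht)
      rw [← hcz, mem_centralizer_singleton_iff]
      have h1 := hAsq _ (A.mul_mem ha hzA)
      rw [← inv_eq_of_mul_eq_one_right h1, mul_inv_rev,
        inv_eq_of_mul_eq_one_right (hAsq a ha), inv_eq_of_mul_eq_one_right M.sq]
    have hxT : conjS (x : G) T = T := by
      refine Subgroup.eq_of_le_of_card_ge ?_ (card_conjS _ T).ge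
      conv_lhs => rw [← E.sup_eq M, conjS, Subgroup.map_sup]
      exact sup_le (hin W E.leW (fun a => M.Wg_sq) hWc)
        (hin W2 (E.W2_le M) (fun a => E.W2_sq M) ((card_conjS g W).trans hWc))
    refine mem_normalizer_iff.2 fun a => ⟨fun ha => hxT ▸ conj_mem_conjS ha, fun ha => ?_⟩
    rw [← hxT, mem_conjS] at ha
    simpa [mul_assoc] using ha
  have hodd : ¬ 2 ∣ N.index := hNS' ▸ S.not_dvd_index
  have hG : Nat.card G = 32 * N.index := by rw [← N.card_mul_index, hNc]
  have hnc : ¬ IsConj z₀ z := by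
    intro h
    obtain ⟨c, hc⟩ := isConj_iff.1 h
    have hCc : Nat.card (centralizer ({z} : Set G)) = 48 := by
      rw [← hHc, ← hcz]
      refine (Nat.card_congr ?_).symm
      exact
        { toFun := fun y => ⟨c * y.1 * c⁻¹, mem_centralizer_singleton_iff.2 (by
            rw [← hc]
            exact ((show Commute y.1 z₀ from mem_centralizer_singleton_iff.1 y.2).map
              (MulAut.conj c).toMonoidHom).eq)⟩
          invFun := fun y => ⟨c⁻¹ * y.1 * c, mem_centralizer_singleton_iff.2 (by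
            have h1 := ((show Commute y.1 z from mem_centralizer_singleton_iff.1 y.2).map
              (MulAut.conj c⁻¹).toMonoidHom).eq
            have hzc : (MulAut.conj c⁻¹).toMonoidHom z = z₀ := by simp [← hc, mul_assoc]
            rw [hzc] at h1
            simpa [mul_assoc] using h1)⟩
          left_inv := fun y => Subtype.ext (by simp [mul_assoc])
          right_inv := fun y => Subtype.ext (by simp [mul_assoc]) }
    have hle : N ≤ centralizer ({z} : Set G) := by
      intro x hx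
      rw [mem_centralizer_singleton_iff]
      by_cases hxT : x ∈ T
      · exact (hzT x hxT).eq
      · have h1 := (mul_mem_iff_of_index_two (E.index_norm M)
          (a := (⟨g, E.g_mem M⟩ : normalizer (T : Set G))⁻¹) (b := ⟨x, hx⟩)).2
          (iff_of_false (fun r => E.gnot (E.leH (inv_mem_iff.1 (r : g⁻¹ ∈ T)))) hxT)
        have hgc : Commute g z := mul_inv_eq_iff_eq_mul.1 hgz
        rw [← mul_inv_cancel_left g x]
        exact (hgc.mul_left (hzT _ h1)).eq
    have h32 := card_dvd_of_le hle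
    rw [hNc, hCc] at h32
    norm_num at h32
  have hfus : ∀ v ∈ V, ∀ c : G, c⁻¹ * z₀ * c ≠ v := by
    intro v hv c e
    obtain ⟨a, ha, rfl⟩ := hv
    obtain ⟨b, hb, hbz⟩ := hzV'
    have ha1 : a ≠ 1 := by
      rintro rfl
      rw [map_one] at e
      refine hz ?_
      calc z₀ = c * (c⁻¹ * z₀ * c) * c⁻¹ := by group
        _ = 1 := by rw [e]; group
    have hb1 : b ≠ 1 := by rintro rfl; exact hz1 (by rw [← hbz, map_one])
    obtain ⟨y, hy⟩ := V4_trans a ha ha1 b hb hb1
    refine hnc (isConj_iff.2 ⟨(q y : G) * c⁻¹, ?_⟩)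
    rw [← hbz, ← hy, map_mul, map_mul, map_inv]
    calc (q y : G) * c⁻¹ * z₀ * ((q y : G) * c⁻¹)⁻¹
        = (q y : G) * (c⁻¹ * z₀ * c) * (q y : G)⁻¹ := by group
      _ = _ := by rw [e]; rfl
  -- the transfer
  set D' := D.subgroupOf N with hD'
  haveI hD'n : D'.Normal := ⟨fun d hd y => (mem_normalizer_iff.1 (hNorm y.2) d).1 hd⟩
  have hD'c : Nat.card D' = 8 := by
    rw [hD', Nat.card_congr (subgroupOfEquivOfLe (hDT.trans hTN)).toEquiv]
    have h2 : (D.subgroupOf T).index = 2 := index_eq_two_iff.2 ⟨⟨z₀, E.leW M.z_mem_Wg⟩, fun t => by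
      rcases hcover t.1 t.2 with r | r
      · exact Or.inr ⟨r, fun h => hzD ((D.mul_mem_cancel_left r).1 h)⟩
      · exact Or.inl ⟨r, fun h => hzD ((D.mul_mem_cancel_left h).1 r)⟩⟩
    have h := (D.subgroupOf T).card_mul_index
    rw [h2, Nat.card_congr (subgroupOfEquivOfLe hDT).toEquiv, hTc] at h
    omega
  have hA4 : Nat.card (N ⧸ D') = 2 ^ 2 := by
    have h := D'.card_mul_index
    rw [hD'c, hNc] at h
    show D'.index = 2 ^ 2
    omega
  let _ : CommGroup (N ⧸ D') := IsPGroup.commGroupOfCardEqPrimeSq hA4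
  let φ : N →* N ⧸ D' := QuotientGroup.mk' D'
  have hφ1 : ∀ u : N, φ u = 1 ↔ (u : G) ∈ D := fun u => QuotientGroup.eq_one_iff u
  set a : N ⧸ D' := φ ⟨z₀, hzN⟩ with ha_def
  have ha1 : a ≠ 1 := fun h => hzD ((hφ1 _).1 h)
  have ha2 : a * a = 1 := by
    rw [ha_def, ← map_mul, show (⟨z₀, hzN⟩ * ⟨z₀, hzN⟩ : N) = 1 from Subtype.ext M.sq, map_one]
  haveI := Fintype.ofFinite (G ⧸ N)
  let F := Finset.univ.filter fun c : G ⧸ N => z₀ • c = c
  have hFmem : ∀ c ∈ F, c.out⁻¹ * z₀ * c.out ∈ N := by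
    intro c hc
    have h := (Finset.mem_filter.1 hc).2
    rw [← c.out_eq'] at h
    have h1 := QuotientGroup.eq.1 (show ((z₀ * c.out : G) : G ⧸ N) = (c.out : G ⧸ N) from h)
    have h2 := inv_mem h1
    simpa [mul_assoc] using h2
  let val : G ⧸ N → N ⧸ D' := fun c =>
    if h : c.out⁻¹ * z₀ * c.out ∈ N then φ ⟨_, h⟩ else 1
  have hval2 : ∀ c ∈ F, val c * val c = 1 := by
    intro c hc
    simp only [val, dif_pos (hFmem c hc)]
    rw [← map_mul]
    refine (hφ1 _).2 ?_
    show c.out⁻¹ * z₀ * c.out * (c.out⁻¹ * z₀ * c.out) ∈ D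
    rw [show c.out⁻¹ * z₀ * c.out * (c.out⁻¹ * z₀ * c.out) = c.out⁻¹ * (z₀ * z₀) * c.out by group,
      M.sq, mul_one, inv_mul_cancel]
    exact one_mem _
  have hTF : ∀ t ∈ T, ∀ c ∈ F, t • c ∈ F ∧ val (t • c) = val c := by
    intro t ht c hc
    have htc : Commute t z₀ := M.comm t (E.leH ht)
    have hmem : t • c ∈ F := Finset.mem_filter.2 ⟨Finset.mem_univ _, by
      rw [smul_smul, ← htc.eq, mul_smul, (Finset.mem_filter.1 hc).2]⟩
    refine ⟨hmem, ?_⟩
    have he : ((t * c.out : G) : G ⧸ N) = ((t • c).out : G ⧸ N) := by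
      rw [QuotientGroup.out_eq']
      conv_rhs => rw [← QuotientGroup.out_eq' c]
      rfl
    have h1 := QuotientGroup.eq.1 he
    set e : N := ⟨_, h1⟩ with hedef
    simp only [val, dif_pos (hFmem _ hmem), dif_pos (hFmem c hc)]
    have heq : (⟨_, hFmem _ hmem⟩ : N) = e⁻¹ * ⟨_, hFmem c hc⟩ * e := by
      apply Subtype.ext
      show (t • c).out⁻¹ * z₀ * (t • c).out =
        ((t * c.out)⁻¹ * (t • c).out)⁻¹ * (c.out⁻¹ * z₀ * c.out) * ((t * c.out)⁻¹ * (t • c).out)
      rw [show ((t * c.out)⁻¹ * (t • c).out)⁻¹ * (c.out⁻¹ * z₀ * c.out) *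
          ((t * c.out)⁻¹ * (t • c).out) = (t • c).out⁻¹ * (t * z₀ * t⁻¹) * (t • c).out by group,
        htc.eq, mul_inv_cancel_right]
    rw [heq, map_mul, map_mul, mul_comm _ (φ ⟨_, hFmem c hc⟩), mul_assoc, ← map_mul,
      inv_mul_cancel, map_one, mul_one]
  have hfixed : ∀ c ∈ F, (∀ t ∈ T, t • c = c) → val c = a := by
    intro c hc hfx
    set x := c.out with hxdef
    set u := x⁻¹ * z₀ * x with hudef
    have huN : u ∈ N := hFmem c hc
    have hTx : ∀ t ∈ T, x⁻¹ * t * x ∈ N := by
      intro t ht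
      have h := hfx t ht
      rw [← c.out_eq', ← hxdef] at h
      have h1 := inv_mem (QuotientGroup.eq.1 (show ((t * x : G) : G ⧸ N) = (x : G ⧸ N) from h))
      simpa [mul_assoc] using h1
    have hu2 : u * u = 1 := by
      rw [hudef, show x⁻¹ * z₀ * x * (x⁻¹ * z₀ * x) = x⁻¹ * (z₀ * z₀) * x by group, M.sq, mul_one,
        inv_mul_cancel]
    have huT : u ∈ T := by
      by_contra huT
      set A := conjS x⁻¹ T with hA
      have hAN : A ≤ N := by rintro _ ⟨t, ht, rfl⟩; simpa using hTx t ht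
      have hAu : ∀ b ∈ A, u * b * u⁻¹ = b := by
        rintro _ ⟨t, ht, rfl⟩
        have hcm := ((M.comm t (E.leH ht)).map (MulAut.conj x⁻¹).toMonoidHom).eq
        have hu' : (MulAut.conj x⁻¹).toMonoidHom z₀ = u := by simp [hudef]
        rw [hu'] at hcm
        rw [← hcm, mul_inv_cancel_right]
      have hAW : ∀ b ∈ T ⊓ A ⊓ W, b ∈ W ⊓ W2 := fun b hb =>
        ⟨hb.2, by rw [← hAu b hb.1.2]; exact (E.swap M huN huT).1 b hb.2⟩
      have h8 : 8 ≤ Nat.card (T ⊓ A : Subgroup G) := by
        have h1 : T.relIndex A ∣ 2 := by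
          have h := relIndex_dvd_index_of_normal (T.subgroupOf N) (A.subgroupOf N)
          rw [E.index_norm M, relIndex_subgroupOf hAN] at h
          exact h
        have h2 := SuborbitThree.card_mul_rel (T ⊓ A) A inf_le_right
        rw [inf_relIndex_right, hA, card_conjS, hTc, ← hA] at h2
        have := Nat.le_of_dvd (by norm_num) h1
        nlinarith
      have h4 : 4 ≤ Nat.card (T ⊓ A ⊓ W : Subgroup G) := by
        have h1 : W.relIndex (T ⊓ A) ∣ 2 := by
          haveI : (W.subgroupOf T).Normal := normal_of_index_eq_two (E.W_index M)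
          have h := relIndex_dvd_index_of_normal (W.subgroupOf T) ((T ⊓ A).subgroupOf T)
          rw [E.W_index M, relIndex_subgroupOf inf_le_left] at h
          exact h
        have h2 := SuborbitThree.card_mul_rel (W ⊓ (T ⊓ A)) (T ⊓ A) inf_le_right
        rw [inf_relIndex_right, inf_comm W] at h2
        have := Nat.le_of_dvd (by norm_num) h1
        nlinarith
      have hW4 : Nat.card (W ⊓ W2 : Subgroup G) ≤ 4 := by
        obtain ⟨j, hj⟩ := card_dvd_of_le (inf_le_left : W ⊓ W2 ≤ W)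
        rw [hWc] at hj
        rcases (show j = 0 ∨ j = 1 ∨ 2 ≤ j by omega) with rfl | rfl | h2
        · omega
        · exfalso
          apply hsW
          have hWW : W ⊓ W2 = W := Subgroup.eq_of_le_of_card_ge inf_le_left (by rw [hWc]; omega)
          have : W = W2 := Subgroup.eq_of_le_of_card_ge (inf_eq_left.1 hWW) (card_conjS g W).le
          show s ∈ W
          rw [this]
          exact hs
        · nlinarith
      have he : (T ⊓ A ⊓ W : Subgroup G) = W ⊓ W2 := Subgroup.eq_of_le_of_card_ge hAW (by omega)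
      have hzA : z₀ ∈ A := (he.symm ▸ (⟨M.z_mem_Wg, hzW2'⟩ : z₀ ∈ W ⊓ W2) : z₀ ∈ T ⊓ A ⊓ W).1.2
      refine huT (E.nT u ?_ fun t ht => (mem_normalizer_iff.1 huN t).1 ht)
      rw [← hcz, mem_centralizer_singleton_iff]
      exact mul_inv_eq_iff_eq_mul.1 (hAu z₀ hzA)
    have huD : u ∉ D := by
      intro h
      rcases E.involution_mem M huT hu2 with r | r
      · exact hfus u (hDW u h r) x rfl
      · have h1 : g⁻¹ * u * g ∈ D := by
          simpa using (mem_normalizer_iff.1 (hNorm hgi) u).1 h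
        exact hfus _ (hDW _ h1 (mem_conjS.1 r)) (x * g) (by rw [hudef]; group)
    rcases hcover u huT with r | r
    · exact absurd r huD
    · have h1 : φ ⟨u, huN⟩ * a = 1 := by
        rw [ha_def, ← map_mul]; exact (hφ1 _).2 r
      simp only [val, ← hxdef]
      rw [dif_pos huN]
      calc φ ⟨u, huN⟩ = φ ⟨u, huN⟩ * (a * a) := by rw [ha2, mul_one]
        _ = a := by rw [← mul_assoc, h1, one_mul]
  have heven : ∀ s : Finset (G ⧸ N), (∀ c ∈ s, c ∈ F ∧ val c ≠ a) →
      (∀ t ∈ T, ∀ c ∈ s, t • c ∈ s) → Even s.card := by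
    intro s hs hinv
    let _ : MulAction T s :=
      { smul := fun t c => ⟨t.1 • c.1, hinv t.1 t.2 c.1 c.2⟩
        one_smul := fun c => Subtype.ext (one_smul G c.1)
        mul_smul := fun t t' c => Subtype.ext (mul_smul t.1 t'.1 c.1) }
    have hT2 : IsPGroup 2 T := IsPGroup.of_card (n := 4) (by rw [hTc]; norm_num)
    have h0 : Nat.card (MulAction.fixedPoints T s) = 0 := by
      haveI : IsEmpty (MulAction.fixedPoints T s) := ⟨fun c => (hs c.1.1 c.1.2).2
        (hfixed _ (hs c.1.1 c.1.2).1 fun t ht => congrArg Subtype.val (c.2 ⟨t, ht⟩))⟩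
      exact Nat.card_of_isEmpty
    have h := hT2.card_modEq_card_fixedPoints s
    rw [h0, Nat.card_eq_finsetCard] at h
    exact Nat.even_iff.2 h
  have hFodd : Odd F.card := by
    let Z : Subgroup G := zpowers z₀
    have hZ : IsPGroup 2 Z := IsPGroup.of_card (n := 1)
      (by rw [Nat.card_zpowers, Cfsg.Agent.GWDih33.order_two M.sq hz, pow_one])
    have h := hZ.card_modEq_card_fixedPoints (G ⧸ N)
    have hc : Nat.card (MulAction.fixedPoints Z (G ⧸ N)) = F.card := by
      rw [← Nat.card_eq_finsetCard]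
      refine Nat.card_congr (Equiv.subtypeEquivRight fun c => ⟨fun r => Finset.mem_filter.2
        ⟨Finset.mem_univ _, r ⟨z₀, mem_zpowers z₀⟩⟩, fun r k => ?_⟩)
      obtain ⟨m, hm⟩ := mem_zpowers_iff.1 k.2
      show k.1 • c = c
      rw [← hm]
      have : z₀ ∈ MulAction.stabilizer G c := (Finset.mem_filter.1 r).2
      exact zpow_mem this m
    rw [hc] at h
    have h' : N.index % 2 = F.card % 2 := h
    exact Nat.odd_iff.2 (by omega)
  have hprod : ∏ c ∈ F, val c = a := by
    rw [← Finset.prod_filter_mul_prod_filter_not F (fun c => val c = a)]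
    have h1 : ∏ c ∈ F.filter (fun c => ¬ val c = a), val c = 1 := by
      rw [show (∏ c ∈ F.filter (fun c => ¬ val c = a), val c) =
        ∏ c ∈ F.filter (fun c => ¬ val c = a), id (val c) from rfl, Finset.prod_comp id val]
      refine Finset.prod_eq_one fun b hb => ?_
      obtain ⟨c, hc, rfl⟩ := Finset.mem_image.1 hb
      obtain ⟨hcF, hca⟩ := Finset.mem_filter.1 hc
      obtain ⟨k, hk⟩ := heven ((F.filter (fun c => ¬ val c = a)).filter fun d => val d = val c)
        (fun d hd => Finset.mem_filter.1 (Finset.mem_filter.1 hd).1)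
        (fun t ht d hd => by
          obtain ⟨hd1, hd2⟩ := Finset.mem_filter.1 hd
          obtain ⟨hdF, hda⟩ := Finset.mem_filter.1 hd1
          obtain ⟨e1, e2⟩ := hTF t ht d hdF
          exact Finset.mem_filter.2 ⟨Finset.mem_filter.2 ⟨e1, e2.symm ▸ hda⟩, e2.trans hd2⟩)
      rw [hk, id, ← two_mul, pow_mul, pow_two, hval2 c hcF, one_pow]
    have h2 : Even (F.filter (fun c => ¬ val c = a)).card :=
      heven _ (fun d hd => Finset.mem_filter.1 hd) fun t ht d hd => by
        obtain ⟨hdF, hda⟩ := Finset.mem_filter.1 hd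
        obtain ⟨e1, e2⟩ := hTF t ht d hdF
        exact Finset.mem_filter.2 ⟨e1, e2.symm ▸ hda⟩
    have h3 := Finset.card_filter_add_card_filter_not (s := F) (fun c => val c = a)
    obtain ⟨k, hk⟩ : Odd (F.filter fun c => val c = a).card := by
      rw [Nat.odd_iff] at hFodd ⊢
      rw [Nat.even_iff] at h2
      omega
    rw [h1, mul_one, Finset.prod_congr rfl (fun c hc => (Finset.mem_filter.1 hc).2),
      Finset.prod_const, hk, pow_succ, pow_mul, pow_two, ha2, one_pow, one_mul]
  let τ : G →* N ⧸ D' := MonoidHom.transfer φ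
  have hτ : τ z₀ = a := by
    haveI := Fintype.ofFinite (Quotient (MulAction.orbitRel (zpowers z₀) (G ⧸ N)))
    show MonoidHom.transfer φ z₀ = a
    rw [MonoidHom.transfer_eq_prod_quotient_orbitRel_zpowers_quot, ← hprod, ← Finset.prod_coe_sort F]
    have hout : ∀ c ∈ F, (Quotient.mk (MulAction.orbitRel (zpowers z₀) (G ⧸ N)) c).out = c := by
      intro c hc
      have hr : MulAction.orbitRel (zpowers z₀) (G ⧸ N)
          (Quotient.mk (MulAction.orbitRel (zpowers z₀) (G ⧸ N)) c).out c := Quotient.mk_out _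
      obtain ⟨⟨k, hk⟩, hkc⟩ := hr
      rw [← hkc]
      show k • c = c
      obtain ⟨m, rfl⟩ := mem_zpowers_iff.1 hk
      exact (zpow_mem (show z₀ ∈ MulAction.stabilizer G c from (Finset.mem_filter.1 hc).2) m :)
    refine (Fintype.prod_of_injective
      (fun c : F => Quotient.mk (MulAction.orbitRel (zpowers z₀) (G ⧸ N)) c.1) ?_ _ _ ?_ ?_).symm
    · intro c d h
      have := congrArg Quotient.out h
      rw [hout c.1 c.2, hout d.1 d.2] at this
      exact Subtype.ext this
    · intro o ho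
      have hnF : ¬ z₀ • o.out = o.out := fun h => ho
        ⟨⟨o.out, Finset.mem_filter.2 ⟨Finset.mem_univ _, h⟩⟩, o.out_eq⟩
      have hp2 : Function.IsPeriodicPt (z₀ • ·) 2 o.out := by
        show z₀ • z₀ • o.out = o.out
        rw [smul_smul, M.sq, one_smul]
      have hper : Function.minimalPeriod (z₀ • ·) o.out = 2 := by
        rcases (Nat.dvd_prime Nat.prime_two).1 hp2.minimalPeriod_dvd with r | r
        · exact absurd (Function.minimalPeriod_eq_one_iff_isFixedPt.1 r) hnF
        · exact r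
      refine (hφ1 _).2 ?_
      show o.out.out⁻¹ * z₀ ^ Function.minimalPeriod (z₀ • ·) o.out * o.out.out ∈ D
      rw [hper, pow_two, M.sq, mul_one, inv_mul_cancel]
      exact one_mem _
    · intro c
      simp only [val, dif_pos (hFmem c.1 c.2)]
      refine congrArg φ (Subtype.ext ?_)
      show c.1.out⁻¹ * z₀ * c.1.out = _
      have hper : Function.minimalPeriod (z₀ • ·) c.1 = 1 :=
        Function.minimalPeriod_eq_one_iff_isFixedPt.2 (Finset.mem_filter.1 c.2).2
      simp only [hout c.1 c.2, hper, pow_one]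
  have hcardA : ∀ b : N ⧸ D', b ^ 4 = 1 := fun b => by
    have h := pow_card_eq_one' (x := b)
    rwa [hA4] at h
  have hthree : ∀ y : G, y * y * y = 1 → τ y = 1 := by
    intro y hy
    have h1 : τ y ^ 3 = 1 := by rw [← map_pow, pow_three', hy, map_one]
    have h2 := hcardA (τ y)
    rwa [pow_succ, h1, one_mul] at h2
  have hzK : z₀ ∉ τ.ker := fun h => ha1 (hτ ▸ h)
  have hVK : V ≤ τ.ker := by
    rintro _ ⟨v, hv, rfl⟩
    obtain ⟨c, d, hc, hd, rfl⟩ := V4_three v hv
    show τ ((q (c * d) : H) : G) = 1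
    rw [map_mul, coe_mul, map_mul, hthree _ (by rw [← coe_mul, ← coe_mul, ← map_mul, ← map_mul, hc, map_one]; rfl),
      hthree _ (by rw [← coe_mul, ← coe_mul, ← map_mul, ← map_mul, hd, map_one]; rfl), one_mul]
  have hV2K : V2 ≤ τ.ker := by
    rintro _ ⟨v, hv, rfl⟩
    exact τ.normal_ker.conj_mem v (hVK hv) g
  have hKH : Nat.card (τ.ker ⊓ H : Subgroup G) = 24 := by
    have hd : Nat.card (τ.ker ⊓ H : Subgroup G) ∣ 48 := hHc ▸ card_dvd_of_le inf_le_right
    have h8 : 8 ∣ Nat.card (τ.ker ⊓ H : Subgroup G) := by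
      have h := card_dvd_of_le (le_inf (sup_le hVK hV2K) (hDT.trans E.leH) : D ≤ τ.ker ⊓ H)
      have he : Nat.card D = 8 := by
        rw [← hD'c, hD']
        exact (Nat.card_congr (subgroupOfEquivOfLe (hDT.trans hTN)).toEquiv).symm
      rwa [he] at h
    have h3 : 3 ∣ Nat.card (τ.ker ⊓ H : Subgroup G) := by
      haveI : Fact (Nat.Prime 3) := ⟨Nat.prime_three⟩
      obtain ⟨r, hr⟩ := exists_prime_orderOf_dvd_card' (G := H) 3 (by rw [hHc]; norm_num)
      have hr' : orderOf (r : G) = 3 := by rw [orderOf_coe, hr]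
      rw [← hr']
      refine orderOf_dvd_natCard _ (show (r : G) ∈ τ.ker ⊓ H from ⟨hthree _ ?_, r.2⟩)
      rw [← pow_three', ← hr', pow_orderOf_eq_one]
    have h24 : 24 ∣ Nat.card (τ.ker ⊓ H : Subgroup G) :=
      Nat.Coprime.mul_dvd_of_dvd_of_dvd (by norm_num : Nat.Coprime 8 3) h8 h3
    obtain ⟨j, hj⟩ := h24
    rw [hj] at hd ⊢
    have hj2 : j ≤ 2 := by have := Nat.le_of_dvd (by norm_num) hd; omega
    have hj0 : j ≠ 0 := fun r => by rw [r, mul_zero] at hd; simp at hd
    rcases (show j = 1 ∨ j = 2 by omega) with rfl | rfl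
    · rfl
    · exfalso
      apply hzK
      have he : τ.ker ⊓ H = H := Subgroup.eq_of_le_of_card_ge inf_le_right (by rw [hj, hHc])
      exact (inf_eq_right.1 he) M.mem
  have hsup : τ.ker ⊔ H = ⊤ := M.maxi.2 _ (lt_of_le_of_ne le_sup_right fun r => by
    have hle : τ.ker ≤ H := r ▸ le_sup_left
    have := M.free _ τ.normal_ker hle
    exact M.Vg_ne_bot (le_bot_iff.1 (this ▸ hVK)))
  have hidx : τ.ker.index = 2 := by
    rw [← relIndex_top_right, ← hsup, sup_comm, relIndex_sup_right, ← inf_relIndex_right]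
    have h := SuborbitThree.card_mul_rel (τ.ker ⊓ H) H inf_le_right
    rw [hKH, hHc] at h
    omega
  refine ⟨hcz, τ.ker, τ.normal_ker, hidx, hzK, hVK, hKH, ?_, ?_, hDT⟩
  swap
  · rw [← hD'c, hD']
    exact (Nat.card_congr (subgroupOfEquivOfLe (hDT.trans hTN)).toEquiv).symm
  have h := τ.ker.card_mul_index
  rw [hidx, hG] at h
  exact ⟨N.index, by omega⟩

end Cfsg.Agent.Wong3x33.Red57
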