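import Cfsg.Agent.Lib.Wong3Red57Four
import Cfsg.Agent.Lib.Wong3Red57Transfer

/-!
The reduction of S3686 with point stabiliser `Sym(4) × 2`.
-/

set_option autoImplicit false
set_option linter.style.haveILetI false
set_option linter.unusedSectionVars false

namespace Cfsg.Agent.Wong3x33

open Subgroup Red57
open Cfsg.Agent.GWDih33 (Om)

universe u

variable {G : Type u} [Group G] [Finite G]

theorem core_of_s4 {Ω : Type*} [MulAction G Ω] [FaithfulSMul G Ω] [Finite Ω]
    (hsol : ¬ Group.IsSolvable G)
    (hprim : MulAction.IsPreprimitive G Ω) (a b : Ω)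
    (h3 : Nat.card (MulAction.orbit (MulAction.stabilizer G a) b) = 3)
    (e : MulAction.stabilizer G a ≃* Equiv.Perm (Fin 4)) :
    ∃ V : Subgroup G, Core G V ∧ normalizer (V : Set G) = MulAction.stabilizer G a :=
  Red57.core_of_s4 hsol hprim a b h3 e

namespace Red57

/-- A fixed-point-free automorphism of order two inverts. -/
theorem inverts_of_fpf {M : Type*} [Group M] [Finite M] (σ : M ≃* M) (h2 : ∀ x, σ (σ x) = x)
    (hf : ∀ x, σ x = x → x = 1) (x : M) : σ x = x⁻¹ := by
  let f : M → M := fun y => y⁻¹ * σ y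
  have hinj : Function.Injective f := by
    intro y w h
    have h1 : σ (w * y⁻¹) = w * y⁻¹ := by
      have hy : σ y = y * (w⁻¹ * σ w) := by rw [← show y⁻¹ * σ y = w⁻¹ * σ w from h, mul_inv_cancel_left]
      rw [map_mul, map_inv, hy]
      group
    exact (mul_inv_eq_one.1 (hf _ h1)).symm
  obtain ⟨y, rfl⟩ := (Finite.injective_iff_surjective.1 hinj) x
  show σ (y⁻¹ * σ y) = (y⁻¹ * σ y)⁻¹
  rw [map_mul, map_inv, h2, mul_inv_rev, inv_inv]

end Red57

theorem core_of_s4_two {Ω : Type*} [MulAction G Ω] [FaithfulSMul G Ω] [Finite Ω]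
    (hsol : ¬ Group.IsSolvable G)
    (hprim : MulAction.IsPreprimitive G Ω) (a b : Ω)
    (h3 : Nat.card (MulAction.orbit (MulAction.stabilizer G a) b) = 3)
    (e : MulAction.stabilizer G a ≃* Equiv.Perm (Fin 4) × Multiplicative (ZMod 2)) :
    ∃ (z₀ : G) (N : Subgroup G), orderOf z₀ = 2 ∧
      centralizer ({z₀} : Set G) = MulAction.stabilizer G a ∧
      N.Normal ∧ N.index = 2 ∧ z₀ ∉ N ∧ Subgroup.centralizer (N : Set G) = ⊥ ∧
      ∃ V : Subgroup N, Core N V ∧
        (normalizer (V : Set N)).map N.subtype = MulAction.stabilizer G a ⊓ N := by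
  classical
  obtain ⟨hco, x, hx⟩ := prim_data hprim a b h3
  set H := MulAction.stabilizer G a with hH
  set c : H := e.symm (1, Multiplicative.ofAdd 1) with hc
  have hc2 : c * c = 1 := by
    rw [hc, ← map_mul, show ((1 : Equiv.Perm (Fin 4)), Multiplicative.ofAdd (1 : ZMod 2)) *
      (1, Multiplicative.ofAdd 1) = 1 by decide +kernel, map_one]
  have hc1 : c ≠ 1 := by
    rw [hc, ne_eq, map_eq_one_iff e.symm e.symm.injective]
    decide +kernel
  set z₀ : G := (c : G) with hz₀
  let p : H →* S4 := (MonoidHom.fst _ _).comp e.toMonoidHom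
  let q : S4 →* H := e.symm.toMonoidHom.comp (MonoidHom.inl _ _)
  have hker : ∀ y : H, p y = 1 ↔ y = 1 ∨ (y : G) = z₀ := by
    intro y
    have key : ∀ w : S4 × Multiplicative (ZMod 2), w.1 = 1 ↔ w = 1 ∨ w = (1, Multiplicative.ofAdd 1) := by
      decide +kernel
    show (e y).1 = 1 ↔ _
    rw [key, map_eq_one_iff e e.injective, hz₀]
    refine or_congr Iff.rfl ⟨fun h => ?_, fun h => ?_⟩
    · rw [hc, ← h, MulEquiv.symm_apply_apply]
    · rw [H.subtype_injective h]
      exact e.apply_symm_apply _
  have M : Model H z₀ p q :=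
    { mem := c.2
      sq := congrArg Subtype.val hc2
      ker := hker
      sec := fun σ => by show (e (e.symm (σ, 1))).1 = σ; rw [MulEquiv.apply_symm_apply]
      comm := fun h hh => by
        have hcen : ∀ w : S4 × Multiplicative (ZMod 2),
            w * (1, Multiplicative.ofAdd 1) = (1, Multiplicative.ofAdd 1) * w := by decide +kernel
        have h1 : (⟨h, hh⟩ : H) * c = c * ⟨h, hh⟩ := e.injective (by
          rw [map_mul, map_mul, hc, MulEquiv.apply_symm_apply]; exact hcen _)
        exact congrArg Subtype.val h1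
      maxi := hco
      free := fun L hL hle => free_of_prim hprim a L hL hle }
  have hz : z₀ ≠ 1 := fun h => hc1 (Subtype.ext h)
  obtain ⟨g, T, E⟩ := M.exists_edge x hx
  obtain ⟨hcz, K, hKn, hKi, hzK, hVK, hKH, hK16, hD8, hDT⟩ := transfer_kernel M hz E
  haveI := hKn
  set V := Vg q with hV
  set W := Wg p with hW
  have hHc : Nat.card H = 48 := by rw [M.card_H, M.card_ker, if_neg hz]
  have hHK : Nat.card (K ⊓ H : Subgroup G) = 24 := hKH
  -- a nontrivial normal subgroup inside `K` is `K`
  have hmin : ∀ L : Subgroup G, L.Normal → L ≤ K → L ≠ ⊥ → L = K := by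
    intro L hL hLK hL1
    haveI := hL
    have hsup : L ⊔ H = ⊤ := hco.2 _ (lt_of_le_of_ne le_sup_right fun r =>
      hL1 (M.free L hL (r.symm ▸ le_sup_left)))
    have hnorm : ∀ L' : Subgroup G, L'.Normal → H ≤ normalizer ((L' ⊓ H : Subgroup G) : Set G) :=
      fun L' hL' h hh => mem_normalizer_iff.2 fun y =>
        ⟨fun hy => ⟨hL'.conj_mem y hy.1 h, H.mul_mem (H.mul_mem hh hy.2) (H.inv_mem hh)⟩,
        fun hy => ⟨by simpa [mul_assoc] using hL'.conj_mem _ hy.1 h⁻¹,
          by simpa [mul_assoc] using H.mul_mem (H.mul_mem (H.inv_mem hh) hy.2) hh⟩⟩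
    rcases M.normal_cases (inf_le_right (a := L)) (hnorm L hL) with r | r | r
    · exfalso
      -- then `z₀` inverts `L`, which is abelian
      have hinv : ∀ l : L, z₀ * l.1 * z₀⁻¹ = (l.1)⁻¹ := by
        let σ : L ≃* L := MulAut.conjNormal z₀
        intro l
        have := inverts_of_fpf σ (fun y => by
            show MulAut.conjNormal z₀ (MulAut.conjNormal z₀ y) = y
            rw [← MulAut.mul_apply, ← map_mul, M.sq, map_one, MulAut.one_apply])
          (fun y hy => by
            have h1 : z₀ * y.1 * z₀⁻¹ = y.1 := by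
              rw [← MulAut.conjNormal_apply]; exact congrArg Subtype.val hy
            have h2 : y.1 ∈ L ⊓ H := ⟨y.2, hcz ▸ mem_centralizer_singleton_iff.2
              (mul_inv_eq_iff_eq_mul.1 h1).symm⟩
            rw [r, mem_bot] at h2
            exact Subtype.ext h2) l
        rw [← MulAut.conjNormal_apply]
        exact congrArg Subtype.val this
      have hcomm : ∀ u v : L, u * v = v * u := fun u v => Subtype.ext (by
        have h1 := hinv (u * v)
        rw [coe_mul, ← conj_mul, hinv u, hinv v, mul_inv_rev] at h1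
        exact (Commute.inv_inv_iff.1 h1).eq)
      haveI : Group.IsSolvable S4 := isSolvable_S4
      haveI : Group.IsSolvable L := Group.isSolvable_of_comm hcomm
      haveI : Group.IsSolvable (S4 × Multiplicative (ZMod 2)) := inferInstance
      haveI : Group.IsSolvable H :=
        Group.isSolvable_of_isSolvable_injective (f := e.toMonoidHom) e.injective
      have hsurj : Function.Surjective ((QuotientGroup.mk' L).comp H.subtype) := by
        intro y
        obtain ⟨w, rfl⟩ := QuotientGroup.mk'_surjective L y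
        have hw : w ∈ ((L ⊔ H : Subgroup G) : Set G) := by rw [hsup]; trivial
        rw [Subgroup.normal_mul] at hw
        obtain ⟨l, hl, h, hh, rfl⟩ := hw
        refine ⟨⟨h, hh⟩, ?_⟩
        show QuotientGroup.mk' L h = QuotientGroup.mk' L (l * h)
        rw [map_mul, show QuotientGroup.mk' L l = 1 from (QuotientGroup.eq_one_iff l).2 hl, one_mul]
      haveI : Group.IsSolvable (G ⧸ L) := Group.isSolvable_of_surjective hsurj
      exact hsol (Group.isSolvable_of_ker_le_range L.subtype (QuotientGroup.mk' L)
        (by rw [QuotientGroup.ker_mk', range_subtype]))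
    · exact absurd (hLK r.2.1) hzK
    · have hVL : V ≤ L := r.trans inf_le_left
      have hV2L : conjS g V ≤ L := by rintro _ ⟨v, hv, rfl⟩; exact hL.conj_mem v (hVL hv) g
      have hle : L ⊓ H ≤ K ⊓ H := inf_le_inf_right H hLK
      have hd : Nat.card (L ⊓ H : Subgroup G) ∣ 24 := hHK ▸ card_dvd_of_le hle
      have hfull : L ⊓ H = K ⊓ H := by
        refine Subgroup.eq_of_le_of_card_ge hle ?_
        rw [hHK]
        by_contra hlt
        push Not at hlt
        -- otherwise `L ⊓ H` is normalised by `g`
        have hDle : Dg g q ≤ L ⊓ H := le_inf (sup_le hVL hV2L) (hDT.trans E.leH)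
        have h8 : Nat.card (L ⊓ H : Subgroup G) = 8 := by
          obtain ⟨j, hj⟩ := card_dvd_of_le hDle
          rw [hD8] at hj
          rw [hj] at hd hlt ⊢
          have hj3 : j ∣ 3 := Nat.dvd_of_mul_dvd_mul_left (by norm_num : 0 < 8) hd
          rcases (Nat.dvd_prime Nat.prime_three).1 hj3 with q | q
          · rw [q]
          · omega
        have hLHT : L ⊓ H ≤ T :=
          (Subgroup.eq_of_le_of_card_ge hDle (by rw [h8, hD8])).symm.le.trans hDT
        apply E.notnormal
        intro h hh
        -- both `H` and `g` normalise `L ⊓ H`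
        have hg : g ∈ normalizer ((L ⊓ H : Subgroup G) : Set G) := by
          have hge : conjS g (L ⊓ H) = L ⊓ H := by
            refine Subgroup.eq_of_le_of_card_ge ?_ (card_conjS g _).ge
            rintro _ ⟨y, hy, rfl⟩
            exact ⟨hL.conj_mem y hy.1 g, E.leH (E.gT y (hLHT hy))⟩
          refine mem_normalizer_iff.2 fun y => ⟨fun hy => hge ▸ conj_mem_conjS hy, fun hy => ?_⟩
          rw [← hge, mem_conjS] at hy
          simpa [mul_assoc] using hy
        have hne : L ⊓ H ≠ ⊥ := fun r' => by
          rw [r', card_bot] at h8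
          omega
        exact absurd ((M.norm_eq inf_le_right hne (hnorm L hL)) ▸ hg) E.gnot
      have h1 : L.index = K.index := by
        rw [← relIndex_top_right, ← hsup, sup_comm, relIndex_sup_right, ← inf_relIndex_right, hfull]
        have h := SuborbitThree.card_mul_rel (K ⊓ H) H inf_le_right
        rw [hHK, hHc] at h
        omega
      refine Subgroup.eq_of_le_of_card_ge hLK (le_of_eq ?_)
      have h2 := L.card_mul_index
      have h3 := K.card_mul_index
      rw [h1] at h2
      exact Nat.eq_of_mul_eq_mul_right (by rw [hKi]; norm_num) (h3.trans h2.symm)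
  -- elements outside `K`
  have hsplit : ∀ y : G, y ∈ K ∨ z₀ * y ∈ K := fun y =>
    or_iff_not_imp_left.2 fun hy => (mul_mem_iff_of_index_two hKi).2 (iff_of_false hzK hy)
  have hnormal : ∀ X : Subgroup G, (∀ k ∈ K, ∀ y ∈ X, k * y * k⁻¹ ∈ X) →
      (∀ y ∈ X, z₀ * y * z₀⁻¹ ∈ X) → X.Normal := by
    intro X h1 h2
    refine ⟨fun y hy w => ?_⟩
    rcases hsplit w with r | r
    · exact h1 w r y hy
    · have h := h2 _ (h1 _ r y hy)
      rwa [show z₀ * (z₀ * w * y * (z₀ * w)⁻¹) * z₀⁻¹ = (z₀ * z₀) * w * y * w⁻¹ * (z₀ * z₀)⁻¹ by group,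
        M.sq, one_mul, inv_one, mul_one] at h
  haveI : Nontrivial K := by
    refine Finite.one_lt_card_iff_nontrivial.1 ?_
    have := Nat.le_of_dvd Nat.card_pos hK16
    omega
  have hKsimple : IsSimpleGroup K := by
    refine ⟨fun L hL => or_iff_not_imp_left.2 fun hL1 => ?_⟩
    set A := L.map K.subtype with hA
    have hAK : A ≤ K := map_subtype_le L
    have hA1 : ∀ k ∈ K, ∀ y ∈ A, k * y * k⁻¹ ∈ A := by
      rintro k hk _ ⟨y, hy, rfl⟩
      exact ⟨⟨k, hk⟩ * y * ⟨k, hk⟩⁻¹, hL.conj_mem y hy _, rfl⟩
    set B := conjS z₀ A with hB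
    have hzz : z₀⁻¹ = z₀ := inv_eq_of_mul_eq_one_right M.sq
    have hAB : ∀ y ∈ B, z₀ * y * z₀⁻¹ ∈ A := by
      intro y hy
      rw [hB, mem_conjS, hzz] at hy
      rwa [hzz]
    have hB1 : ∀ k ∈ K, ∀ y ∈ B, k * y * k⁻¹ ∈ B := by
      rintro k hk _ ⟨y, hy, rfl⟩
      refine mem_conjS.2 ?_
      have := hA1 (z₀⁻¹ * k * z₀) (by simpa using hKn.conj_mem k hk z₀⁻¹) y hy
      simpa [mul_assoc] using this
    have hBK : B ≤ K := by rintro _ ⟨y, hy, rfl⟩; exact hKn.conj_mem y (hAK hy) z₀
    have hA0 : A ≠ ⊥ := fun r => hL1 ((map_eq_bot_iff_of_injective L K.subtype_injective).1 r)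
    by_cases hint : A ⊓ B = ⊥
    · exfalso
      have hJn : (A ⊔ B).Normal := hnormal _
        (fun k hk y hy => (show A ⊔ B ≤ (A ⊔ B).comap (MulAut.conj k).toMonoidHom from sup_le
          (fun u hu => mem_sup_left (hA1 k hk u hu)) (fun u hu => mem_sup_right (hB1 k hk u hu))) hy)
        (fun y hy => (show A ⊔ B ≤ (A ⊔ B).comap (MulAut.conj z₀).toMonoidHom from sup_le
          (fun u hu => mem_sup_right (conj_mem_conjS hu)) (fun u hu => mem_sup_left (hAB u hu))) hy)
      have hJ : A ⊔ B = K := hmin _ hJn (sup_le hAK hBK)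
        (fun r => hA0 (le_bot_iff.1 (r ▸ le_sup_left)))
      have hcom : ∀ u ∈ A, ∀ v ∈ B, Commute u v := by
        intro u hu v hv
        have h1 : u * v * u⁻¹ * v⁻¹ ∈ A ⊓ B := ⟨by
          rw [show u * v * u⁻¹ * v⁻¹ = u * (v * u⁻¹ * v⁻¹) by group]
          exact A.mul_mem hu (hA1 v (hBK hv) _ (A.inv_mem hu)),
          B.mul_mem (hB1 u (hAK hu) v hv) (B.inv_mem hv)⟩
        rw [hint, mem_bot] at h1
        exact mul_inv_eq_iff_eq_mul.1 (mul_inv_eq_one.1 h1)
      haveI : Group.IsSolvable S4 := isSolvable_S4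
      haveI : Group.IsSolvable (S4 × Multiplicative (ZMod 2)) := inferInstance
      haveI : Group.IsSolvable H :=
        Group.isSolvable_of_isSolvable_injective (f := e.toMonoidHom) e.injective
      let φ : A →* H :=
        { toFun := fun u => ⟨u.1 * (z₀ * u.1 * z₀⁻¹), by
            rw [← hcz, mem_centralizer_singleton_iff]
            have hc' := (hcom u.1 u.2 _ (conj_mem_conjS (x := z₀) u.2)).eq
            calc u.1 * (z₀ * u.1 * z₀⁻¹) * z₀ = z₀ * u.1 * z₀⁻¹ * u.1 * z₀ := by rw [hc']
              _ = z₀ * u.1 * z₀ * (u.1 * z₀) := by rw [hzz]; group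
              _ = z₀ * (u.1 * (z₀ * u.1 * z₀⁻¹)) := by rw [hzz]; group⟩
          map_one' := Subtype.ext (show (1 : G) * (z₀ * 1 * z₀⁻¹) = 1 by group)
          map_mul' := fun u v => Subtype.ext (show u.1 * v.1 * (z₀ * (u.1 * v.1) * z₀⁻¹) =
              u.1 * (z₀ * u.1 * z₀⁻¹) * (v.1 * (z₀ * v.1 * z₀⁻¹)) by
            rw [Commute.mul_mul_mul_comm (hcom v.1 v.2 _ (conj_mem_conjS (x := z₀) u.2)).symm]
            group) }
      have hφ : Function.Injective φ := (injective_iff_map_eq_one φ).2 fun u hu => by
        have h1 : u.1 * (z₀ * u.1 * z₀⁻¹) = 1 := congrArg Subtype.val hu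
        have h2 : u.1 ∈ A ⊓ B := ⟨u.2, by
          rw [eq_inv_of_mul_eq_one_left h1]
          exact B.inv_mem (conj_mem_conjS u.2)⟩
        rw [hint, mem_bot] at h2
        exact Subtype.ext h2
      haveI : Group.IsSolvable A := Group.isSolvable_of_isSolvable_injective hφ
      haveI : Group.IsSolvable B := Group.isSolvable_of_surjective
        (f := (MulAut.conj z₀).toMonoidHom.subgroupMap A) ((MulAut.conj z₀).toMonoidHom.subgroupMap_surjective A)
      let ψ : A × B →* G := MonoidHom.noncommCoprod A.subtype B.subtype fun u v => hcom u.1 u.2 v.1 v.2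
      have hψ : ψ.range = K := by
        exact (MonoidHom.noncommCoprod_range _ _ _).trans (by rw [range_subtype, range_subtype, hJ])
      haveI : Group.IsSolvable ψ.range := Group.isSolvable_of_surjective ψ.rangeRestrict_surjective
      haveI : Group.IsSolvable K := hψ ▸ this
      haveI : IsMulCommutative (G ⧸ K) := by
        haveI : Fact (Nat.Prime 2) := ⟨Nat.prime_two⟩
        haveI : IsCyclic (G ⧸ K) := isCyclic_of_prime_card (p := 2) hKi
        exact IsCyclic.isMulCommutative
      haveI : Group.IsSolvable (G ⧸ K) := Group.isSolvable_of_comm fun u v => mul_comm' u v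
      exact hsol (Group.isSolvable_of_ker_le_range K.subtype (QuotientGroup.mk' K)
        (by rw [QuotientGroup.ker_mk', range_subtype]))
    · have h1 : A ⊓ B = K := hmin _ (hnormal _
        (fun k hk y hy => ⟨hA1 k hk y hy.1, hB1 k hk y hy.2⟩)
        (fun y hy => ⟨hAB y hy.2, conj_mem_conjS hy.1⟩)) (inf_le_left.trans hAK) hint
      rw [Subgroup.eq_top_iff']
      intro k
      have hk : (k : G) ∈ A := ((h1.symm ▸ k.2 : (k : G) ∈ A ⊓ B)).1
      obtain ⟨y, hy, hyk⟩ := hk
      exact K.subtype_injective hyk ▸ hy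
  have hCW : centralizer (V : Set G) = W := M.cent_Vg
  have hcK : centralizer (K : Set G) = ⊥ := M.free _ normal_centralizer
    ((centralizer_le hVK).trans (hCW ▸ Wg_le))
  -- the four-group inside `K`
  set VK := V.subgroupOf K with hVKdef
  have hnVK : normalizer (VK : Set K) = H.subgroupOf K := by
    rw [hVKdef, ← subgroupOf_normalizer_eq hVK, hV, M.norm_Vg]
  have hmap : (normalizer (VK : Set K)).map K.subtype = H ⊓ K := by
    rw [hnVK, subgroupOf_map_subtype]
  have hWK : ∀ w ∈ W, w ∈ K → w ∈ V := by
    intro w hw hwK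
    rcases M.Wg_cases hw with r | ⟨v, hv, rfl⟩
    · exact r
    · exact absurd ((K.mul_mem_cancel_left (hVK hv)).1 hwK) hzK
  refine ⟨z₀, K, Cfsg.Agent.GWDih33.order_two M.sq hz, hcz, hKn, hKi, hzK, hcK, VK, ?_, hmap⟩
  exact
    { simple := hKsimple
      nonab := by
        by_contra hcon
        push Not at hcon
        haveI : Group.IsSolvable K := Group.isSolvable_of_comm hcon
        haveI : Fact (Nat.Prime 2) := ⟨Nat.prime_two⟩
        haveI : IsCyclic (G ⧸ K) := isCyclic_of_prime_card (p := 2) hKi
        haveI : Group.IsSolvable (G ⧸ K) :=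
          Group.isSolvable_of_comm fun u v => (IsCyclic.isMulCommutative (α := G ⧸ K)).is_comm.comm u v
        exact hsol (Group.isSolvable_of_ker_le_range K.subtype (QuotientGroup.mk' K)
          (by rw [QuotientGroup.ker_mk', range_subtype]))
      card_four := by
        rw [hVKdef, Nat.card_congr (subgroupOfEquivOfLe hVK).toEquiv]
        exact M.card_Vg
      exp_two := fun v hv => Subtype.ext (M.Vg_sq hv)
      self_cent := by
        refine le_antisymm (fun y hy => ?_) fun y hy => mem_centralizer_iff.2 fun v hv =>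
          Subtype.ext (M.Wg_comm (M.Vg_le_Wg hv) (M.Vg_le_Wg hy))
        refine hWK y.1 ?_ y.2
        rw [← hCW]
        exact mem_centralizer_iff.2 fun v hv =>
          congrArg Subtype.val (mem_centralizer_iff.1 hy ⟨v, hVK hv⟩ hv)
      card_norm := by
        have h := card_map_of_injective (K := normalizer (VK : Set K)) K.subtype_injective
        rw [hmap, inf_comm, hHK] at h
        exact h.symm
      sixteen := hK16
      star := fun S hS hodd hle => by
        haveI : Fact (Nat.Prime 2) := ⟨Nat.prime_two⟩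
        have hinv : ∀ v ∈ VK, v ≠ 1 → ∀ y ∈ Om v, z₀ * (y : G) * z₀⁻¹ = ((y : G))⁻¹ := by
          intro v hv hv1
          let θ : K ≃* K := MulAut.conjNormal z₀
          have hθv : θ v = v := Subtype.ext (by
            show (MulAut.conjNormal z₀ v : G) = v
            rw [MulAut.conjNormal_apply]
            exact mul_inv_eq_iff_eq_mul.2 (M.comm (v : G) (Vg_le hv)).eq.symm)
          have hθθ : ∀ y, θ (θ y) = y := fun y => by
            show MulAut.conjNormal z₀ (MulAut.conjNormal z₀ y) = y
            rw [← MulAut.mul_apply, ← map_mul, M.sq, map_one, MulAut.one_apply]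
          set C := centralizer ({v} : Set K) with hC
          have hθC : ∀ y ∈ C, θ y ∈ C := fun y hy => mem_centralizer_singleton_iff.2 (by
            have := congrArg θ (mem_centralizer_singleton_iff.1 hy)
            rwa [map_mul, map_mul, hθv] at this)
          let θC : C ≃* C :=
            { toFun := fun y => ⟨θ y.1, hθC y.1 y.2⟩
              invFun := fun y => ⟨θ y.1, hθC y.1 y.2⟩
              left_inv := fun y => Subtype.ext (hθθ y.1)
              right_inv := fun y => Subtype.ext (hθθ y.1)
              map_mul' := fun y w => Subtype.ext (map_mul θ y.1 w.1) }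
          have hθO : ∀ y ∈ Om v, θ y ∈ Om v := by
            rintro _ ⟨y, hy, rfl⟩
            haveI : (Cfsg.oddCore C).Normal := HallCore.pPrimeCore_normal 2 _
            haveI : ((Cfsg.oddCore C).map θC.toMonoidHom).Normal :=
              Subgroup.Normal.map inferInstance _ θC.surjective
            refine ⟨θC y, ?_, rfl⟩
            refine HallCore.le_pPrimeCore (N := (Cfsg.oddCore C).map θC.toMonoidHom) ?_ ⟨y, hy, rfl⟩
            rw [card_map_of_injective θC.injective]
            exact HallCore.coprime_card_pPrimeCore 2 _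
          let σ : Om v ≃* Om v :=
            { toFun := fun y => ⟨θ y.1, hθO y.1 y.2⟩
              invFun := fun y => ⟨θ y.1, hθO y.1 y.2⟩
              left_inv := fun y => Subtype.ext (hθθ y.1)
              right_inv := fun y => Subtype.ext (hθθ y.1)
              map_mul' := fun y w => Subtype.ext (map_mul θ y.1 w.1) }
          intro y hy
          have := inverts_of_fpf σ (fun w => Subtype.ext (hθθ w.1)) (fun w hw => by
            have h1 : z₀ * (w.1 : G) * z₀⁻¹ = w.1 := by
              rw [← MulAut.conjNormal_apply]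
              exact congrArg (fun u : Om v => ((u.1 : K) : G)) hw
            have hwH : (w.1 : G) ∈ H := hcz ▸ mem_centralizer_singleton_iff.2
              (mul_inv_eq_iff_eq_mul.1 h1).symm
            have hodd : Odd (orderOf (w.1 : G)) := by
              rw [orderOf_coe]
              exact Cfsg.Agent.GWDih33.odd_of_mem (Cfsg.Agent.GWDih33.odd_om v) w.2
            have hc' : Commute (w.1 : G) (v : G) :=
              (congrArg Subtype.val (Cfsg.Agent.GWDih33.om_comm w.2).eq).symm
            exact Subtype.ext (Subtype.ext (M.odd_fixed hwH hodd hv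
              (fun r => hv1 (Subtype.ext r)) hc'))) ⟨y, hy⟩
          rw [← MulAut.conjNormal_apply]
          exact congrArg (fun u : Om v => ((u.1 : K) : G)) this
        set X := closure S with hX
        set A := X.map K.subtype with hA
        have hAK : A ≤ K := map_subtype_le X
        have hzA : ∀ y ∈ A, z₀ * y * z₀⁻¹ ∈ A := by
          rintro _ ⟨y, hy, rfl⟩
          have : X ≤ A.comap ((MulAut.conj z₀).toMonoidHom.comp K.subtype) := by
            rw [hX, closure_le]
            intro w hw
            obtain ⟨v, hv, hv1, hwv⟩ := hS w hw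
            show z₀ * (w : G) * z₀⁻¹ ∈ A
            rw [hinv v hv hv1 w hwv]
            exact A.inv_mem ⟨w, subset_closure hw, rfl⟩
          exact this hy
        have hKA : ∀ k ∈ K ⊓ H, ∀ y ∈ A, k * y * k⁻¹ ∈ A := by
          rintro k hk _ ⟨y, hy, rfl⟩
          have hkn : (⟨k, hk.1⟩ : K) ∈ normalizer (X : Set K) := hle (by rw [hnVK]; exact hk.2)
          exact ⟨_, (mem_normalizer_iff.1 hkn y).1 hy, rfl⟩
        have hHA : H ≤ normalizer (A : Set G) := by
          have key : ∀ h ∈ H, ∀ y ∈ A, h * y * h⁻¹ ∈ A := by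
            intro h hh y hy
            rcases hsplit h with r | r
            · exact hKA h ⟨r, hh⟩ y hy
            · have := hzA _ (hKA _ ⟨r, H.mul_mem M.mem hh⟩ y hy)
              rwa [show z₀ * (z₀ * h * y * (z₀ * h)⁻¹) * z₀⁻¹ =
                (z₀ * z₀) * h * y * h⁻¹ * (z₀ * z₀)⁻¹ by group, M.sq, one_mul, inv_one, mul_one] at this
          exact fun h hh => mem_normalizer_iff.2 fun y => ⟨key h hh y, fun hy => by
            simpa [mul_assoc] using key h⁻¹ (inv_mem hh) _ hy⟩
        have hAodd : Odd (Nat.card A) := by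
          rw [hA, card_map_of_injective K.subtype_injective]; exact hodd
        have hAbot : A = ⊥ := by
          rcases hco.le_iff.1 hHA with r | r
          · by_contra hne
            rw [hmin A (normalizer_eq_top_iff.1 r) hAK hne] at hAodd
            exact Nat.not_even_iff_odd.2 hAodd (even_iff_two_dvd.2 (dvd_trans (by norm_num) hK16))
          · exact M.odd_normal (r ▸ le_normalizer) hHA hAodd
        exact (map_eq_bot_iff_of_injective X K.subtype_injective).1 hAbot }

end Cfsg.Agent.Wong3x33
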