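import Cfsg.Agent.Lib.Wong3Setup33
import Cfsg.Agent.Lib.Wong3Arith61
import Cfsg.Agent.S2916

/-!
The semidihedral configuration with trivial core is `PSL(3,3)` or the Mathieu group of degree eleven.
-/

set_option autoImplicit false
set_option linter.style.haveILetI false

namespace Cfsg.Agent.Wong3x33

open Subgroup BinaryOctahedral GL23CentModel GL23Recog95
open Cfsg.Agent.GWDih33 (Om)

universe u

variable {G : Type u} [Group G] [Finite G] {f : Coord → G}

theorem sd_end (hsimp : IsSimpleGroup G) (hs : SD f) (hO : Om (f tC) = ⊥) :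
    Cfsg.Spor.IsoM11 G ∨ Nonempty (G ≃* Matrix.ProjectiveSpecialLinearGroup (Fin 3) (ZMod 3)) := by
  haveI := hsimp
  have hbot : ∀ g ∈ Om (f tC), g = 1 := fun g hg => by rwa [hO, mem_bot] at hg
  have hS : GL23CentOrder.Setup f := ⟨fun x y => inv_mul_eq_one.1 (hbot _ (hs.mul x y)), hs.inj, fun c hc => by
    obtain ⟨x, o, ho, hxo⟩ := hs.cent c hc
    exact ⟨x, by rw [← hxo, hbot o ho, mul_one]⟩⟩
  have h2 : ∀ H : Subgroup G, H.index ≠ 2 := fun H hH => by
    haveI := normal_of_index_eq_two hH
    rcases (inferInstance : H.Normal).eq_bot_or_eq_top with e | e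
    · rw [e, index_bot] at hH
      have := hs.two
      omega
    · rw [e, index_top] at hH
      omega
  have hconj := hs.one
  rcases GL23CentOrder.card_eq hS h2 with hcard | hcard
  · right
    obtain ⟨P, hP, hC54, hmem⟩ := GL23Recog95.big_cent hS hcard hconj
    obtain ⟨M₁, M₂, h1, h2', h12⟩ := GL23Recog95.exists_two hS hcard hconj hP hC54 hmem
    obtain ⟨e'⟩ := GL23Recog95.nonempty_iso_of_two hcard h1 h2' h12 fun s hs13 =>
      GL23Recog95.card13_aux hcard (GL23Recog95.no_commute13 hS hcard hconj) hs13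
    exact ⟨e'.trans CommGraphL33.projEquiv⟩
  · left
    have := GolaySimple.isSimpleGroup_M11
    have : Finite Spor.M11 := Nat.finite_of_card_ne_zero (by rw [GolayM24.card_M11]; norm_num)
    exact M11Unique99.iso_of_card hcard GolayM24.card_M11

end Cfsg.Agent.Wong3x33
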