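import Cfsg.Agent.Lib.Wong3Small33
import Cfsg.Agent.Lib.Wong3SDEnd33
import Cfsg.Agent.Lib.Wong3Dih94
import Cfsg.Agent.Lib.Wong3DihFour27
import Cfsg.Agent.Lib.Wong3Local78
import Cfsg.Agent.Lib.Wong3Frame89
import Cfsg.Agent.Lib.Wong3Char79
import Cfsg.Agent.Lib.Wong3Crit55
import Cfsg.Agent.Lib.Wong3Layer42
import Cfsg.Agent.Lib.Wong3Red57
import Cfsg.Agent.Lib.Wong3End49
import Cfsg.Agent.Lib.Wong3Auto35
import Cfsg.Agent.Lib.SuborbitThree
import Cfsg.Agent.Lib.GWDihPSL72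

/-!
Insoluble primitive groups with a suborbit of length three: assembly.
-/

set_option autoImplicit false
set_option linter.style.haveILetI false

namespace Cfsg.Agent.Wong3Main33

open Subgroup Wong3x33 BinaryOctahedral GL23CentModel GL23Recog95
open Cfsg.Agent.GWDih33 (Om)

universe u

variable {G : Type u} [Group G] [Finite G] {V : Subgroup G}

/-- The simple group of a core configuration. -/
theorem core_cases (h : Core G V) :
    GWDih33.Hyp G ∨ Cfsg.Spor.IsoM11 G ∨ Nonempty (G ≃* Matrix.ProjectiveSpecialLinearGroup (Fin 3) (ZMod 3)) := by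
  by_cases hd : Dih G
  · exact Or.inl (hyp_of_four h hd fun z hz hz1 u hu huz hc =>
      other_four h hd (one_class_dih h hd) (inverts_core h hd) hz hz1 hu huz hc)
  right
  obtain ⟨hone, htwo, hq⟩ := local_data h hd
  obtain ⟨f, hs, hV⟩ := exists_sd h hone htwo hq
  obtain ⟨χ, n, k, l, hn, hχ1, hχt, hkl, hk, h1⟩ := relation1 hs
  obtain ⟨ψ, m, a, b, hm, hψ1, hψt, hab, ha, h4⟩ := relation4 hs
  have hoo : Odd (Nat.card (Om (f tC))) := GWDih33.odd_om (f tC)
  have hdata : DegData f ∧ OrderData f := by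
    rcases arith hoo hs.two hn hm hkl hk hab ha h1 h4 with ⟨hg, rfl, rfl⟩ | ⟨hg, rfl, rfl⟩
    · exact ⟨⟨χ, 12, 4, Or.inl ⟨rfl, rfl⟩, hχ1, fun o ho => by rw [hχt o ho]; norm_num⟩, Or.inl hg⟩
    · exact ⟨⟨ψ, 10, 2, Or.inr ⟨rfl, rfl⟩, hψ1, fun o ho => by rw [hψt o ho]; norm_num⟩, Or.inr hg⟩
  exact sd_end h.simple hs (om_trivial h hs hV hdata.2 fun x W hl => no_natLayer h.simple hs hdata.1 hl)

variable {Ω : Type*} [MulAction G Ω] [FaithfulSMul G Ω]

/-- The point stabiliser is `Sym(4)`. -/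
theorem four_case [Finite Ω] (hsol : ¬ Group.IsSolvable G) (hprim : MulAction.IsPreprimitive G Ω) (a b : Ω)
    (h3 : Nat.card (MulAction.orbit (MulAction.stabilizer G a) b) = 3) (hco : IsCoatom (MulAction.stabilizer G a))
    (e : MulAction.stabilizer G a ≃* Equiv.Perm (Fin 4)) :
    (∃ p : ℕ, p.Prime ∧ (p % 16 = 1 ∨ p % 16 = 15) ∧
      Nonempty (G ≃* Matrix.ProjectiveSpecialLinearGroup (Fin 2) (ZMod p))) ∨
      Nonempty (G ≃* Matrix.ProjectiveSpecialLinearGroup (Fin 3) (ZMod 3)) := by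
  obtain ⟨V, hV, hN⟩ := core_of_s4 hsol hprim a b h3 e
  rw [← hN] at hco
  rcases core_cases hV with h | h | h
  · exact Or.inl (prime_of_psl hV h hco)
  · exact absurd h (not_m11_max hV hco)
  · exact Or.inr h

/-- The point stabiliser is `Sym(4) × 2`. -/
theorem four_two_case [Finite Ω] (hsol : ¬ Group.IsSolvable G) (hprim : MulAction.IsPreprimitive G Ω) (a b : Ω)
    (h3 : Nat.card (MulAction.orbit (MulAction.stabilizer G a) b) = 3)
    (e : MulAction.stabilizer G a ≃* Equiv.Perm (Fin 4) × Multiplicative (ZMod 2)) :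
    ∃ N : Subgroup G, N.Normal ∧ N.index = 2 ∧ Subgroup.centralizer (N : Set G) = ⊥ ∧
      Nonempty (N ≃* Matrix.ProjectiveSpecialLinearGroup (Fin 3) (ZMod 3)) := by
  obtain ⟨z₀, N, hz, hzc, hNn, hidx, -, hcN, V, hV, hmap⟩ := core_of_s4_two hsol hprim a b h3 e
  haveI := hNn
  refine ⟨N, hNn, hidx, hcN, ?_⟩
  let φ : N ≃* N := MulAut.conjNormal z₀
  have hz2 : z₀ * z₀ = 1 := by rw [← pow_two, ← hz, pow_orderOf_eq_one]
  have hφ : ∀ n, φ (φ n) = n := fun n => Subtype.ext (by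
    simp only [φ, MulAut.conjNormal_apply]
    calc z₀ * (z₀ * (n : G) * z₀⁻¹) * z₀⁻¹ = z₀ * z₀ * n * (z₀ * z₀)⁻¹ := by group
      _ = n := by rw [hz2]; group)
  have hfix : ∀ n : N, φ n = n ↔ n ∈ normalizer (V : Set N) := fun n => by
    have h1 : φ n = n ↔ (n : G) ∈ MulAction.stabilizer G a ⊓ N := by
      rw [Subgroup.mem_inf, ← hzc, Subgroup.mem_centralizer_singleton_iff, Subtype.ext_iff]
      simp only [φ, MulAut.conjNormal_apply, SetLike.coe_mem, and_true]
      rw [mul_inv_eq_iff_eq_mul]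
      exact eq_comm
    rw [h1, ← hmap]
    exact Subgroup.mem_map_iff_mem N.subtype_injective
  rcases core_cases hV with h | h | h
  · exact (no_psl_auto hV h φ hφ hfix).elim
  · exact (no_m11_auto hV h φ hφ hfix).elim
  · exact h

omit [Finite G] in
theorem cyclic_three {H : Subgroup G} (e : H ≃* Multiplicative (ZMod 3)) :
    ∃ x ∈ H, orderOf x = 3 ∧ (∀ h ∈ H, h * x * h⁻¹ ∈ zpowers x) ∧
      ∀ h ∈ H, Commute h x → h ∈ zpowers x := by
  let ι : Multiplicative (ZMod 3) →* G := H.subtype.comp e.symm.toMonoidHom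
  have hι : Function.Injective ι := H.subtype_injective.comp e.symm.injective
  have hs : ∀ h ∈ H, ∃ d, ι d = h := fun h hh => ⟨e ⟨h, hh⟩, by simp [ι]⟩
  have key : ∀ d : Multiplicative (ZMod 3), d = 1 ∨ d = Multiplicative.ofAdd 1 ∨
      d = Multiplicative.ofAdd 1 * Multiplicative.ofAdd 1 := by decide +kernel
  have hmem : ∀ d, ι d ∈ zpowers (ι (Multiplicative.ofAdd 1)) := fun d => by
    rcases key d with rfl | rfl | rfl
    · rw [map_one ι]; exact one_mem _
    · exact mem_zpowers _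
    · rw [map_mul]; exact mul_mem (mem_zpowers _) (mem_zpowers _)
  refine ⟨ι (Multiplicative.ofAdd 1), (e.symm _).2, ?_, fun h hh => ?_, fun h hh _ => ?_⟩
  · rw [orderOf_injective ι hι]
    exact orderOf_eq_prime (by decide +kernel) (by decide +kernel)
  · obtain ⟨d, rfl⟩ := hs h hh
    rw [← map_inv, ← map_mul, ← map_mul]; exact hmem _
  · obtain ⟨d, rfl⟩ := hs h hh
    exact hmem _

omit [Finite G] in
theorem perm_three {H : Subgroup G} (e : H ≃* Equiv.Perm (Fin 3)) :
    ∃ x ∈ H, orderOf x = 3 ∧ (∀ h ∈ H, h * x * h⁻¹ ∈ zpowers x) ∧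
      ∀ h ∈ H, Commute h x → h ∈ zpowers x := by
  let ι : Equiv.Perm (Fin 3) →* G := H.subtype.comp e.symm.toMonoidHom
  have hι : Function.Injective ι := H.subtype_injective.comp e.symm.injective
  have hs : ∀ h ∈ H, ∃ d, ι d = h := fun h hh => ⟨e ⟨h, hh⟩, by simp [ι]⟩
  refine ⟨ι (finRotate 3), (e.symm _).2, ?_, fun h hh => ?_, fun h hh hc => ?_⟩
  · rw [orderOf_injective ι hι]
    exact orderOf_eq_prime (by decide +kernel) (by decide +kernel)
  · obtain ⟨d, rfl⟩ := hs h hh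
    rw [← map_inv, ← map_mul, ← map_mul]
    have key : ∀ d : Equiv.Perm (Fin 3), d * finRotate 3 * d⁻¹ = finRotate 3 ∨
        d * finRotate 3 * d⁻¹ = finRotate 3 * finRotate 3 := by decide +kernel
    rcases key d with h' | h' <;> rw [h']
    · exact mem_zpowers _
    · rw [map_mul]; exact mul_mem (mem_zpowers _) (mem_zpowers _)
  · obtain ⟨d, rfl⟩ := hs h hh
    have key : ∀ d : Equiv.Perm (Fin 3), d * finRotate 3 = finRotate 3 * d →
        d = 1 ∨ d = finRotate 3 ∨ d = finRotate 3 * finRotate 3 := by decide +kernel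
    rcases key d (hι (by rw [map_mul, map_mul]; exact hc.eq)) with rfl | rfl | rfl
    · rw [map_one ι]; exact one_mem _
    · exact mem_zpowers _
    · rw [map_mul]; exact mul_mem (mem_zpowers _) (mem_zpowers _)

/-- The classification. -/
theorem main [Finite Ω] (hsol : ¬ Group.IsSolvable G) (hprim : MulAction.IsPreprimitive G Ω) (a b : Ω)
    (h3 : Nat.card (MulAction.orbit (MulAction.stabilizer G a) b) = 3) :
    Nonempty (G ≃* alternatingGroup (Fin 5)) ∨ Nonempty (G ≃* Equiv.Perm (Fin 5)) ∨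
      Nonempty (G ≃* GL (Fin 2) (ZMod 7) ⧸ Subgroup.center (GL (Fin 2) (ZMod 7))) ∨
      Nonempty (G ≃* Matrix.ProjectiveSpecialLinearGroup (Fin 2) (ZMod 11)) ∨
      Nonempty (G ≃* Matrix.ProjectiveSpecialLinearGroup (Fin 2) (ZMod 13)) ∨
      (∃ p : ℕ, p.Prime ∧ (p % 16 = 1 ∨ p % 16 = 15) ∧ Nonempty (G ≃* Matrix.ProjectiveSpecialLinearGroup (Fin 2) (ZMod p))) ∨
      Nonempty (G ≃* Matrix.ProjectiveSpecialLinearGroup (Fin 3) (ZMod 3)) ∨
      (∃ N : Subgroup G, N.Normal ∧ N.index = 2 ∧ Subgroup.centralizer (N : Set G) = ⊥ ∧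
        Nonempty (N ≃* Matrix.ProjectiveSpecialLinearGroup (Fin 3) (ZMod 3))) := by
  haveI := hprim
  haveI : Nontrivial Ω := by
    by_contra hn
    rw [not_nontrivial_iff_subsingleton] at hn
    have hsub : Subsingleton (MulAction.orbit (MulAction.stabilizer G a) b) := inferInstance
    have := Finite.card_le_one_iff_subsingleton.2 hsub
    omega
  have hco := MulAction.IsPreprimitive.isCoatom_stabilizer_of_isPreprimitive (G := G) a
  rcases SuborbitThree.stabilizer_cases hprim a b h3 with ⟨⟨e⟩⟩ | ⟨⟨e⟩⟩ | ⟨⟨e⟩⟩ | ⟨⟨e⟩⟩ | ⟨⟨e⟩⟩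
  · obtain ⟨x, hx, ho, hn, hc⟩ := cyclic_three e
    haveI : Group.IsSolvable (Multiplicative (ZMod 3)) := inferInstance
    exact Or.inl (Wong3Small33.three_case hsol a hx ho hn hc
      (Group.isSolvable_of_isSolvable_injective (f := e.toMonoidHom) e.injective)
      (by rw [Nat.card_congr e.toEquiv, Nat.card_eq_fintype_card]; decide +kernel))
  · obtain ⟨x, hx, ho, hn, hc⟩ := perm_three e
    haveI : Group.IsSolvable (Equiv.Perm (Fin 3)) := by
      refine (Group.isSolvable_def _).2 ⟨2, ?_⟩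
      rw [eq_bot_iff, derivedSeries_succ, commutator_le]
      intro g hg k hk
      have h1 : derivedSeries (Equiv.Perm (Fin 3)) 1 ≤ alternatingGroup (Fin 3) := by
        rw [derivedSeries_one]
        exact Abelianization.commutator_subset_ker Equiv.Perm.sign
      rw [mem_bot, commutatorElement_eq_one_iff_mul_comm]
      exact (by decide +kernel : ∀ g k : Equiv.Perm (Fin 3), Equiv.Perm.sign g = 1 → Equiv.Perm.sign k = 1 →
        g * k = k * g) g k (h1 hg) (h1 hk)
    exact Or.inl (Wong3Small33.three_case hsol a hx ho hn hc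
      (Group.isSolvable_of_isSolvable_injective (f := e.toMonoidHom) e.injective)
      (by rw [Nat.card_congr e.toEquiv, Nat.card_perm, Nat.card_fin]; decide))
  · rcases Wong3Small33.twelve_case hsol a e with h | h | h | h
    · exact Or.inr (Or.inl h)
    · exact Or.inr (Or.inr (Or.inl h))
    · exact Or.inr (Or.inr (Or.inr (Or.inl h)))
    · exact Or.inr (Or.inr (Or.inr (Or.inr (Or.inl h))))
  · rcases four_case hsol hprim a b h3 hco e with h | h
    · exact Or.inr (Or.inr (Or.inr (Or.inr (Or.inr (Or.inl h)))))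
    · exact Or.inr (Or.inr (Or.inr (Or.inr (Or.inr (Or.inr (Or.inl h))))))
  · exact Or.inr (Or.inr (Or.inr (Or.inr (Or.inr (Or.inr (Or.inr (four_two_case hsol hprim a b h3 e)))))))

end Cfsg.Agent.Wong3Main33
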