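import Mathlib
import Cfsg.Agent.Lib.PSLCard

/-!
Centralisers of involutions in `PGL(2, q)`.
-/

set_option autoImplicit false

namespace Cfsg.Agent.Wong3PGL33

open Matrix Matrix.ProjGenLinGroup

variable {F : Type*} [Field F]

/-- Trace zero, not scalar. -/
def Good (a b e : F) : Prop := e ≠ 0 ∨ b ≠ 0 ∨ 2 * a ≠ 0

theorem mk_commute_iff (h M : GL (Fin 2) F) :
    Commute (mk h) (mk M) ↔ ∃ l : F, (h : Matrix (Fin 2) (Fin 2) F) * M = l • ((M : Matrix (Fin 2) (Fin 2) F) * h) := by
  constructor
  · intro hc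
    have e : mk (M * h) = mk (h * M) := by rw [map_mul, map_mul]; exact hc.eq.symm
    obtain ⟨u, hu⟩ := mk_eq_mk_iff.1 e
    refine ⟨u, ?_⟩
    have := congrArg (fun g : GL (Fin 2) F => (g : Matrix (Fin 2) (Fin 2) F)) hu
    simp only [Units.val_mul, GeneralLinearGroup.coe_scalar] at this
    rw [← this]
    ext i j
    simp [Matrix.mul_apply, Fin.sum_univ_two]
    fin_cases i <;> fin_cases j <;> simp <;> ring
  · rintro ⟨l, hl⟩
    have hdet := congrArg Matrix.det hl
    have hl0 : l ≠ 0 := by
      rintro rfl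
      rw [zero_smul, Matrix.det_mul, Matrix.det_zero] at hdet
      exact mul_ne_zero (GeneralLinearGroup.det_ne_zero h) (GeneralLinearGroup.det_ne_zero M) hdet
    show mk h * mk M = mk M * mk h
    rw [← map_mul, ← map_mul]
    refine (mk_eq_mk_iff.2 ⟨Units.mk0 l hl0, ?_⟩).symm
    refine Units.ext ?_
    simp only [Units.val_mul, GeneralLinearGroup.coe_scalar, hl]
    ext i j
    fin_cases i <;> fin_cases j <;> simp [Matrix.mul_apply, Fin.sum_univ_two] <;> ring

theorem lambda_sq {h M : GL (Fin 2) F} {l : F}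
    (hl : (h : Matrix (Fin 2) (Fin 2) F) * M = l • ((M : Matrix (Fin 2) (Fin 2) F) * h)) :
    l = 1 ∨ l = -1 := by
  have hdet := congrArg Matrix.det hl
  rw [Matrix.det_mul, Matrix.det_smul, Matrix.det_mul, Fintype.card_fin] at hdet
  have h1 : (h : Matrix (Fin 2) (Fin 2) F).det * (M : Matrix (Fin 2) (Fin 2) F).det ≠ 0 :=
    mul_ne_zero (GeneralLinearGroup.det_ne_zero h) (GeneralLinearGroup.det_ne_zero M)
  have h2 : (l - 1) * (l + 1) = 0 := by
    apply mul_right_cancel₀ h1
    linear_combination -hdet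
  rcases mul_eq_zero.1 h2 with e | e
  · exact Or.inl (sub_eq_zero.1 e)
  · exact Or.inr (eq_neg_of_add_eq_zero_left e)

theorem exists_form {M : GL (Fin 2) F} (ho : orderOf (mk M) = 2) :
    ∃ a b e : F, (M : Matrix (Fin 2) (Fin 2) F) = !![a, b; e, -a] ∧ Good a b e := by
  have hsq : mk (M * M) = 1 := by
    have h := pow_orderOf_eq_one (mk M)
    rw [ho, pow_two] at h
    rw [map_mul, h]
  have hne : mk M ≠ 1 := fun e => by simp [e] at ho
  obtain ⟨u, hu⟩ := mk_eq_mk_iff.1 (hsq.trans (map_one mk).symm).symm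
  rw [one_mul] at hu
  have e0 := congrArg (fun g : GL (Fin 2) F => (g : Matrix (Fin 2) (Fin 2) F)) hu
  simp only [Units.val_mul, GeneralLinearGroup.coe_scalar] at e0
  obtain ⟨a, b, e, d, hM⟩ : ∃ a b e d, (M : Matrix (Fin 2) (Fin 2) F) = !![a, b; e, d] :=
    ⟨_, _, _, _, Matrix.eta_fin_two _⟩
  rw [hM] at e0
  have h00 := congrFun (congrFun e0 0) 0
  have h01 := congrFun (congrFun e0 0) 1
  have h10 := congrFun (congrFun e0 1) 0
  have h11 := congrFun (congrFun e0 1) 1
  simp [Matrix.mul_apply, Fin.sum_univ_two] at h00 h01 h10 h11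
  have hsc : ∀ c : F, (M : Matrix (Fin 2) (Fin 2) F) ≠ !![c, 0; 0, c] := by
    intro c hc
    have hc0 : c ≠ 0 := by
      intro h0
      have := GeneralLinearGroup.det_ne_zero M
      rw [hc, h0] at this
      simp [Matrix.det_fin_two] at this
    apply hne
    rw [show M = GeneralLinearGroup.scalar (Fin 2) (Units.mk0 c hc0) from Units.ext (by
      rw [hc, GeneralLinearGroup.coe_scalar]; ext i j; fin_cases i <;> fin_cases j <;> simp)]
    exact mk_scalar _
  have htr : a + d = 0 := by
    by_contra htr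
    have hb : b = 0 := by
      have : b * (a + d) = 0 := by linear_combination -h01
      exact (mul_eq_zero.1 this).resolve_right htr
    have he : e = 0 := by
      have : e * (a + d) = 0 := by linear_combination -h10
      exact (mul_eq_zero.1 this).resolve_right htr
    have had : (a - d) * (a + d) = 0 := by
      have : a * a + b * e = e * b + d * d := by rw [← h00, ← h11]
      linear_combination this
    have := (mul_eq_zero.1 had).resolve_right htr
    exact hsc a (by rw [hM, hb, he, sub_eq_zero.1 this])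
  have hd : d = -a := eq_neg_of_add_eq_zero_right htr
  refine ⟨a, b, e, by rw [hM, hd], ?_⟩
  by_contra hg
  simp only [Good, not_or, not_not] at hg
  obtain ⟨he, hb, ha⟩ := hg
  exact hsc a (by rw [hM, he, hb, hd, show -a = a by linear_combination -ha])

theorem span {a b e : F} (hg : Good a b e) (h : Matrix (Fin 2) (Fin 2) F)
    (hc : h * !![a, b; e, -a] = !![a, b; e, -a] * h) :
    ∃ x y : F, h = !![x + y * a, y * b; y * e, x - y * a] := by
  obtain ⟨p, r, s, t, rfl⟩ : ∃ p r s t, h = !![p, r; s, t] := ⟨_, _, _, _, Matrix.eta_fin_two h⟩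
  have h00 := congrFun (congrFun hc 0) 0
  have h01 := congrFun (congrFun hc 0) 1
  have h10 := congrFun (congrFun hc 1) 0
  simp [Matrix.mul_apply, Fin.sum_univ_two] at h00 h01 h10
  by_cases he : e = 0
  · subst he
    by_cases hb : b = 0
    · subst hb
      have ha : 2 * a ≠ 0 := by simpa [Good] using hg
      have hr : r = 0 := (mul_eq_zero.1 (show r * (2 * a) = 0 by linear_combination -h01)).resolve_right ha
      have hs : s = 0 := (mul_eq_zero.1 (show s * (2 * a) = 0 by linear_combination h10)).resolve_right ha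
      refine ⟨t + a * ((p - t) / (2 * a)), (p - t) / (2 * a), ?_⟩
      have hy : (p - t) / (2 * a) * (2 * a) = p - t := div_mul_cancel₀ _ ha
      ext i j
      fin_cases i <;> fin_cases j <;> simp [hr, hs]
      · linear_combination -hy
      · ring
    · have hs : s = 0 := (mul_eq_zero.1 (show b * s = 0 by linear_combination -h00)).resolve_left hb
      refine ⟨t + a * (r / b), r / b, ?_⟩
      have hy : r / b * b = r := div_mul_cancel₀ _ hb
      ext i j
      fin_cases i <;> fin_cases j <;> simp [hs]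
      · apply mul_left_cancel₀ hb
        linear_combination h01 - 2 * a * hy
      · rw [hy]
      · ring
  · refine ⟨t + a * (s / e), s / e, ?_⟩
    have hy : s / e * e = s := div_mul_cancel₀ _ he
    ext i j
    fin_cases i <;> fin_cases j <;> simp
    · apply mul_left_cancel₀ he
      linear_combination -h10 - 2 * a * hy
    · apply mul_left_cancel₀ he
      linear_combination h00 - b * hy
    · rw [hy]
    · ring

theorem exists_anti (h2 : (2 : F) ≠ 0) {a b e : F} (hg : Good a b e) :
    ∃ h : GL (Fin 2) F, (h : Matrix (Fin 2) (Fin 2) F) * !![a, b; e, -a] =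
      (-1 : F) • (!![a, b; e, -a] * (h : Matrix (Fin 2) (Fin 2) F)) := by
  suffices ∃ h : Matrix (Fin 2) (Fin 2) F, h.det ≠ 0 ∧ h * !![a, b; e, -a] = (-1 : F) • (!![a, b; e, -a] * h) by
    obtain ⟨h, hd, hh⟩ := this
    exact ⟨GeneralLinearGroup.mkOfDetNeZero h hd, hh⟩
  by_cases he : e = 0
  · by_cases hb : b = 0
    · subst he hb
      have ha : 2 * a ≠ 0 := by simpa [Good] using hg
      refine ⟨!![0, 2 * a; -(2 * a), 0], by simpa [Matrix.det_fin_two] using mul_ne_zero ha ha, ?_⟩
      ext i j; fin_cases i <;> fin_cases j <;> simp [Matrix.mul_apply, Fin.sum_univ_two] <;> ring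
    · subst he
      refine ⟨!![b, 0; -(2 * a), -b], by simpa [Matrix.det_fin_two] using mul_ne_zero hb hb, ?_⟩
      ext i j; fin_cases i <;> fin_cases j <;> simp [Matrix.mul_apply, Fin.sum_univ_two] <;> ring
  · refine ⟨!![-e, 2 * a; 0, e], by simpa [Matrix.det_fin_two] using mul_ne_zero he he, ?_⟩
    ext i j; fin_cases i <;> fin_cases j <;> simp [Matrix.mul_apply, Fin.sum_univ_two] <;> ring

section Count

variable [Finite F]

/-- The number of representations of zero by `x² - c y²`. -/
theorem card_zero (h2 : (2 : F) ≠ 0) {c : F} (hc : c ≠ 0) :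
    Nat.card {p : F × F // p.1 ^ 2 = c * p.2 ^ 2} = 1 ∨
      Nat.card {p : F × F // p.1 ^ 2 = c * p.2 ^ 2} + 1 = 2 * Nat.card F := by
  classical
  haveI := Fintype.ofFinite F
  by_cases hsq : IsSquare c
  · right
    obtain ⟨d, rfl⟩ := hsq
    have hd : d ≠ 0 := fun h => hc (by simp [h])
    let g : F ⊕ {y : F // y ≠ 0} → {p : F × F // p.1 ^ 2 = d * d * p.2 ^ 2} :=
      Sum.elim (fun y => ⟨(d * y, y), by ring⟩) (fun y => ⟨(-(d * y.1), y.1), by ring⟩)
    have hg : Function.Bijective g := by
      constructor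
      · rintro (y | ⟨y, hy⟩) (z | ⟨z, hz⟩) h <;> simp [g, Subtype.ext_iff, Prod.ext_iff] at h
        · rw [h.2]
        · obtain ⟨h1, rfl⟩ := h
          exact absurd (show 2 * (d * y) = 0 by linear_combination h1) (mul_ne_zero h2 (mul_ne_zero hd hz))
        · obtain ⟨h1, rfl⟩ := h
          exact absurd (show 2 * (d * y) = 0 by linear_combination -h1) (mul_ne_zero h2 (mul_ne_zero hd hy))
        · simp [h.2]
      · rintro ⟨⟨x, y⟩, hp⟩
        have h0 : (x - d * y) * (x + d * y) = 0 := by linear_combination hp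
        by_cases hx : x = d * y
        · exact ⟨Sum.inl y, by simp [g, hx]⟩
        · have hx' : x = -(d * y) := eq_neg_of_add_eq_zero_left
            ((mul_eq_zero.1 h0).resolve_left (sub_ne_zero.2 hx))
          have hy : y ≠ 0 := fun h => hx (by simp [hx', h])
          exact ⟨Sum.inr ⟨y, hy⟩, by simp [g, hx']⟩
    rw [← Nat.card_eq_of_bijective g hg, Nat.card_sum, Nat.card_eq_fintype_card,
      Nat.card_eq_fintype_card, Fintype.card_subtype_compl, Fintype.card_subtype_eq]
    have := Fintype.card_pos (α := F)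
    omega
  · left
    haveI : Unique {p : F × F // p.1 ^ 2 = c * p.2 ^ 2} :=
      { default := ⟨(0, 0), by simp⟩
        uniq := by
          rintro ⟨⟨x, y⟩, hp⟩
          have hp' : x ^ 2 = c * y ^ 2 := hp
          have hy : y = 0 := by
            by_contra hy
            exact hsq ⟨x / y, by field_simp; linear_combination -hp'⟩
          have hx : x = 0 := by
            rw [hy] at hp'
            simpa using hp'
          simp [hx, hy] }
    exact Nat.card_unique

theorem centralizer_two (h2 : (2 : F) ≠ 0) {M : GL (Fin 2) F} (ho : orderOf (mk M) = 2) :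
    (Nat.card (Subgroup.centralizer ({mk M} : Set (ProjGenLinGroup (Fin 2) F))) = 2 * (Nat.card F - 1) ∨
      Nat.card (Subgroup.centralizer ({mk M} : Set (ProjGenLinGroup (Fin 2) F))) = 2 * (Nat.card F + 1)) ∧
    ∀ δ : F, ∃ h : GL (Fin 2) F, Commute (mk h) (mk M) ∧
      (δ ≠ 0 → (h : Matrix (Fin 2) (Fin 2) F).det = δ) := by
  classical
  haveI := Fintype.ofFinite F
  obtain ⟨a, b, e, hM, hg⟩ := exists_form ho
  set c : F := a * a + b * e with hcdef
  have hc0 : c ≠ 0 := by
    intro h0
    have := GeneralLinearGroup.det_ne_zero M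
    rw [hM] at this
    apply this
    simp [Matrix.det_fin_two]
    linear_combination -h0
  have hdet : ∀ x y : F, (!![x + y * a, y * b; y * e, x - y * a] : Matrix (Fin 2) (Fin 2) F).det =
      x ^ 2 - c * y ^ 2 := fun x y => by rw [Matrix.det_fin_two_of, hcdef]; ring
  have hcm : ∀ x y : F, (!![x + y * a, y * b; y * e, x - y * a] : Matrix (Fin 2) (Fin 2) F) * !![a, b; e, -a] =
      (1 : F) • (!![a, b; e, -a] * !![x + y * a, y * b; y * e, x - y * a]) := fun x y => by
    ext i j; fin_cases i <;> fin_cases j <;> simp [Matrix.mul_apply, Fin.sum_univ_two] <;> ring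
  constructor
  swap
  · intro δ
    by_cases hδ : δ = 0
    · exact ⟨1, by simp, fun h => absurd hδ h⟩
    obtain ⟨x, y, hxy⟩ : ∃ x y : F, x ^ 2 - c * y ^ 2 = δ := by
      obtain ⟨x, y, h⟩ := FiniteField.exists_root_sum_quadratic
        (f := Polynomial.X ^ 2 - Polynomial.C δ) (g := Polynomial.C (-c) * Polynomial.X ^ 2)
        (by rw [Polynomial.degree_X_pow_sub_C (by norm_num)]; rfl)
        (by rw [Polynomial.degree_C_mul_X_pow _ (neg_ne_zero.2 hc0)]; rfl)
        (FiniteField.odd_card_of_char_ne_two fun h => h2 (by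
          haveI := ringChar.of_eq h
          exact CharTwo.two_eq_zero))
      simp at h
      exact ⟨x, y, by linear_combination h⟩
    refine ⟨GeneralLinearGroup.mkOfDetNeZero !![x + y * a, y * b; y * e, x - y * a]
      (by rw [hdet, hxy]; exact hδ), ?_, fun _ => by
        show Matrix.det !![x + y * a, y * b; y * e, x - y * a] = δ; rw [hdet, hxy]⟩
    rw [mk_commute_iff]
    exact ⟨1, by rw [hM]; exact hcm x y⟩
  -- the preimage
  let S := {p : F × F // p.1 ^ 2 ≠ c * p.2 ^ 2}
  let inC : S → GL (Fin 2) F := fun p => GeneralLinearGroup.mkOfDetNeZero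
    !![p.1.1 + p.1.2 * a, p.1.2 * b; p.1.2 * e, p.1.1 - p.1.2 * a]
    (by rw [hdet]; exact sub_ne_zero.2 p.2)
  obtain ⟨k, hk⟩ := exists_anti h2 hg
  set P := (Subgroup.centralizer ({mk M} : Set (ProjGenLinGroup (Fin 2) F))).comap mk with hP
  have hmem : ∀ h : GL (Fin 2) F, h ∈ P ↔ Commute (mk h) (mk M) := fun h => by
    rw [hP, Subgroup.mem_comap, Subgroup.mem_centralizer_singleton_iff]; exact Iff.rfl
  have hin : ∀ p : S, inC p ∈ P := fun p => by
    rw [hmem, mk_commute_iff]; exact ⟨1, by rw [hM]; exact hcm _ _⟩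
  have hkP : k ∈ P := by rw [hmem, mk_commute_iff]; exact ⟨-1, by rw [hM]; exact hk⟩
  have hne11 : (1 : F) ≠ -1 := fun h => h2 (by linear_combination h)
  have hM0 : ∀ h : GL (Fin 2) F, !![a, b; e, -a] * (h : Matrix (Fin 2) (Fin 2) F) ≠ 0 := fun h h0 => by
    have := congrArg Matrix.det h0
    rw [← hM, ← Units.val_mul, Matrix.det_zero] at this
    exact GeneralLinearGroup.det_ne_zero _ this
  let f : S ⊕ S → P := Sum.elim (fun p => ⟨inC p, hin p⟩) (fun p => ⟨k * inC p, mul_mem hkP (hin p)⟩)
  have hinj : ∀ p q : S, inC p = inC q → p = q := fun p q h => by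
    have h' := congrArg (fun g : GL (Fin 2) F => (g : Matrix (Fin 2) (Fin 2) F)) h
    have h00 := congrFun (congrFun h' 0) 0
    have h01 := congrFun (congrFun h' 0) 1
    have h10 := congrFun (congrFun h' 1) 0
    have h11 := congrFun (congrFun h' 1) 1
    simp [inC, GeneralLinearGroup.mkOfDetNeZero] at h00 h01 h10 h11
    have hy : p.1.2 = q.1.2 := by
      rcases hg with hg | hg | hg
      · exact h10.resolve_right hg
      · exact h01.resolve_right hg
      · exact mul_right_cancel₀ hg (by linear_combination h00 - h11)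
    exact Subtype.ext (Prod.ext (by rw [hy] at h00; linear_combination h00) hy)
  have hnot : ∀ p q : S, k * inC p ≠ inC q := fun p q h => by
    have e1 := hcm q.1.1 q.1.2
    have e2 : (k : Matrix (Fin 2) (Fin 2) F) * !![p.1.1 + p.1.2 * a, p.1.2 * b; p.1.2 * e, p.1.1 - p.1.2 * a] =
        !![q.1.1 + q.1.2 * a, q.1.2 * b; q.1.2 * e, q.1.1 - q.1.2 * a] :=
      congrArg (fun g : GL (Fin 2) F => (g : Matrix (Fin 2) (Fin 2) F)) h
    rw [← e2, one_smul, Matrix.mul_assoc, hcm p.1.1 p.1.2, one_smul, ← Matrix.mul_assoc, hk,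
      Matrix.smul_mul, neg_one_smul] at e1
    have h0 : ∀ {X : Matrix (Fin 2) (Fin 2) F}, -X = X → X = 0 := fun {X} hX => by
      ext i j
      have := congrFun (congrFun hX i) j
      simp only [Matrix.neg_apply] at this
      exact (mul_eq_zero.1 (show (2 : F) * X i j = 0 by linear_combination -this)).resolve_left h2
    exact hM0 (k * inC p) (by rw [Units.val_mul, ← Matrix.mul_assoc]; exact h0 (by rw [← Matrix.mul_assoc] at e1; exact e1))
  have hf : Function.Bijective f := by
    constructor
    · rintro (p | p) (q | q) h <;> simp [f] at h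
      · rw [hinj p q h]
      · exact absurd h.symm (hnot q p)
      · exact absurd h (hnot p q)
      · rw [hinj p q h]
    · rintro ⟨h, hh⟩
      have hh' := (hmem h).1 hh
      rw [mk_commute_iff] at hh'
      obtain ⟨l, hl⟩ := hh'
      have key : ∀ g : GL (Fin 2) F, (g : Matrix (Fin 2) (Fin 2) F) * !![a, b; e, -a] =
          !![a, b; e, -a] * (g : Matrix (Fin 2) (Fin 2) F) → ∃ p : S, inC p = g := by
        intro g hgc
        obtain ⟨x, y, hxy⟩ := span hg _ hgc
        have hd := GeneralLinearGroup.det_ne_zero g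
        rw [hxy, hdet, sub_ne_zero] at hd
        exact ⟨⟨(x, y), hd⟩, Units.ext hxy.symm⟩
      rcases lambda_sq hl with rfl | rfl
      · obtain ⟨p, hp⟩ := key h (by rw [hM, one_smul] at hl; exact hl)
        exact ⟨Sum.inl p, Subtype.ext hp⟩
      · rw [hM] at hl
        obtain ⟨p, hp⟩ := key (k⁻¹ * h) (by
          have e3 : (k⁻¹ : GL (Fin 2) F).1 * !![a, b; e, -a] = (-1 : F) • (!![a, b; e, -a] * (k⁻¹ : GL (Fin 2) F).1) := by
            calc (k⁻¹ : GL (Fin 2) F).1 * !![a, b; e, -a]
                = (k⁻¹ : GL (Fin 2) F).1 * (!![a, b; e, -a] * k.1) * (k⁻¹ : GL (Fin 2) F).1 := by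
                  rw [Matrix.mul_assoc, Matrix.mul_assoc, Units.mul_inv, Matrix.mul_one]
              _ = _ := by
                  rw [show !![a, b; e, -a] * k.1 = (-1 : F) • (k.1 * !![a, b; e, -a]) by rw [hk, smul_smul]; simp,
                    Matrix.mul_smul, ← Matrix.mul_assoc, Units.inv_mul, Matrix.one_mul, Matrix.smul_mul]
          rw [Units.val_mul, Matrix.mul_assoc, hl, Matrix.mul_smul, ← Matrix.mul_assoc, e3,
            Matrix.smul_mul, smul_smul, Matrix.mul_assoc]
          simp)
        exact ⟨Sum.inr p, Subtype.ext (by simp [f, hp])⟩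
  have hcardP : Nat.card P = 2 * Nat.card S := by
    rw [← Nat.card_eq_of_bijective f hf, Nat.card_sum, two_mul]
  have hcardP' : Nat.card P = (Nat.card F - 1) *
      Nat.card (Subgroup.centralizer ({mk M} : Set (ProjGenLinGroup (Fin 2) F))) := by
    have h1 := Subgroup.card_mul_index P
    have h2' : P.index = (Subgroup.centralizer ({mk M} : Set (ProjGenLinGroup (Fin 2) F))).index :=
      Subgroup.index_comap_of_surjective _ mk_surjective
    rw [h2'] at h1
    have h3 := PSLCard.card_PGL (ι := Fin 2) (F := F)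
    rw [← Subgroup.card_mul_index (Subgroup.centralizer ({mk M} : Set (ProjGenLinGroup (Fin 2) F)))] at h3
    haveI : Finite (ProjGenLinGroup (Fin 2) F) := Finite.of_surjective mk mk_surjective
    have hidx : (Subgroup.centralizer ({mk M} : Set (ProjGenLinGroup (Fin 2) F))).index ≠ 0 :=
      Subgroup.index_ne_zero_of_finite
    apply Nat.eq_of_mul_eq_mul_right (Nat.pos_of_ne_zero hidx)
    rw [h1, mul_assoc, h3, ← PSLCard.card_SL_mul_card_units (ι := Fin 2) (R := F), PSLCard.card_units_field,
      mul_comm]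
  have hS : Nat.card S + Nat.card {p : F × F // p.1 ^ 2 = c * p.2 ^ 2} = Nat.card F * Nat.card F := by
    rw [← Nat.card_prod, ← Nat.card_sum]
    exact Nat.card_congr ((Equiv.sumComm _ _).trans (Equiv.sumCompl _))
  have hq := PSLCard.one_lt_card F
  obtain ⟨m, hm⟩ : ∃ m, Nat.card F = m + 2 := ⟨Nat.card F - 2, by omega⟩
  rw [hcardP, hm, show m + 2 - 1 = m + 1 from rfl] at hcardP'
  rw [hm] at hS ⊢
  rcases card_zero h2 hc0 with hz | hz
  · right
    rw [hz] at hS
    apply Nat.eq_of_mul_eq_mul_left (Nat.succ_pos m)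
    rw [← hcardP']
    nlinarith
  · left
    rw [hm] at hz
    apply Nat.eq_of_mul_eq_mul_left (Nat.succ_pos m)
    rw [← hcardP', show m + 2 - 1 = m + 1 from rfl]
    nlinarith

end Count

/-- In characteristic two every element centralising an involution has order at most two. -/
theorem sq_of_commute (h2 : (2 : F) = 0) {h M : GL (Fin 2) F} (ho : orderOf (mk M) = 2)
    (hc : Commute (mk h) (mk M)) : mk h * mk h = 1 := by
  obtain ⟨a, b, e, hM, hg⟩ := exists_form ho
  obtain ⟨l, hl⟩ := (mk_commute_iff h M).1 hc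
  have hneg : (-1 : F) = 1 := by linear_combination -h2
  have hl1 : l = 1 := by
    rcases lambda_sq hl with e' | e'
    · exact e'
    · rw [e', hneg]
  rw [hM, hl1, one_smul] at hl
  obtain ⟨x, y, hxy⟩ := span hg _ hl
  have hd : (x ^ 2 + y ^ 2 * (a * a + b * e)) ≠ 0 := by
    have := GeneralLinearGroup.det_ne_zero h
    rw [hxy, Matrix.det_fin_two_of] at this
    intro h0
    apply this
    linear_combination h0 - y ^ 2 * (a * a + b * e) * h2
  rw [← map_mul, mk_eq_one, GeneralLinearGroup.center_eq_range_scalar]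
  refine ⟨Units.mk0 _ hd, Units.ext ?_⟩
  rw [GeneralLinearGroup.coe_scalar, Units.val_mul, hxy]
  ext i j
  fin_cases i <;> fin_cases j <;> simp [Matrix.mul_apply, Fin.sum_univ_two]
  · linear_combination -(x * y * a) * h2
  · linear_combination -(x * y * b) * h2
  · linear_combination -(x * y * e) * h2
  · linear_combination (x * y * a) * h2

end Cfsg.Agent.Wong3PGL33
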