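import Cfsg.Agent.Lib.Wong3Red57Model

/-!
The edge stabiliser of a primitive group with a suborbit of length three over `Sym(4)`.
-/

set_option autoImplicit false
set_option linter.style.haveILetI false
set_option linter.unusedSectionVars false

namespace Cfsg.Agent.Wong3x33.Red57

open Subgroup

variable {G : Type*} [Group G]

/-- The conjugate of a subgroup. -/
def conjS (x : G) (X : Subgroup G) : Subgroup G := X.map (MulAut.conj x).toMonoidHom

theorem mem_conjS {x y : G} {X : Subgroup G} : y ∈ conjS x X ↔ x⁻¹ * y * x ∈ X := by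
  constructor
  · rintro ⟨a, ha, rfl⟩
    simpa [mul_assoc] using ha
  · intro h
    exact ⟨_, h, by simp [mul_assoc]⟩

theorem conj_mem_conjS {x a : G} {X : Subgroup G} (ha : a ∈ X) : x * a * x⁻¹ ∈ conjS x X :=
  ⟨a, ha, rfl⟩

theorem card_conjS (x : G) (X : Subgroup G) : Nat.card (conjS x X) = Nat.card X :=
  card_map_of_injective (MulAut.conj x).injective

theorem le_or_le {A X Y : Subgroup G} (h : ∀ a ∈ A, a ∈ X ∨ a ∈ Y) : A ≤ X ∨ A ≤ Y := by
  by_contra hn
  rw [not_or, SetLike.not_le_iff_exists, SetLike.not_le_iff_exists] at hn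
  obtain ⟨⟨a, ha, haX⟩, b, hb, hbY⟩ := hn
  have haY := (h a ha).resolve_left haX
  have hbX := (h b hb).resolve_right hbY
  rcases h (a * b) (mul_mem ha hb) with e | e
  · exact haX ((X.mul_mem_cancel_right hbX).1 e)
  · exact hbY ((Y.mul_mem_cancel_left haY).1 e)

variable [Finite G] {H : Subgroup G} {z₀ : G} {p : H →* S4} {q : S4 →* H}

/-- An element swapping the two elementary subgroups of the edge stabiliser `T`. -/
structure Edge (H : Subgroup G) (p : H →* S4) (g : G) (T : Subgroup G) : Prop where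
  gnot : g ∉ H
  leH : T ≤ H
  leW : Wg p ≤ T
  gT : ∀ t ∈ T, g * t * g⁻¹ ∈ T
  card : Nat.card T = 2 * Nat.card (Wg p)
  nT : ∀ x ∈ H, (∀ t ∈ T, x * t * x⁻¹ ∈ T) → x ∈ T
  notnormal : ¬ H ≤ normalizer (T : Set G)

theorem Model.exists_edge (M : Model H z₀ p q) (x : G)
    (hrel : (conjS x H).relIndex H = 3) :
    ∃ g T, Edge H p g T := by
  classical
  haveI : Fact (Nat.Prime 2) := ⟨Nat.prime_two⟩
  set T := H ⊓ conjS x H with hT
  have hTH : T ≤ H := inf_le_left
  have hrel' : T.relIndex H = 3 := by rw [hT, inf_relIndex_left]; exact hrel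
  have hcT : Nat.card T * 3 = Nat.card H := by
    rw [← hrel']; exact SuborbitThree.card_mul_rel T H hTH
  have hk : Nat.card p.ker = 1 ∨ Nat.card p.ker = 2 := by
    rw [M.card_ker]; split_ifs <;> simp
  have hW := M.card_Wg
  have hH := M.card_H
  have hcard : Nat.card T = 2 * Nat.card (Wg p) := by omega
  have hT2 : IsPGroup 2 T := by
    rcases hk with e | e
    · exact IsPGroup.of_card (n := 3) (by omega)
    · exact IsPGroup.of_card (n := 4) (by omega)
  -- the conjugate of `T` and `T` are Sylow in the conjugate of `H`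
  set H' := conjS x H with hH'
  have hTH' : T ≤ H' := inf_le_right
  have hxT : conjS x T ≤ H' := map_mono hTH
  have hH'c : Nat.card H' = Nat.card H := card_conjS x H
  have hidx : ∀ U : Subgroup G, U ≤ H' → Nat.card U = Nat.card T → ¬ 2 ∣ (U.subgroupOf H').index := by
    intro U hU hUc
    have h1 := (U.subgroupOf H').card_mul_index
    rw [Nat.card_congr (subgroupOfEquivOfLe hU).toEquiv, hUc, hH'c, ← hcT] at h1
    rw [show (U.subgroupOf H').index = 3 from Nat.eq_of_mul_eq_mul_left Nat.card_pos h1]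
    norm_num
  let S₂ : Sylow 2 H' := (hT2.of_equiv (subgroupOfEquivOfLe hTH').symm).toSylow (hidx T hTH' rfl)
  let S₁ : Sylow 2 H' := ((hT2.map (MulAut.conj x).toMonoidHom).of_equiv
    (subgroupOfEquivOfLe hxT).symm).toSylow (hidx _ hxT (card_conjS x T))
  obtain ⟨h, hh⟩ := MulAction.exists_smul_eq H' S₁ S₂
  set g := (h : G) * x with hg
  have hgT : ∀ t ∈ T, g * t * g⁻¹ ∈ T := by
    intro t ht
    have h1 : h * ⟨x * t * x⁻¹, hxT (conj_mem_conjS ht)⟩ * h⁻¹ ∈ (S₂ : Subgroup H') := by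
      rw [← hh, Sylow.coe_subgroup_smul]
      exact ⟨⟨x * t * x⁻¹, hxT (conj_mem_conjS ht)⟩, conj_mem_conjS (x := x) ht, rfl⟩
    have h2 : (h : G) * (x * t * x⁻¹) * (h : G)⁻¹ ∈ T := h1
    rw [hg, mul_inv_rev]
    simpa [mul_assoc] using h2
  have hgH : g ∉ H := by
    intro hgH
    have e1 : ∀ a ∈ H, a ∈ H' := by
      intro a ha
      have h1 : g⁻¹ * a * g ∈ H := mul_mem (mul_mem (inv_mem hgH) ha) hgH
      have h2 : (h : G) * (x * (g⁻¹ * a * g) * x⁻¹) * (h : G)⁻¹ ∈ H' :=
        mul_mem (mul_mem h.2 (conj_mem_conjS h1)) (inv_mem h.2)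
      rwa [show (h : G) * (x * (g⁻¹ * a * g) * x⁻¹) * (h : G)⁻¹ = g * (g⁻¹ * a * g) * g⁻¹ by
        rw [hg]; group, show g * (g⁻¹ * a * g) * g⁻¹ = a by group] at h2
    have : H'.relIndex H = 1 := relIndex_eq_one.2 e1
    omega
  have hTne : T ≠ ⊥ := fun e => by
    have := Nat.card_pos (α := Wg p)
    rw [e, card_bot] at hcard
    omega
  have hnn : ¬ H ≤ normalizer (T : Set G) := by
    intro hle
    have e := M.norm_eq hTH hTne hle
    apply hgH
    rw [← e, mem_normalizer_iff]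
    refine fun a => ⟨hgT a, fun ha => ?_⟩
    have he : conjS g T = T := Subgroup.eq_of_le_of_card_ge
      (by rintro _ ⟨b, hb, rfl⟩; exact hgT b hb) (card_conjS g T).ge
    rw [← he, mem_conjS] at ha
    simpa [mul_assoc] using ha
  have hN : ∀ y ∈ H, (∀ t ∈ T, y * t * y⁻¹ ∈ T) → y ∈ T := by
    intro y hy hyT
    by_contra hyn
    apply hnn
    let N := H ⊓ normalizer (T : Set G)
    have hyN : y ∈ N := by
      refine ⟨hy, mem_normalizer_iff.2 fun a => ⟨hyT a, fun ha => ?_⟩⟩
      have he : conjS y T = T := Subgroup.eq_of_le_of_card_ge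
        (by rintro _ ⟨b, hb, rfl⟩; exact hyT b hb) (card_conjS y T).ge
      rw [← he, mem_conjS] at ha
      simpa [mul_assoc] using ha
    have hTN : T ≤ N := le_inf hTH le_normalizer
    have h1 := Subgroup.relIndex_mul_relIndex T N H hTN inf_le_left
    rw [hrel'] at h1
    rcases (Nat.dvd_prime Nat.prime_three).mp (Dvd.intro _ h1) with e | e
    · exact absurd (relIndex_eq_one.1 e hyN) hyn
    · rw [e] at h1
      exact fun a ha => (relIndex_eq_one.1 (show N.relIndex H = 1 by omega) ha).2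
  refine ⟨g, T, hgH, hTH, ?_, hgT, hcard, hN, hnn⟩
  intro w hw
  by_contra hwn
  -- otherwise `T ⊔ W` is a larger 2-subgroup of `H`
  let T' : Sylow 2 H := (hT2.of_equiv (subgroupOfEquivOfLe hTH).symm).toSylow (by
    show ¬ 2 ∣ T.relIndex H
    rw [hrel']; norm_num)
  have hW2 : IsPGroup 2 (Wg p) := fun a => ⟨1, Subtype.ext (by
    rw [pow_one, pow_two]; exact M.Wg_sq a.2)⟩
  obtain ⟨S, hS⟩ := (hW2.of_equiv (subgroupOfEquivOfLe (Wg_le (p := p))).symm).exists_le_sylow
  obtain ⟨c, hc⟩ := MulAction.exists_smul_eq H S T'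
  have hcw : c⁻¹ * ⟨w, Wg_le hw⟩ * c ∈ (S : Subgroup H) := by
    refine hS ?_
    show (c : G)⁻¹ * w * c ∈ Wg p
    simpa using (mem_normalizer_iff.1 (M.le_norm_Wg (inv_mem c.2)) w).1 hw
  have hmem : (⟨w, Wg_le hw⟩ : H) ∈ (T' : Subgroup H) := by
    rw [← hc, Sylow.coe_subgroup_smul]
    exact ⟨_, hcw, by simp [mul_assoc]⟩
  exact hwn hmem

namespace Edge

variable {g : G} {T : Subgroup G} (E : Edge H p g T) (M : Model H z₀ p q)
include E M

theorem W2_le : conjS g (Wg p) ≤ T := by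
  rintro _ ⟨w, hw, rfl⟩; exact E.gT w (E.leW hw)

theorem W2_ne : conjS g (Wg p) ≠ Wg p := by
  intro e
  refine E.gnot (M.norm_Wg ▸ mem_normalizer_iff.2 fun a => ⟨fun ha => ?_, fun ha => ?_⟩)
  · rw [← e]; exact conj_mem_conjS ha
  · rw [← e, mem_conjS] at ha; simpa [mul_assoc] using ha

theorem W_index : ((Wg p).subgroupOf T).index = 2 := by
  have h := ((Wg p).subgroupOf T).card_mul_index
  rw [Nat.card_congr (subgroupOfEquivOfLe E.leW).toEquiv, E.card, mul_comm 2] at h
  exact Nat.eq_of_mul_eq_mul_left Nat.card_pos h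

theorem mul_mem_W {a b : G} (ha : a ∈ T) (hb : b ∈ T) : a * b ∈ Wg p ↔ (a ∈ Wg p ↔ b ∈ Wg p) :=
  mul_mem_iff_of_index_two (E.W_index M) (a := ⟨a, ha⟩) (b := ⟨b, hb⟩)

/-- A fixed element of the second subgroup outside the first. -/
theorem exists_out : ∃ s ∈ conjS g (Wg p), s ∉ Wg p := by
  by_contra hn
  push Not at hn
  exact E.W2_ne M (Subgroup.eq_of_le_of_card_ge hn (card_conjS g _).ge)

theorem W2_sq {a : G} (ha : a ∈ conjS g (Wg p)) : a * a = 1 := by
  have := M.Wg_sq (mem_conjS.1 ha)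
  rw [show g⁻¹ * a * g * (g⁻¹ * a * g) = g⁻¹ * (a * a) * g by group] at this
  calc a * a = g * (g⁻¹ * (a * a) * g) * g⁻¹ := by group
    _ = 1 := by rw [this]; group

theorem cent_W2 {x : G} (h : ∀ a ∈ conjS g (Wg p), Commute x a) : x ∈ conjS g (Wg p) := by
  rw [mem_conjS]
  show g⁻¹ * x * g ∈ Wg p
  rw [← M.cent_Wg, mem_centralizer_iff]
  intro w hw
  have h1 := (h _ (conj_mem_conjS hw)).eq
  calc w * (g⁻¹ * x * g) = g⁻¹ * (g * w * g⁻¹ * x) * g := by group
    _ = g⁻¹ * (x * (g * w * g⁻¹)) * g := by rw [h1]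
    _ = _ := by group

theorem W_comm {a b : G} (ha : a ∈ Wg p) (hb : b ∈ Wg p) : Commute a b :=
  (mem_centralizer_iff.1 (show b ∈ centralizer (Wg p : Set G) by rw [M.cent_Wg]; exact hb) a ha)

theorem W2_comm {a b : G} (ha : a ∈ conjS g (Wg p)) (hb : b ∈ conjS g (Wg p)) : Commute a b := by
  obtain ⟨u, hu, rfl⟩ := ha
  obtain ⟨w, hw, rfl⟩ := hb
  exact (E.W_comm M hu hw).map (MulAut.conj g).toMonoidHom

/-- Every involution of the edge stabiliser is in one of the two elementary subgroups. -/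
theorem involution_mem {t : G} (ht : t ∈ T) (h2 : t * t = 1) :
    t ∈ Wg p ∨ t ∈ conjS g (Wg p) := by
  refine or_iff_not_imp_left.2 fun htW => ?_
  obtain ⟨s, hs, hsW⟩ := E.exists_out M
  have hsT := E.W2_le M hs
  have hss := E.W2_sq M hs
  have hsi : s⁻¹ = s := inv_eq_of_mul_eq_one_right hss
  have hw : s * t ∈ Wg p := (E.mul_mem_W M hsT ht).2 (iff_of_false hsW htW)
  have hst : Commute (s * t) s := by
    have h1 := M.Wg_sq hw
    show s * t * s = s * (s * t)
    rw [← mul_assoc s s t, hss, one_mul]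
    calc s * t * s = s * t * (s * t) * t⁻¹ := by group
      _ = t⁻¹ := by rw [h1, one_mul]
      _ = t := inv_eq_of_mul_eq_one_right h2
  have hall : ∀ a ∈ conjS g (Wg p), Commute (s * t) a := by
    intro a ha
    by_cases haW : a ∈ Wg p
    · exact E.W_comm M hw haW
    · have hsa : s * a ∈ Wg p := (E.mul_mem_W M hsT (E.W2_le M ha)).2 (iff_of_false hsW haW)
      rw [show a = s * (s * a) by rw [← mul_assoc, hss, one_mul]]
      exact hst.mul_right (E.W_comm M hw hsa)
  have := E.cent_W2 M hall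
  simpa [← mul_assoc, hss] using mul_mem hs this

theorem elementary_cases {A : Subgroup G} (hA : A ≤ T) (hsq : ∀ a ∈ A, a * a = 1)
    (hc : Nat.card A = Nat.card (Wg p)) : A = Wg p ∨ A = conjS g (Wg p) := by
  rcases le_or_le fun a ha => E.involution_mem M (hA ha) (hsq a ha) with e | e
  · exact Or.inl (Subgroup.eq_of_le_of_card_ge e hc.ge)
  · exact Or.inr (Subgroup.eq_of_le_of_card_ge e (by rw [card_conjS, hc]))

theorem g_mem : g ∈ normalizer (T : Set G) := by
  have he : conjS g T = T := Subgroup.eq_of_le_of_card_ge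
    (by rintro _ ⟨b, hb, rfl⟩; exact E.gT b hb) (card_conjS g T).ge
  refine mem_normalizer_iff.2 fun a => ⟨E.gT a, fun ha => ?_⟩
  rw [← he, mem_conjS] at ha
  simpa [mul_assoc] using ha

/-- An element normalising `T` outside `T` interchanges the two subgroups. -/
theorem swap {x : G} (hx : x ∈ normalizer (T : Set G)) (hxT : x ∉ T) :
    (∀ w ∈ Wg p, x * w * x⁻¹ ∈ conjS g (Wg p)) ∧ ∀ w ∈ conjS g (Wg p), x * w * x⁻¹ ∈ Wg p := by
  have hle : ∀ X : Subgroup G, X ≤ T → conjS x X ≤ T := fun X hX => by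
    rintro _ ⟨a, ha, rfl⟩; exact (mem_normalizer_iff.1 hx a).1 (hX ha)
  have hsq : ∀ X : Subgroup G, (∀ a ∈ X, a * a = 1) → ∀ a ∈ conjS x X, a * a = 1 := by
    rintro X hX _ ⟨a, ha, rfl⟩
    rw [← map_mul, hX a ha, map_one]
  have h1 : conjS x (Wg p) = conjS g (Wg p) := by
    rcases E.elementary_cases M (hle _ E.leW) (hsq _ fun a => M.Wg_sq) (card_conjS x _) with e | e
    · refine absurd (E.nT x (M.norm_Wg ▸ mem_normalizer_iff.2 fun a => ⟨fun ha => ?_, fun ha => ?_⟩)
        fun t ht => (mem_normalizer_iff.1 hx t).1 ht) hxT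
      · rw [← e]; exact conj_mem_conjS ha
      · rw [← e, mem_conjS] at ha; simpa [mul_assoc] using ha
    · exact e
  have h2 : conjS x (conjS g (Wg p)) = Wg p := by
    rcases E.elementary_cases M (hle _ (E.W2_le M)) (hsq _ fun a => E.W2_sq M)
      ((card_conjS x _).trans (card_conjS g _)) with e | e
    · exact e
    · exact absurd (map_injective (MulAut.conj x).injective (h1.trans e.symm)).symm (E.W2_ne M)
  exact ⟨fun w hw => h1 ▸ conj_mem_conjS hw, fun w hw => h2 ▸ conj_mem_conjS hw⟩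

theorem index_norm : (T.subgroupOf (normalizer (T : Set G))).index = 2 := by
  rw [index_eq_two_iff]
  refine ⟨⟨g, E.g_mem M⟩, fun b => ?_⟩
  by_cases hb : (b : G) ∈ T
  · refine Or.inr ⟨hb, fun h => E.gnot (E.leH ?_)⟩
    exact (T.mul_mem_cancel_left hb).1 h
  · refine Or.inl ⟨?_, hb⟩
    refine E.nT _ ?_ fun t ht => (mem_normalizer_iff.1 (mul_mem b.2 (E.g_mem M)) t).1 ht
    refine M.norm_Wg.le ?_
    have he : conjS ((b : G) * g) (Wg p) = Wg p := by
      refine Subgroup.eq_of_le_of_card_ge ?_ (card_conjS _ _).ge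
      rintro _ ⟨w, hw, rfl⟩
      have := (E.swap M b.2 hb).2 _ (conj_mem_conjS (x := g) hw)
      simpa [mul_assoc] using this
    refine mem_normalizer_iff.2 fun a => ⟨fun ha => ?_, fun ha => ?_⟩
    · rw [← he]; exact conj_mem_conjS ha
    · rw [← he, mem_conjS] at ha; simpa [mul_assoc] using ha

theorem card_norm : Nat.card (normalizer (T : Set G)) = 4 * Nat.card (Wg p) := by
  have h := (T.subgroupOf (normalizer (T : Set G))).card_mul_index
  rw [E.index_norm M, Nat.card_congr (subgroupOfEquivOfLe le_normalizer).toEquiv, E.card] at h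
  omega

theorem sup_eq : Wg p ⊔ conjS g (Wg p) = T := by
  refine le_antisymm (sup_le E.leW (E.W2_le M)) fun t ht => ?_
  obtain ⟨s, hs, hsW⟩ := E.exists_out M
  by_cases htW : t ∈ Wg p
  · exact mem_sup_left htW
  · have hw : s * t ∈ Wg p := (E.mul_mem_W M (E.W2_le M hs) ht).2 (iff_of_false hsW htW)
    rw [show t = s * (s * t) by rw [← mul_assoc, E.W2_sq M hs, one_mul]]
    exact mul_mem (mem_sup_right hs) (mem_sup_left hw)

end Edge

end Cfsg.Agent.Wong3x33.Red57
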