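import Cfsg.Agent.Lib.Wong3Red57Edge

/-!
The reduction of S3686 with point stabiliser `Sym(4)`.
-/

set_option autoImplicit false
set_option linter.style.haveILetI false
set_option linter.unusedSectionVars false

namespace Cfsg.Agent.Wong3x33.Red57

open Subgroup

universe u

variable {G : Type u} [Group G] [Finite G]

theorem free_of_prim {Ω : Type*} [MulAction G Ω] [FaithfulSMul G Ω]
    (hprim : MulAction.IsPreprimitive G Ω) (a : Ω) (L : Subgroup G) (hL : L.Normal)
    (hle : L ≤ MulAction.stabilizer G a) : L = ⊥ := by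
  haveI := hprim
  refine (Subgroup.eq_bot_iff_forall L).mpr fun n hn => eq_of_smul_eq_smul fun ω : Ω => ?_
  obtain ⟨g, rfl⟩ := MulAction.exists_smul_eq G a ω
  have h2 : g⁻¹ * n * g⁻¹⁻¹ ∈ L := hL.conj_mem n hn g⁻¹
  have h1 := MulAction.mem_stabilizer_iff.mp (hle h2)
  rw [inv_inv, mul_smul, mul_smul, inv_smul_eq_iff] at h1
  rw [h1, one_smul]

theorem prim_data {Ω : Type*} [MulAction G Ω] [FaithfulSMul G Ω] [Finite Ω]
    (hprim : MulAction.IsPreprimitive G Ω) (a b : Ω)
    (h3 : Nat.card (MulAction.orbit (MulAction.stabilizer G a) b) = 3) :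
    IsCoatom (MulAction.stabilizer G a) ∧
      ∃ x : G, (conjS x (MulAction.stabilizer G a)).relIndex (MulAction.stabilizer G a) = 3 := by
  haveI := hprim
  have hab : a ≠ b := by
    rintro rfl
    have : MulAction.orbit (MulAction.stabilizer G a) a = {a} :=
      Set.eq_singleton_iff_unique_mem.mpr ⟨MulAction.mem_orbit_self a,
        by rintro _ ⟨g, rfl⟩; exact g.2⟩
    rw [this] at h3
    simp at h3
  haveI : Nontrivial Ω := ⟨a, b, hab⟩
  refine ⟨MulAction.IsPreprimitive.isCoatom_stabilizer_of_isPreprimitive (G := G) a, ?_⟩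
  obtain ⟨x, hx⟩ := MulAction.exists_smul_eq G a b
  refine ⟨x, ?_⟩
  rw [conjS, ← MulAction.stabilizer_smul_eq_stabilizer_map_conj x a, hx, ← h3]
  show ((MulAction.stabilizer G b).subgroupOf (MulAction.stabilizer G a)).index = _
  rw [show (MulAction.stabilizer G b).subgroupOf (MulAction.stabilizer G a) =
    MulAction.stabilizer (MulAction.stabilizer G a) b from rfl, MulAction.index_stabilizer]
  exact (Nat.card_coe_set_eq _).symm

theorem core_of_s4 {Ω : Type*} [MulAction G Ω] [FaithfulSMul G Ω] [Finite Ω]
    (hsol : ¬ Group.IsSolvable G)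
    (hprim : MulAction.IsPreprimitive G Ω) (a b : Ω)
    (h3 : Nat.card (MulAction.orbit (MulAction.stabilizer G a) b) = 3)
    (e : MulAction.stabilizer G a ≃* Equiv.Perm (Fin 4)) :
    ∃ V : Subgroup G, Core G V ∧ normalizer (V : Set G) = MulAction.stabilizer G a := by
  classical
  haveI : Fact (Nat.Prime 2) := ⟨Nat.prime_two⟩
  obtain ⟨hco, x, hx⟩ := prim_data hprim a b h3
  set H := MulAction.stabilizer G a with hH
  have M : Model H (1 : G) e.toMonoidHom e.symm.toMonoidHom :=
    { mem := one_mem _
      sq := one_mul 1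
      ker := fun y => by
        show e y = 1 ↔ _
        rw [map_eq_one_iff e e.injective]
        exact ⟨Or.inl, fun h => h.elim id fun r => Subtype.ext r⟩
      sec := fun σ => e.apply_symm_apply σ
      comm := fun h _ => Commute.one_right h
      maxi := hco
      free := fun L hL hle => free_of_prim hprim a L hL hle }
  set V := Vg e.symm.toMonoidHom with hV
  obtain ⟨g, T, E⟩ := M.exists_edge x hx
  have hker : Nat.card e.toMonoidHom.ker = 1 := by rw [M.card_ker, if_pos rfl]
  have hW : Wg e.toMonoidHom = V := (Subgroup.eq_of_le_of_card_ge M.Vg_le_Wg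
    (by rw [M.card_Wg, M.card_Vg, hker])).symm
  have hHc : Nat.card H = 24 := by rw [M.card_H, hker]
  have h16 : 16 ∣ Nat.card G := by
    have h := Subgroup.card_subgroup_dvd_card (normalizer (T : Set G))
    rwa [E.card_norm M, hW, M.card_Vg] at h
  have hnorm := M.norm_Vg
  have hnormal : ∀ L : Subgroup G, L.Normal → L ≠ ⊥ → L = ⊤ := by
    intro L hL hL1
    haveI := hL
    have hsup : L ⊔ H = ⊤ := hco.2 _ (lt_of_le_of_ne le_sup_right fun q =>
      hL1 (M.free L hL (q.symm ▸ le_sup_left)))
    have hLH : H ≤ normalizer ((L ⊓ H : Subgroup G) : Set G) := fun h hh =>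
      mem_normalizer_iff.2 fun y => ⟨fun hy => ⟨hL.conj_mem y hy.1 h, H.mul_mem (H.mul_mem hh hy.2) (H.inv_mem hh)⟩,
        fun hy => ⟨by simpa [mul_assoc] using hL.conj_mem _ hy.1 h⁻¹,
          by simpa [mul_assoc] using H.mul_mem (H.mul_mem (H.inv_mem hh) hy.2) hh⟩⟩
    have hne : L ⊓ H ≠ ⊥ := by
      intro hbot
      -- the four-group acts on `L` with one fixed point
      let _ : MulAction V L :=
        { smul := fun v l => ⟨v.1 * l.1 * v.1⁻¹, hL.conj_mem _ l.2 v.1⟩
          one_smul := fun l => Subtype.ext (show (1 : G) * l.1 * 1⁻¹ = l.1 by simp)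
          mul_smul := fun v w l => Subtype.ext
            (show v.1 * w.1 * l.1 * (v.1 * w.1)⁻¹ = v.1 * (w.1 * l.1 * w.1⁻¹) * v.1⁻¹ by group) }
      have hV2 : IsPGroup 2 V := IsPGroup.of_card (n := 2) (by rw [hV, M.card_Vg]; norm_num)
      have hfix : Nat.card (MulAction.fixedPoints V L) = 1 := by
        refine Nat.card_eq_one_iff_unique.2 ⟨⟨fun u v => ?_⟩,
          ⟨⟨1, fun w => Subtype.ext (show w.1 * (1 : G) * w.1⁻¹ = 1 by simp)⟩⟩⟩
        have key : ∀ u : MulAction.fixedPoints V L, u.1.1 = 1 := fun u => by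
          have hc : u.1.1 ∈ centralizer (V : Set G) := mem_centralizer_iff.2 fun w hw =>
            mul_inv_eq_iff_eq_mul.1 (congrArg Subtype.val (u.2 ⟨w, hw⟩) : w * u.1.1 * w⁻¹ = u.1.1)
          have hm : u.1.1 ∈ L ⊓ H := ⟨u.1.2, hnorm ▸ centralizer_le_normalizer _ hc⟩
          rwa [hbot, mem_bot] at hm
        exact Subtype.ext (Subtype.ext ((key u).trans (key v).symm))
      have hmod := hV2.card_modEq_card_fixedPoints L
      rw [hfix] at hmod
      have hidx := L.card_mul_index
      have hr : L.index = Nat.card H := by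
        rw [← relIndex_top_right, ← hsup, sup_comm, relIndex_sup_right,
          ← inf_relIndex_right, hbot, relIndex_bot_left]
      rw [hr, hHc] at hidx
      rw [← hidx] at h16
      have : Nat.card L % 2 = 1 := hmod
      omega
    have hVL : V ≤ L := by
      rcases M.normal_cases (inf_le_right (a := L)) hLH with q | q | q
      · exact absurd q hne
      · exact absurd rfl q.1
      · exact q.trans inf_le_left
    have hTL : T ≤ L ⊓ H := by
      refine le_inf ?_ E.leH
      rw [← E.sup_eq M, hW]
      exact sup_le hVL (by rintro _ ⟨v, hv, rfl⟩; exact hL.conj_mem v (hVL hv) g)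
    have hHL : H ≤ L := by
      have h1 := Subgroup.relIndex_mul_relIndex T (L ⊓ H) H hTL inf_le_right
      have hr : T.relIndex H = 3 := by
        have h2 := SuborbitThree.card_mul_rel T H E.leH
        rw [E.card, hW, M.card_Vg, hHc] at h2
        omega
      rw [hr] at h1
      rcases (Nat.dvd_prime Nat.prime_three).mp (Dvd.intro _ h1) with q | q
      · refine absurd ?_ E.notnormal
        rwa [show T = L ⊓ H from le_antisymm hTL (relIndex_eq_one.1 q)]
      · rw [q] at h1
        exact fun y hy => (relIndex_eq_one.1 (show (L ⊓ H).relIndex H = 1 by omega) hy).1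
    rw [← hsup]
    exact (sup_of_le_left hHL).symm
  haveI : Nontrivial G := Finite.one_lt_card_iff_nontrivial.1 (by
    have := Nat.le_of_dvd Nat.card_pos h16; omega)
  refine ⟨V, ?_, hnorm⟩
  exact
    { simple := ⟨fun L hL => or_iff_not_imp_left.2 (hnormal L hL)⟩
      nonab := by
        obtain ⟨c, d, hcd⟩ := exists_noncomm
        refine ⟨e.symm c, e.symm d, fun h => hcd (e.symm.injective ?_)⟩
        rw [map_mul, map_mul]
        exact Subtype.ext h
      card_four := M.card_Vg
      exp_two := fun v hv => M.Vg_sq hv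
      self_cent := by rw [hV, M.cent_Vg, hW]
      card_norm := by rw [hV, hnorm, hHc]
      sixteen := h16
      star := fun S _ hodd hle => by
        rw [hnorm] at hle
        set X := closure S with hX
        rcases hco.le_iff.1 hle with q | q
        · by_contra hne
          rw [hnormal X (normalizer_eq_top_iff.1 q) hne, Subgroup.card_top] at hodd
          exact Nat.not_even_iff_odd.2 hodd (even_iff_two_dvd.2 (dvd_trans (by norm_num) h16))
        · have hXH : X ≤ H := q ▸ le_normalizer
          exact M.odd_normal hXH hle hodd }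

end Cfsg.Agent.Wong3x33.Red57
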