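import Cfsg.Agent.Lib.Wong3Setup33
import Cfsg.Agent.Lib.SuborbitThree

/-!
A point stabiliser of a primitive group with a suborbit of length three which maps onto `Sym(4)` with
kernel of order at most two and a splitting.
-/

set_option autoImplicit false
set_option linter.style.haveILetI false
set_option linter.unusedSectionVars false

namespace Cfsg.Agent.Wong3x33.Red57

open Subgroup

abbrev S4 := Equiv.Perm (Fin 4)

/-- The four-group of double transpositions. -/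
def V4 : Subgroup S4 where
  carrier := {x | x = 1 ∨ (x * x = 1 ∧ ∀ i, x i ≠ i)}
  one_mem' := Or.inl rfl
  mul_mem' {a b} ha hb := by
    have key : ∀ a b : S4, (a = 1 ∨ (a * a = 1 ∧ ∀ i, a i ≠ i)) → (b = 1 ∨ (b * b = 1 ∧ ∀ i, b i ≠ i)) →
        (a * b = 1 ∨ ((a * b) * (a * b) = 1 ∧ ∀ i, (a * b) i ≠ i)) := by decide +kernel
    exact key a b ha hb
  inv_mem' {a} ha := by
    rcases ha with rfl | ⟨h1, h2⟩
    · exact Or.inl inv_one
    · rw [inv_eq_of_mul_eq_one_right h1]; exact Or.inr ⟨h1, h2⟩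

theorem mem_V4 {x : S4} : x ∈ V4 ↔ (x = 1 ∨ (x * x = 1 ∧ ∀ i, x i ≠ i)) := Iff.rfl

instance : DecidablePred (· ∈ V4) := fun x => decidable_of_iff _ (mem_V4 (x := x)).symm

theorem card_V4 : Nat.card V4 = 4 := by
  rw [Nat.card_eq_fintype_card]; decide +kernel

theorem V4_sq : ∀ v ∈ V4, v * v = 1 := by decide +kernel

theorem V4_conj : ∀ y v : S4, v ∈ V4 → y * v * y⁻¹ ∈ V4 := by decide +kernel

theorem V4_cent : ∀ x : S4, (∀ v ∈ V4, x * v = v * x) → x ∈ V4 := by decide +kernel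

theorem V4_gen : ∀ x : S4, x ≠ 1 → ∀ v ∈ V4, v ≠ 1 →
    ∃ y w : S4, w * (x * (y * x * y⁻¹)) * w⁻¹ = v := by decide +kernel

theorem V4_three : ∀ v ∈ V4, ∃ a b : S4, a * a * a = 1 ∧ b * b * b = 1 ∧ a * b = v := by decide +kernel

theorem three_fixed : ∀ x v : S4, x * x * x = 1 → v ∈ V4 → v ≠ 1 → x * v = v * x → x = 1 := by
  decide +kernel

theorem exists_noncomm : ∃ a b : S4, a * b ≠ b * a :=
  ⟨Equiv.swap 0 1, Equiv.swap 1 2, by decide +kernel⟩

/-- The standing data: a maximal subgroup `H` over `S4`. -/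
structure Model {G : Type*} [Group G] (H : Subgroup G) (z₀ : G) (p : H →* S4) (q : S4 →* H) : Prop where
  mem : z₀ ∈ H
  sq : z₀ * z₀ = 1
  ker : ∀ x, p x = 1 ↔ x = 1 ∨ (x : G) = z₀
  sec : ∀ σ, p (q σ) = σ
  comm : ∀ h ∈ H, Commute h z₀
  maxi : IsCoatom H
  free : ∀ L : Subgroup G, L.Normal → L ≤ H → L = ⊥

variable {G : Type*} [Group G] [Finite G] {H : Subgroup G} {z₀ : G} {p : H →* S4} {q : S4 →* H}

/-- The four-group in `G`. -/
def Vg (q : S4 →* H) : Subgroup G := V4.map (H.subtype.comp q)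

/-- The preimage of the four-group in `G`. -/
def Wg (p : H →* S4) : Subgroup G := (V4.comap p).map H.subtype

theorem Vg_le : Vg q ≤ H := by rintro _ ⟨v, -, rfl⟩; exact (q v).2

theorem Wg_le : Wg p ≤ H := map_subtype_le _

namespace Model

variable (M : Model H z₀ p q)
include M

theorem qinj : Function.Injective q := fun a b h => by rw [← M.sec a, h, M.sec b]

theorem card_Vg : Nat.card (Vg q) = 4 := by
  rw [Vg]
  exact (Nat.card_congr (equivMapOfInjective V4 (H.subtype.comp q)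
    (show Function.Injective (H.subtype.comp q) from fun a b h => M.qinj (H.subtype_injective h))).toEquiv).symm.trans
    card_V4

theorem mem_Wg {x : H} : (x : G) ∈ Wg p ↔ p x ∈ V4 :=
  ⟨fun ⟨y, hy, e⟩ => by rw [show x = y from H.subtype_injective e.symm]; exact hy,
    fun hx => ⟨x, hx, rfl⟩⟩

theorem Vg_le_Wg : Vg q ≤ Wg p := by
  rintro _ ⟨v, hv, rfl⟩
  exact M.mem_Wg.2 (by rw [M.sec]; exact hv)

theorem z_mem_Wg : z₀ ∈ Wg p := by
  show ((⟨z₀, M.mem⟩ : H) : G) ∈ Wg p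
  rw [M.mem_Wg, (M.ker ⟨z₀, M.mem⟩).2 (Or.inr rfl)]
  exact one_mem _

/-- Every element is a section element times a power of `z₀`. -/
theorem decomp (x : H) : (x : G) = q (p x) ∨ (x : G) = q (p x) * z₀ := by
  have : p ((q (p x))⁻¹ * x) = 1 := by rw [map_mul, map_inv, M.sec, inv_mul_cancel]
  rcases (M.ker _).1 this with e | e
  · left
    rw [inv_mul_eq_one] at e
    exact congrArg Subtype.val e.symm
  · right
    rw [← e]
    simp

theorem Wg_cases {w : G} (hw : w ∈ Wg p) : w ∈ Vg q ∨ ∃ v ∈ Vg q, w = v * z₀ := by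
  obtain ⟨x, hx, rfl⟩ := hw
  have hv : (q (p x) : G) ∈ Vg q := ⟨p x, hx, rfl⟩
  rcases M.decomp x with e | e
  · left; show (x : G) ∈ _; rw [e]; exact hv
  · exact Or.inr ⟨_, hv, e⟩

theorem Vg_sq {v : G} (hv : v ∈ Vg q) : v * v = 1 := by
  obtain ⟨a, ha, rfl⟩ := hv
  rw [← map_mul, V4_sq a ha, map_one]

theorem Wg_sq {w : G} (hw : w ∈ Wg p) : w * w = 1 := by
  rcases M.Wg_cases hw with e | ⟨v, hv, rfl⟩
  · exact M.Vg_sq e
  · rw [Commute.mul_mul_mul_comm (M.comm v (Vg_le hv)).symm, M.Vg_sq hv, M.sq, one_mul]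

theorem le_norm_Vg : H ≤ normalizer (Vg q : Set G) := by
  have key : ∀ h ∈ H, ∀ v ∈ Vg q, h * v * h⁻¹ ∈ Vg q := by
    rintro h hh _ ⟨v, hv, rfl⟩
    refine ⟨p ⟨h, hh⟩ * v * (p ⟨h, hh⟩)⁻¹, V4_conj _ _ hv, ?_⟩
    show (q (p ⟨h, hh⟩ * v * (p ⟨h, hh⟩)⁻¹) : G) = h * (q v : G) * h⁻¹
    rw [map_mul, map_mul, map_inv]
    rcases M.decomp ⟨h, hh⟩ with e | e
    · simp only at e; conv_rhs => rw [e]
      simp
    · simp only at e
      conv_rhs => rw [e]
      rw [show (q (p ⟨h, hh⟩) : G) * z₀ * (q v : G) * ((q (p ⟨h, hh⟩) : G) * z₀)⁻¹ =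
        (q (p ⟨h, hh⟩) : G) * (z₀ * (q v : G) * z₀⁻¹) * (q (p ⟨h, hh⟩) : G)⁻¹ by group,
        ← (M.comm _ (q v).2).eq, mul_inv_cancel_right]
      simp
  exact fun h hh => mem_normalizer_iff.2 fun v => ⟨key h hh v, fun hv => by
    simpa [mul_assoc] using key h⁻¹ (inv_mem hh) _ hv⟩

theorem le_norm_Wg : H ≤ normalizer (Wg p : Set G) := by
  have key : ∀ h ∈ H, ∀ w ∈ Wg p, h * w * h⁻¹ ∈ Wg p := by
    rintro h hh _ ⟨x, hx, rfl⟩
    refine ⟨⟨h, hh⟩ * x * ⟨h, hh⟩⁻¹, ?_, rfl⟩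
    show p _ ∈ V4
    rw [map_mul, map_mul, map_inv]
    exact V4_conj _ _ hx
  exact fun h hh => mem_normalizer_iff.2 fun v => ⟨key h hh v, fun hv => by
    simpa [mul_assoc] using key h⁻¹ (inv_mem hh) _ hv⟩

/-- A nontrivial subgroup of `H` normalised by `H` has normaliser `H`. -/
theorem norm_eq {X : Subgroup G} (hX : X ≤ H) (hX1 : X ≠ ⊥) (h : H ≤ normalizer (X : Set G)) :
    normalizer (X : Set G) = H := by
  rcases M.maxi.le_iff.1 h with e | e
  · exact absurd (M.free X (normalizer_eq_top_iff.1 e) hX) hX1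
  · exact e

theorem Vg_ne_bot : Vg q ≠ ⊥ := fun e => by
  have := M.card_Vg
  rw [e, card_bot] at this
  omega

theorem norm_Vg : normalizer (Vg q : Set G) = H := M.norm_eq Vg_le M.Vg_ne_bot M.le_norm_Vg

theorem norm_Wg : normalizer (Wg p : Set G) = H :=
  M.norm_eq Wg_le (fun e => M.Vg_ne_bot (le_bot_iff.1 (e ▸ M.Vg_le_Wg))) M.le_norm_Wg

theorem Wg_comm {v w : G} (hv : v ∈ Wg p) (hw : w ∈ Wg p) : v * w = w * v := by
  have h1 := M.Wg_sq (mul_mem hv hw)
  rw [← inv_eq_of_mul_eq_one_right h1, mul_inv_rev, inv_eq_of_mul_eq_one_right (M.Wg_sq hv),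
    inv_eq_of_mul_eq_one_right (M.Wg_sq hw)]

theorem cent_Vg : centralizer (Vg q : Set G) = Wg p := by
  refine le_antisymm (fun x hx => ?_) ?_
  · have hxH : x ∈ H := M.norm_Vg ▸ centralizer_le_normalizer _ hx
    show ((⟨x, hxH⟩ : H) : G) ∈ Wg p
    rw [M.mem_Wg]
    refine V4_cent _ fun v hv => ?_
    have h1 : (⟨x, hxH⟩ : H) * q v = q v * ⟨x, hxH⟩ :=
      Subtype.ext (mem_centralizer_iff.1 hx (q v : G) ⟨v, hv, rfl⟩).symm
    have := congrArg p h1
    rwa [map_mul, map_mul, M.sec] at this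
  · intro w hw
    exact mem_centralizer_iff.2 fun v hv => M.Wg_comm (M.Vg_le_Wg hv) hw

theorem cent_Wg : centralizer (Wg p : Set G) = Wg p :=
  le_antisymm ((centralizer_le M.Vg_le_Wg).trans M.cent_Vg.le) fun w hw =>
    mem_centralizer_iff.2 fun v hv => M.Wg_comm hv hw

theorem card_H : Nat.card H = Nat.card p.ker * 24 := by
  have h := p.ker.card_mul_index
  rw [Subgroup.index_ker, MonoidHom.range_eq_top.2 fun σ => ⟨q σ, M.sec σ⟩, Subgroup.card_top,
    Nat.card_perm, Nat.card_fin] at h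
  exact h.symm

theorem card_Wg : Nat.card (Wg p) = Nat.card p.ker * 4 := by
  have h : Nat.card (Wg p) = Nat.card (V4.comap p) := card_map_of_injective H.subtype_injective
  have h1 := (V4.comap p).card_mul_index
  rw [index_comap_of_surjective _ fun σ => ⟨q σ, M.sec σ⟩, M.card_H] at h1
  have h2 := V4.card_mul_index
  rw [card_V4, Nat.card_perm, Nat.card_fin, show (Nat.factorial 4) = 24 from rfl] at h2
  rw [show V4.index = 6 by omega] at h1
  omega

open Classical in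
theorem card_ker : Nat.card p.ker = if z₀ = 1 then 1 else 2 := by
  split_ifs with h
  · refine Nat.card_eq_one_iff_unique.2 ⟨⟨fun a b => ?_⟩, ⟨1⟩⟩
    have key : ∀ a : p.ker, a = 1 := fun a => by
      rcases (M.ker a.1).1 a.2 with e | e
      · exact Subtype.ext e
      · exact Subtype.ext (Subtype.ext (e.trans h))
    rw [key a, key b]
  · rw [Nat.card_eq_two_iff]
    refine ⟨1, ⟨⟨z₀, M.mem⟩, (M.ker _).2 (Or.inr rfl)⟩, fun e => h ?_, ?_⟩
    · exact (congrArg (fun w : p.ker => ((w.1 : H) : G)) e).symm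
    · ext a
      simp only [Set.mem_insert_iff, Set.mem_singleton_iff, Set.mem_univ, iff_true]
      rcases (M.ker a.1).1 a.2 with e | e
      · exact Or.inl (Subtype.ext e)
      · exact Or.inr (Subtype.ext (Subtype.ext e))

theorem orderOf_dvd_three {x : G} (hx : x ∈ H) (hodd : Odd (orderOf x)) : x ^ 3 = 1 := by
  have h1 : orderOf x ∣ Nat.card p.ker * 24 := M.card_H ▸ H.orderOf_dvd_natCard hx
  have h2 : Nat.card p.ker ∣ 2 := by rw [M.card_ker]; split_ifs <;> norm_num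
  have h3 : orderOf x ∣ 48 :=
    h1.trans ((Nat.mul_dvd_mul_right h2 24).trans (by norm_num))
  have hco : Nat.Coprime (orderOf x) (2 ^ 4) :=
    (Nat.coprime_two_right.2 hodd).pow_right 4
  exact orderOf_dvd_iff_pow_eq_one.1
    (hco.dvd_of_dvd_mul_left ((show (48 : ℕ) = 2 ^ 4 * 3 by norm_num) ▸ h3))

/-- An element of odd order of `H` is trivial if it centralises an element of `V`. -/
theorem odd_fixed {x v : G} (hx : x ∈ H) (hodd : Odd (orderOf x)) (hv : v ∈ Vg q) (hv1 : v ≠ 1)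
    (hc : Commute x v) : x = 1 := by
  have h3 : (⟨x, hx⟩ : H) ^ 3 = 1 := Subtype.ext (M.orderOf_dvd_three hx hodd)
  obtain ⟨a, ha, rfl⟩ := hv
  have h1 : (⟨x, hx⟩ : H) * q a = q a * ⟨x, hx⟩ := Subtype.ext hc.eq
  have h2 := congrArg p h1
  rw [map_mul, map_mul, M.sec] at h2
  have hp := three_fixed (p ⟨x, hx⟩) a (by rw [← map_mul, ← map_mul, ← pow_three', h3, map_one]) ha
    (fun e => hv1 (by rw [e, map_one])) h2
  rcases (M.ker _).1 hp with e | e
  · exact congrArg Subtype.val e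
  · simp only at e
    exact Cfsg.Agent.GWDih33.eq_one_of_two hodd (by rw [e]; exact M.sq)

/-- A subgroup of `H` normalised by `H` contains `V` or `z₀`. -/
theorem normal_cases {X : Subgroup G} (hX : X ≤ H) (h : H ≤ normalizer (X : Set G)) :
    X = ⊥ ∨ (z₀ ≠ 1 ∧ z₀ ∈ X) ∨ Vg q ≤ X := by
  rcases eq_or_ne X ⊥ with e | e
  · exact Or.inl e
  refine Or.inr (or_iff_not_imp_left.2 fun hz => ?_)
  obtain ⟨x, hxX, hx1⟩ := (X.bot_or_exists_ne_one).resolve_left e
  have hp1 : p ⟨x, hX hxX⟩ ≠ 1 := fun hp => by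
    rcases (M.ker _).1 hp with r | r
    · exact hx1 (congrArg Subtype.val r)
    · simp only at r; exact hz ⟨r ▸ hx1, r ▸ hxX⟩
  rintro _ ⟨v, hv, rfl⟩
  by_cases hv1 : v = 1
  · subst hv1; rw [map_one]; exact one_mem _
  obtain ⟨y, w, hyw⟩ := V4_gen _ hp1 v hv hv1
  set m := q w * (⟨x, hX hxX⟩ * (q y * ⟨x, hX hxX⟩ * (q y)⁻¹)) * (q w)⁻¹ with hm
  have hmX : (m : G) ∈ X := by
    rw [hm]
    push_cast
    exact (mem_normalizer_iff.1 (h (q w).2) _).1
      (mul_mem hxX ((mem_normalizer_iff.1 (h (q y).2) _).1 hxX))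
  have hpm : p m = v := by rw [hm]; simp only [map_mul, map_inv, M.sec]; exact hyw
  rcases M.decomp m with r | r
  · rw [hpm] at r; show (q v : G) ∈ X; rw [← r]; exact hmX
  · rw [hpm] at r
    by_cases hz0 : z₀ = 1
    · rw [hz0, mul_one] at r; show (q v : G) ∈ X; rw [← r]; exact hmX
    exfalso
    -- otherwise the product with a conjugate gives `z₀`
    obtain ⟨y', w', hv'⟩ := V4_gen v hv1 v hv hv1
    set m' := q w' * (m * (q y' * m * (q y')⁻¹)) * (q w')⁻¹ with hm'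
    have hm'X : (m' : G) ∈ X := by
      rw [hm']
      push_cast
      exact (mem_normalizer_iff.1 (h (q w').2) _).1
        (mul_mem hmX ((mem_normalizer_iff.1 (h (q y').2) _).1 hmX))
    have he : (m' : G) = q v := by
      have hmv : ∀ a ∈ H, a * ((q v : G) * z₀) * a⁻¹ = a * (q v : G) * a⁻¹ * z₀ := fun a ha => by
        rw [← mul_assoc a, mul_assoc _ z₀, ← (M.comm a⁻¹ (inv_mem ha)).eq, ← mul_assoc]
      rw [hm']
      push_cast
      rw [r, hmv _ (q y').2, Commute.mul_mul_mul_comm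
        (M.comm _ (mul_mem (mul_mem (q y').2 (q v).2) (inv_mem (q y').2))).symm, M.sq, mul_one]
      have := congrArg (fun σ => (q σ : G)) hv'
      simpa using this
    refine hz ⟨hz0, ?_⟩
    have := mul_mem (inv_mem hm'X) hmX
    rwa [he, r, inv_mul_cancel_left] at this

theorem odd_normal {X : Subgroup G} (hX : X ≤ H) (h : H ≤ normalizer (X : Set G))
    (hodd : Odd (Nat.card X)) : X = ⊥ := by
  rcases M.normal_cases hX h with e | e | e
  · exact e
  · exact absurd (Cfsg.Agent.GWDih33.eq_one_of_two (Cfsg.Agent.GWDih33.odd_of_mem hodd e.2) M.sq) e.1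
  · have := (hodd.of_dvd_nat (card_dvd_of_le e))
    rw [M.card_Vg] at this
    exact absurd this (by decide)

end Model

end Cfsg.Agent.Wong3x33.Red57
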