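import Mathlib
import Cfsg.Agent.Lib.Wong3PGL33
import Cfsg.Agent.Lib.DicksonMaximal
import Cfsg.Agent.Lib.PSL2Small
import Cfsg.Agent.Lib.DegGraphSmall360_81
import Cfsg.Agent.S0803
import Cfsg.Agent.S3331
import Cfsg.Agent.S3322

/-!
Primitive groups with a suborbit of length three whose point stabiliser is small.
-/

set_option autoImplicit false
set_option linter.style.haveILetI false

namespace Cfsg.Agent.Wong3Small33

open Subgroup Matrix

universe u v

section Action

variable {G : Type u} {Ω : Type v} [Group G] [MulAction G Ω] [FaithfulSMul G Ω]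

theorem normal_le_stabilizer [MulAction.IsPretransitive G Ω] (a : Ω) {N : Subgroup G} [hN : N.Normal]
    (h : N ≤ MulAction.stabilizer G a) : N = ⊥ := by
  rw [Subgroup.eq_bot_iff_forall]
  intro n hn
  refine FaithfulSMul.eq_of_smul_eq_smul (α := Ω) fun x => ?_
  obtain ⟨g, rfl⟩ := MulAction.exists_smul_eq G a x
  have h1 : g⁻¹ * n * g ∈ MulAction.stabilizer G a := h (by simpa using hN.conj_mem n hn g⁻¹)
  rw [MulAction.mem_stabilizer_iff] at h1
  rw [one_smul]
  calc n • g • a = g • (g⁻¹ * n * g) • a := by rw [smul_smul, smul_smul]; congr 1; group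
    _ = g • a := by rw [h1]

variable [Finite G]

theorem quotient_solvable [hprim : MulAction.IsPreprimitive G Ω] [Nontrivial Ω] (a : Ω) {N : Subgroup G}
    [N.Normal] (hN : N ≠ ⊥) (hH : Group.IsSolvable (MulAction.stabilizer G a)) :
    Group.IsSolvable (G ⧸ N) := by
  have hco := MulAction.IsPreprimitive.isCoatom_stabilizer_of_isPreprimitive (G := G) a
  have hsup : MulAction.stabilizer G a ⊔ N = ⊤ := by
    refine hco.2 _ (lt_of_le_of_ne le_sup_left fun e => hN ?_)
    exact normal_le_stabilizer a (e.symm ▸ le_sup_right)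
  haveI := hH
  refine Group.isSolvable_of_surjective (f := (QuotientGroup.mk' N).comp (MulAction.stabilizer G a).subtype) fun y => ?_
  obtain ⟨g, rfl⟩ := QuotientGroup.mk'_surjective N y
  obtain ⟨h, hh, n, hn, rfl⟩ := Subgroup.mem_sup_of_normal_right.1 (hsup ▸ mem_top g : g ∈ _)
  refine ⟨⟨h, hh⟩, ?_⟩
  simp only [MonoidHom.comp_apply, Subgroup.coe_subtype, map_mul]
  rw [show (QuotientGroup.mk' N) n = 1 from (QuotientGroup.eq_one_iff n).2 hn, mul_one]

theorem cent_eq_stab [hprim : MulAction.IsPreprimitive G Ω] [Nontrivial Ω] (a : Ω) {X : Subgroup G}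
    (hX : X ≤ MulAction.stabilizer G a) (hX1 : X ≠ ⊥)
    (hn : MulAction.stabilizer G a ≤ normalizer (X : Set G)) :
    normalizer (X : Set G) = MulAction.stabilizer G a := by
  have hco := MulAction.IsPreprimitive.isCoatom_stabilizer_of_isPreprimitive (G := G) a
  refine ((hco.le_iff.1 hn).resolve_left fun e => hX1 ?_)
  haveI : X.Normal := Subgroup.normalizer_eq_top_iff.1 e
  exact normal_le_stabilizer a hX

end Action

theorem not_solvable_psl {F : Type} [Field F] [Finite F] (h4 : 4 ≤ Nat.card F) :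
    ¬ Group.IsSolvable (ProjectiveSpecialLinearGroup (Fin 2) F) := by
  obtain ⟨p, hp⟩ := CharP.exists F
  haveI : Fact p.Prime := ⟨CharP.char_is_prime F p⟩
  haveI := DicksonMaximal.simple (F := F) p h4
  intro hs
  haveI := hs
  have hc : ∀ a b : ProjectiveSpecialLinearGroup (Fin 2) F, a * b = b * a :=
    IsSimpleGroup.comm_iff_isSolvable.2 hs
  letI : CommGroup (ProjectiveSpecialLinearGroup (Fin 2) F) := { (inferInstance : Group _) with mul_comm := hc }
  have hpr := IsSimpleGroup.prime_card (α := ProjectiveSpecialLinearGroup (Fin 2) F)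
  obtain ⟨hd, h8⟩ := DicksonMaximal.four_dvd_card (F := F) h4
  rcases (Nat.dvd_prime hpr).1 ((show 2 ∣ 4 by norm_num).trans hd) with h | h <;> omega

theorem not_solvable_pgl {F : Type} [Field F] [Finite F] (h4 : 4 ≤ Nat.card F) :
    ¬ Group.IsSolvable (ProjGenLinGroup (Fin 2) F) := fun h =>
  not_solvable_psl h4 (Group.isSolvable_of_isSolvable_injective (ProjectiveSpecialLinearGroup.toPGL_injective (n := Fin 2) (R := F)))

section Three

variable {G : Type u} {Ω : Type v} [Group G] [Finite G] [MulAction G Ω] [FaithfulSMul G Ω]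
  [MulAction.IsPreprimitive G Ω] [Nontrivial Ω]

theorem conj_three : ∀ c : Equiv.Perm (Fin 4), c * c * c = 1 → c ≠ 1 →
    ∃ s : Equiv.Perm (Fin 4), s * s = 1 ∧ s ≠ 1 ∧ s * c * s = c * c := by decide +kernel

/-- A stabiliser with a normal self-centralising subgroup of order three. -/
theorem three_case (hsol : ¬ Group.IsSolvable G) (a : Ω) {x : G} (hxH : x ∈ MulAction.stabilizer G a)
    (hx : orderOf x = 3) (hn : ∀ h ∈ MulAction.stabilizer G a, h * x * h⁻¹ ∈ zpowers x)
    (hc : ∀ h ∈ MulAction.stabilizer G a, Commute h x → h ∈ zpowers x)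
    (hsH : Group.IsSolvable (MulAction.stabilizer G a)) (hcard : Nat.card (MulAction.stabilizer G a) ≤ 6) :
    Nonempty (G ≃* alternatingGroup (Fin 5)) := by
  have hX : Nat.card (zpowers x) = 3 := by rw [Nat.card_zpowers, hx]
  have hnor : normalizer ((zpowers x : Subgroup G) : Set G) = MulAction.stabilizer G a := by
    refine cent_eq_stab a (zpowers_le.2 hxH) (fun e => ?_) fun h hh => ?_
    · rw [zpowers_eq_bot] at e; simp [e] at hx
    · refine mem_normalizer_fintype fun y hy => ?_
      obtain ⟨k, rfl⟩ := mem_zpowers_iff.1 hy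
      rw [← conj_zpow]
      exact zpow_mem (hn h hh) k
  have hC : centralizer ((zpowers x : Subgroup G) : Set G) = zpowers x := by
    refine le_antisymm (fun g hg => ?_) ?_
    · exact hc g (hnor ▸ centralizer_le_normalizer _ hg) (mem_centralizer_iff.1 hg x (mem_zpowers x)).symm
    · exact le_centralizer_iff.2 (fun y hy => mem_centralizer_iff.2 fun z hz => by
        obtain ⟨k, rfl⟩ := mem_zpowers_iff.1 hy
        obtain ⟨l, rfl⟩ := mem_zpowers_iff.1 hz
        exact (zpow_mul_comm x l k))
  rcases Cfsg.Agent.S3331.result (zpowers x) hX hC with ⟨N, hN, hnil, -, hq⟩ | ⟨N, hN, -, -, ⟨e⟩⟩ | ⟨⟨e⟩⟩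
  · exfalso
    apply hsol
    haveI := hnil
    have hq' : Group.IsSolvable (G ⧸ N) := by
      rcases hq with h | ⟨⟨e⟩⟩
      · haveI : Fact (Nat.Prime 3) := ⟨Nat.prime_three⟩
        letI := (isCyclic_of_prime_card h).commGroup
        infer_instance
      · haveI : Group.IsSolvable (Equiv.Perm (Fin 3)) := by
          refine (Group.isSolvable_def _).2 ⟨2, ?_⟩
          rw [Subgroup.eq_bot_iff_forall]
          intro y hy
          have h1 : derivedSeries (Equiv.Perm (Fin 3)) 1 ≤ alternatingGroup (Fin 3) := by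
            rw [derivedSeries_one]
            exact Abelianization.commutator_subset_ker Equiv.Perm.sign
          have h2 : derivedSeries (Equiv.Perm (Fin 3)) 2 ≤ ⊥ := by
            rw [derivedSeries_succ, commutator_le]
            intro g hg k hk
            rw [mem_bot, commutatorElement_eq_one_iff_mul_comm]
            have key : ∀ g k : Equiv.Perm (Fin 3), Equiv.Perm.sign g = 1 → Equiv.Perm.sign k = 1 →
                g * k = k * g := by decide +kernel
            exact key g k (h1 hg) (h1 hk)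
          exact h2 hy
        exact Group.isSolvable_of_isSolvable_injective (f := e.toMonoidHom) e.injective
    haveI := hq'
    haveI : Group.IsSolvable N := inferInstance
    exact Group.isSolvable_of_ker_le_range (N.subtype) (QuotientGroup.mk' N) (by simp)
  · haveI := hN
    by_cases hb : N = ⊥
    · exact ⟨(QuotientGroup.quotientBot.symm.trans (QuotientGroup.quotientMulEquivOfEq hb.symm)).trans e⟩
    · exfalso
      haveI := quotient_solvable a hb hsH
      have : Group.IsSolvable (alternatingGroup (Fin 5)) := Group.isSolvable_of_surjective (f := e.toMonoidHom) e.surjective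
      have h2 := IsSimpleGroup.comm_iff_isSolvable.2 this
      exact absurd (h2 ⟨Equiv.swap (0 : Fin 5) 1 * Equiv.swap 1 2, by rw [Equiv.Perm.mem_alternatingGroup]; decide +kernel⟩ ⟨Equiv.swap (0 : Fin 5) 1 * Equiv.swap 1 3, by rw [Equiv.Perm.mem_alternatingGroup]; decide +kernel⟩) (fun h => (by decide +kernel : (Equiv.swap (0 : Fin 5) 1 * Equiv.swap 1 2) * (Equiv.swap (0 : Fin 5) 1 * Equiv.swap 1 3) ≠ (Equiv.swap (0 : Fin 5) 1 * Equiv.swap 1 3) * (Equiv.swap (0 : Fin 5) 1 * Equiv.swap 1 2)) (congrArg Subtype.val h))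
  · exfalso
    haveI : Fact (Nat.Prime 7) := ⟨by norm_num⟩
    haveI : Fact (Nat.Prime 3) := ⟨Nat.prime_three⟩
    obtain ⟨K0, ⟨eK⟩⟩ := (Cfsg.Agent.S0803.result (F := ZMod 7) (q := 7) (ZMod.card 7)).2 (by norm_num)
    let ι : Equiv.Perm (Fin 4) →* G := e.symm.toMonoidHom.comp (K0.subtype.comp eK.symm.toMonoidHom)
    have hι : Function.Injective ι := by
      exact e.symm.injective.comp (K0.subtype_injective.comp eK.symm.injective)
    have hG : Nat.card G = 168 := by
      rw [Nat.card_congr e.toEquiv, PSLCard.card_PSL2_odd (by rw [Nat.card_zmod]; decide), Nat.card_zmod]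
      norm_num
    obtain ⟨c, hc3⟩ := exists_prime_orderOf_dvd_card' (G := Equiv.Perm (Fin 4)) 3
      (by rw [Nat.card_perm, Nat.card_fin]; decide)
    have hX' : Nat.card (zpowers (ι c)) = 3 ^ 1 := by rw [Nat.card_zpowers, orderOf_injective ι hι, hc3]; rfl
    obtain ⟨P, hP⟩ := (IsPGroup.of_card (p := 3) (n := 1) (hX.trans (pow_one 3).symm)).exists_le_sylow
    obtain ⟨Q, hQ⟩ := (IsPGroup.of_card (p := 3) (n := 1) hX').exists_le_sylow
    have hsyl : ∀ S : Sylow 3 G, Nat.card (S : Subgroup G) ≤ 3 := fun S => by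
      obtain ⟨k, hk⟩ := S.isPGroup'.exists_card_eq
      have hd := (S : Subgroup G).card_subgroup_dvd_card
      rw [hk, hG] at hd
      rw [hk]
      rcases Nat.lt_or_ge k 2 with h | h
      · exact (Nat.pow_le_pow_right (by norm_num) (by omega : k ≤ 1)).trans (by norm_num)
      · exact absurd ((pow_dvd_pow 3 h).trans hd) (by norm_num)
    have eP : zpowers x = (P : Subgroup G) := eq_of_le_of_card_ge hP ((hsyl P).trans_eq hX.symm)
    have eQ : zpowers (ι c) = (Q : Subgroup G) := eq_of_le_of_card_ge hQ ((hsyl Q).trans_eq (hX'.trans (pow_one 3)).symm)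
    obtain ⟨g, hg⟩ := MulAction.exists_smul_eq G Q P
    let κ : Equiv.Perm (Fin 4) →* G := (MulAut.conj g).toMonoidHom.comp ι
    have hκ : Function.Injective κ := (MulAut.conj g).injective.comp hι
    have hκc : κ c ∈ zpowers x := by
      rw [eP, ← hg, Sylow.coe_subgroup_smul, ← eQ]
      exact ⟨ι c, mem_zpowers _, rfl⟩
    have hκz : zpowers (κ c) = zpowers x := eq_of_le_of_card_ge (zpowers_le.2 hκc)
      (by rw [hX, Nat.card_zpowers, orderOf_injective κ hκ, hc3])
    have hc1 : c ≠ 1 := fun h => by simp [h] at hc3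
    obtain ⟨s, hs2, hs1, hsc⟩ := conj_three c (by rw [← pow_three', ← hc3, pow_orderOf_eq_one]) hc1
    have hsH : κ s ∈ MulAction.stabilizer G a := by
      rw [← hnor]
      refine mem_normalizer_fintype fun y hy => ?_
      rw [SetLike.mem_coe, ← hκz] at hy ⊢
      obtain ⟨k, rfl⟩ := mem_zpowers_iff.1 hy
      rw [← conj_zpow, ← map_inv, ← map_mul, ← map_mul, inv_eq_of_mul_eq_one_right hs2, hsc, map_mul]
      exact zpow_mem (mul_mem (mem_zpowers _) (mem_zpowers _)) k
    have hle : κ.range ⊓ MulAction.stabilizer G a = MulAction.stabilizer G a := by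
      refine eq_of_le_of_card_ge inf_le_right ?_
      have h3 : 3 ∣ Nat.card ↥(κ.range ⊓ MulAction.stabilizer G a) := by
        rw [← hX]
        refine card_dvd_of_le (le_inf ?_ (zpowers_le.2 hxH))
        rw [← hκz]; exact zpowers_le.2 ⟨c, rfl⟩
      have h2 : 2 ∣ Nat.card ↥(κ.range ⊓ MulAction.stabilizer G a) := by
        have ho : orderOf (κ s) = 2 := by
          rw [orderOf_injective κ hκ]; exact orderOf_eq_prime (by rw [pow_two, hs2]) hs1
        rw [← ho]
        exact Subgroup.orderOf_dvd_natCard _ (mem_inf.2 ⟨⟨s, rfl⟩, hsH⟩)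
      have h6 := Nat.Coprime.mul_dvd_of_dvd_of_dvd (by norm_num : Nat.Coprime 2 3) h2 h3
      have := Nat.le_of_dvd Nat.card_pos h6
      omega
    have hrange : Nat.card κ.range = 24 := by
      rw [← Nat.card_congr (MonoidHom.ofInjective hκ).toEquiv, Nat.card_perm, Nat.card_fin]; rfl
    have hco := MulAction.IsPreprimitive.isCoatom_stabilizer_of_isPreprimitive (G := G) a
    have htop := hco.2 κ.range (lt_of_le_of_ne (hle ▸ inf_le_left) fun e' => by
      rw [e'] at hcard; omega)
    rw [htop, Subgroup.card_top, hG] at hrange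
    omega

end Three

section Twelve

variable {F : Type} [Field F] [Finite F]

theorem card_of_centralizer {j : ProjectiveSpecialLinearGroup (Fin 2) F} (hj : orderOf j = 2)
    (hC : Nat.card (centralizer ({j} : Set (ProjectiveSpecialLinearGroup (Fin 2) F))) = 12)
    {r : ProjectiveSpecialLinearGroup (Fin 2) F} (hr : Commute r j) (hr2 : r * r ≠ 1) :
    Nat.card F = 11 ∨ Nat.card F = 13 := by
  classical
  haveI : Finite (ProjGenLinGroup (Fin 2) F) := Finite.of_surjective ProjGenLinGroup.mk ProjGenLinGroup.mk_surjective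
  set T := ProjectiveSpecialLinearGroup.toPGL (n := Fin 2) (R := F) with hT
  have hinj : Function.Injective T := ProjectiveSpecialLinearGroup.toPGL_injective
  obtain ⟨M, hM⟩ := ProjGenLinGroup.mk_surjective (T j)
  have hoM : orderOf (ProjGenLinGroup.mk M) = 2 := by rw [hM, orderOf_injective T hinj, hj]
  by_cases h2 : (2 : F) = 0
  · obtain ⟨R, hR⟩ := ProjGenLinGroup.mk_surjective (T r)
    have := Wong3PGL33.sq_of_commute h2 hoM (h := R) (by rw [hR, hM]; exact hr.map T)
    rw [hR, ← map_mul, ← map_one T] at this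
    exact absurd (hinj this) hr2
  have hodd : Odd (Nat.card F) := by
    haveI := Fintype.ofFinite F
    rw [Nat.card_eq_fintype_card, Nat.odd_iff]
    exact FiniteField.odd_card_of_char_ne_two fun h => h2 (by haveI := ringChar.of_eq h; exact CharTwo.two_eq_zero)
  obtain ⟨hcard, hdet⟩ := Wong3PGL33.centralizer_two h2 hoM
  rw [hM] at hcard hdet
  set C := centralizer ({T j} : Set (ProjGenLinGroup (Fin 2) F)) with hCdef
  have hidx : T.range.index = 2 := by
    have h1 := T.range.card_mul_index
    rw [← Nat.card_congr (MonoidHom.ofInjective hinj).toEquiv, PSLCard.card_PGL2,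
      PSLCard.card_PSL2_odd hodd] at h1
    obtain ⟨m, hm⟩ := hodd
    have h8 : 2 ∣ Nat.card F * (Nat.card F ^ 2 - 1) := by
      refine Dvd.dvd.mul_left ?_ _
      rw [hm, show (2 * m + 1) ^ 2 - 1 = 2 * (2 * m * m + 2 * m) by
        rw [show (2 * m + 1) ^ 2 = 2 * (2 * m * m + 2 * m) + 1 by ring, Nat.add_sub_cancel]]
      exact Dvd.intro _ rfl
    obtain ⟨k, hk⟩ := h8
    rw [hk, Nat.mul_div_cancel_left _ two_pos, mul_comm 2 k] at h1
    have hk0 : 0 < k := by
      rcases Nat.eq_zero_or_pos k with rfl | h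
      · have : 0 < Nat.card F * (Nat.card F ^ 2 - 1) := Nat.mul_pos (by omega)
          (Nat.sub_pos_of_lt (Nat.one_lt_pow (by norm_num) (PSLCard.one_lt_card F)))
        omega
      · exact h
    exact Nat.eq_of_mul_eq_mul_left hk0 h1
  obtain ⟨δ, hδ⟩ : ∃ δ : F, ¬ IsSquare δ := by
    haveI := Fintype.ofFinite F
    exact FiniteField.exists_nonsquare fun h => h2 (by haveI := ringChar.of_eq h; exact CharTwo.two_eq_zero)
  have hδ0 : δ ≠ 0 := fun h => hδ (h ▸ IsSquare.zero)
  obtain ⟨h, hhc, hhd⟩ := hdet δ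
  have hout : ProjGenLinGroup.mk h ∉ T.range := by
    rintro ⟨A, hA⟩
    obtain ⟨A, rfl⟩ := QuotientGroup.mk'_surjective _ A
    obtain ⟨u, hu⟩ := ProjGenLinGroup.mk_eq_mk_iff.1 (hA : ProjGenLinGroup.mk (SpecialLinearGroup.toGL A) = _)
    apply hδ
    refine ⟨(u : F), ?_⟩
    rw [← hhd hδ0, ← hu, Units.val_mul, GeneralLinearGroup.coe_scalar]
    simp [Matrix.det_mul, pow_two]
  have hhC : ProjGenLinGroup.mk h ∈ C := mem_centralizer_singleton_iff.2 hhc.eq
  have hmap : C ⊓ T.range = (centralizer ({j} : Set (ProjectiveSpecialLinearGroup (Fin 2) F))).map T := by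
    ext y
    simp only [hCdef, mem_inf, mem_centralizer_singleton_iff, MonoidHom.mem_range, mem_map]
    constructor
    · rintro ⟨hy, z, rfl⟩
      exact ⟨z, hinj (by rw [map_mul, map_mul]; exact hy), rfl⟩
    · rintro ⟨z, hz, rfl⟩
      exact ⟨by rw [← map_mul, hz, map_mul], z, rfl⟩
  have h24 : Nat.card C = 24 := by
    have hrel : (T.range.subgroupOf C).index = 2 := by
      refine index_eq_two_iff.2 ⟨⟨_, hhC⟩, fun b => ?_⟩
      simp only [mem_subgroupOf, coe_mul]
      rw [mul_mem_iff_of_index_two hidx]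
      simp only [hout, iff_false]
      exact xor_not_left.2 Iff.rfl
    have h1 := (T.range.subgroupOf C).card_mul_index
    rw [hrel] at h1
    have h3 : Nat.card (T.range.subgroupOf C) = 12 := by
      rw [← hC, Nat.card_congr (equivMapOfInjective (centralizer ({j} : Set _)) T hinj).toEquiv, ← hmap,
        ← inf_subgroupOf_left T.range C, inf_comm]
      exact Nat.card_congr (subgroupOfEquivOfLe inf_le_right).toEquiv
    omega
  omega

theorem card_of_centralizer_pgl {j : ProjGenLinGroup (Fin 2) F} (hj : orderOf j = 2)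
    (hC : Nat.card (centralizer ({j} : Set (ProjGenLinGroup (Fin 2) F))) = 12)
    {r : ProjGenLinGroup (Fin 2) F} (hr : Commute r j) (hr2 : r * r ≠ 1) :
    Nat.card F = 5 ∨ Nat.card F = 7 := by
  obtain ⟨M, rfl⟩ := ProjGenLinGroup.mk_surjective j
  obtain ⟨R, rfl⟩ := ProjGenLinGroup.mk_surjective r
  by_cases h2 : (2 : F) = 0
  · exact absurd (Wong3PGL33.sq_of_commute h2 hj hr) hr2
  obtain ⟨hcard, -⟩ := Wong3PGL33.centralizer_two h2 hj
  omega

theorem pgl_five (h5 : Nat.card F = 5) : Nonempty (ProjGenLinGroup (Fin 2) F ≃* Equiv.Perm (Fin 5)) := by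
  haveI : Finite (ProjGenLinGroup (Fin 2) F) := Finite.of_surjective ProjGenLinGroup.mk ProjGenLinGroup.mk_surjective
  set T := ProjectiveSpecialLinearGroup.toPGL (n := Fin 2) (R := F) with hT
  have hinj : Function.Injective T := ProjectiveSpecialLinearGroup.toPGL_injective
  have hP : Nat.card (ProjGenLinGroup (Fin 2) F) = 120 := by rw [PSLCard.card_PGL2, h5]; norm_num
  have hK : Nat.card T.range = 60 := by
    rw [← Nat.card_congr (MonoidHom.ofInjective hinj).toEquiv, PSLCard.card_PSL2_odd (by rw [h5]; decide), h5]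
    norm_num
  have hidx : T.range.index = 2 := by
    have := T.range.card_mul_index
    rw [hK, hP] at this
    omega
  haveI : T.range.Normal := normal_of_index_eq_two hidx
  haveI : IsSimpleGroup T.range := by
    obtain ⟨p, hp⟩ := CharP.exists F
    haveI : Fact p.Prime := ⟨CharP.char_is_prime F p⟩
    haveI := DicksonMaximal.simple (F := F) p (by omega)
    haveI : Nontrivial T.range := Finite.one_lt_card_iff_nontrivial.1 (by rw [hK]; norm_num)
    exact IsSimpleGroup.isSimpleGroup_of_surjective (MonoidHom.ofInjective hinj).toMonoidHom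
      (MonoidHom.ofInjective hinj).surjective
  obtain ⟨f, hf⟩ := DegGraphSmall81.exists_perm_hom T.range hK
  have hker : f.ker = ⊥ := by
    rw [hf, Subgroup.eq_bot_iff_forall]
    intro z hz
    by_contra hz1
    have hnot : ∀ y ∈ centralizer (T.range : Set (ProjGenLinGroup (Fin 2) F)), y ∈ T.range → y = 1 := by
      intro y hy hyK
      have hcen : (⟨y, hyK⟩ : T.range) ∈ center T.range := mem_center_iff.2 fun w =>
        Subtype.ext (mem_centralizer_iff.1 hy w w.2)
      rcases (inferInstance : (center T.range).Normal).eq_bot_or_eq_top with e | e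
      · rw [e, mem_bot] at hcen; exact congrArg Subtype.val hcen
      · exfalso
        have hc : ∀ a b : T.range, a * b = b * a := fun a b => (mem_center_iff.1 (e ▸ mem_top a) b).symm
        letI : CommGroup T.range := { (inferInstance : Group T.range) with mul_comm := hc }
        have := IsSimpleGroup.prime_card (α := T.range)
        rw [hK] at this
        norm_num at this
    have hzK : z ∉ T.range := fun h => hz1 (hnot z hz h)
    have hz2 : z * z = 1 := hnot _ (mul_mem hz hz) (by rw [mul_mem_iff_of_index_two hidx])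
    have hall : ∀ g, Commute g z := by
      intro g
      by_cases hg : g ∈ T.range
      · exact mem_centralizer_iff.1 hz g hg
      · have h1 : g * z ∈ T.range := by rw [mul_mem_iff_of_index_two hidx]; tauto
        have := mem_centralizer_iff.1 hz _ h1
        exact mul_right_cancel (this.trans (by rw [mul_assoc]))
    obtain ⟨M, rfl⟩ := ProjGenLinGroup.mk_surjective z
    have h2 : (2 : F) ≠ 0 := fun h => by
      haveI := Fintype.ofFinite F
      have := FiniteField.even_card_iff_char_two (F := F)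
      have hc : ringChar F = 2 := CharP.ringChar_of_prime_eq_zero Nat.prime_two (by exact_mod_cast h)
      have h0 := this.1 hc
      rw [← Nat.card_eq_fintype_card, h5] at h0
      omega
    obtain ⟨hc, -⟩ := Wong3PGL33.centralizer_two h2 (orderOf_eq_prime (by rw [pow_two, hz2]) hz1)
    have htop : centralizer ({ProjGenLinGroup.mk M} : Set (ProjGenLinGroup (Fin 2) F)) = ⊤ :=
      eq_top_iff.2 fun g _ => mem_centralizer_singleton_iff.2 (hall g).eq
    rw [htop, card_top, hP, h5] at hc
    omega
  have hi : Function.Injective f := (MonoidHom.ker_eq_bot_iff f).1 hker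
  refine ⟨MulEquiv.ofBijective f ((Nat.bijective_iff_injective_and_card f).2 ⟨hi, ?_⟩)⟩
  rw [hP, Nat.card_perm, Nat.card_fin]; rfl

variable {G : Type u} {Ω : Type v} [Group G] [Finite G] [MulAction G Ω] [FaithfulSMul G Ω]
  [MulAction.IsPreprimitive G Ω] [Nontrivial Ω]

/-- A stabiliser that is dihedral of order twelve. -/
theorem twelve_case (hsol : ¬ Group.IsSolvable G) (a : Ω)
    (e : MulAction.stabilizer G a ≃* DihedralGroup 6) :
    Nonempty (G ≃* Equiv.Perm (Fin 5)) ∨ Nonempty (G ≃* GL (Fin 2) (ZMod 7) ⧸ Subgroup.center (GL (Fin 2) (ZMod 7))) ∨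
      Nonempty (G ≃* ProjectiveSpecialLinearGroup (Fin 2) (ZMod 11)) ∨
      Nonempty (G ≃* ProjectiveSpecialLinearGroup (Fin 2) (ZMod 13)) := by
  set H := MulAction.stabilizer G a with hH
  let ι : DihedralGroup 6 →* G := H.subtype.comp e.symm.toMonoidHom
  have hι : Function.Injective ι := H.subtype_injective.comp e.symm.injective
  have hιH : ∀ d, ι d ∈ H := fun d => (e.symm d).2
  have hsurj : ∀ h ∈ H, ∃ d, ι d = h := fun h hh => ⟨e ⟨h, hh⟩, by simp [ι]⟩
  let A : Subgroup G := (zpowers (DihedralGroup.r (1 : ZMod 6))).map ι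
  have key1 : ∀ d : DihedralGroup 6, d * d = 1 ∨ ∃ k : Fin 6, DihedralGroup.r (1 : ZMod 6) ^ (k : ℕ) = d := by
    decide +kernel
  have key2 : ∀ d : DihedralGroup 6, (∀ h, h * d = d * h) → d = 1 ∨ d = DihedralGroup.r 3 := by decide +kernel
  have hAH : A < H := by
    refine lt_of_le_of_ne (fun y hy => ?_) fun eA => ?_
    · obtain ⟨d, -, rfl⟩ := hy; exact hιH d
    · have h1 : Nat.card A = 6 := by
        rw [← Nat.card_congr (equivMapOfInjective _ ι hι).toEquiv, Nat.card_zpowers, DihedralGroup.orderOf_r_one]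
      rw [eA, Nat.card_congr e.toEquiv, DihedralGroup.nat_card] at h1
      omega
  have hD : ∀ y ∈ H, y ∉ A → y ^ 2 = 1 := by
    intro y hy hyA
    obtain ⟨d, rfl⟩ := hsurj y hy
    rcases key1 d with h | ⟨k, hk⟩
    · rw [pow_two, ← map_mul, h, map_one]
    · exact absurd ⟨d, ⟨(k : ℕ), by simpa using hk⟩, rfl⟩ hyA
  have h12 : Nat.card H = 12 := by rw [Nat.card_congr e.toEquiv, DihedralGroup.nat_card]
  have hco := MulAction.IsPreprimitive.isCoatom_stabilizer_of_isPreprimitive (G := G) a
  have hcen : ∀ j ∈ H, orderOf j = 2 → (∀ h ∈ H, h * j = j * h) → centralizer ({j} : Set G) = H := by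
    intro j hjH hj hjc
    refine (hco.le_iff.1 fun h hh => mem_centralizer_singleton_iff.2 (hjc h hh)).resolve_left fun et => ?_
    haveI : (zpowers j).Normal := ⟨fun y hy g => by
      obtain ⟨k, rfl⟩ := mem_zpowers_iff.1 hy
      have hg : Commute g j := mem_centralizer_singleton_iff.1 (et ▸ mem_top g)
      rw [(hg.zpow_right k).eq, mul_inv_cancel_right]
      exact zpow_mem (mem_zpowers j) k⟩
    have := normal_le_stabilizer (Ω := Ω) a (N := zpowers j) (zpowers_le.2 hjH)
    rw [zpowers_eq_bot] at this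
    simp [this] at hj
  obtain ⟨N, hN, -, F, _, _, h3, hiso⟩ := Cfsg.Agent.S3322.result H A hAH hD (by rw [h12]; norm_num) hcen hsol
  have h4 : 4 ≤ Nat.card F := by rw [Nat.card_eq_fintype_card]; omega
  have hNb : N = ⊥ := by
    by_contra hb
    haveI := hN
    haveI : Group.IsSolvable H := by
      haveI : Group.IsSolvable (DihedralGroup 6) := by
        refine (Group.isSolvable_def _).2 ⟨2, ?_⟩
        have key : ∀ g k : DihedralGroup 6, ∃ i : ZMod 6, g * k * g⁻¹ * k⁻¹ = DihedralGroup.r i := by decide +kernel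
        have h1 : derivedSeries (DihedralGroup 6) 1 ≤ zpowers (DihedralGroup.r (1 : ZMod 6)) := by
          rw [derivedSeries_succ, derivedSeries_zero, commutator_le]
          intro g _ k _
          obtain ⟨i, hi⟩ := key g k
          rw [commutatorElement_def, hi]
          exact ⟨(i.val : ℕ), by simp [DihedralGroup.r_one_pow]⟩
        rw [eq_bot_iff, derivedSeries_succ, commutator_le]
        intro g hg k hk
        obtain ⟨m, rfl⟩ := mem_zpowers_iff.1 (h1 hg)
        obtain ⟨n, rfl⟩ := mem_zpowers_iff.1 (h1 hk)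
        rw [mem_bot, commutatorElement_eq_one_iff_mul_comm]
        exact zpow_mul_comm _ m n
      exact Group.isSolvable_of_isSolvable_injective (f := e.toMonoidHom) e.injective
    haveI := quotient_solvable a hb (by assumption)
    rcases hiso with ⟨⟨eq⟩⟩ | ⟨⟨eq⟩⟩
    · exact not_solvable_psl h4 (Group.isSolvable_of_surjective (f := eq.toMonoidHom) eq.surjective)
    · exact not_solvable_pgl h4 (Group.isSolvable_of_surjective (f := eq.toMonoidHom) eq.surjective)
  have e0 : G ≃* G ⧸ N := QuotientGroup.quotientBot.symm.trans (QuotientGroup.quotientMulEquivOfEq hNb.symm)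
  have hr3 : orderOf (ι (DihedralGroup.r 3)) = 2 := by
    rw [orderOf_injective ι hι]
    exact orderOf_eq_prime (by rw [pow_two]; decide +kernel) (by decide +kernel)
  have hjc : centralizer ({ι (DihedralGroup.r 3)} : Set G) = H := hcen _ (hιH _) hr3 fun h hh => by
    obtain ⟨d, rfl⟩ := hsurj h hh
    rw [← map_mul, ← map_mul, (show ∀ d : DihedralGroup 6, d * DihedralGroup.r 3 = DihedralGroup.r 3 * d by decide +kernel) d]
  have hrc : Commute (ι (DihedralGroup.r 1)) (ι (DihedralGroup.r 3)) :=
    Commute.map (show DihedralGroup.r 1 * DihedralGroup.r 3 = DihedralGroup.r 3 * DihedralGroup.r (1 : ZMod 6) by decide +kernel) ι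
  have hr1 : ι (DihedralGroup.r 1) * ι (DihedralGroup.r 1) ≠ 1 := by
    rw [← map_mul, ← map_one ι]
    exact fun h => (show DihedralGroup.r 1 * DihedralGroup.r 1 ≠ (1 : DihedralGroup 6) by decide +kernel) (hι h)
  have htr : ∀ {P : Type} [Group P] (eP : G ≃* P),
      orderOf (eP (ι (DihedralGroup.r 3))) = 2 ∧
      Nat.card (centralizer ({eP (ι (DihedralGroup.r 3))} : Set P)) = 12 ∧
      Commute (eP (ι (DihedralGroup.r 1))) (eP (ι (DihedralGroup.r 3))) ∧
      eP (ι (DihedralGroup.r 1)) * eP (ι (DihedralGroup.r 1)) ≠ 1 := by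
    intro P _ eP
    refine ⟨(orderOf_injective eP.toMonoidHom eP.injective _).trans hr3, ?_, hrc.map eP, ?_⟩
    · have he : (centralizer ({ι (DihedralGroup.r 3)} : Set G)).map eP.toMonoidHom =
          centralizer ({eP (ι (DihedralGroup.r 3))} : Set P) := by
        ext y
        rw [mem_map_equiv, mem_centralizer_singleton_iff, mem_centralizer_singleton_iff]
        constructor <;> intro h
        · simpa using congrArg eP h
        · exact eP.injective (by simpa using h)
      rw [← he, ← Nat.card_congr (equivMapOfInjective _ eP.toMonoidHom eP.injective).toEquiv, hjc, h12]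
    · rw [← map_mul, ← map_one eP]
      exact fun h => hr1 (eP.injective h)
  rcases hiso with ⟨⟨eq⟩⟩ | ⟨⟨eq⟩⟩
  · obtain ⟨a1, a2, a3, a4⟩ := htr (e0.trans eq)
    rcases card_of_centralizer a1 a2 a3 a4 with hF | hF
    · haveI : Fact (Nat.Prime 11) := ⟨by norm_num⟩
      exact Or.inr (Or.inr (Or.inl ⟨(e0.trans eq).trans (PSLCard.pslEquivOfCard (ι := Fin 2) (hF.trans (Nat.card_zmod 11).symm))⟩))
    · haveI : Fact (Nat.Prime 13) := ⟨by norm_num⟩
      exact Or.inr (Or.inr (Or.inr ⟨(e0.trans eq).trans (PSLCard.pslEquivOfCard (ι := Fin 2) (hF.trans (Nat.card_zmod 13).symm))⟩))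
  · obtain ⟨a1, a2, a3, a4⟩ := htr (e0.trans eq)
    rcases card_of_centralizer_pgl a1 a2 a3 a4 with hF | hF
    · obtain ⟨e5⟩ := pgl_five hF
      exact Or.inl ⟨(e0.trans eq).trans e5⟩
    · haveI : Fact (Nat.Prime 7) := ⟨by norm_num⟩
      exact Or.inr (Or.inl ⟨(e0.trans eq).trans (PSLCard.pglEquivOfCard (ι := Fin 2) (hF.trans (Nat.card_zmod 7).symm))⟩)

end Twelve

end Cfsg.Agent.Wong3Small33
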