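import Mathlib

/-!
Free-group words that are no laws: a degree ping-pong in matrix groups over polynomial rings.
-/

set_option autoImplicit false

namespace Cfsg.Agent.WordLaws

open Polynomial
open scoped Matrix

/-- An index not occurring in the reduced word of `w`. -/
def fresh (w : FreeGroup ℕ) : ℕ := (w.toWord.map Prod.fst).sum + 1

theorem fst_lt_fresh (w : FreeGroup ℕ) {x : ℕ × Bool} (hx : x ∈ w.toWord) : x.1 < fresh w := by
  have := List.single_le_sum (l := w.toWord.map Prod.fst) (fun _ _ => Nat.zero_le _) _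
    (List.mem_map_of_mem (f := Prod.fst) hx)
  unfold fresh
  omega

/-- A word trivial at every substitution at which `w` is central. -/
def ext (w : FreeGroup ℕ) : FreeGroup ℕ :=
  FreeGroup.of (fresh w) * w * FreeGroup.of (fresh w) * w⁻¹ * (FreeGroup.of (fresh w))⁻¹ *
    (FreeGroup.of (fresh w))⁻¹

/-- The letters of `ext w`. -/
def extList (w : FreeGroup ℕ) : List (ℕ × Bool) :=
  ((fresh w, true) :: w.toWord) ++ ((fresh w, true) :: w⁻¹.toWord) ++
    [(fresh w, false), (fresh w, false)]

theorem ext_eq_mk (w : FreeGroup ℕ) : ext w = FreeGroup.mk (extList w) := by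
  have h : ∀ (x : ℕ × Bool) (l : List (ℕ × Bool)),
      FreeGroup.mk (x :: l) = FreeGroup.mk [x] * FreeGroup.mk l := by
    intro x l; rw [FreeGroup.mul_mk]; rfl
  unfold ext extList
  rw [← FreeGroup.mul_mk, ← FreeGroup.mul_mk, h _ w.toWord, h _ w⁻¹.toWord, FreeGroup.mk_toWord,
    FreeGroup.mk_toWord, FreeGroup.of, FreeGroup.inv_mk]
  simp only [FreeGroup.invRev, List.map_cons, List.map_nil, List.reverse_cons, List.reverse_nil,
    List.nil_append, Bool.not_true]
  rw [h (fresh w, false) [(fresh w, false)]]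
  group

theorem invRev_fst {l : List (ℕ × Bool)} {x : ℕ × Bool} (hx : x ∈ FreeGroup.invRev l) :
    ∃ y ∈ l, y.1 = x.1 := by
  simp only [FreeGroup.invRev, List.mem_reverse, List.mem_map] at hx
  obtain ⟨a, ha, rfl⟩ := hx
  exact ⟨a, ha, rfl⟩

theorem isReduced_extList (w : FreeGroup ℕ) (hw : w ≠ 1) : FreeGroup.IsReduced (extList w) := by
  have h1 : w.toWord ≠ [] := by
    intro h; apply hw; rw [← FreeGroup.mk_toWord (x := w), h]; rfl
  have hw' : w⁻¹ ≠ 1 := inv_ne_one.2 hw
  have h2 : w⁻¹.toWord ≠ [] := by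
    intro h; apply hw'; rw [← FreeGroup.mk_toWord (x := w⁻¹), h]; rfl
  have hy1 : ∀ x ∈ w.toWord, x.1 ≠ fresh w := fun x hx => (fst_lt_fresh w hx).ne
  have hy2 : ∀ x ∈ w⁻¹.toWord, x.1 ≠ fresh w := by
    intro x hx
    rw [FreeGroup.toWord_inv] at hx
    obtain ⟨y, hy, hxy⟩ := invRev_fst hx
    rw [← hxy]; exact hy1 y hy
  have r1 : List.IsChain (fun a b : ℕ × Bool => a.1 = b.1 → a.2 = b.2) w.toWord :=
    FreeGroup.isReduced_toWord
  have r2 : List.IsChain (fun a b : ℕ × Bool => a.1 = b.1 → a.2 = b.2) w⁻¹.toWord :=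
    FreeGroup.isReduced_toWord
  show List.IsChain (fun a b : ℕ × Bool => a.1 = b.1 → a.2 = b.2) (extList w)
  unfold extList
  rw [List.append_assoc]
  refine List.IsChain.append (List.IsChain.cons r1 ?_) ?_ ?_
  · intro b hb h; exact absurd h.symm (hy1 b (List.mem_of_mem_head? hb))
  · refine List.IsChain.append (List.IsChain.cons r2 ?_) ?_ ?_
    · intro b hb h; exact absurd h.symm (hy2 b (List.mem_of_mem_head? hb))
    · simp
    · intro a ha b hb h
      have ha' : a ∈ w⁻¹.toWord := by
        obtain ⟨c, hc⟩ := Option.ne_none_iff_exists'.1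
          (by simpa [List.getLast?_eq_none_iff] using h2 : w⁻¹.toWord.getLast? ≠ none)
        rw [List.getLast?_cons, hc] at ha
        simp at ha
        rw [← ha]; exact List.mem_of_getLast? hc
      have hb' : b.1 = fresh w := by simp at hb; rw [← hb]
      exact absurd (h.trans hb') (hy2 a ha')
  · intro a ha b hb h
    have ha' : a ∈ w.toWord := by
      obtain ⟨c, hc⟩ := Option.ne_none_iff_exists'.1
        (by simpa [List.getLast?_eq_none_iff] using h1 : w.toWord.getLast? ≠ none)
      rw [List.getLast?_cons, hc] at ha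
      simp at ha
      rw [← ha]; exact List.mem_of_getLast? hc
    have hb' : b.1 = fresh w := by simp at hb; rw [← hb]
    exact absurd (h.trans hb') (hy1 a ha')

theorem extList_le (w : FreeGroup ℕ) {x : ℕ × Bool} (hx : x ∈ extList w) : x.1 ≤ fresh w := by
  simp only [extList, List.mem_append, List.mem_cons, List.not_mem_nil, or_false] at hx
  rcases hx with ((rfl | h) | (rfl | h)) | (rfl | rfl) <;> try exact le_rfl
  · exact (fst_lt_fresh w h).le
  · rw [FreeGroup.toWord_inv] at h
    obtain ⟨y, hy, hxy⟩ := invRev_fst h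
    rw [← hxy]; exact (fst_lt_fresh w hy).le

/-- If `w` takes a central value, `ext w` takes the value one. -/
theorem lift_ext_eq_one {H : Type*} [Group H] (f : ℕ → H) (w : FreeGroup ℕ)
    (h : FreeGroup.lift f w ∈ Subgroup.center H) : FreeGroup.lift f (ext w) = 1 := by
  have hc := Subgroup.mem_center_iff.1 h (f (fresh w))
  simp only [ext, map_mul, map_inv, FreeGroup.lift_apply_of]
  rw [hc, mul_assoc (FreeGroup.lift f w) (f (fresh w)) (f (fresh w)),
    ← Subgroup.mem_center_iff.1 h (f (fresh w) * f (fresh w))]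
  group

theorem map_lift {G H : Type*} [Group G] [Group H] (φ : G →* H) (f : ℕ → G) (w : FreeGroup ℕ) :
    φ (FreeGroup.lift f w) = FreeGroup.lift (fun i => φ (f i)) w := by
  have h : φ.comp (FreeGroup.lift f) = FreeGroup.lift (fun i => φ (f i)) := by
    ext i; simp
  exact DFunLike.congr_fun h w

section PingPong

variable {G X : Type*} [Group G] (act : G → X → X) (a b : ℕ → G) (A B : Set X)

/-- The value of a letter. -/
def letter (x : ℕ × Bool) : G := cond x.2 (a x.1 * b x.1) (a x.1 * b x.1)⁻¹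

theorem pingpong_aux (act_mul : ∀ g h x, act (g * h) x = act g (act h x))
    (ha : ∀ i, ∀ x ∈ B, act (a i) x ∈ A) (ha' : ∀ i, ∀ x ∈ B, act (a i)⁻¹ x ∈ A)
    (ha'' : ∀ i j, i ≠ j → ∀ x ∈ B, act ((a i)⁻¹ * a j) x ∈ A)
    (hb : ∀ i, ∀ x ∈ A, act (b i) x ∈ B) (hb' : ∀ i, ∀ x ∈ A, act (b i)⁻¹ x ∈ B)
    (hb'' : ∀ i j, i ≠ j → ∀ x ∈ A, act (b i * (b j)⁻¹) x ∈ B)
    (x₀ : X) (hx₀ : x₀ ∈ B) :
    ∀ (l : List (ℕ × Bool)) (hd : ℕ × Bool), FreeGroup.IsReduced (hd :: l) →
      ((hd :: l).getLast (by simp)).2 = false →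
      ∃ m : G, ((hd :: l).map (letter a b)).prod = (cond hd.2 (a hd.1) (b hd.1)⁻¹) * m ∧
        act m x₀ ∈ cond hd.2 B A := by
  intro l
  induction l with
  | nil =>
    rintro ⟨i, s⟩ _ hl
    simp at hl
    subst hl
    exact ⟨(a i)⁻¹, by simp [letter], ha' i x₀ hx₀⟩
  | cons nx l ih =>
    rintro ⟨i, s⟩ hr hl
    obtain ⟨hij, hr'⟩ := FreeGroup.isReduced_cons_cons.1 hr
    obtain ⟨m, hm, hm'⟩ := ih nx hr' (by simpa using hl)
    obtain ⟨j, t⟩ := nx
    rw [List.map_cons, List.prod_cons, hm]
    cases s <;> cases t <;> simp only [letter, cond_false, cond_true, mul_inv_rev] at hm' ⊢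
    · exact ⟨(a i)⁻¹ * ((b j)⁻¹ * m), by group, by
        rw [act_mul, act_mul]; exact ha' i _ (hb' j _ hm')⟩
    · have hne : i ≠ j := fun h => by simpa using hij h
      exact ⟨((a i)⁻¹ * a j) * m, by group, by rw [act_mul]; exact ha'' i j hne _ hm'⟩
    · have hne : i ≠ j := fun h => by simpa using hij h
      exact ⟨(b i * (b j)⁻¹) * m, by group, by rw [act_mul]; exact hb'' i j hne _ hm'⟩
    · exact ⟨b i * (a j * m), by group, by rw [act_mul, act_mul]; exact hb i _ (ha j _ hm')⟩

end PingPong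

section Poly

variable {R : Type*} [CommRing R] [IsDomain R] {n : ℕ}

/-- The entry `(p, q)` strictly dominates all others in degree. -/
def Dom (M : Matrix (Fin n) (Fin n) R[X]) (p q : Fin n) : Prop :=
  ∀ i j, ¬ (i = p ∧ j = q) → (M i j).degree < (M p q).degree

/-- The coordinate `p` strictly dominates all others in degree. -/
def VDom (v : Fin n → R[X]) (p : Fin n) : Prop :=
  v p ≠ 0 ∧ ∀ i, i ≠ p → (v i).degree < (v p).degree

theorem Dom.mulVec {M : Matrix (Fin n) (Fin n) R[X]} {p q : Fin n} (hM : Dom M p q) (hne : M p q ≠ 0)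
    {v : Fin n → R[X]} (hv : VDom v q) : VDom (M *ᵥ v) p := by
  obtain ⟨hv0, hv⟩ := hv
  have hd : (v q).degree ≠ ⊥ := by simpa using hv0
  have hR : (M p q).degree ≠ ⊥ := by simpa using hne
  have hbot : ⊥ < (M p q).degree + (v q).degree := by
    rw [bot_lt_iff_ne_bot]
    simp [WithBot.add_eq_bot, hd, hR]
  have key : ∀ i j, ¬ (i = p ∧ j = q) →
      (M i j * v j).degree < (M p q).degree + (v q).degree := by
    intro i j h
    rw [degree_mul]
    have h1 : (v j).degree ≤ (v q).degree := by
      by_cases hj : j = q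
      · rw [hj]
      · exact (hv j hj).le
    calc (M i j).degree + (v j).degree ≤ (M i j).degree + (v q).degree := by gcongr
      _ < (M p q).degree + (v q).degree := WithBot.add_lt_add_right hd (hM i j h)
  have hp : ((M *ᵥ v) p).degree = (M p q).degree + (v q).degree := by
    rw [Matrix.mulVec, dotProduct, ← Finset.add_sum_erase _ _ (Finset.mem_univ q),
      degree_add_eq_left_of_degree_lt, degree_mul]
    rw [degree_mul]
    refine (degree_sum_le _ _).trans_lt ((Finset.sup_lt_iff hbot).2 fun j hj => key p j ?_)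
    rintro ⟨_, rfl⟩; simp at hj
  refine ⟨?_, fun i hi => ?_⟩
  · intro h; rw [h, degree_zero] at hp; exact hbot.ne hp
  · rw [hp]
    rw [Matrix.mulVec, dotProduct]
    exact (degree_sum_le _ _).trans_lt ((Finset.sup_lt_iff hbot).2 fun j _ => key i j (fun h => hi h.1))

/-- All entries have degree at most `C`. -/
def DegLE (M : Matrix (Fin n) (Fin n) R[X]) (C : ℕ) : Prop := ∀ i j, (M i j).natDegree ≤ C

theorem DegLE.mul {M N : Matrix (Fin n) (Fin n) R[X]} {C D : ℕ} (hM : DegLE M C) (hN : DegLE N D) :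
    DegLE (M * N) (C + D) := by
  intro i j
  rw [Matrix.mul_apply]
  refine natDegree_sum_le_of_forall_le _ _ fun k _ => ?_
  exact natDegree_mul_le.trans (add_le_add (hM i k) (hN k j))

theorem degLE_one : DegLE (1 : Matrix (Fin n) (Fin n) R[X]) 0 := by
  intro i j
  rw [Matrix.one_apply]
  split <;> simp

/-- Data for the degree ping-pong. -/
structure Setup {G : Type*} [Group G] (ρ : G →* Matrix (Fin n) (Fin n) R[X]) (a b : ℕ → G)
    (p q : Fin n) : Prop where
  ne : p ≠ q
  a_pos : ∀ i, Dom (ρ (a i)) p q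
  a_inv : ∀ i, Dom (ρ (a i)⁻¹) p q
  a_mix : ∀ i j, i ≠ j → Dom (ρ ((a i)⁻¹ * a j)) p q
  b_pos : ∀ i, Dom (ρ (b i)) q p
  b_inv : ∀ i, Dom (ρ (b i)⁻¹) q p
  b_mix : ∀ i j, i ≠ j → Dom (ρ (b i * (b j)⁻¹)) q p

theorem Dom.apply_ne_zero {M : Matrix (Fin n) (Fin n) R[X]} {p q : Fin n} (hM : Dom M p q)
    (hpq : p ≠ q) : M p q ≠ 0 := by
  intro h
  have := hM p p (fun h' => hpq h'.2)
  simp [h] at this

/-- The ping-pong: a nonzero off-diagonal entry of bounded degree. -/
theorem exists_entry {G : Type*} [Group G] (ρ : G →* Matrix (Fin n) (Fin n) R[X]) (a b : ℕ → G)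
    (p q : Fin n) (S : Setup ρ a b p q) (w : FreeGroup ℕ) (hw : w ≠ 1) (C : ℕ)
    (hC : ∀ i ≤ fresh w, DegLE (ρ (a i)) C ∧ DegLE (ρ (a i)⁻¹) C ∧ DegLE (ρ (b i)) C ∧
      DegLE (ρ (b i)⁻¹) C) :
    ρ (FreeGroup.lift (fun i => a i * b i) (ext w)) p q ≠ 0 ∧
      (ρ (FreeGroup.lift (fun i => a i * b i) (ext w)) p q).natDegree ≤
        (extList w).length * (2 * C) := by
  rw [ext_eq_mk, FreeGroup.lift_mk]
  change ρ ((extList w).map (letter a b)).prod p q ≠ 0 ∧
    (ρ ((extList w).map (letter a b)).prod p q).natDegree ≤ _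
  constructor
  · have hpq := S.ne
    let act : G → (Fin n → R[X]) → (Fin n → R[X]) := fun g v => ρ g *ᵥ v
    have am : ∀ g h x, act (g * h) x = act g (act h x) := by
      intro g h x; simp only [act, map_mul, Matrix.mulVec_mulVec]
    have mk : ∀ g {r s : Fin n}, r ≠ s → Dom (ρ g) r s →
        ∀ x ∈ {v | VDom v s}, act g x ∈ {v | VDom v r} :=
      fun g r s h hD x hx => hD.mulVec (hD.apply_ne_zero h) hx
    have hx0 : VDom (Pi.single q (1 : R[X]) : Fin n → R[X]) q := by
      refine ⟨by simp, fun i hi => ?_⟩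
      simp [hi]
    obtain ⟨m, hm, hm'⟩ := pingpong_aux act a b {v | VDom v p} {v | VDom v q} am
      (fun i => mk _ hpq (S.a_pos i)) (fun i => mk _ hpq (S.a_inv i))
      (fun i j h => mk _ hpq (S.a_mix i j h))
      (fun i => mk _ hpq.symm (S.b_pos i)) (fun i => mk _ hpq.symm (S.b_inv i))
      (fun i j h => mk _ hpq.symm (S.b_mix i j h))
      _ hx0 (w.toWord ++ ((fresh w, true) :: w⁻¹.toWord) ++ [(fresh w, false), (fresh w, false)])
      (fresh w, true) (isReduced_extList w hw) (by
        rw [List.getLast_cons (by simp), List.getLast_append_of_ne_nil _ (by simp)]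
        rfl)
    change ((extList w).map (letter a b)).prod = _ at hm
    simp only [cond_true, Set.mem_setOf_eq] at hm' hm
    have := mk _ hpq (S.a_pos (fresh w)) _ hm'
    rw [← am, ← hm] at this
    have h2 := this.1
    simp only [act, Matrix.mulVec_single_one] at h2
    exact h2
  · have key : ∀ l : List (ℕ × Bool), (∀ x ∈ l, x.1 ≤ fresh w) →
        DegLE (ρ (l.map (letter a b)).prod) (l.length * (2 * C)) := by
      intro l hl
      induction l with
      | nil => simpa using degLE_one
      | cons x l ih =>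
        rw [List.map_cons, List.prod_cons, map_mul]
        obtain ⟨h1, h2, h3, h4⟩ := hC x.1 (hl x (by simp))
        have hx : DegLE (ρ (letter a b x)) (2 * C) := by
          rw [two_mul]
          obtain ⟨i, s⟩ := x
          cases s
          · simp only [letter, cond_false, mul_inv_rev, map_mul]; exact h4.mul h2
          · simp only [letter, cond_true, map_mul]; exact h1.mul h3
        have := hx.mul (ih fun y hy => hl y (List.mem_cons_of_mem _ hy))
        refine fun i j => (this i j).trans ?_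
        simp [List.length_cons]; ring_nf; exact le_rfl
    exact key _ (fun x hx => extList_le w hx) p q

/-- A nonzero polynomial of degree less than the number of elements does not vanish identically. -/
theorem exists_eval_ne_zero {F : Type*} [Field F] [Fintype F] (P : F[X]) (hP : P ≠ 0)
    (hd : P.natDegree < Fintype.card F) : ∃ x : F, P.eval x ≠ 0 := by
  by_contra h
  push Not at h
  exact hP (Polynomial.eq_zero_of_natDegree_lt_card_of_eval_eq_zero P
    Function.injective_id h hd)

end Poly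

end Cfsg.Agent.WordLaws
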