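import Mathlib
import Cfsg.Agent.Lib.WordLaws

/-!
Substitutions showing that a nontrivial word is no law of large `SL₂(F)` and alternating groups.
-/

set_option autoImplicit false

namespace Cfsg.Agent.WordLawsSL2

open Polynomial Cfsg.Agent.WordLaws
open scoped Matrix commutatorElement

variable {R : Type*} [CommRing R]

/-- Upper transvection. -/
def up (f : R) : Matrix.SpecialLinearGroup (Fin 2) R :=
  ⟨!![1, f; 0, 1], by simp [Matrix.det_fin_two]⟩

/-- Lower transvection. -/
def low (f : R) : Matrix.SpecialLinearGroup (Fin 2) R :=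
  ⟨!![1, 0; f, 1], by simp [Matrix.det_fin_two]⟩

theorem up_mul (f g : R) : up f * up g = up (f + g) := by
  apply Subtype.ext
  show (!![1, f; 0, 1] : Matrix (Fin 2) (Fin 2) R) * !![1, g; 0, 1] = !![1, (f + g); 0, 1]
  simp [Matrix.mul_fin_two, add_comm]

theorem low_mul (f g : R) : low f * low g = low (f + g) := by
  apply Subtype.ext
  show (!![1, 0; f, 1] : Matrix (Fin 2) (Fin 2) R) * !![1, 0; g, 1] = !![1, 0; (f + g), 1]
  simp [Matrix.mul_fin_two, add_comm]

theorem up_zero : up (0 : R) = 1 := by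
  apply Subtype.ext
  ext i j; fin_cases i <;> fin_cases j <;> simp [up]

theorem low_zero : low (0 : R) = 1 := by
  apply Subtype.ext
  ext i j; fin_cases i <;> fin_cases j <;> simp [low]

theorem up_inv (f : R) : (up f)⁻¹ = up (-f) := by
  rw [inv_eq_iff_mul_eq_one, up_mul, add_neg_cancel, up_zero]

theorem low_inv (f : R) : (low f)⁻¹ = low (-f) := by
  rw [inv_eq_iff_mul_eq_one, low_mul, add_neg_cancel, low_zero]

theorem map_up {S : Type*} [CommRing S] (φ : R →+* S) (f : R) :
    Matrix.SpecialLinearGroup.map φ (up f) = up (φ f) := by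
  apply Subtype.ext
  show (!![1, f; 0, 1] : Matrix (Fin 2) (Fin 2) R).map φ = !![1, (φ f); 0, 1]
  ext i j; fin_cases i <;> fin_cases j <;> simp

theorem map_low {S : Type*} [CommRing S] (φ : R →+* S) (f : R) :
    Matrix.SpecialLinearGroup.map φ (low f) = low (φ f) := by
  apply Subtype.ext
  show (!![1, 0; f, 1] : Matrix (Fin 2) (Fin 2) R).map φ = !![1, 0; (φ f), 1]
  ext i j; fin_cases i <;> fin_cases j <;> simp

/-- The diagonal element `diag(c, c⁻¹)`. -/
def dia {K : Type*} [Field K] (c : K) (hc : c ≠ 0) : Matrix.SpecialLinearGroup (Fin 2) K :=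
  ⟨!![c, 0; 0, c⁻¹], by simp [Matrix.det_fin_two, hc]⟩

theorem exists_sq_ne_one {K : Type*} [Field K] [Fintype K] (h : 4 ≤ Fintype.card K) :
    ∃ c : K, c ≠ 0 ∧ c ^ 2 ≠ 1 := by
  classical
  have : (Finset.univ \ ({0, 1, -1} : Finset K)).Nonempty := by
    rw [← Finset.card_pos]
    have h3 : ({0, 1, -1} : Finset K).card ≤ 3 := Finset.card_le_three
    have := Finset.le_card_sdiff ({0, 1, -1} : Finset K) Finset.univ
    rw [Finset.card_univ] at this
    omega
  obtain ⟨c, hc⟩ := this
  simp at hc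
  exact ⟨c, hc.1, by simp [sq_eq_one_iff, hc.2.1, hc.2.2]⟩

theorem up_mem_commutator {K : Type*} [Field K] [Fintype K] (h : 4 ≤ Fintype.card K) (f : K) :
    up f ∈ commutator (Matrix.SpecialLinearGroup (Fin 2) K) := by
  obtain ⟨c, hc, hc2⟩ := exists_sq_ne_one h
  have hne : c ^ 2 - 1 ≠ 0 := sub_ne_zero.2 hc2
  have key : dia c hc * up (f / (c ^ 2 - 1)) = up (c ^ 2 * (f / (c ^ 2 - 1))) * dia c hc := by
    apply Subtype.ext
    show (!![c, 0; 0, c⁻¹] : Matrix (Fin 2) (Fin 2) K) * !![1, f / (c ^ 2 - 1); 0, 1] = !![1, c ^ 2 * (f / (c ^ 2 - 1)); 0, 1] * !![c, 0; 0, c⁻¹]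
    simp [Matrix.mul_fin_two]
    field_simp
  have : ⁅dia c hc, up (f / (c ^ 2 - 1))⁆ = up f := by
    rw [commutatorElement_def, key, mul_assoc, mul_assoc, mul_inv_cancel_left, up_inv, up_mul]
    congr 1
    field_simp
    ring
  rw [← this, commutator_def]
  exact Subgroup.commutator_mem_commutator (Subgroup.mem_top _) (Subgroup.mem_top _)

theorem low_mem_commutator {K : Type*} [Field K] [Fintype K] (h : 4 ≤ Fintype.card K) (f : K) :
    low f ∈ commutator (Matrix.SpecialLinearGroup (Fin 2) K) := by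
  obtain ⟨c, hc, hc2⟩ := exists_sq_ne_one h
  have hne : c ^ 2 - 1 ≠ 0 := sub_ne_zero.2 hc2
  have key : dia c⁻¹ (inv_ne_zero hc) * low (f / (c ^ 2 - 1)) =
      low (c ^ 2 * (f / (c ^ 2 - 1))) * dia c⁻¹ (inv_ne_zero hc) := by
    apply Subtype.ext
    show (!![c⁻¹, 0; 0, c⁻¹⁻¹] : Matrix (Fin 2) (Fin 2) K) * !![1, 0; f / (c ^ 2 - 1), 1] = !![1, 0; c ^ 2 * (f / (c ^ 2 - 1)), 1] * !![c⁻¹, 0; 0, c⁻¹⁻¹]
    simp [Matrix.mul_fin_two]
    field_simp
  have : ⁅dia c⁻¹ (inv_ne_zero hc), low (f / (c ^ 2 - 1))⁆ = low f := by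
    rw [commutatorElement_def, key, mul_assoc, mul_assoc, mul_inv_cancel_left, low_inv, low_mul]
    congr 1
    field_simp
    ring
  rw [← this, commutator_def]
  exact Subgroup.commutator_mem_commutator (Subgroup.mem_top _) (Subgroup.mem_top _)

section Poly

variable (K : Type*) [Field K]

/-- The coercion to matrices. -/
noncomputable def toMat : Matrix.SpecialLinearGroup (Fin 2) K[X] →* Matrix (Fin 2) (Fin 2) K[X] where
  toFun g := g.1
  map_one' := rfl
  map_mul' _ _ := rfl

theorem toMat_up (f : K[X]) : toMat K (up f) = !![1, f; 0, 1] := rfl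

theorem toMat_low (f : K[X]) : toMat K (low f) = !![1, 0; f, 1] := rfl

theorem dom_up {f : K[X]} (hf : 0 < f.degree) : Dom (toMat K (up f)) 0 1 := by
  intro i j h
  rw [toMat_up]
  fin_cases i <;> fin_cases j <;> simp at h ⊢ <;>
    first | exact hf | exact lt_of_le_of_lt bot_le hf

theorem dom_low {f : K[X]} (hf : 0 < f.degree) : Dom (toMat K (low f)) 1 0 := by
  intro i j h
  rw [toMat_low]
  fin_cases i <;> fin_cases j <;> simp at h ⊢ <;>
    first | exact hf | exact lt_of_le_of_lt bot_le hf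

theorem deg_up {f : K[X]} {C : ℕ} (hf : f.natDegree ≤ C) : DegLE (toMat K (up f)) C := by
  intro i j; rw [toMat_up]; fin_cases i <;> fin_cases j <;> simp [hf]

theorem deg_low {f : K[X]} {C : ℕ} (hf : f.natDegree ≤ C) : DegLE (toMat K (low f)) C := by
  intro i j; rw [toMat_low]; fin_cases i <;> fin_cases j <;> simp [hf]

theorem deg_mix {i j : ℕ} (h : i ≠ j) :
    0 < ((X : K[X]) ^ (i + 1) - X ^ (j + 1)).degree := by
  rcases Nat.lt_or_gt_of_ne h with h' | h'
  · rw [degree_sub_eq_right_of_degree_lt]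
    · rw [degree_X_pow]; exact_mod_cast Nat.succ_pos j
    · rw [degree_X_pow, degree_X_pow]; exact_mod_cast Nat.succ_lt_succ h'
  · rw [degree_sub_eq_left_of_degree_lt]
    · rw [degree_X_pow]; exact_mod_cast Nat.succ_pos i
    · rw [degree_X_pow, degree_X_pow]; exact_mod_cast Nat.succ_lt_succ h'

theorem deg_pow (i : ℕ) : 0 < ((X : K[X]) ^ (i + 1)).degree := by
  rw [degree_X_pow]; exact_mod_cast Nat.succ_pos i

theorem setup : Setup (toMat K) (fun i => up ((X : K[X]) ^ (i + 1)))
    (fun i => low ((X : K[X]) ^ (i + 1))) 0 1 where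
  ne := by decide
  a_pos i := dom_up K (deg_pow K i)
  a_inv i := by rw [up_inv]; exact dom_up K (by rw [degree_neg]; exact deg_pow K i)
  a_mix i j h := by
    rw [up_inv, up_mul, neg_add_eq_sub]; exact dom_up K (deg_mix K h.symm)
  b_pos i := dom_low K (deg_pow K i)
  b_inv i := by rw [low_inv]; exact dom_low K (by rw [degree_neg]; exact deg_pow K i)
  b_mix i j h := by
    rw [low_inv, low_mul, ← sub_eq_add_neg]; exact dom_low K (deg_mix K h)

end Poly

/-- Over every large finite field some substitution of transvection products is no root of `ext w`. -/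
theorem sl2_nonlaw (w : FreeGroup ℕ) (hw : w ≠ 1) :
    ∃ N : ℕ, ∀ (K : Type*) [Field K] [Fintype K], N ≤ Fintype.card K →
      ∃ f : ℕ → Matrix.SpecialLinearGroup (Fin 2) K,
        (∀ i, f i ∈ commutator (Matrix.SpecialLinearGroup (Fin 2) K)) ∧
        FreeGroup.lift f (ext w) ≠ 1 := by
  refine ⟨(extList w).length * (2 * (fresh w + 1)) + 4, fun K _ _ hK => ?_⟩
  have hC : ∀ i ≤ fresh w,
      DegLE (toMat K (up (X ^ (i + 1)))) (fresh w + 1) ∧
      DegLE (toMat K (up (X ^ (i + 1)))⁻¹) (fresh w + 1) ∧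
      DegLE (toMat K (low (X ^ (i + 1)))) (fresh w + 1) ∧
      DegLE (toMat K (low (X ^ (i + 1)))⁻¹) (fresh w + 1) := by
    intro i hi
    rw [up_inv, low_inv]
    refine ⟨deg_up K ?_, deg_up K ?_, deg_low K ?_, deg_low K ?_⟩ <;> simp <;> omega
  obtain ⟨hne, hdeg⟩ := exists_entry (toMat K) _ _ 0 1 (setup K) w hw (fresh w + 1) hC
  obtain ⟨x, hx⟩ := exists_eval_ne_zero _ hne (by omega)
  refine ⟨fun i => Matrix.SpecialLinearGroup.map (evalRingHom x)
    (up (X ^ (i + 1)) * low (X ^ (i + 1))), fun i => ?_, fun h => hx ?_⟩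
  · simp only [map_mul, map_up, map_low]
    exact mul_mem (up_mem_commutator (by omega) _) (low_mem_commutator (by omega) _)
  · rw [← map_lift] at h
    have := congrFun (congrFun (congrArg (fun g : Matrix.SpecialLinearGroup (Fin 2) K =>
      (g : Matrix (Fin 2) (Fin 2) K)) h) 0) 1
    simpa [toMat] using this

/-- A word trivial modulo the centre kills `ext w` in every group mapped in injectively. -/
theorem not_mem_center_of_injective {K H : Type*} [Group K] [Group H] (φ : K →* H)
    (hφ : Function.Injective φ) (f : ℕ → K) (w : FreeGroup ℕ)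
    (h : FreeGroup.lift f (ext w) ≠ 1) :
    FreeGroup.lift (fun i => φ (f i)) w ∉ Subgroup.center H := by
  intro hc
  have := lift_ext_eq_one _ w hc
  rw [← map_lift] at this
  exact h (hφ (by rw [this, map_one]))

/-- Embedding `Perm K` into a large alternating group. -/
theorem exists_perm_hom_alternating (K : Type) [Fintype K] [DecidableEq K] (n : ℕ)
    (hn : 2 * Fintype.card K ≤ n) :
    ∃ φ : Equiv.Perm K →* alternatingGroup (Fin n), Function.Injective φ := by
  classical
  obtain ⟨e⟩ : Nonempty ((K ⊕ K) ↪ Fin n) :=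
    Function.Embedding.nonempty_of_card_le (by simp; omega)
  let d : Equiv.Perm K →* Equiv.Perm (K ⊕ K) :=
    (Equiv.Perm.sumCongrHom K K).comp ((MonoidHom.id _).prod (MonoidHom.id _))
  let g : Equiv.Perm K →* Equiv.Perm (Fin n) :=
    (Equiv.Perm.extendDomainHom (Equiv.ofInjective e e.injective)).comp d
  have hs : ∀ σ, g σ ∈ alternatingGroup (Fin n) := by
    intro σ
    rw [Equiv.Perm.mem_alternatingGroup]
    simp [g, d, Equiv.Perm.extendDomainHom_apply, Equiv.Perm.sign_extendDomain,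
      Equiv.Perm.sign_sumCongr, Int.units_mul_self]
  refine ⟨g.codRestrict _ hs, ?_⟩
  intro σ τ h
  have h' : d σ = d τ :=
    Equiv.Perm.extendDomainHom_injective (Equiv.ofInjective e e.injective)
      (congrArg Subtype.val h)
  have := Equiv.Perm.sumCongrHom_injective h'
  exact (Prod.mk.inj this).1

/-- Homomorphisms map commutator subgroups into commutator subgroups. -/
theorem map_mem_commutator {K H : Type*} [Group K] [Group H] (φ : K →* H) {x : K}
    (hx : x ∈ commutator K) : φ x ∈ commutator H := by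
  rw [commutator_def] at hx ⊢
  have := Subgroup.mem_map_of_mem φ hx
  rw [Subgroup.map_commutator] at this
  exact Subgroup.commutator_mono le_top le_top this

/-- In every large alternating group some substitution is no root of `ext w`. -/
theorem alt_nonlaw (w : FreeGroup ℕ) (hw : w ≠ 1) :
    ∃ N : ℕ, ∀ n : ℕ, N ≤ n → ∃ f : ℕ → alternatingGroup (Fin n),
      (∀ i, f i ∈ commutator (alternatingGroup (Fin n))) ∧
      FreeGroup.lift f (ext w) ≠ 1 := by
  classical
  obtain ⟨N, hN⟩ := sl2_nonlaw.{0} w hw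
  obtain ⟨p, hp, hpp⟩ := Nat.exists_infinite_primes N
  have : Fact p.Prime := ⟨hpp⟩
  obtain ⟨f, hcm, hf⟩ := hN (ZMod p) (by rw [ZMod.card]; exact hp)
  refine ⟨2 * Fintype.card (Matrix.SpecialLinearGroup (Fin 2) (ZMod p)), fun n hn => ?_⟩
  obtain ⟨φ, hφ⟩ := exists_perm_hom_alternating (Matrix.SpecialLinearGroup (Fin 2) (ZMod p)) n hn
  refine ⟨fun i => φ (MulAction.toPermHom _ _ (f i)),
    fun i => map_mem_commutator φ (map_mem_commutator _ (hcm i)), fun h => hf ?_⟩
  let ψ := φ.comp (MulAction.toPermHom (Matrix.SpecialLinearGroup (Fin 2) (ZMod p))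
    (Matrix.SpecialLinearGroup (Fin 2) (ZMod p)))
  have hψ : Function.Injective ψ := hφ.comp MulAction.toPerm_injective
  apply hψ
  rw [map_lift ψ, map_one]
  exact h

end Cfsg.Agent.WordLawsSL2
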