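import Mathlib
import Cfsg.Agent.Lib.QDWreathWrLocal
import Cfsg.Agent.Lib.TwoFusionTools
import Cfsg.Agent.Lib.TransferAlperin
import Cfsg.Agent.Lib.QDFusion
import Cfsg.Agent.Lib.TransferPow

/-!
Fusion in a group with wreathed Sylow 2-subgroup.
-/

set_option autoImplicit false
set_option linter.unusedSectionVars false

namespace Cfsg.Agent.WrFusion

open Cfsg.Agent.QDWreathBase Cfsg.Agent.QDWreathWr Cfsg.Agent.QDWreathWrSub Cfsg.Agent.QDWreathWrAut
  Cfsg.Agent.QDWreathWrQZ Cfsg.Agent.QDWreathWrLocal Cfsg.Agent.TwoFusionTools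

/-- The index is invariant under conjugation. -/
theorem supC_index_conj {G : Type*} [Group G] (g : G) (H : Subgroup G) :
    (H.map (MulAut.conj g).toMonoidHom ⊔
        Subgroup.centralizer (H.map (MulAut.conj g).toMonoidHom : Set G)).relIndex
      (Subgroup.normalizer (H.map (MulAut.conj g).toMonoidHom : Set G)) =
      (H ⊔ Subgroup.centralizer (H : Set G)).relIndex (Subgroup.normalizer (H : Set G)) := by
  have hc : Subgroup.centralizer (H.map (MulAut.conj g).toMonoidHom : Set G) =
      (Subgroup.centralizer (H : Set G)).map (MulAut.conj g).toMonoidHom := by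
    apply le_antisymm
    · intro x hx
      refine ⟨g⁻¹ * x * g, Subgroup.mem_centralizer_iff.2 fun y hy => ?_, by simp [mul_assoc]⟩
      have h := Subgroup.mem_centralizer_iff.1 hx _ ⟨y, hy, rfl⟩
      simp only [MulEquiv.coe_toMonoidHom, MulAut.conj_apply] at h
      calc y * (g⁻¹ * x * g) = g⁻¹ * ((g * y * g⁻¹) * x) * g := by group
        _ = g⁻¹ * (x * (g * y * g⁻¹)) * g := by rw [h]
        _ = g⁻¹ * x * g * y := by group
    · exact TransferAlperin.cj_centralizer_le g H
  rw [hc, ← Subgroup.map_sup, ← Subgroup.map_equiv_normalizer_eq,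
    Subgroup.relIndex_map_map_of_injective]
  exact (MulAut.conj g).injective

variable {G : Type*} [Group G] [Finite G] {l : ℕ} [NeZero l] (S : Sylow 2 G)
  (E : WM l ≃* (S : Subgroup G))

/-- The embedding of the model. -/
def emb : WM l →* G := (S : Subgroup G).subtype.comp E.toMonoidHom

theorem emb_injective : Function.Injective (emb S E) :=
  (S : Subgroup G).subtype_injective.comp E.injective

theorem emb_mem (a : WM l) : emb S E a ∈ (S : Subgroup G) := (E a).2

theorem exists_emb {y : G} (hy : y ∈ (S : Subgroup G)) : ∃ a, emb S E a = y :=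
  ⟨E.symm ⟨y, hy⟩, by simp [emb]⟩

include E in
theorem card_S : Nat.card (S : Subgroup G) = 32 * l ^ 2 := by rw [← Nat.card_congr E.toEquiv, card_eq]

theorem emb_conj (p q : WM l) : IsConj (emb S E q) (emb S E (p * q * p⁻¹)) :=
  (emb S E).map_isConj (isConj_iff.2 ⟨p, rfl⟩)

/-- The central involution. -/
abbrev zI (l : ℕ) : WM l := zc (hh l)
/-- A noncentral involution of `AS`. -/
abbrev dI (l : ℕ) : WM l := ⟨hh l, 0, false⟩
/-- Its conjugate. -/
abbrev dI' (l : ℕ) : WM l := ⟨0, hh l, false⟩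
/-- An involution outside `AS`. -/
abbrev tI (l : ℕ) : WM l := ⟨0, 0, true⟩

theorem conj_d : IsConj (emb S E (dI' l)) (emb S E (dI l)) := by
  have := emb_conj S E (tI l) (dI' l)
  simpa using this

theorem conj_t (u : ZMod (4 * l)) : IsConj (emb S E (tI l)) (emb S E ⟨u, -u, true⟩) := by
  have := emb_conj S E ⟨u, 0, false⟩ (tI l)
  simpa using this

theorem order_emb {p : WM l} (h2 : p ^ 2 = 1) (h1 : p ≠ 1) : orderOf (emb S E p) = 2 := by
  rw [orderOf_injective _ (emb_injective S E)]; exact orderOf_eq_prime h2 h1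

theorem order_z : orderOf (emb S E (zI l)) = 2 :=
  order_emb S E (sq_one_iff'.2 (Or.inl ⟨Or.inr rfl, Or.inr rfl, rfl⟩))
    (fun h => hh_ne (congrArg WM.a h))

theorem order_d : orderOf (emb S E (dI l)) = 2 :=
  order_emb S E (sq_one_iff'.2 (Or.inl ⟨Or.inr rfl, Or.inl rfl, rfl⟩))
    (fun h => hh_ne (congrArg WM.a h))

theorem order_t : orderOf (emb S E (tI l)) = 2 :=
  order_emb S E (sq_one_iff'.2 (Or.inr ⟨0, by simp⟩)) (fun h => by simp [one_def] at h)

/-- Involutions of the Sylow subgroup. -/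
theorem inv_cases {y : G} (hy : y ∈ (S : Subgroup G)) (h : orderOf y = 2) :
    y = emb S E (zI l) ∨ y = emb S E (dI l) ∨ y = emb S E (dI' l) ∨
      ∃ u, y = emb S E ⟨u, -u, true⟩ := by
  obtain ⟨a, rfl⟩ := exists_emb S E hy
  rw [orderOf_injective _ (emb_injective S E), orderOf_eq_prime_iff] at h
  obtain ⟨a, b, e⟩ := a
  rcases sq_one_iff'.1 h.1 with ⟨ha, hb, he⟩ | ⟨u, hu⟩
  · simp only at ha hb he
    subst he
    rcases ha with rfl | rfl <;> rcases hb with rfl | rfl
    · exact absurd rfl h.2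
    · exact Or.inr (Or.inr (Or.inl rfl))
    · exact Or.inr (Or.inl rfl)
    · exact Or.inl rfl
  · exact Or.inr (Or.inr (Or.inr ⟨u, by rw [hu]⟩))

theorem exists_conj_into_sylow {F : Subgroup G} (hSF : (S : Subgroup G) ≤ F) {P : Subgroup G}
    (hP : IsPGroup 2 P) (hPF : P ≤ F) :
    ∃ c ∈ F, ∀ x ∈ P, c * x * c⁻¹ ∈ (S : Subgroup G) := by
  obtain ⟨R, hR⟩ := (hP.of_equiv (Subgroup.subgroupOfEquivOfLe hPF).symm).exists_le_sylow
  obtain ⟨c, hc⟩ := MulAction.exists_smul_eq F R (S.subtype hSF)
  refine ⟨c, c.2, fun x hx => ?_⟩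
  have h1 : c * (⟨x, hPF hx⟩ : F) * c⁻¹ ∈ ((S.subtype hSF : Sylow 2 F) : Subgroup F) := by
    rw [← hc, Sylow.coe_subgroup_smul]
    exact Subgroup.mem_smul_pointwise_iff_exists _ _ _ |>.2
      ⟨⟨x, hPF hx⟩, hR (Subgroup.mem_subgroupOf.2 hx), rfl⟩
  exact Subgroup.mem_subgroupOf.1 h1

/-- The abelian subgroup. -/
abbrev U0 : Subgroup G := (AS l).map (emb S E)
/-- The subgroup `Q Z`. -/
abbrev V0 : Subgroup G := (QZ l).map (emb S E)

theorem U0_le : U0 S E ≤ S := by rintro _ ⟨p, -, rfl⟩; exact emb_mem S E p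
theorem V0_le : V0 S E ≤ S := by rintro _ ⟨p, -, rfl⟩; exact emb_mem S E p

theorem U0_card : Nat.card (U0 S E) = 16 * l ^ 2 := by
  rw [Subgroup.card_map_of_injective (emb_injective S E), AS_card]

theorem U0_comm {x y : G} (hx : x ∈ U0 S E) (hy : y ∈ U0 S E) : x * y = y * x := by
  obtain ⟨p, hp, rfl⟩ := hx
  obtain ⟨q, hq, rfl⟩ := hy
  rw [← map_mul, ← map_mul, AS_comm hp hq]

theorem U0_unique {U : Subgroup G} (hUS : U ≤ S) (hUab : IsMulCommutative U)
    (hUcard : Nat.card U = 16 * l ^ 2) : U = U0 S E := by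
  have hUW : U.comap (emb S E) = AS l := by
    refine comm_half ⟨⟨fun a b => Subtype.ext (emb_injective S E ?_)⟩⟩ ?_
    · rw [Subgroup.coe_mul, Subgroup.coe_mul, map_mul, map_mul]
      exact congrArg Subtype.val (hUab.1.comm ⟨_, a.2⟩ ⟨_, b.2⟩)
    · rw [← hUcard]
      refine Nat.card_congr (Equiv.ofBijective (fun a => (⟨emb S E a.1, a.2⟩ : U)) ⟨?_, ?_⟩)
      · exact fun a b h => Subtype.ext (emb_injective S E (congrArg (fun v : U => (v : G)) h))
      · rintro ⟨y, hy⟩
        obtain ⟨a, rfl⟩ := exists_emb S E (hUS hy)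
        exact ⟨⟨a, hy⟩, rfl⟩
  rw [U0, ← hUW, Subgroup.map_comap_eq_self]
  intro y hy
  exact exists_emb S E (hUS hy)

theorem U0_sup : U0 S E ⊔ Subgroup.centralizer (U0 S E : Set G) = Subgroup.centralizer (U0 S E : Set G) :=
  sup_eq_right.2 fun _ hx => Subgroup.mem_centralizer_iff.2 fun _ hy => U0_comm S E hy hx

theorem U0_cen {g : G} (h : (U0 S E).map (MulAut.conj g).toMonoidHom ≤ S) :
    (U0 S E).map (MulAut.conj g).toMonoidHom = U0 S E := by
  refine U0_unique S E h ⟨⟨fun a b => Subtype.ext ?_⟩⟩ ?_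
  · obtain ⟨x, hx, ha⟩ := a.2
    obtain ⟨y, hy, hb⟩ := b.2
    rw [Subgroup.coe_mul, Subgroup.coe_mul, ← ha, ← hb, ← map_mul, ← map_mul, U0_comm S E hx hy]
  · rw [Subgroup.card_map_of_injective (f := (MulAut.conj g).toMonoidHom) (MulAut.conj g).injective,
      U0_card S E]

theorem U0_self {c : G} (hc : c ∈ (S : Subgroup G)) (hcc : c ∈ Subgroup.centralizer (U0 S E : Set G)) :
    c ∈ U0 S E := by
  obtain ⟨p, rfl⟩ := exists_emb S E hc
  refine Subgroup.mem_map_of_mem _ (mem_AS.2 ?_)
  by_contra hp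
  rw [Bool.not_eq_false] at hp
  obtain ⟨a, b, e⟩ := p
  simp only at hp; subst hp
  have h1 := Subgroup.mem_centralizer_iff.1 hcc _
    (Subgroup.mem_map_of_mem (emb S E) (show (dI l) ∈ AS l from mem_AS.2 rfl))
  rw [← map_mul, ← map_mul] at h1
  have h2 := congrArg WM.a (emb_injective S E h1)
  simp only [mk_mul_true, mk_mul_false] at h2
  exact hh_ne (l := l) (by linear_combination h2)

theorem normalizer_U0 : ∀ s ∈ (S : Subgroup G), s ∈ Subgroup.normalizer (U0 S E : Set G) := by
  intro s hs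
  obtain ⟨p, rfl⟩ := exists_emb S E hs
  refine Subgroup.le_normalizer_map (emb S E) ⟨p, ?_, rfl⟩
  rw [SetLike.mem_coe, Subgroup.mem_normalizer_iff]
  rintro ⟨a, b, e⟩
  obtain ⟨c, d, e'⟩ := p
  simp only [mem_AS]
  cases e <;> cases e' <;> simp

/-- Index two: elements of the normalizer outside the centralizer act like `t`. -/
theorem U_two_fix (h2 : (Subgroup.centralizer (U0 S E : Set G)).relIndex
      (Subgroup.normalizer (U0 S E : Set G)) = 2) {y : G}
    (hy : y ∈ Subgroup.normalizer (U0 S E : Set G)) (c : ZMod (4 * l)) :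
    y * emb S E (zc c) * y⁻¹ = emb S E (zc c) := by
  set N := Subgroup.normalizer (U0 S E : Set G)
  set K := (Subgroup.centralizer (U0 S E : Set G)).subgroupOf N
  have hz : emb S E (zc c) ∈ U0 S E := Subgroup.mem_map_of_mem _ (mem_AS.2 rfl)
  have hK : ∀ x : N, x ∈ K → (x : G) * emb S E (zc c) * (x : G)⁻¹ = emb S E (zc c) := fun x hx => by
    rw [mul_inv_eq_iff_eq_mul]
    exact (Subgroup.mem_centralizer_iff.1 (Subgroup.mem_subgroupOf.1 hx) _ hz).symm
  by_cases hyK : (⟨y, hy⟩ : N) ∈ K
  · exact hK _ hyK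
  set t : N := ⟨emb S E (tI l), normalizer_U0 S E _ (emb_mem S E _)⟩
  have htK : t ∉ K := by
    intro h
    have := U0_self S E (emb_mem S E _) (Subgroup.mem_subgroupOf.1 h)
    obtain ⟨p, hp, hpe⟩ := this
    rw [emb_injective S E hpe] at hp
    exact Bool.noConfusion (mem_AS.1 hp)
  have h3 : (⟨y, hy⟩ : N) * t ∈ K :=
    (Subgroup.mul_mem_iff_of_index_two h2).2 (iff_of_false hyK htK)
  have h4 := hK _ h3
  have ht : emb S E (tI l) * emb S E (zc c) * (emb S E (tI l))⁻¹ = emb S E (zc c) := by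
    rw [← map_inv, ← map_mul, ← map_mul]
    congr 1; simp
  rw [Subgroup.coe_mul] at h4
  calc y * emb S E (zc c) * y⁻¹ = y * (emb S E (tI l) * emb S E (zc c) * (emb S E (tI l))⁻¹) * y⁻¹ := by rw [ht]
    _ = (y * emb S E (tI l)) * emb S E (zc c) * (y * emb S E (tI l))⁻¹ := by group
    _ = _ := h4

/-- Index six: an element of odd order permuting the involutions of `U0` cyclically. -/
theorem U_six (hl : ∃ m, l = 2 ^ m) (h6 : (Subgroup.centralizer (U0 S E : Set G)).relIndex
      (Subgroup.normalizer (U0 S E : Set G)) = 6) :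
    ∃ y ∈ Subgroup.normalizer (U0 S E : Set G), Odd (orderOf y) ∧
      ((y * emb S E (zI l) * y⁻¹ = emb S E (dI l) ∧ y * emb S E (dI l) * y⁻¹ = emb S E (dI' l)) ∨
       (y * emb S E (zI l) * y⁻¹ = emb S E (dI' l) ∧ y * emb S E (dI' l) * y⁻¹ = emb S E (dI l))) := by
  obtain ⟨m, hl⟩ := hl
  rw [← U0_sup S E] at h6
  obtain ⟨y, hy, hyo, hyK⟩ := exists_odd_outside _ h6
  rw [U0_sup S E] at hyK
  refine ⟨y, hy, hyo, ?_⟩
  have hinv : ∀ p : WM l, p ∈ AS l → p ^ 2 = 1 → p ≠ 1 →
      y * emb S E p * y⁻¹ = emb S E (zI l) ∨ y * emb S E p * y⁻¹ = emb S E (dI l) ∨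
        y * emb S E p * y⁻¹ = emb S E (dI' l) := by
    intro p hp h2 h1
    have hm := (Subgroup.mem_normalizer_iff.1 hy _).1 (Subgroup.mem_map_of_mem (emb S E) hp)
    have ho : orderOf (y * emb S E p * y⁻¹) = 2 := by
      rw [show y * emb S E p * y⁻¹ = MulAut.conj y (emb S E p) from rfl, MulEquiv.orderOf_eq]
      exact order_emb S E h2 h1
    rcases inv_cases S E (U0_le S E hm) ho with h | h | h | ⟨u, h⟩
    · exact Or.inl h
    · exact Or.inr (Or.inl h)
    · exact Or.inr (Or.inr h)
    · exfalso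
      obtain ⟨q, hq, hqe⟩ := hm
      rw [emb_injective S E (hqe.trans h)] at hq
      exact Bool.noConfusion (mem_AS.1 hq)
  have hne : ∀ {p q : WM l}, p ≠ q → y * emb S E p * y⁻¹ ≠ y * emb S E q * y⁻¹ := fun h h' =>
    h (emb_injective S E (mul_left_cancel (mul_right_cancel h')))
  have hzd : zI l ≠ dI l := fun h => hh_ne (congrArg WM.b h)
  have hzd' : zI l ≠ dI' l := fun h => hh_ne (congrArg WM.a h)
  have hdd' : dI l ≠ dI' l := fun h => hh_ne (congrArg WM.a h)
  have hz2 : zI l ^ 2 = 1 := sq_one_iff'.2 (Or.inl ⟨Or.inr rfl, Or.inr rfl, rfl⟩)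
  have hd2 : dI l ^ 2 = 1 := sq_one_iff'.2 (Or.inl ⟨Or.inr rfl, Or.inl rfl, rfl⟩)
  have hd2' : dI' l ^ 2 = 1 := sq_one_iff'.2 (Or.inl ⟨Or.inl rfl, Or.inr rfl, rfl⟩)
  -- no involution is fixed
  have hfix : ∀ {p q r : WM l}, p ∈ AS l → q ∈ AS l → r ∈ AS l → q ^ 2 = 1 → q ≠ 1 →
      (∀ w : WM l, w ∈ AS l → w ^ 2 = 1 → w = 1 ∨ w = p ∨ w = q ∨ w = r) →
      p ≠ q → p ≠ r → y * emb S E p * y⁻¹ = emb S E p →
      (y * emb S E q * y⁻¹ = emb S E p ∨ y * emb S E q * y⁻¹ = emb S E q ∨ y * emb S E q * y⁻¹ = emb S E r) →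
      (y * emb S E r * y⁻¹ = emb S E p ∨ y * emb S E r * y⁻¹ = emb S E q ∨ y * emb S E r * y⁻¹ = emb S E r) →
      False := by
    intro p q r hp hq hr hq2 hq1 hall hpq hpr hfp hfq hfr
    apply hyK
    have hcf : ∀ w : WM l, y * emb S E w * y⁻¹ = emb S E w → y ∈ Subgroup.centralizer ({emb S E w} : Set G) :=
      fun w h => Subgroup.mem_centralizer_singleton_iff.2 (mul_inv_eq_iff_eq_mul.1 h)
    have hsq : ∀ w : WM l, y * (y * emb S E w * y⁻¹) * y⁻¹ = emb S E w →
        y * emb S E w * y⁻¹ = emb S E w := fun w h => by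
      have := mem_of_sq_mem (F := Subgroup.centralizer ({emb S E w} : Set G)) hyo
        (Subgroup.mem_centralizer_singleton_iff.2 (mul_inv_eq_iff_eq_mul.1 (by
          rw [sq, mul_inv_rev, show y * y * emb S E w * (y⁻¹ * y⁻¹) = y * (y * emb S E w * y⁻¹) * y⁻¹ by group, h])))
      exact mul_inv_eq_iff_eq_mul.2 (Subgroup.mem_centralizer_singleton_iff.1 this)
    have hqf : y * emb S E q * y⁻¹ = emb S E q := by
      rcases hfq with h | h | h
      · exact absurd (h.trans hfp.symm) (hne (Ne.symm hpq))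
      · exact h
      · apply hsq
        rw [h]
        rcases hfr with h' | h' | h'
        · exact absurd (h'.trans hfp.symm) (hne (Ne.symm hpr))
        · exact h'
        · have := emb_injective S E (mul_left_cancel (mul_right_cancel (h.trans h'.symm)))
          rw [this] at h ⊢; exact h
    have hrf : y * emb S E r * y⁻¹ = emb S E r := by
      rcases hfr with h | h | h
      · exact absurd (h.trans hfp.symm) (hne (Ne.symm hpr))
      · have := emb_injective S E (mul_left_cancel (mul_right_cancel (h.trans hqf.symm)))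
        rw [this]; exact hqf
      · exact h
    -- trivial on the involutions, hence on `U0`
    have key : ∀ (j : ℕ) (w : WM l), w ∈ AS l → w ^ 2 ^ j = 1 → y * emb S E w * y⁻¹ = emb S E w := by
      intro j
      induction j with
      | zero =>
        intro w _ h
        rw [pow_zero, pow_one] at h
        rw [h, map_one, mul_one, mul_inv_cancel]
      | succ j ih =>
        intro w hw h
        have h2 := ih (w ^ 2) (pow_mem hw 2) (by rwa [← pow_mul, ← pow_succ'])
        obtain ⟨w', hw', hwe⟩ := (Subgroup.mem_normalizer_iff.1 hy _).1 (Subgroup.mem_map_of_mem (emb S E) hw)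
        have hsq' : w' ^ 2 = w ^ 2 := emb_injective S E (by
          rw [map_pow, hwe, conj_pow, ← map_pow, h2])
        set v := w⁻¹ * w'
        have hv2 : v ^ 2 = 1 := by
          rw [(show Commute w⁻¹ w' from AS_comm (inv_mem hw) hw').mul_pow, inv_pow, hsq', inv_mul_cancel]
        have hvfix : y * emb S E v * y⁻¹ = emb S E v := by
          rcases hall v (mul_mem (inv_mem hw) hw') hv2 with e | e | e | e <;> rw [e]
          · simp
          · exact hfp
          · exact hqf
          · exact hrf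
        have hn : ∀ n : ℕ, y ^ n * emb S E w * (y ^ n)⁻¹ = emb S E w * emb S E v ^ n := by
          intro n
          induction n with
          | zero => simp
          | succ n ih' =>
            calc y ^ (n + 1) * emb S E w * (y ^ (n + 1))⁻¹ = y * (y ^ n * emb S E w * (y ^ n)⁻¹) * y⁻¹ := by
                  rw [pow_succ']; group
              _ = (y * emb S E w * y⁻¹) * (y * emb S E v * y⁻¹) ^ n := by rw [ih', conj_pow]; group
              _ = emb S E w * emb S E v ^ (n + 1) := by
                  rw [hvfix, ← hwe, show w' = w * v from (mul_inv_cancel_left w w').symm, map_mul,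
                    pow_succ', mul_assoc]
        have h3 := hn (orderOf y)
        rw [pow_orderOf_eq_one, one_mul, inv_one, mul_one, eq_comm, mul_eq_left, ← map_pow] at h3
        have h4 : v ^ orderOf y = 1 := emb_injective S E (by rw [h3, map_one])
        have hv1 : v = 1 := TransferPow.eq_one_of_pow_eq_one_of_coprime hv2 h4 (Nat.coprime_two_left.2 hyo)
        rw [← hwe, show w' = w * v from (mul_inv_cancel_left w w').symm, hv1, mul_one]
    rw [Subgroup.mem_centralizer_iff]
    rintro _ ⟨w, hw, rfl⟩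
    obtain ⟨j, hj⟩ := (isPGroup_WM hl) w
    exact (mul_inv_eq_iff_eq_mul.1 (key j w hw hj)).symm
  have hall : ∀ w : WM l, w ∈ AS l → w ^ 2 = 1 → w = 1 ∨ w = zI l ∨ w = dI l ∨ w = dI' l := by
    rintro ⟨a, b, e⟩ hw h2
    obtain rfl : e = false := mem_AS.1 hw
    rcases sq_one_iff'.1 h2 with ⟨ha, hb, -⟩ | ⟨u, hu⟩
    · rcases ha with h | h <;> rcases hb with h' | h' <;> simp only at h h' <;> subst h h' <;> simp [one_def]
    · exact Bool.noConfusion (congrArg WM.e hu)
  have mA : ∀ a b : ZMod (4 * l), (⟨a, b, false⟩ : WM l) ∈ AS l := fun a b => mem_AS.2 rfl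
  have hz1 : zI l ≠ 1 := fun h => hh_ne (congrArg WM.a h)
  have hd1 : dI l ≠ 1 := fun h => hh_ne (congrArg WM.a h)
  have hd1' : dI' l ≠ 1 := fun h => hh_ne (congrArg WM.b h)
  have hz := hinv (zI l) (mA _ _) hz2 hz1
  have hd := hinv (dI l) (mA _ _) hd2 hd1
  have hd' := hinv (dI' l) (mA _ _) hd2' hd1'
  rcases hz with hz | hz | hz
  · exact (hfix (mA _ _) (mA _ _) (mA _ _) hd2 hd1 hall hzd hzd' hz hd hd').elim
  · left
    refine ⟨hz, ?_⟩
    rcases hd with h | h | h
    · exfalso
      -- y swaps z and d, hence fixes d'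
      rcases hd' with h' | h' | h'
      · exact hne hdd' (h.trans h'.symm)
      · exact hne hzd' (hz.trans h'.symm)
      · exact hfix (p := dI' l) (q := zI l) (r := dI l) (mA _ _) (mA _ _) (mA _ _) hz2 hz1
          (fun w a b => by rcases hall w a b with e | e | e | e <;> simp [e]) hzd'.symm hdd'.symm h'
          (Or.inr (Or.inr hz)) (Or.inr (Or.inl h))
    · exact absurd (hz.trans h.symm) (hne hzd)
    · exact h
  · right
    refine ⟨hz, ?_⟩
    rcases hd' with h | h | h
    · exfalso
      rcases hd with h' | h' | h'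
      · exact hne hdd' (h'.trans h.symm)
      · exact hfix (p := dI l) (q := zI l) (r := dI' l) (mA _ _) (mA _ _) (mA _ _) hz2 hz1
          (fun w a b => by rcases hall w a b with e | e | e | e <;> simp [e]) hzd.symm hdd' h'
          (Or.inr (Or.inr hz)) (Or.inr (Or.inl h))
      · exact hne hzd (hz.trans h'.symm)
    · exact h
    · exact absurd (hz.trans h.symm) (hne hzd')

theorem U_six_fused (hl : ∃ m, l = 2 ^ m) (h6 : (Subgroup.centralizer (U0 S E : Set G)).relIndex
      (Subgroup.normalizer (U0 S E : Set G)) = 6) :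
    IsConj (emb S E (zI l)) (emb S E (dI l)) := by
  obtain ⟨y, -, -, h | h⟩ := U_six S E hl h6
  · exact isConj_iff.2 ⟨y, h.1⟩
  · exact (isConj_iff.2 ⟨y, h.1⟩).trans (conj_d S E)

/-- An element of `AS` moved by `t` is centralized only inside `AS`. -/
theorem fix_A_diag (h2 : (Subgroup.centralizer (U0 S E : Set G)).relIndex
      (Subgroup.normalizer (U0 S E : Set G)) = 2) {g : G} {c a b : ZMod (4 * l)}
    (hg : g * emb S E (zc c) * g⁻¹ = emb S E ⟨a, b, false⟩) : a = b := by
  by_contra hab
  rw [← U0_sup S E] at h2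
  refine index_ne_two S (F := Subgroup.centralizer ({emb S E ⟨a, b, false⟩} : Set G)) ?_ ?_ ⟨g, ?_⟩
    (U0_le S E) ?_ ?_ h2
  · rw [U0_sup S E]
    refine Subgroup.centralizer_le ?_
    simp only [Set.singleton_subset_iff]
    exact Subgroup.mem_map_of_mem _ (mem_AS.2 rfl)
  · refine ⟨emb S E (tI l), normalizer_U0 S E _ (emb_mem S E _), fun h => hab ?_⟩
    have h' := Subgroup.mem_centralizer_singleton_iff.1 h
    rw [← map_mul, ← map_mul] at h'
    have := congrArg WM.a (emb_injective S E h')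
    simpa using this.symm
  · rintro _ ⟨y, hy, rfl⟩
    rw [Subgroup.mem_centralizer_singleton_iff]
    obtain ⟨p, rfl⟩ := exists_emb S E hy
    simp only [MulEquiv.coe_toMonoidHom, MulAut.conj_apply]
    rw [← hg]
    calc g * emb S E p * g⁻¹ * (g * emb S E (zc c) * g⁻¹) = g * (emb S E p * emb S E (zc c)) * g⁻¹ := by group
      _ = g * (emb S E (zc c) * emb S E p) * g⁻¹ := by rw [← map_mul, zc_mul_comm, map_mul]
      _ = _ := by group
  · rw [U0_card S E, card_S S E]
    have : 0 < l ^ 2 := by have := NeZero.pos l; positivity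
    omega
  · intro k hk x hx hxc
    rw [U0_cen S E hk] at hxc ⊢
    exact U0_self S E hx hxc

theorem U_two (h2 : (Subgroup.centralizer (U0 S E : Set G)).relIndex
      (Subgroup.normalizer (U0 S E : Set G)) = 2) :
    ¬ IsConj (emb S E (zI l)) (emb S E (dI l)) := by
  intro h
  obtain ⟨g, hg⟩ := isConj_iff.1 h
  exact hh_ne (l := l) (fix_A_diag S E h2 hg)

theorem fix_center (h2 : (Subgroup.centralizer (U0 S E : Set G)).relIndex
      (Subgroup.normalizer (U0 S E : Set G)) = 2) {g : G} {c a : ZMod (4 * l)}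
    (hg : g * emb S E (zc c) * g⁻¹ = emb S E (zc a)) : zc a = zc c := by
  have : Fact (Nat.Prime 2) := ⟨Nat.prime_two⟩
  have hcen : ∀ r, emb S E (zc r) ∈ Subgroup.centralizer ((S : Subgroup G) : Set G) := by
    intro r
    rw [Subgroup.mem_centralizer_iff]
    intro y hy
    obtain ⟨p, rfl⟩ := exists_emb S E hy
    rw [← map_mul, ← map_mul, zc_mul_comm]
  obtain ⟨n, hn, he⟩ := Sylow.conj_eq_normalizer_conj_of_mem_centralizer S (emb S E (zc c)) g⁻¹
    (hcen c) (by rw [inv_inv, hg]; exact hcen a)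
  rw [inv_inv, hg] at he
  have hnU : n⁻¹ ∈ Subgroup.normalizer (U0 S E : Set G) := by
    refine TransferAlperin.mem_normalizer_of_cj_eq (U0_cen S E ?_)
    rintro _ ⟨y, hy, rfl⟩
    simp only [MulEquiv.coe_toMonoidHom, MulAut.conj_apply]
    exact (Subgroup.mem_normalizer_iff.1 (inv_mem hn) _).1 (U0_le S E hy)
  have h3 := U_two_fix S E h2 hnU c
  rw [inv_inv] at h3
  rw [h3] at he
  exact emb_injective S E he

/-- If the central involution is fused to `t` it is fused to `d`. -/
theorem zt_fused (h : IsConj (emb S E (tI l)) (emb S E (zI l))) :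
    IsConj (emb S E (zI l)) (emb S E (dI l)) := by
  obtain ⟨g, hg⟩ := isConj_iff.1 h
  set z := emb S E (zI l) with hzdef
  set q := emb S E (zc (l : ZMod (4 * l))) with hqdef
  have hSF : (S : Subgroup G) ≤ Subgroup.centralizer ({z} : Set G) := by
    intro y hy
    obtain ⟨p, rfl⟩ := exists_emb S E hy
    rw [Subgroup.mem_centralizer_singleton_iff, hzdef, ← map_mul, ← map_mul, zc_mul_comm]
  set P : Subgroup G := (Subgroup.zpowers (g * q * g⁻¹)) with hP
  have hPp : IsPGroup 2 P := by
    have hq : q ∈ (S : Subgroup G) := emb_mem S E _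
    have h1 := (S.2.map (MulAut.conj g).toMonoidHom)
    refine h1.to_le ?_
    rw [hP, Subgroup.zpowers_le]
    exact ⟨q, hq, rfl⟩
  have hPF : P ≤ Subgroup.centralizer ({z} : Set G) := by
    rw [hP, Subgroup.zpowers_le, Subgroup.mem_centralizer_singleton_iff, ← hg]
    calc g * q * g⁻¹ * (g * emb S E (tI l) * g⁻¹) = g * (q * emb S E (tI l)) * g⁻¹ := by group
      _ = g * (emb S E (tI l) * q) * g⁻¹ := by
        rw [hqdef, ← map_mul, ← map_mul, ← zc_mul_comm]
      _ = _ := by group
  obtain ⟨c, hc, hcS⟩ := exists_conj_into_sylow S hSF hPp hPF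
  obtain ⟨p, hp⟩ := exists_emb S E (hcS _ (Subgroup.mem_zpowers _))
  have hzq : q * q = z := by
    rw [hqdef, ← map_mul]; congr 1; simp [zc, zI, hh, two_mul]
  have hz' : emb S E (p * p) = c * (g * z * g⁻¹) * c⁻¹ := by
    rw [map_mul, hp, ← hzq]; group
  have hne : emb S E (p * p) ≠ z := by
    rw [hz']
    intro e
    have e2 : g * z * g⁻¹ = g * emb S E (tI l) * g⁻¹ := by
      rw [hg]
      have := Subgroup.mem_centralizer_singleton_iff.1 hc
      exact mul_left_cancel (mul_right_cancel (e.trans (mul_inv_eq_iff_eq_mul.2 this).symm))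
    have := emb_injective S E (mul_left_cancel (mul_right_cancel e2))
    exact Bool.noConfusion (congrArg WM.e this)
  have ho : orderOf (emb S E (p * p)) = 2 := by
    rw [hz', show c * (g * z * g⁻¹) * c⁻¹ = MulAut.conj (c * g) z by simp [mul_assoc],
      MulEquiv.orderOf_eq, hzdef, order_z S E]
  have hconj : IsConj z (emb S E (p * p)) := isConj_iff.2 ⟨c * g, by rw [hz']; group⟩
  rcases inv_cases S E (emb_mem S E _) ho with e | e | e | ⟨u, e⟩
  · exact absurd e hne
  · exact e ▸ hconj
  · exact (e ▸ hconj : IsConj z (emb S E (dI' l))).trans (conj_d S E)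
  · exfalso
    have := congrArg WM.e (emb_injective S E e)
    rw [sq_e] at this
    exact Bool.noConfusion this

/-- A 2-subgroup centralizing `d` moves into `U0`. -/
theorem into_U0 (hzd : ¬ IsConj (emb S E (zI l)) (emb S E (dI l))) {P : Subgroup G} (hP : IsPGroup 2 P)
    (hPF : P ≤ Subgroup.centralizer ({emb S E (dI l)} : Set G)) :
    ∃ c ∈ Subgroup.centralizer ({emb S E (dI l)} : Set G), ∀ x ∈ P, c * x * c⁻¹ ∈ U0 S E := by
  set d := emb S E (dI l) with hd
  set F := Subgroup.centralizer ({d} : Set G) with hF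
  have hUF : U0 S E ≤ F := fun x hx => Subgroup.mem_centralizer_singleton_iff.2
    (U0_comm S E hx (Subgroup.mem_map_of_mem _ (mem_AS.2 rfl)))
  obtain ⟨R, hR⟩ := (((S.2.to_le (U0_le S E))).of_equiv (Subgroup.subgroupOfEquivOfLe hUF).symm).exists_le_sylow
  set R' := (R : Subgroup F).map F.subtype with hR'
  have hUR : U0 S E ≤ R' := fun x hx => ⟨⟨x, hUF hx⟩, hR (Subgroup.mem_subgroupOf.2 hx), rfl⟩
  have hRU : R' ≤ U0 S E := by
    obtain ⟨P₁, hP₁⟩ := (R.2.map F.subtype).exists_le_sylow
    obtain ⟨g, rfl⟩ := MulAction.exists_smul_eq G S P₁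
    have hg : ∀ x ∈ R', g⁻¹ * x * g ∈ (S : Subgroup G) := by
      intro x hx
      have h1 := hP₁ hx
      rw [Sylow.coe_subgroup_smul, Subgroup.mem_smul_pointwise_iff_exists] at h1
      obtain ⟨y, hy, rfl⟩ := h1
      simpa [mul_assoc] using hy
    have hUg : (U0 S E).map (MulAut.conj g⁻¹).toMonoidHom = U0 S E := by
      refine U0_cen S E ?_
      rintro _ ⟨x, hx, rfl⟩
      simpa using hg x (hUR hx)
    intro x hx
    obtain ⟨p, hp⟩ := exists_emb S E (hg x hx)
    by_cases he : p.e = false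
    · have h1 : g⁻¹ * x * g ∈ (U0 S E).map (MulAut.conj g⁻¹).toMonoidHom := by
        rw [hUg, ← hp]; exact Subgroup.mem_map_of_mem _ (mem_AS.2 he)
      obtain ⟨w, hw, hwx⟩ := h1
      simp only [MulEquiv.coe_toMonoidHom, MulAut.conj_apply, inv_inv] at hwx
      rwa [← mul_left_cancel (mul_right_cancel hwx)]
    · exfalso
      apply hzd
      have hdU : g⁻¹ * d * g ∈ U0 S E := by
        rw [← hUg]
        exact ⟨d, Subgroup.mem_map_of_mem _ (mem_AS.2 rfl), by simp⟩
      obtain ⟨q, hq, hqe⟩ := hdU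
      have hcomm : p * q = q * p := emb_injective S E (by
        have hxd : x * d = d * x := Subgroup.mem_centralizer_singleton_iff.1 (Subgroup.map_subtype_le _ hx)
        rw [map_mul, map_mul, hp, hqe,
          show g⁻¹ * x * g * (g⁻¹ * d * g) = g⁻¹ * (x * d) * g by group, hxd]
        group)
      rw [Bool.not_eq_false] at he
      obtain ⟨a, b, e⟩ := p
      simp only at he; subst he
      obtain ⟨a', b', e'⟩ := q
      obtain rfl : e' = false := mem_AS.1 hq
      have hdiag : a' = b' := by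
        have := congrArg WM.a hcomm
        simp only [mk_mul_true, mk_mul_false] at this
        linear_combination -this
      subst hdiag
      have ho : (⟨a', a', false⟩ : WM l) ^ 2 = 1 := emb_injective S E (by
        rw [map_pow, hqe, map_one, show (g⁻¹ * d * g) ^ 2 = g⁻¹ * d ^ 2 * g by rw [sq, sq]; group,
          hd, ← order_d S E, pow_orderOf_eq_one, mul_one, inv_mul_cancel])
      have hne : (⟨a', a', false⟩ : WM l) ≠ 1 := fun h => by
        rw [h, map_one, eq_comm, mul_assoc, inv_mul_eq_one, eq_comm, mul_eq_right, hd,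
          ← map_one (emb S E)] at hqe
        exact hh_ne (congrArg WM.a (emb_injective S E hqe))
      have ha : a' = hh l := by
        rcases sq_one_iff'.1 ho with ⟨h, -, -⟩ | ⟨u, hu⟩
        · rcases h with h | h <;> simp only at h
          · subst h; exact absurd rfl hne
          · exact h
        · exact Bool.noConfusion (congrArg WM.e hu)
      subst ha
      exact isConj_iff.2 ⟨g, by rw [show emb S E (zI l) = g⁻¹ * d * g from hqe]; group⟩
  obtain ⟨R₁, hR₁⟩ := (hP.of_equiv (Subgroup.subgroupOfEquivOfLe hPF).symm).exists_le_sylow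
  obtain ⟨c, hc⟩ := MulAction.exists_smul_eq F R₁ R
  refine ⟨c, c.2, fun x hx => hRU ?_⟩
  refine ⟨c * ⟨x, hPF hx⟩ * c⁻¹, ?_, rfl⟩
  rw [← hc, SetLike.mem_coe, Sylow.coe_subgroup_smul]
  exact Subgroup.mem_smul_pointwise_iff_exists _ _ _ |>.2
    ⟨⟨x, hPF hx⟩, hR₁ (Subgroup.mem_subgroupOf.2 hx), rfl⟩

/-- The centre is weakly closed, element by element. -/
theorem central_fixed (hl : ∃ m, l = 2 ^ m)
    (h2 : (Subgroup.centralizer (U0 S E : Set G)).relIndex
      (Subgroup.normalizer (U0 S E : Set G)) = 2)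
    (hdt : IsConj (emb S E (dI l)) (emb S E (tI l))) :
    ∀ (c : ZMod (4 * l)) (g : G), g * emb S E (zc c) * g⁻¹ ∈ (S : Subgroup G) →
      g * emb S E (zc c) * g⁻¹ = emb S E (zc c) := by
  obtain ⟨m, hm⟩ := hl
  have hfalse : ∀ (c : ZMod (4 * l)) (g : G) (w : G), g * emb S E (zc c) * g⁻¹ = w → w ∈ U0 S E →
      w = emb S E (zc c) := by
    rintro c g w hg ⟨⟨a, b, e⟩, hp, rfl⟩
    obtain rfl : e = false := mem_AS.1 hp
    obtain rfl := fix_A_diag S E h2 hg
    rw [show (⟨a, a, false⟩ : WM l) = zc c from fix_center S E h2 hg]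
  suffices h : ∀ (j : ℕ) (c : ZMod (4 * l)), (2 : ZMod (4 * l)) ^ j * c = 0 → ∀ g : G,
      g * emb S E (zc c) * g⁻¹ ∈ (S : Subgroup G) → g * emb S E (zc c) * g⁻¹ = emb S E (zc c) by
    intro c g hg
    refine h (m + 2) c ?_ g hg
    have h0 : ((2 ^ (m + 2) : ℕ) : ZMod (4 * l)) = 0 := by
      rw [show 2 ^ (m + 2) = 4 * l by rw [hm, pow_add]; ring, ZMod.natCast_self]
    push_cast at h0
    rw [h0, zero_mul]
  intro j
  induction j with
  | zero =>
    intro c hc g _
    rw [pow_zero, one_mul] at hc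
    subst hc
    rw [show zc (0 : ZMod (4 * l)) = 1 from rfl, map_one, mul_one, mul_inv_cancel]
  | succ j ih =>
    intro c hc g hg
    obtain ⟨⟨a, b, e⟩, hp⟩ := exists_emb S E hg
    cases e
    · exact hfalse c g _ rfl (by rw [← hp]; exact Subgroup.mem_map_of_mem _ (mem_AS.2 rfl))
    exfalso
    have hsq : (g * emb S E (zc c) * g⁻¹) * (g * emb S E (zc c) * g⁻¹) = g * emb S E (zc (2 * c)) * g⁻¹ := by
      rw [show zc (2 * c) = zc c * zc c by simp [zc, two_mul], map_mul]; group
    have h2c := ih (2 * c) (by rw [← hc, pow_succ]; ring) g (by rw [← hsq]; exact mul_mem hg hg)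
    rw [← hsq, ← hp, ← map_mul] at h2c
    have hab : a + b = 2 * c := by simpa using congrArg WM.a (emb_injective S E h2c)
    set u := a - c
    have hsplit : (⟨a, b, true⟩ : WM l) = zc c * ⟨u, -u, true⟩ := by
      simp only [zc, mk_mul_false, u, WM.ext_iff]
      exact ⟨by ring, by linear_combination hab, trivial⟩
    obtain ⟨k, hk⟩ := isConj_iff.1 ((conj_t S E u).symm.trans hdt.symm)
    set P : Subgroup G := ((Subgroup.closure {emb S E (zc c), emb S E ⟨u, -u, true⟩}).map
      (MulAut.conj k).toMonoidHom) with hP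
    have hPS : Subgroup.closure {emb S E (zc c), emb S E ⟨u, -u, true⟩} ≤ (S : Subgroup G) := by
      rw [Subgroup.closure_le]
      rintro x (rfl | rfl) <;> exact emb_mem S E _
    have hPF : P ≤ Subgroup.centralizer ({emb S E (dI l)} : Set G) := by
      rw [hP, Subgroup.map_le_iff_le_comap, Subgroup.closure_le]
      have hk' : ∀ x, x * emb S E ⟨u, -u, true⟩ = emb S E ⟨u, -u, true⟩ * x →
          x ∈ (Subgroup.centralizer ({emb S E (dI l)} : Set G)).comap (MulAut.conj k).toMonoidHom := by
        intro x hx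
        rw [Subgroup.mem_comap, Subgroup.mem_centralizer_singleton_iff, ← hk]
        simp only [MulEquiv.coe_toMonoidHom, MulAut.conj_apply]
        calc k * x * k⁻¹ * (k * emb S E ⟨u, -u, true⟩ * k⁻¹) = k * (x * emb S E ⟨u, -u, true⟩) * k⁻¹ := by group
          _ = k * (emb S E ⟨u, -u, true⟩ * x) * k⁻¹ := by rw [hx]
          _ = _ := by group
      rintro x (rfl | rfl)
      · exact hk' _ (by rw [← map_mul, ← map_mul, ← zc_mul_comm])
      · exact hk' _ rfl
    obtain ⟨r, -, hrU⟩ := into_U0 S E (U_two S E h2) ((S.2.to_le hPS).map _) hPF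
    have hm1 : emb S E (zc c) ∈ Subgroup.closure {emb S E (zc c), emb S E ⟨u, -u, true⟩} :=
      Subgroup.subset_closure (Or.inl rfl)
    have hm2 : emb S E ⟨u, -u, true⟩ ∈ Subgroup.closure {emb S E (zc c), emb S E ⟨u, -u, true⟩} :=
      Subgroup.subset_closure (Or.inr rfl)
    have h1 := hfalse c (r * k) _ (by simp only [MulEquiv.coe_toMonoidHom, MulAut.conj_apply]; group)
      (hrU _ ⟨_, hm1, rfl⟩)
    have h2' := hfalse c (r * k * g) (r * (k * emb S E ⟨a, b, true⟩ * k⁻¹) * r⁻¹) (by rw [hp]; group)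
      (hrU _ ⟨_, by rw [hsplit, map_mul]; exact mul_mem hm1 hm2, rfl⟩)
    simp only [MulEquiv.coe_toMonoidHom, MulAut.conj_apply] at h1
    rw [← h1] at h2'
    have := emb_injective S E (mul_left_cancel (mul_right_cancel (mul_left_cancel (mul_right_cancel h2'))))
    exact Bool.noConfusion (congrArg WM.e this)

theorem V0_center_conj {y : G} (hy : y ∈ Subgroup.normalizer (V0 S E : Set G)) (c : ZMod (4 * l)) :
    ∃ a, y * emb S E (zc c) * y⁻¹ = emb S E (zc a) := by
  obtain ⟨p, hp, hpe⟩ := (Subgroup.mem_normalizer_iff.1 hy _).1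
    (Subgroup.mem_map_of_mem (emb S E) (show zc c ∈ QZ l from Or.inl (sub_self c)))
  have hcen : p ∈ Subgroup.centralizer (Q0 l : Set (WM l)) := by
    rw [Subgroup.mem_centralizer_iff]
    intro q hq
    obtain ⟨q', hq', hqe⟩ := (Subgroup.mem_normalizer_iff.1 (inv_mem hy) _).1
      (Subgroup.mem_map_of_mem (emb S E) (q8_range_le hq))
    rw [inv_inv] at hqe
    apply emb_injective S E
    rw [map_mul, map_mul, hpe, show emb S E q = y * emb S E q' * y⁻¹ by rw [hqe]; group,
      show y * emb S E q' * y⁻¹ * (y * emb S E (zc c) * y⁻¹) = y * (emb S E q' * emb S E (zc c)) * y⁻¹ by group,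
      ← map_mul, zc_mul_comm, map_mul]
    group
  have := Q0_centralizer hcen
  rw [center_eq] at this
  obtain ⟨a, rfl⟩ := mem_diag.1 this
  exact ⟨a, hpe.symm⟩

/-- Index six on `Q Z`. -/
theorem V_six (hl : ∃ m, l = 2 ^ m)
    (h6 : (V0 S E ⊔ Subgroup.centralizer (V0 S E : Set G)).relIndex
      (Subgroup.normalizer (V0 S E : Set G)) = 6) :
    ∃ y ∈ Subgroup.normalizer (V0 S E : Set G), Odd (orderOf y) ∧
      (∀ c, y * emb S E (zc c) * y⁻¹ = emb S E (zc c)) ∧
      ∃ w, y * emb S E (dI l) * y⁻¹ = emb S E ⟨w, -w, true⟩ ∧ (w + w = 0 ∨ w + w = hh l) := by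
  obtain ⟨m, hm⟩ := hl
  obtain ⟨y, hy, hyo, hyK⟩ := exists_odd_outside _ h6
  have hmap : ∀ p ∈ QZ l, ∃ q ∈ QZ l, y * emb S E p * y⁻¹ = emb S E q := fun p hp => by
    obtain ⟨q, hq, hqe⟩ := (Subgroup.mem_normalizer_iff.1 hy _).1 (Subgroup.mem_map_of_mem (emb S E) hp)
    exact ⟨q, hq, hqe.symm⟩
  have hzfix : ∀ c, y * emb S E (zc c) * y⁻¹ = emb S E (zc c) := by
    obtain ⟨a, ha⟩ := V0_center_conj S E hy 1
    have hpow : ∀ c, y * emb S E (zc c) * y⁻¹ = emb S E (zc (c * a)) := by
      intro c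
      have h1 : zc c = zc (1 : ZMod (4 * l)) ^ c.val := by simp [zc, pow_false]
      rw [h1, map_pow, ← conj_pow, ha, ← map_pow]
      simp [zc, pow_false]
    have hi : ∀ n : ℕ, y ^ n * emb S E (zc 1) * (y ^ n)⁻¹ = emb S E (zc (a ^ n)) := by
      intro n
      induction n with
      | zero => simp
      | succ n ih =>
        rw [pow_succ', mul_inv_rev,
          show y * y ^ n * emb S E (zc 1) * ((y ^ n)⁻¹ * y⁻¹) = y * (y ^ n * emb S E (zc 1) * (y ^ n)⁻¹) * y⁻¹ by group,
          ih, hpow, pow_succ]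
    have h1 := hi (orderOf y)
    rw [pow_orderOf_eq_one, one_mul, inv_one, mul_one] at h1
    have ha1 : a * 1 = 1 := odd_pow_cancel hm hyo
      (by rw [mul_one]; exact (congrArg WM.a (emb_injective S E h1)).symm)
    rw [mul_one] at ha1
    intro c
    rw [hpow, ha1, mul_one]
  refine ⟨y, hy, hyo, hzfix, ?_⟩
  have hdQ : dI l ∈ QZ l := Or.inr (sub_zero _)
  have htQ : tI l ∈ QZ l := Or.inl (sub_self 0)
  obtain ⟨⟨w, b, e⟩, hq, hqe⟩ := hmap _ hdQ
  have ho : orderOf (emb S E ⟨w, b, e⟩) = 2 := by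
    rw [← hqe, show y * emb S E (dI l) * y⁻¹ = MulAut.conj y (emb S E (dI l)) from rfl,
      MulEquiv.orderOf_eq, order_d S E]
  cases e
  · exfalso
    rcases inv_cases S E (emb_mem S E _) ho with h | h
    · have := (hqe.trans h).trans (hzfix (hh l)).symm
      exact hh_ne (congrArg WM.b (emb_injective S E (mul_left_cancel (mul_right_cancel this)))).symm
    obtain ⟨cd, hcd⟩ : ∃ cd, y * emb S E (dI l) * y⁻¹ = emb S E (dI l) * emb S E (zc cd) := by
      rw [hqe]
      rcases h with h | h | ⟨v, h⟩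
      · exact ⟨0, by rw [h]; simp [zc, ← map_mul]⟩
      · refine ⟨hh l, ?_⟩
        rw [h, ← map_mul]
        simp [zc, hh_add_hh]
      · exact Bool.noConfusion (congrArg WM.e (emb_injective S E h))
    apply hyK
    refine Subgroup.mem_sup_right ?_
    have hyk : ∀ (k : ℕ) (c : ZMod (4 * l)), y ^ k * emb S E (zc c) * (y ^ k)⁻¹ = emb S E (zc c) := by
      intro k c
      induction k with
      | zero => simp
      | succ k ih =>
        rw [pow_succ', mul_inv_rev,
          show y * y ^ k * emb S E (zc c) * ((y ^ k)⁻¹ * y⁻¹) = y * (y ^ k * emb S E (zc c) * (y ^ k)⁻¹) * y⁻¹ by group,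
          ih, hzfix]
    -- a central translation by an element of odd order is trivial
    have htriv : ∀ (n : ℕ) (x : G) (c : ZMod (4 * l)),
        y ^ n * x * (y ^ n)⁻¹ = x * emb S E (zc c) → y ^ n * x * (y ^ n)⁻¹ = x := by
      intro n x c h
      have hj : ∀ j : ℕ, (y ^ n) ^ j * x * ((y ^ n) ^ j)⁻¹ = x * emb S E (zc c) ^ j := by
        intro j
        induction j with
        | zero => simp
        | succ j ih =>
          calc (y ^ n) ^ (j + 1) * x * ((y ^ n) ^ (j + 1))⁻¹ =
              y ^ n * ((y ^ n) ^ j * x * ((y ^ n) ^ j)⁻¹) * (y ^ n)⁻¹ := by rw [pow_succ' (y ^ n)]; group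
            _ = (y ^ n * x * (y ^ n)⁻¹) * (y ^ n * emb S E (zc c) * (y ^ n)⁻¹) ^ j := by rw [ih, conj_pow]; group
            _ = x * emb S E (zc c) ^ (j + 1) := by rw [hyk, h, mul_assoc, ← pow_succ']
      have h1 := hj (orderOf y)
      rw [← pow_mul, mul_comm n, pow_mul, pow_orderOf_eq_one, one_pow, one_mul, inv_one, mul_one,
        eq_comm, mul_eq_left, ← map_pow] at h1
      have h2 : (zc c : WM l) ^ orderOf y = 1 := emb_injective S E (by rw [h1, map_one])
      obtain ⟨j, hj'⟩ := isPGroup_WM hm (zc c)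
      have h3 : (zc c : WM l) = 1 := TransferPow.eq_one_of_pow_eq_one_of_coprime hj' h2
        (Nat.Coprime.pow_left _ (Nat.coprime_two_left.2 hyo))
      rw [h, h3, map_one, mul_one]
    have hd1 : y * emb S E (dI l) * y⁻¹ = emb S E (dI l) := by
      simpa using htriv 1 _ cd (by simpa using hcd)
    -- the square fixes the coset of `t`
    obtain ⟨⟨a', b', e'⟩, hq', hqe'⟩ := hmap _ htQ
    have he' : e' = true := by
      by_contra h'
      rw [Bool.not_eq_true] at h'; subst h'
      obtain ⟨c', hc'⟩ : ∃ c', (⟨a', b', false⟩ : WM l) = zc c' ∨ (⟨a', b', false⟩ : WM l) = dI l * zc c' := by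
        rcases hq' with h' | h' <;> simp only at h'
        · exact ⟨b', Or.inl (by simp [zc, sub_eq_zero.1 h'])⟩
        · exact ⟨b', Or.inr (by simp only [dI, zc, mk_mul_false, WM.ext_iff]; exact ⟨by linear_combination h', by ring, trivial⟩)⟩
      rcases hc' with h' | h' <;> rw [h'] at hqe'
      · rw [← hzfix] at hqe'
        exact Bool.noConfusion (congrArg WM.e (emb_injective S E (mul_left_cancel (mul_right_cancel hqe'))))
      · rw [map_mul] at hqe'
        have : y * emb S E (tI l) * y⁻¹ = y * (emb S E (dI l) * emb S E (zc c')) * y⁻¹ := by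
          rw [hqe', show y * (emb S E (dI l) * emb S E (zc c')) * y⁻¹ =
            (y * emb S E (dI l) * y⁻¹) * (y * emb S E (zc c') * y⁻¹) by group, hd1, hzfix]
        rw [← map_mul] at this
        exact Bool.noConfusion (congrArg WM.e (emb_injective S E (mul_left_cancel (mul_right_cancel this))))
    subst he'
    have ht : y * emb S E (tI l) * y⁻¹ = emb S E (tI l) := by
      obtain ⟨f, hf, hfd⟩ : ∃ f : WM l, (f = 1 ∨ f = dI l) ∧
          (⟨a', b', true⟩ : WM l) = f * zc b' * tI l := by
        rcases hq' with h' | h' <;> simp only at h'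
        · exact ⟨1, Or.inl rfl, by simp [zc, sub_eq_zero.1 h']⟩
        · exact ⟨dI l, Or.inr rfl, by simp [zc, ← h']⟩
      have hf1 : y * emb S E f * y⁻¹ = emb S E f := by rcases hf with rfl | rfl <;> [simp; exact hd1]
      have hff : f * f = 1 := by rcases hf with rfl | rfl <;> simp [one_def, hh_add_hh]
      have h2 : y ^ 2 * emb S E (tI l) * (y ^ 2)⁻¹ = emb S E (tI l) * emb S E (zc (b' + b')) := by
        rw [sq, mul_inv_rev, show y * y * emb S E (tI l) * (y⁻¹ * y⁻¹) = y * (y * emb S E (tI l) * y⁻¹) * y⁻¹ by group,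
          hqe', hfd, map_mul, map_mul, show y * (emb S E f * emb S E (zc b') * emb S E (tI l)) * y⁻¹ =
            (y * emb S E f * y⁻¹) * (y * emb S E (zc b') * y⁻¹) * (y * emb S E (tI l) * y⁻¹) by group,
          hf1, hzfix, hqe', hfd, ← map_mul, ← map_mul, ← map_mul]
        congr 1
        calc f * zc b' * (f * zc b' * tI l) = f * (zc b' * f) * (zc b' * tI l) := by simp only [mul_assoc]
          _ = (f * f) * (zc b' * zc b') * tI l := by rw [← zc_mul_comm b' f]; simp only [mul_assoc]
          _ = tI l * zc (b' + b') := by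
            rw [hff, one_mul, zc_mul_comm (b' + b')]
            simp [zc]
      have h3 := htriv 2 _ _ h2
      exact mul_inv_eq_iff_eq_mul.2 (Subgroup.mem_centralizer_singleton_iff.1 (mem_of_sq_mem
        (F := Subgroup.centralizer ({emb S E (tI l)} : Set G)) hyo
        (Subgroup.mem_centralizer_singleton_iff.2 (mul_inv_eq_iff_eq_mul.1 h3))))
    rw [Subgroup.mem_centralizer_iff]
    rintro _ ⟨⟨a, b'', e⟩, hp, rfl⟩
    obtain ⟨f, hf, hfp⟩ : ∃ f : WM l, (f = 1 ∨ f = dI l) ∧
        (⟨a, b'', e⟩ : WM l) = f * zc b'' * (if e then tI l else 1) := by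
      rcases hp with h' | h' <;> simp only at h'
      · exact ⟨1, Or.inl rfl, by cases e <;> simp [zc, sub_eq_zero.1 h', one_def]⟩
      · exact ⟨dI l, Or.inr rfl, by cases e <;> simp [zc, ← h', one_def]⟩
    have hf1 : y * emb S E f * y⁻¹ = emb S E f := by rcases hf with rfl | rfl <;> [simp; exact hd1]
    have hlast : y * emb S E (if e then tI l else 1) * y⁻¹ = emb S E (if e then tI l else 1) := by
      cases e
      · simp
      · simpa using ht
    refine (mul_inv_eq_iff_eq_mul.1 ?_).symm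
    rw [hfp, map_mul, map_mul, show ∀ A B C : G, y * (A * B * C) * y⁻¹ =
      (y * A * y⁻¹) * (y * B * y⁻¹) * (y * C * y⁻¹) from fun A B C => by group, hf1, hzfix, hlast]
  · rcases inv_cases S E (emb_mem S E _) ho with h | h | h | ⟨v, h⟩
    · exact Bool.noConfusion (congrArg WM.e (emb_injective S E h))
    · exact Bool.noConfusion (congrArg WM.e (emb_injective S E h))
    · exact Bool.noConfusion (congrArg WM.e (emb_injective S E h))
    · have h' := emb_injective S E h
      simp only [WM.ext_iff] at h'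
      obtain ⟨rfl, rfl, -⟩ := h'
      refine ⟨w, hqe, ?_⟩
      rcases hq with h'' | h'' <;> simp only at h''
      · exact Or.inl (by linear_combination h'')
      · exact Or.inr (by linear_combination h'')

theorem V_six_fused (hl : ∃ m, l = 2 ^ m)
    (h6 : (V0 S E ⊔ Subgroup.centralizer (V0 S E : Set G)).relIndex
      (Subgroup.normalizer (V0 S E : Set G)) = 6) :
    IsConj (emb S E (dI l)) (emb S E (tI l)) := by
  obtain ⟨y, -, -, -, w, hw, -⟩ := V_six S E hl h6
  exact (isConj_iff.2 ⟨y, hw⟩).trans (conj_t S E w).symm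

theorem V0_cen {g : G} (h : (V0 S E).map (MulAut.conj g).toMonoidHom ≤ S) {x : G}
    (hx : x ∈ (S : Subgroup G))
    (hxc : x ∈ Subgroup.centralizer ((V0 S E).map (MulAut.conj g).toMonoidHom : Set G)) :
    x ∈ (V0 S E).map (MulAut.conj g).toMonoidHom := by
  let f : QuaternionGroup 2 →* WM l := (E.symm.toMonoidHom.comp
    ((Subgroup.inclusion h).comp (Subgroup.equivMapOfInjective (V0 S E) (MulAut.conj g).toMonoidHom
      (MulAut.conj g).injective).toMonoidHom)).comp
    ((((emb S E).comp (q8Hom l)).codRestrict (V0 S E) fun r =>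
      Subgroup.mem_map_of_mem _ (q8_range_le ⟨r, rfl⟩)))
  have hfe : ∀ r, emb S E (f r) = g * emb S E (q8Hom l r) * g⁻¹ := by
    intro r; simp [f, emb]; rfl
  have hf : Function.Injective f := fun r r' e => q8Hom_injective (emb_injective S E
    (mul_left_cancel (mul_right_cancel ((hfe r).symm.trans ((congrArg _ e).trans (hfe r'))))))
  obtain ⟨c, hc⟩ := q8_conj f hf
  have hcent : ∀ p : WM l, (∀ r, f r * p = p * f r) → ∃ a, p = zc a := by
    intro p hp
    have h1 : c⁻¹ * p * c ∈ Subgroup.centralizer (Q0 l : Set (WM l)) := by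
      rw [Subgroup.mem_centralizer_iff]
      intro q hq
      have hq' : c * q * c⁻¹ ∈ f.range := by rw [hc]; exact ⟨q, hq, rfl⟩
      obtain ⟨r, hr⟩ := hq'
      calc q * (c⁻¹ * p * c) = c⁻¹ * ((c * q * c⁻¹) * p) * c := by group
        _ = c⁻¹ * (p * (c * q * c⁻¹)) * c := by rw [← hr, hp]
        _ = c⁻¹ * p * c * q := by group
    have h2 := Q0_centralizer h1
    rw [center_eq] at h2
    obtain ⟨a, ha⟩ := mem_diag.1 h2
    refine ⟨a, ?_⟩
    rw [show p = c * (c⁻¹ * p * c) * c⁻¹ by group, ha]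
    show c * zc a * c⁻¹ = zc a
    rw [zc_mul_comm, mul_inv_cancel_right]
  obtain ⟨p, rfl⟩ := exists_emb S E hx
  obtain ⟨a, ha⟩ := hcent p fun r => emb_injective S E (by
    rw [map_mul, map_mul]
    exact Subgroup.mem_centralizer_iff.1 hxc _ ⟨_, Subgroup.mem_map_of_mem _ (q8_range_le ⟨r, rfl⟩), (hfe r).symm⟩)
  rw [ha]
  -- the centre of the image is the centre
  let F : ZMod (4 * l) → ZMod (4 * l) := fun i =>
    (E.symm ⟨_, h ⟨_, Subgroup.mem_map_of_mem (emb S E) (show zc i ∈ QZ l from Or.inl (sub_self i)), rfl⟩⟩).a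
  have hF : ∀ i, g * emb S E (zc i) * g⁻¹ = emb S E (zc (F i)) := by
    intro i
    set p' := E.symm ⟨_, h ⟨_, Subgroup.mem_map_of_mem (emb S E) (show zc i ∈ QZ l from Or.inl (sub_self i)), rfl⟩⟩ with hp'
    have he : emb S E p' = g * emb S E (zc i) * g⁻¹ := by simp [hp', emb]
    obtain ⟨b, hb⟩ := hcent p' fun r => emb_injective S E (by
      rw [map_mul, map_mul, he, hfe,
        show g * emb S E (q8Hom l r) * g⁻¹ * (g * emb S E (zc i) * g⁻¹) =
          g * (emb S E (q8Hom l r) * emb S E (zc i)) * g⁻¹ by group, ← map_mul, zc_mul_comm, map_mul]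
      group)
    rw [← he, hb]
    show _ = emb S E (zc p'.a)
    rw [hb]
  have hFinj : Function.Injective F := fun i j e => congrArg WM.a
    (emb_injective S E (mul_left_cancel (mul_right_cancel ((hF i).trans ((e ▸ rfl : emb S E (zc (F i)) = emb S E (zc (F j))).trans (hF j).symm)))))
  obtain ⟨i, hi⟩ := (Finite.injective_iff_surjective.1 hFinj) a
  exact ⟨_, Subgroup.mem_map_of_mem _ (show zc i ∈ QZ l from Or.inl (sub_self i)), by rw [← hi]; exact hF i⟩

/-- Index two on `Q Z`. -/
theorem V_two (h2 : (V0 S E ⊔ Subgroup.centralizer (V0 S E : Set G)).relIndex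
      (Subgroup.normalizer (V0 S E : Set G)) = 2) :
    ¬ IsConj (emb S E (dI l)) (emb S E (tI l)) := by
  intro hdt
  set W : Subgroup G := Subgroup.closure {x | ∃ c, x = emb S E (zc c) ∨ x = emb S E (tI l)} with hW
  have hzW : ∀ c, emb S E (zc c) ∈ W := fun c => Subgroup.subset_closure ⟨c, Or.inl rfl⟩
  have htW : emb S E (tI l) ∈ W := Subgroup.subset_closure ⟨0, Or.inr rfl⟩
  have hWle : ∀ {P : Subgroup G}, (∀ c, emb S E (zc c) ∈ P) → emb S E (tI l) ∈ P → W ≤ P := by
    intro P h1 h2
    rw [hW, Subgroup.closure_le]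
    rintro x ⟨c, rfl | rfl⟩
    · exact h1 c
    · exact h2
  have hWS : W ≤ S := hWle (fun c => emb_mem S E _) (emb_mem S E _)
  -- `W` is centralized by a conjugate of `U0`
  have key : ∃ k, ∀ x ∈ W, k * x * k⁻¹ ∈ U0 S E := by
    by_cases hzd : IsConj (emb S E (zI l)) (emb S E (dI l))
    · obtain ⟨g, hg⟩ := isConj_iff.1 (hdt.symm.trans hzd.symm)
      have hSF : (S : Subgroup G) ≤ Subgroup.centralizer ({emb S E (zI l)} : Set G) := by
        intro y hy
        obtain ⟨p, rfl⟩ := exists_emb S E hy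
        rw [Subgroup.mem_centralizer_singleton_iff, ← map_mul, ← map_mul, zc_mul_comm]
      have hWF : W.map (MulAut.conj g).toMonoidHom ≤ Subgroup.centralizer ({emb S E (zI l)} : Set G) := by
        rw [Subgroup.map_le_iff_le_comap]
        have hk : ∀ x, x * emb S E (tI l) = emb S E (tI l) * x →
            x ∈ (Subgroup.centralizer ({emb S E (zI l)} : Set G)).comap (MulAut.conj g).toMonoidHom := by
          intro x hx
          rw [Subgroup.mem_comap, Subgroup.mem_centralizer_singleton_iff, ← hg]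
          simp only [MulEquiv.coe_toMonoidHom, MulAut.conj_apply]
          calc g * x * g⁻¹ * (g * emb S E (tI l) * g⁻¹) = g * (x * emb S E (tI l)) * g⁻¹ := by group
            _ = g * (emb S E (tI l) * x) * g⁻¹ := by rw [hx]
            _ = _ := by group
        exact hWle (fun c => hk _ (by rw [← map_mul, ← map_mul, ← zc_mul_comm])) (hk _ rfl)
      obtain ⟨c, hc, hcS⟩ := exists_conj_into_sylow S hSF ((S.2.to_le hWS).map _) hWF
      have hin : ∀ x ∈ W, c * g * x * (c * g)⁻¹ ∈ (S : Subgroup G) := fun x hx => by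
        have := hcS _ ⟨x, hx, rfl⟩
        simpa [mul_assoc] using this
      refine ⟨c * g, fun x hx => ?_⟩
      obtain ⟨q, hq⟩ := exists_emb S E (hin _ (hzW (l : ZMod (4 * l))))
      obtain ⟨p, hp⟩ := exists_emb S E (hin x hx)
      have hqq : emb S E (q * q) = c * g * emb S E (zI l) * (c * g)⁻¹ := by
        rw [map_mul, hq, show zI l = zc (l : ZMod (4 * l)) * zc (l : ZMod (4 * l)) by simp [zc, zI, hh, two_mul],
          map_mul]
        group
      have hqz : q * q ≠ zI l := by
        intro e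
        rw [e] at hqq
        have hcz := mul_inv_eq_iff_eq_mul.2 (Subgroup.mem_centralizer_singleton_iff.1 hc)
        have e3 : c * (g * emb S E (zI l) * g⁻¹) * c⁻¹ = c * (g * emb S E (tI l) * g⁻¹) * c⁻¹ := by
          rw [hg, hcz]
          rw [show c * (g * emb S E (zI l) * g⁻¹) * c⁻¹ = c * g * emb S E (zI l) * (c * g)⁻¹ by group]
          exact hqq.symm
        have e4 := mul_left_cancel (mul_right_cancel (mul_left_cancel (mul_right_cancel e3)))
        exact Bool.noConfusion (congrArg WM.e (emb_injective S E e4))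
      have hcomm : p * q = q * p := emb_injective S E (by
        rw [map_mul, map_mul, hp, hq]
        have hxz : x * emb S E (zc (l : ZMod (4 * l))) = emb S E (zc (l : ZMod (4 * l))) * x := by
          obtain ⟨r, rfl⟩ := exists_emb S E (hWS hx)
          rw [← map_mul, ← map_mul, zc_mul_comm]
        calc c * g * x * (c * g)⁻¹ * (c * g * emb S E (zc (l : ZMod (4 * l))) * (c * g)⁻¹)
            = c * g * (x * emb S E (zc (l : ZMod (4 * l)))) * (c * g)⁻¹ := by group
          _ = c * g * (emb S E (zc (l : ZMod (4 * l))) * x) * (c * g)⁻¹ := by rw [hxz]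
          _ = _ := by group)
      have hqinv : orderOf (emb S E (q * q)) = 2 := by
        rw [hqq, show c * g * emb S E (zI l) * (c * g)⁻¹ = MulAut.conj (c * g) (emb S E (zI l)) from rfl,
          MulEquiv.orderOf_eq, order_z S E]
      rw [← hp]
      refine Subgroup.mem_map_of_mem _ (mem_AS.2 ?_)
      by_contra he
      rw [Bool.not_eq_false] at he
      obtain ⟨a, b, e⟩ := p
      simp only at he; subst he
      obtain ⟨a', b', e'⟩ := q
      cases e'
      · have h1 := congrArg WM.a hcomm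
        simp only [mk_mul_true, mk_mul_false] at h1
        obtain rfl : b' = a' := by linear_combination h1
        rcases inv_cases S E (emb_mem S E _) hqinv with e | e | e | ⟨u, e⟩
        · exact hqz (emb_injective S E e)
        all_goals
          have e' := emb_injective S E e
          simp only [mk_mul_false, WM.ext_iff] at e'
        · exact hh_ne (e'.1.symm.trans e'.2.1)
        · exact hh_ne (e'.2.1.symm.trans e'.1)
        · exact Bool.noConfusion e'.2.2
      · rcases inv_cases S E (emb_mem S E _) hqinv with e | e | e | ⟨u, e⟩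
        · exact hqz (emb_injective S E e)
        all_goals
          have e' := emb_injective S E e
          simp only [mk_mul_true, WM.ext_iff, Bool.not_true] at e'
        · exact hh_ne (l := l) (by linear_combination e'.2.1 - e'.1)
        · exact hh_ne (l := l) (by linear_combination e'.1 - e'.2.1)
        · exact Bool.noConfusion e'.2.2
    · obtain ⟨g, hg⟩ := isConj_iff.1 hdt.symm
      have hWF : W.map (MulAut.conj g).toMonoidHom ≤ Subgroup.centralizer ({emb S E (dI l)} : Set G) := by
        rw [Subgroup.map_le_iff_le_comap]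
        have hk : ∀ x, x * emb S E (tI l) = emb S E (tI l) * x →
            x ∈ (Subgroup.centralizer ({emb S E (dI l)} : Set G)).comap (MulAut.conj g).toMonoidHom := by
          intro x hx
          rw [Subgroup.mem_comap, Subgroup.mem_centralizer_singleton_iff, ← hg]
          simp only [MulEquiv.coe_toMonoidHom, MulAut.conj_apply]
          calc g * x * g⁻¹ * (g * emb S E (tI l) * g⁻¹) = g * (x * emb S E (tI l)) * g⁻¹ := by group
            _ = g * (emb S E (tI l) * x) * g⁻¹ := by rw [hx]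
            _ = _ := by group
        exact hWle (fun c => hk _ (by rw [← map_mul, ← map_mul, ← zc_mul_comm])) (hk _ rfl)
      obtain ⟨c, hc, hcU⟩ := into_U0 S E hzd ((S.2.to_le hWS).map _) hWF
      refine ⟨c * g, fun x hx => ?_⟩
      have := hcU _ ⟨x, hx, rfl⟩
      simpa [mul_assoc] using this
  obtain ⟨k, hk⟩ := key
  -- the normalizer of `W` contains a Sylow subgroup
  set F := Subgroup.normalizer (W : Set G) with hF
  have hAC : (U0 S E).map (MulAut.conj k⁻¹).toMonoidHom ≤ Subgroup.centralizer (W : Set G) := by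
    rintro _ ⟨u, hu, rfl⟩
    rw [Subgroup.mem_centralizer_iff]
    intro x hx
    have h := U0_comm S E (hk x hx) hu
    simp only [MulEquiv.coe_toMonoidHom, MulAut.conj_apply, inv_inv]
    calc x * (k⁻¹ * u * k) = k⁻¹ * ((k * x * k⁻¹) * u) * k := by group
      _ = k⁻¹ * (u * (k * x * k⁻¹)) * k := by rw [h]
      _ = k⁻¹ * u * k * x := by group
  have hdF : emb S E (dI l) ∈ F := by
    refine QDFusion.mem_normalizer_of_map_le fun x hx => ?_
    refine (hWle (P := W.comap (MulAut.conj (emb S E (dI l))).toMonoidHom) (fun c => ?_) ?_) hx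
    · show emb S E (dI l) * emb S E (zc c) * (emb S E (dI l))⁻¹ ∈ W
      rw [← map_mul, zc_mul_comm, map_mul, mul_inv_cancel_right]
      exact hzW c
    · show emb S E (dI l) * emb S E (tI l) * (emb S E (dI l))⁻¹ ∈ W
      rw [← map_inv, ← map_mul, ← map_mul, show dI l * tI l * (dI l)⁻¹ = zc (hh l) * tI l by
        simp [zc, neg_hh], map_mul]
      exact mul_mem (hzW _) htW
  have hcF : Subgroup.centralizer (W : Set G) ≤ F := Subgroup.centralizer_le_normalizer _
  have hbig : ∃ g : G, (S : Subgroup G).map (MulAut.conj g).toMonoidHom ≤ F := by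
    set C' := (Subgroup.centralizer (W : Set G)).subgroupOf F with hC'
    have hC'n : C'.Normal := by
      rw [hC', hF, ← Subgroup.normalizerMonoidHom_ker]; infer_instance
    have hA : 16 * l ^ 2 ∣ Nat.card C' := by
      rw [Nat.card_congr (Subgroup.subgroupOfEquivOfLe hcF).toEquiv, ← U0_card S E,
        ← Subgroup.card_map_of_injective (f := (MulAut.conj k⁻¹).toMonoidHom) (MulAut.conj k⁻¹).injective]
      exact Subgroup.card_dvd_of_le hAC
    have h2i : 2 ∣ C'.index := by
      have h1 : orderOf ((⟨_, hdF⟩ : F) : F ⧸ C') = 2 := by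
        refine orderOf_eq_prime ?_ ?_
        · rw [← QuotientGroup.mk_pow, show (⟨_, hdF⟩ : F) ^ 2 = 1 from Subtype.ext (by
            rw [Subgroup.coe_pow, ← map_pow]; simp [sq, hh_add_hh, ← one_def]), QuotientGroup.mk_one]
        · intro h
          rw [QuotientGroup.eq_one_iff, hC', Subgroup.mem_subgroupOf] at h
          have h' := Subgroup.mem_centralizer_iff.1 h _ htW
          rw [← map_mul, ← map_mul] at h'
          have := congrArg WM.a (emb_injective S E h')
          simp at this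
          exact hh_ne this.symm
      rw [← h1]
      exact orderOf_dvd_natCard _
    obtain ⟨N, hN⟩ : ∃ N, Nat.card (S : Subgroup G) = 2 ^ N := S.2.exists_card_eq
    have : Fact (Nat.Prime 2) := ⟨Nat.prime_two⟩
    have hdiv : 2 ^ N ∣ Nat.card F := by
      rw [← hN, card_S S E, ← C'.card_mul_index, show 32 * l ^ 2 = 16 * l ^ 2 * 2 by ring]
      exact Nat.mul_dvd_mul hA h2i
    obtain ⟨K, hK⟩ := Sylow.exists_subgroup_card_pow_prime 2 hdiv
    obtain ⟨R, hR⟩ := ((IsPGroup.of_card hK).map F.subtype).exists_le_sylow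
    obtain ⟨g, hg⟩ := MulAction.exists_smul_eq G S R
    refine ⟨g, ?_⟩
    have hRK : K.map F.subtype = (R : Subgroup G) := by
      refine Subgroup.eq_of_le_of_card_ge hR ?_
      rw [Subgroup.card_map_of_injective F.subtype_injective, hK, ← hN]
      exact (Nat.card_congr (Sylow.equiv R S).toEquiv).le
    have : (S : Subgroup G).map (MulAut.conj g).toMonoidHom = (R : Subgroup G) := by
      rw [← hg]; exact (TransferAlperin.smul_coe_eq_cj g S).symm
    rw [this, ← hRK]
    exact Subgroup.map_subtype_le K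
  refine index_ne_two S (F := F) ?_ ?_ hbig (V0_le S E) ?_ ?_ h2
  · have hWV : W ≤ V0 S E := hWle (fun c => Subgroup.mem_map_of_mem _ (Or.inl (sub_self c)))
      (Subgroup.mem_map_of_mem _ (Or.inl (sub_self 0)))
    refine sup_le ?_ ((Subgroup.centralizer_le (show (W : Set G) ⊆ V0 S E from hWV)).trans hcF)
    rintro _ ⟨⟨a, b, e⟩, hp, rfl⟩
    refine QDFusion.mem_normalizer_of_map_le fun x hx => ?_
    refine (hWle (P := W.comap (MulAut.conj (emb S E ⟨a, b, e⟩)).toMonoidHom) (fun c => ?_) ?_) hx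
    · show emb S E ⟨a, b, e⟩ * emb S E (zc c) * (emb S E ⟨a, b, e⟩)⁻¹ ∈ W
      rw [← map_mul, zc_mul_comm, map_mul, mul_inv_cancel_right]
      exact hzW c
    · show emb S E ⟨a, b, e⟩ * emb S E (tI l) * (emb S E ⟨a, b, e⟩)⁻¹ ∈ W
      rw [← map_inv, ← map_mul, ← map_mul]
      have e1 : (⟨a, b, e⟩ : WM l) * tI l * (⟨a, b, e⟩ : WM l)⁻¹ = zc (a - b) * tI l := by
        have hab : b - a = a - b := by
          rcases hp with h | h <;> simp only at h
          · linear_combination (-2 : ZMod (4 * l)) * h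
          · linear_combination (-2 : ZMod (4 * l)) * h - hh_add_hh (l := l)
        cases e <;> simp only [zc, mk_inv_false, mk_inv_true, mk_mul_true, mk_mul_false, Bool.not_true,
          Bool.not_false, add_zero, WM.ext_iff] <;> exact ⟨by ring, by linear_combination hab, trivial⟩
      rw [e1, map_mul]
      exact mul_mem (hzW _) htW
  · refine ⟨emb S E ⟨(l : ZMod (4 * l)), 0, false⟩, Subgroup.le_normalizer_map (emb S E) ⟨_, ?_, rfl⟩, fun h => ?_⟩
    · refine QDFusion.mem_normalizer_of_map_le ?_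
      rintro ⟨a, b, e⟩ hp
      rw [conj_false]
      rw [mem_QZ] at hp
      cases e
      · exact mem_QZ.2 hp
      · simp only [if_true]
        rw [mem_QZ]
        simp only at hp ⊢
        have h4 := hh_add_hh (l := l)
        unfold hh at h4 hp ⊢
        rcases hp with hp | hp
        · exact Or.inr (by linear_combination hp)
        · exact Or.inl (by linear_combination hp + h4)
    · have h' := (Subgroup.mem_normalizer_iff.1 h _).1 htW
      have hsub : W ≤ (Subgroup.closure {p : WM l | ∃ c, p = zc c ∨ p = tI l}).map (emb S E) :=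
        hWle (fun c => ⟨_, Subgroup.subset_closure ⟨c, Or.inl rfl⟩, rfl⟩)
          ⟨_, Subgroup.subset_closure ⟨0, Or.inr rfl⟩, rfl⟩
      obtain ⟨p, hp, hpe⟩ := hsub h'
      have hcl : Subgroup.closure {p : WM l | ∃ c, p = zc c ∨ p = tI l} ≤
          ({ carrier := {p | p.a = p.b}
             one_mem' := rfl
             mul_mem' := fun {p q} hp hq => by
              simp only [Set.mem_ofPred_eq, mul_def] at hp hq ⊢
              cases p.e <;> simp [hp, hq]
             inv_mem' := fun {p} hp => by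
              simp only [Set.mem_ofPred_eq, inv_def] at hp ⊢
              cases p.e <;> simp [hp] } : Subgroup (WM l)) := by
        rw [Subgroup.closure_le]
        rintro p ⟨c, rfl | rfl⟩ <;> rfl
      have h1 : p.a = p.b := hcl hp
      rw [← map_inv, ← map_mul, ← map_mul] at hpe
      rw [emb_injective S E hpe, conj_false] at h1
      simp only [if_true] at h1
      exact hh_ne (l := l) (by rw [hh]; linear_combination h1)
  · rw [Subgroup.card_map_of_injective (emb_injective S E), card_S S E]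
    have hle : Nat.card (QZ l) ∣ Nat.card (WM l) := (QZ l).card_subgroup_dvd_card
    refine lt_of_le_of_ne (Nat.le_of_dvd (by have := NeZero.pos l; positivity) (card_eq (l := l) ▸ hle)) ?_
    intro e
    have : (⟨1, 0, false⟩ : WM l) ∈ QZ l := by
      rw [Subgroup.eq_top_of_card_eq (QZ l) (e.trans card_eq.symm)]; trivial
    rcases this with h | h <;> simp only [sub_zero] at h
    · exact hh_ne (l := l) (by rw [← mul_one (hh l), h, mul_zero])
    · exact one_ne_two_mul (l : ZMod (4 * l)) (by rw [h, hh])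
  · exact fun g hg c hc hcc => V0_cen S E hg hc hcc

end Cfsg.Agent.WrFusion
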