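import Mathlib
import Cfsg.Agent.Lib.WrFusion
import Cfsg.Agent.Lib.QDFusionSub

/-!
Classes of involutions and normal subgroups in a group with wreathed Sylow 2-subgroup.
-/

set_option autoImplicit false
set_option linter.unusedSectionVars false

namespace Cfsg.Agent.WrFusionSub

open Cfsg.Agent.QDWreathBase Cfsg.Agent.QDWreathWr Cfsg.Agent.QDWreathWrSub Cfsg.Agent.QDWreathWrAut
  Cfsg.Agent.QDWreathWrQZ Cfsg.Agent.QDWreathWrLocal Cfsg.Agent.TwoFusionTools Cfsg.Agent.WrFusion

variable {G : Type*} [Group G] [Finite G] {l : ℕ} [NeZero l] (S : Sylow 2 G)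
  (E : WM l ≃* (S : Subgroup G))

theorem center_map : (Subgroup.center (S : Subgroup G)).map (S : Subgroup G).subtype =
    (Subgroup.center (WM l)).map (emb S E) := by
  rw [emb, ← Subgroup.map_map]
  congr 1
  ext b
  obtain ⟨a, rfl⟩ := E.surjective b
  constructor
  · intro h
    refine ⟨a, Subgroup.mem_center_iff.2 fun g => E.injective ?_, rfl⟩
    rw [map_mul, map_mul, Subgroup.mem_center_iff.1 h (E g)]
  · rintro ⟨a', ha', h⟩
    obtain rfl : a' = a := E.injective h
    rw [Subgroup.mem_center_iff]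
    intro g
    obtain ⟨g', rfl⟩ := E.surjective g
    rw [← map_mul, ← map_mul, Subgroup.mem_center_iff.1 ha' g']

theorem mem_center_map {y : G}
    (h : y ∈ (Subgroup.center (S : Subgroup G)).map (S : Subgroup G).subtype) :
    ∃ c, y = emb S E (zc c) := by
  rw [center_map S E] at h
  obtain ⟨p, hp, rfl⟩ := h
  rw [center_eq] at hp
  obtain ⟨a, rfl⟩ := mem_diag.1 hp
  exact ⟨a, rfl⟩

theorem standard_V {Q : Subgroup G} (hQS : Q ≤ S) (e : Q ≃* QuaternionGroup 2) :
    ∃ g : G, Q ⊔ (Subgroup.center (S : Subgroup G)).map (S : Subgroup G).subtype =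
      (V0 S E).map (MulAut.conj g).toMonoidHom := by
  let f : QuaternionGroup 2 →* WM l := (E.symm.toMonoidHom.comp (Subgroup.inclusion hQS)).comp e.symm.toMonoidHom
  have hf : Function.Injective f :=
    (E.symm.injective.comp (Subgroup.inclusion_injective hQS)).comp e.symm.injective
  obtain ⟨c, hc⟩ := q8_conj f hf
  refine ⟨emb S E c, ?_⟩
  have hQ : Q = ((Q0 l).map (MulAut.conj c).toMonoidHom).map (emb S E) := by
    rw [← hc]
    ext x
    constructor
    · intro hx
      exact ⟨f (e ⟨x, hx⟩), ⟨_, rfl⟩, by simp [emb, f]⟩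
    · rintro ⟨_, ⟨r, rfl⟩, rfl⟩
      simp only [emb, f, MonoidHom.coe_comp, Subgroup.coe_subtype, MulEquiv.coe_toMonoidHom,
        Function.comp_apply, MulEquiv.apply_symm_apply, Subgroup.coe_inclusion]
      exact (e.symm r).2
  have hcomp : (MulAut.conj (emb S E c)).toMonoidHom.comp (emb S E) =
      (emb S E).comp (MulAut.conj c).toMonoidHom := by ext p; simp
  rw [center_map S E, hQ, ← Subgroup.map_sup, V0, Subgroup.map_map, hcomp, ← Subgroup.map_map (QZ l)]
  congr 1
  rw [QZ_eq, Subgroup.map_sup,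
    Subgroup.characteristic_iff_map_eq.1 (inferInstance : (Subgroup.center (WM l)).Characteristic)]

theorem index_U {U : Subgroup G} (hUS : U ≤ S) (hUab : IsMulCommutative U) {n : ℕ}
    (hn : 2 ≤ n) (hcard : Nat.card U = 2 ^ (2 * n)) (hl : l = 2 ^ (n - 2)) : U = U0 S E := by
  refine U0_unique S E hUS hUab ?_
  obtain ⟨c, rfl⟩ : ∃ c, n = c + 2 := ⟨n - 2, by omega⟩
  rw [hcard, hl, ← pow_mul, show c + 2 - 2 = c by omega, show 2 * (c + 2) = c * 2 + 4 by ring, pow_add]
  ring

/-- Every involution is conjugate to one of three. -/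
theorem inv_conj {y : G} (hy : orderOf y = 2) :
    IsConj (emb S E (zI l)) y ∨ IsConj (emb S E (dI l)) y ∨ IsConj (emb S E (tI l)) y := by
  have hp : IsPGroup 2 (Subgroup.zpowers y) := IsPGroup.of_card (n := 1) (by rw [Nat.card_zpowers, hy, pow_one])
  obtain ⟨P, hP⟩ := hp.exists_le_sylow
  obtain ⟨g, rfl⟩ := MulAction.exists_smul_eq G S P
  have h1 := hP (Subgroup.mem_zpowers y)
  rw [Sylow.coe_subgroup_smul, Subgroup.mem_smul_pointwise_iff_exists] at h1
  obtain ⟨z, hz, rfl⟩ := h1
  have hzo : orderOf z = 2 := by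
    rw [← hy]; exact (orderOf_injective (MulAut.conj g).toMonoidHom (MulAut.conj g).injective z).symm
  have hconj : IsConj z (MulAut.conj g • z) := isConj_iff.2 ⟨g, rfl⟩
  rcases inv_cases S E hz hzo with rfl | rfl | rfl | ⟨u, rfl⟩
  · exact Or.inl hconj
  · exact Or.inr (Or.inl hconj)
  · exact Or.inr (Or.inl ((conj_d S E).symm.trans hconj))
  · exact Or.inr (Or.inr ((conj_t S E u).trans hconj))

theorem classes_one (h1 : IsConj (emb S E (zI l)) (emb S E (dI l)))
    (h2 : IsConj (emb S E (dI l)) (emb S E (tI l))) :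
    Nat.card {D : ConjClasses G // ∃ t : G, orderOf t = 2 ∧ ConjClasses.mk t = D} = 1 := by
  rw [card_classes_eq (P := fun t => orderOf t = 2) [emb S E (zI l)]]
  · rfl
  · intro a ha
    rw [List.mem_singleton] at ha
    rw [ha, order_z S E]
  · intro t ht
    refine ⟨_, List.mem_singleton_self _, ?_⟩
    rcases inv_conj S E ht with h | h | h
    · exact h
    · exact h1.trans h
    · exact (h1.trans h2).trans h
  · simp

theorem classes_zd (h1 : IsConj (emb S E (zI l)) (emb S E (dI l)))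
    (h2 : ¬ IsConj (emb S E (dI l)) (emb S E (tI l))) :
    Nat.card {D : ConjClasses G // ∃ t : G, orderOf t = 2 ∧ ConjClasses.mk t = D} = 2 := by
  rw [card_classes_eq (P := fun t => orderOf t = 2) [emb S E (zI l), emb S E (tI l)]]
  · rfl
  · intro a ha
    simp only [List.mem_cons, List.not_mem_nil, or_false] at ha
    rcases ha with rfl | rfl
    · exact order_z S E
    · exact order_t S E
  · intro t ht
    rcases inv_conj S E ht with h | h | h
    · exact ⟨_, List.mem_cons_self, h⟩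
    · exact ⟨_, List.mem_cons_self, h1.trans h⟩
    · exact ⟨_, List.mem_cons_of_mem _ List.mem_cons_self, h⟩
  · exact List.pairwise_pair.2 fun h => h2 (h1.symm.trans h)

theorem classes_dt (h1 : ¬ IsConj (emb S E (zI l)) (emb S E (dI l)))
    (h2 : IsConj (emb S E (dI l)) (emb S E (tI l))) :
    Nat.card {D : ConjClasses G // ∃ t : G, orderOf t = 2 ∧ ConjClasses.mk t = D} = 2 := by
  rw [card_classes_eq (P := fun t => orderOf t = 2) [emb S E (zI l), emb S E (dI l)]]
  · rfl
  · intro a ha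
    simp only [List.mem_cons, List.not_mem_nil, or_false] at ha
    rcases ha with rfl | rfl
    · exact order_z S E
    · exact order_d S E
  · intro t ht
    rcases inv_conj S E ht with h | h | h
    · exact ⟨_, List.mem_cons_self, h⟩
    · exact ⟨_, List.mem_cons_of_mem _ List.mem_cons_self, h⟩
    · exact ⟨_, List.mem_cons_of_mem _ List.mem_cons_self, h2.trans h⟩
  · exact List.pairwise_pair.2 h1

theorem classes_three (h1 : ¬ IsConj (emb S E (zI l)) (emb S E (dI l)))
    (h2 : ¬ IsConj (emb S E (dI l)) (emb S E (tI l))) :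
    Nat.card {D : ConjClasses G // ∃ t : G, orderOf t = 2 ∧ ConjClasses.mk t = D} = 3 := by
  rw [card_classes_eq (P := fun t => orderOf t = 2) [emb S E (zI l), emb S E (dI l), emb S E (tI l)]]
  · rfl
  · intro a ha
    simp only [List.mem_cons, List.not_mem_nil, or_false] at ha
    rcases ha with rfl | rfl | rfl
    · exact order_z S E
    · exact order_d S E
    · exact order_t S E
  · intro t ht
    rcases inv_conj S E ht with h | h | h
    · exact ⟨_, List.mem_cons_self, h⟩
    · exact ⟨_, List.mem_cons_of_mem _ List.mem_cons_self, h⟩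
    · exact ⟨_, List.mem_cons_of_mem _ (List.mem_cons_of_mem _ List.mem_cons_self), h⟩
  · simp only [List.pairwise_cons, List.mem_cons, List.not_mem_nil, or_false, forall_eq,
      List.Pairwise.nil, and_true, false_implies, implies_true, forall_eq_or_imp]
    exact ⟨⟨h1, fun h => h1 (zt_fused S E h.symm)⟩, h2⟩

/-- A permutation of the involutions of `U0` of order three kills the homs to groups of order two. -/
theorem U_kill (hl : ∃ m, l = 2 ^ m)
    (h6 : (Subgroup.centralizer (U0 S E : Set G)).relIndex (Subgroup.normalizer (U0 S E : Set G)) = 6)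
    {K : Subgroup G} (hK : ∀ y : G, Odd (orderOf y) → y ∈ K) (hUK : U0 S E ≤ K)
    (φ : K →* Multiplicative (ZMod 2)) : ∀ x, ∀ hx : x ∈ U0 S E, φ ⟨x, hUK hx⟩ = 1 := by
  obtain ⟨y, hyN, hyo, hcyc⟩ := U_six S E hl h6
  let ψ : AS l →* Multiplicative (ZMod 2) := φ.comp
    (((emb S E).comp (AS l).subtype).codRestrict K fun p => hUK (Subgroup.mem_map_of_mem _ p.2))
  have hv : ∀ v : Multiplicative (ZMod 2), v * v = 1 := by decide
  have heven : ∀ a : ZMod (4 * l), 2 * (l : ZMod (4 * l)) * a = 0 → ∃ t, a = 2 * t := by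
    intro a ha
    obtain ⟨t, rfl | rfl⟩ := even_or_odd a
    · exact ⟨t, rfl⟩
    · exact absurd (show hh l = 0 by rw [hh]; linear_combination ha - t * four_l (l := l)) hh_ne
  have hkey : ∀ v w : AS l, (v : WM l) ^ (2 * l) = (w : WM l) ^ (2 * l) → ψ v = ψ w := by
    intro v w h
    obtain ⟨⟨a, b, e⟩, hv'⟩ := v
    obtain ⟨⟨a', b', e'⟩, hw'⟩ := w
    obtain rfl : e = false := mem_AS.1 hv'
    obtain rfl : e' = false := mem_AS.1 hw'
    simp only [pow_false, WM.ext_iff] at h
    push_cast at h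
    obtain ⟨p, hp⟩ := heven (a - a') (by linear_combination h.1)
    obtain ⟨q, hq⟩ := heven (b - b') (by linear_combination h.2.1)
    have e : (⟨⟨a, b, false⟩, hv'⟩ : AS l) = ⟨⟨a', b', false⟩, hw'⟩ *
        (⟨⟨p, q, false⟩, mem_AS.2 rfl⟩ * ⟨⟨p, q, false⟩, mem_AS.2 rfl⟩) := by
      apply Subtype.ext
      simp only [Subgroup.coe_mul, mk_mul_false, WM.ext_iff]
      exact ⟨by linear_combination hp, by linear_combination hq, trivial⟩
    rw [e, map_mul, map_mul, hv, mul_one]
  have hconj : ∀ (v : AS l), ∃ w : AS l, emb S E w = y * emb S E v * y⁻¹ ∧ ψ w = ψ v := by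
    intro v
    obtain ⟨w, hw, hwe⟩ := (Subgroup.mem_normalizer_iff.1 hyN _).1 (Subgroup.mem_map_of_mem (emb S E) v.2)
    refine ⟨⟨w, hw⟩, hwe, ?_⟩
    have e : (((emb S E).comp (AS l).subtype).codRestrict K fun p => hUK (Subgroup.mem_map_of_mem _ p.2)) ⟨w, hw⟩ =
        ⟨y, hK y hyo⟩ * (((emb S E).comp (AS l).subtype).codRestrict K fun p => hUK (Subgroup.mem_map_of_mem _ p.2)) v *
          ⟨y, hK y hyo⟩⁻¹ := Subtype.ext hwe
    show φ _ = φ _
    rw [e, map_mul, map_mul, map_inv, mul_comm (φ ⟨y, hK y hyo⟩), mul_inv_cancel_right]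
  let a11 : AS l := ⟨⟨1, 1, false⟩, mem_AS.2 rfl⟩
  let a10 : AS l := ⟨⟨1, 0, false⟩, mem_AS.2 rfl⟩
  let a01 : AS l := ⟨⟨0, 1, false⟩, mem_AS.2 rfl⟩
  have p11 : (a11 : WM l) ^ (2 * l) = zI l := by simp [a11, pow_false, hh]
  have p10 : (a10 : WM l) ^ (2 * l) = dI l := by simp [a10, pow_false, hh]
  have p01 : (a01 : WM l) ^ (2 * l) = dI' l := by simp [a01, pow_false, hh]
  have step : ∀ (v v' : AS l) (P Q : WM l), (v : WM l) ^ (2 * l) = P → (v' : WM l) ^ (2 * l) = Q →
      y * emb S E P * y⁻¹ = emb S E Q → ψ v = ψ v' := by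
    intro v v' P Q hP hQ h
    obtain ⟨w, hwe, hw⟩ := hconj v
    rw [← hw]
    refine hkey _ _ (emb_injective S E ?_)
    rw [map_pow, hwe, conj_pow, ← map_pow, hP, h, hQ]
  have hsum : ψ a11 = ψ a10 * ψ a01 := by
    rw [← map_mul]
    congr 1
    apply Subtype.ext
    simp [a11, a10, a01]
  have hall : ψ a10 = 1 ∧ ψ a01 = 1 ∧ ψ a11 = 1 := by
    rcases hcyc with ⟨c1, c2⟩ | ⟨c1, c2⟩
    · have e1 := step a11 a10 _ _ p11 p10 c1
      have e2 := step a10 a01 _ _ p10 p01 c2
      rw [e1, ← e2, hv] at hsum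
      exact ⟨hsum, e2 ▸ hsum, e1 ▸ hsum⟩
    · have e1 := step a11 a01 _ _ p11 p01 c1
      have e2 := step a01 a10 _ _ p01 p10 c2
      rw [e1, ← e2, hv] at hsum
      exact ⟨e2 ▸ hsum, hsum, e1 ▸ hsum⟩
  rintro _ ⟨⟨a, b, e⟩, hp, rfl⟩
  obtain rfl : e = false := mem_AS.1 hp
  have e : (⟨⟨a, b, false⟩, hp⟩ : AS l) = a10 ^ a.val * a01 ^ b.val := by
    apply Subtype.ext
    simp [a10, a01, pow_false]
  show ψ ⟨⟨a, b, false⟩, hp⟩ = 1
  rw [e, map_mul, map_pow, map_pow, hall.1, hall.2.1, one_pow, one_pow, mul_one]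

/-- With no odd automorphisms there is a normal 2-complement. -/
theorem complement (hl : ∃ m, l = 2 ^ m)
    (h1 : (Subgroup.centralizer (U0 S E : Set G)).relIndex (Subgroup.normalizer (U0 S E : Set G)) = 2)
    (h2 : (V0 S E ⊔ Subgroup.centralizer (V0 S E : Set G)).relIndex
      (Subgroup.normalizer (V0 S E : Set G)) = 2) : Cfsg.HasNormalPComplement 2 G := by
  obtain ⟨m, hm⟩ := hl
  have : Fact (Nat.Prime 2) := ⟨Nat.prime_two⟩
  refine TransferAlperin.hasNormalPComplement_of_local S fun T hTS _ hcen _ g hg hgo => ?_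
  by_contra hgC
  have hgodd : Odd (orderOf g) := Nat.coprime_two_right.1 hgo
  set Y := T.comap (emb S E) with hY
  have hTY : T = Y.map (emb S E) := (Subgroup.map_comap_eq_self fun x hx => exists_emb S E (hTS hx)).symm
  have hCY : Subgroup.centralizer (Y : Set (WM l)) ≤ Y := by
    intro p hp
    refine hcen ⟨emb_mem S E p, Subgroup.mem_centralizer_iff.2 fun q hq => ?_⟩
    obtain ⟨q', rfl⟩ := exists_emb S E (hTS hq)
    rw [← map_mul, ← map_mul, Subgroup.mem_centralizer_iff.1 hp q' hq]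
  let e : Y ≃* T := (Subgroup.equivMapOfInjective Y _ (emb_injective S E)).trans (MulEquiv.subgroupCongr hTY.symm)
  let σ : MulAut Y := MulAut.congr e.symm (T.normalizerMonoidHom ⟨g, hg⟩)
  have hσk : σ ^ orderOf g = 1 := by
    rw [← map_pow, ← map_pow, show (⟨g, hg⟩ : Subgroup.normalizer (T : Set G)) ^ orderOf g = 1 from
      Subtype.ext (by rw [Subgroup.coe_pow]; exact pow_orderOf_eq_one g), map_one, map_one]
  have hσ : σ ≠ 1 := by
    intro h
    rw [MulEquiv.map_eq_one_iff, ← MonoidHom.mem_ker, Subgroup.normalizerMonoidHom_ker] at h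
    exact hgC (Subgroup.mem_subgroupOf.1 h)
  have hin : ∀ H : Subgroup G, (H ⊔ Subgroup.centralizer (H : Set G)).relIndex
      (Subgroup.normalizer (H : Set G)) = 2 → ∀ x ∈ Subgroup.normalizer (H : Set G), Odd (orderOf x) →
      IsPGroup 2 H → x ∈ Subgroup.centralizer (H : Set G) := by
    intro H hH x hx hxo hHp
    have := supC_normal H
    have hmem : (⟨x, hx⟩ : Subgroup.normalizer (H : Set G)) ∈
        (H ⊔ Subgroup.centralizer (H : Set G)).subgroupOf (Subgroup.normalizer (H : Set G)) :=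
      mem_of_odd_order (a := 1) hH (by rwa [Subgroup.orderOf_mk])
    obtain ⟨q, hq, c, hc, hxqc⟩ := exists_mul_of_mem_supC (Subgroup.mem_subgroupOf.1 hmem)
    simp only at hxqc
    obtain ⟨a, ha⟩ := hHp ⟨q, hq⟩
    refine mem_of_sq_mem hxo ?_
    -- pass to the automorphism group
    have key : ∀ k : ℕ, H.normalizerMonoidHom (⟨x, hx⟩ ^ k) =
        H.normalizerMonoidHom (⟨q, Subgroup.le_normalizer hq⟩ ^ k) := by
      intro k
      have hc' : H.normalizerMonoidHom ⟨c, Subgroup.centralizer_le_normalizer _ hc⟩ = 1 := by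
        rw [← MonoidHom.mem_ker, Subgroup.normalizerMonoidHom_ker]
        exact Subgroup.mem_subgroupOf.2 hc
      rw [map_pow, map_pow, show (⟨x, hx⟩ : Subgroup.normalizer (H : Set G)) =
        ⟨q, Subgroup.le_normalizer hq⟩ * ⟨c, Subgroup.centralizer_le_normalizer _ hc⟩ from Subtype.ext hxqc,
        map_mul, hc', mul_one]
    have h1 : x ^ 2 ^ a ∈ Subgroup.centralizer (H : Set G) := by
      have h := key (2 ^ a)
      rw [show (⟨q, Subgroup.le_normalizer hq⟩ : Subgroup.normalizer (H : Set G)) ^ 2 ^ a = 1 from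
        Subtype.ext (by rw [Subgroup.coe_pow]; exact congrArg Subtype.val ha), map_one,
        ← MonoidHom.mem_ker, Subgroup.normalizerMonoidHom_ker] at h
      simpa using Subgroup.mem_subgroupOf.1 h
    obtain ⟨k, hk⟩ := exists_pow_eq_self_of_coprime
      (show Nat.Coprime (2 ^ a) (orderOf x) from Nat.Coprime.pow_left a (Nat.coprime_two_left.2 hxo))
    rw [← hk]
    exact pow_mem (pow_mem h1 k) 2
  apply hgC
  rcases classify hm hCY hgodd hσk hσ with hA | ⟨v, hV⟩
  · have hTU : T = U0 S E := by rw [hTY, hA]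
    subst hTU
    exact hin _ (by rw [U0_sup S E]; exact h1) g hg hgodd (S.2.to_le hTS)
  · have hTV : T = (V0 S E).map (MulAut.conj (emb S E ⟨v, 0, false⟩)).toMonoidHom := by
      rw [hTY, hV, Subgroup.map_map, V0, Subgroup.map_map]
      congr 1
      ext p
      simp only [MonoidHom.coe_comp, MulEquiv.coe_toMonoidHom, Function.comp_apply, MulAut.conj_apply,
        map_mul, map_inv]
    subst hTV
    exact hin _ (by rw [supC_index_conj]; exact h2) g hg hgodd (S.2.to_le hTS)

end Cfsg.Agent.WrFusionSub
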