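import Cfsg.Agent.Lib.WreathTwo85
import Cfsg.Agent.Lib.SymplecticOrder
import Cfsg.Agent.Lib.PSLCard

/-!
Squares in Sylow `2`-subgroups of symplectic and special linear groups in odd characteristic.
-/

set_option autoImplicit false
set_option linter.unusedVariables false

namespace Cfsg.Agent.WreathTwo85Classical

open Matrix Cfsg.Agent.WreathTwo85
open Cfsg.Agent.S5318 (P mem_P sM sM_sq sM_mem_P isPGroup_P mk2 mk2_val ext2 mul00 mul01 mul10 mul11
  Rot D mem_D)
open scoped MatrixGroups commutatorElement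

variable {F : Type*} [Field F] [Finite F]

theorem q_facts (hodd : Odd (Nat.card F)) :
    1 < Nat.card F ∧ (2 : F) ≠ 0 := by
  refine ⟨Finite.one_lt_card, fun h0 => ?_⟩
  have := Fintype.ofFinite F
  have hdvd : addOrderOf (1 : F) ∣ Nat.card F := addOrderOf_dvd_natCard _
  have hc : addOrderOf (1 : F) = 2 :=
    addOrderOf_eq_prime (by rw [two_nsmul, one_add_one_eq_two, h0]) one_ne_zero
  rw [hc] at hdvd
  exact Nat.not_even_iff_odd.2 hodd (even_iff_two_dvd.2 hdvd)

theorem card_P_eq (hodd : Odd (Nat.card F)) :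
    Nat.card (P F) = 2 ^ ((Nat.card F ^ 2 - 1).factorization 2 + (Nat.card F - 1).factorization 2) := by
  obtain ⟨hq, h2⟩ := q_facts hodd
  rw [card_P h2, PSLCard.card_GL2]
  congr 1
  have h1 : Nat.card F ^ 2 - 1 ≠ 0 := Nat.sub_ne_zero_of_lt (Nat.one_lt_pow two_ne_zero hq)
  have h3 : Nat.card F ^ 2 - Nat.card F = Nat.card F * (Nat.card F - 1) := by
    rw [Nat.mul_sub, mul_one, pow_two]
  rw [h3, Nat.factorization_mul h1 (mul_ne_zero (by omega) (by omega)), Finsupp.add_apply,
    Nat.factorization_mul (by omega) (by omega), Finsupp.add_apply,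
    Nat.factorization_eq_zero_of_not_dvd (Nat.two_dvd_ne_zero.2 (Nat.odd_iff.1 hodd)), zero_add]

theorem le_card_Q2 (hodd : Odd (Nat.card F)) :
    2 ^ (Nat.card F ^ 2 - 1).factorization 2 ≤ Nat.card (Q2 F) := by
  set f : P F →* Fˣ := GeneralLinearGroup.det.comp (P F).subtype
  have h := card_le_ker (isPGroup_P (F := F)) f
  rw [card_P_eq hodd, pow_add] at h
  refine Nat.le_of_mul_le_mul_right (h.trans (Nat.mul_le_mul_right _ (le_of_eq ?_))) (Nat.two_pow_pos _)
  refine Nat.card_congr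
    { toFun := fun x => ⟨x.1.1, mem_Q2.2 ⟨x.1.2, congrArg Units.val (MonoidHom.mem_ker.1 x.2)⟩⟩
      invFun := fun x => ⟨⟨x.1, (mem_Q2.1 x.2).1⟩, MonoidHom.mem_ker.2 (Units.ext (mem_Q2.1 x.2).2)⟩
      left_inv := fun x => rfl
      right_inv := fun x => rfl }

variable {ι : Type*} [Fintype ι] [DecidableEq ι]

omit [DecidableEq ι] in
theorem card_pi (R : Subgroup (GL (Fin 2) F)) :
    Nat.card (Subgroup.pi Set.univ fun _ : ι => R) = Nat.card R ^ Fintype.card ι := by
  rw [← Nat.card_eq_fintype_card, ← Nat.card_fun]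
  exact Nat.card_congr
    { toFun := fun v i => ⟨v.1 i, v.2 i trivial⟩
      invFun := fun v => ⟨fun i => (v i).1, fun i _ => (v i).2⟩
      left_inv := fun v => rfl
      right_inv := fun v => rfl }

omit [DecidableEq ι] in
theorem isPGroup_pi : IsPGroup 2 (Subgroup.pi Set.univ fun _ : ι => P F) := by
  have : Fact (Nat.Prime 2) := ⟨Nat.prime_two⟩
  obtain ⟨k, hk⟩ := IsPGroup.iff_card.1 (isPGroup_P (F := F))
  exact IsPGroup.of_card (n := k * Fintype.card ι) (by rw [card_pi, hk, ← pow_mul])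

theorem card_sylow_perm (T : Sylow 2 (Equiv.Perm ι)) :
    Nat.card T = 2 ^ (Fintype.card ι).factorial.factorization 2 := by
  have : Fact (Nat.Prime 2) := ⟨Nat.prime_two⟩
  rw [T.card_eq_multiplicity, Nat.card_perm, Nat.card_eq_fintype_card]

theorem det_pm (σ : Equiv.Perm ι) : ((pm σ : GL (Fin 2 × ι) F).1).det = 1 := by
  rw [pm_val, det_permutation, Equiv.Perm.sign_prodCongrRight, Fin.prod_univ_two,
    Int.units_mul_self]
  simp

omit [Finite F] in
theorem det_bd (v : ι → GL (Fin 2) F) : ((bd v).1).det = ∏ i, (v i).1.det := by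
  rw [bd_val, det_blockDiagonal]

/-! ### Symplectic groups -/

/-- The index change for symplectic matrices. -/
def eSp (n : ℕ) : Fin 2 × Fin n ≃ Fin n ⊕ Fin n where
  toFun p := if p.1 = 0 then Sum.inl p.2 else Sum.inr p.2
  invFun s := Sum.elim (fun i => (0, i)) (fun i => (1, i)) s
  left_inv p := by
    obtain ⟨a, i⟩ := p
    fin_cases a <;> simp
  right_inv s := by cases s <;> simp

omit [Finite F] in
theorem reindex_j (n : ℕ) :
    Matrix.reindexAlgEquiv F F (eSp n) (blockDiagonal fun _ : Fin n => !![(0 : F), -1; 1, 0]) =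
      J (Fin n) F := by
  refine Matrix.ext fun a b => ?_
  rcases a with i | i <;> rcases b with k | k <;>
    simp [J, eSp, blockDiagonal_apply, Matrix.one_apply, apply_ite]

/-- The symplectic group inside `GL (Fin 2 × Fin n) F`. -/
noncomputable def fSp (F : Type*) [Field F] (n : ℕ) :
    symplecticGroup (Fin n) F →* GL (Fin 2 × Fin n) F :=
  ((Matrix.reindexAlgEquiv F F (eSp n).symm).toAlgHom.toRingHom.toMonoidHom.comp
    (symplecticGroup (Fin n) F).subtype).toHomUnits

omit [Finite F] in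
theorem fSp_injective (n : ℕ) : Function.Injective (fSp F n) := fun a b h =>
  Subtype.ext ((Matrix.reindexAlgEquiv F F (eSp n).symm).injective (congrArg Units.val h))

omit [Finite F] in
theorem mem_range_fSp {n : ℕ} {g : GL (Fin 2 × Fin n) F}
    (h : g.1 * (blockDiagonal fun _ : Fin n => !![(0 : F), -1; 1, 0]) * g.1ᵀ =
      blockDiagonal fun _ : Fin n => !![(0 : F), -1; 1, 0]) : g ∈ (fSp F n).range := by
  refine ⟨⟨Matrix.reindexAlgEquiv F F (eSp n) g.1, SymplecticGroup.mem_iff.2 ?_⟩,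
    Units.ext (AlgEquiv.symm_apply_apply (Matrix.reindexAlgEquiv F F (eSp n)) g.1)⟩
  have h' := congrArg (Matrix.reindexAlgEquiv F F (eSp n)) h
  rw [map_mul, map_mul, reindex_j] at h'
  exact h'

theorem sp_wr_le_range (n : ℕ) (T : Subgroup (Equiv.Perm (Fin n))) :
    wr (Subgroup.pi Set.univ fun _ : Fin n => Q2 F) T ≤ (fSp F n).range := by
  refine sup_le ?_ ?_
  · rintro _ ⟨v, hv, rfl⟩
    refine mem_range_fSp ?_
    rw [bd_val, blockDiagonal_transpose, ← blockDiagonal_mul, ← blockDiagonal_mul]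
    congr 1
    funext i
    have hd := (mem_Q2.1 (hv i trivial)).2
    rw [Matrix.det_fin_two] at hd
    refine Matrix.ext fun a b => ?_
    fin_cases a <;> fin_cases b <;> simp [Matrix.mul_apply, Fin.sum_univ_two] <;>
      first | linear_combination hd | linear_combination -hd | ring
  · rintro _ ⟨σ, -, rfl⟩
    refine mem_range_fSp ?_
    rw [pm_val, transpose_permMatrix]
    unfold Equiv.Perm.permMatrix
    rw [PEquiv.toMatrix_toPEquiv_mul, PEquiv.mul_toMatrix_toPEquiv]
    refine Matrix.ext fun a b => ?_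
    obtain ⟨a, i⟩ := a
    obtain ⟨b, k⟩ := b
    simp [blockDiagonal_apply, Equiv.Perm.inv_def]

theorem sp_card_le (hodd : Odd (Nat.card F)) (n : ℕ) (T : Sylow 2 (Equiv.Perm (Fin n))) :
    2 ^ (Nat.card (symplecticGroup (Fin n) F)).factorization 2 ≤
      Nat.card (wr (Subgroup.pi Set.univ fun _ : Fin n => Q2 F) (T : Subgroup (Equiv.Perm (Fin n)))) := by
  have := Fintype.ofFinite F
  obtain ⟨hq, h2⟩ := q_facts hodd
  refine le_trans (le_trans ?_ (Nat.mul_le_mul
    ((Nat.pow_le_pow_left (le_card_Q2 hodd) n).trans (le_of_eq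
      (by rw [card_pi, Fintype.card_fin]))) (le_of_eq (card_sylow_perm T).symm))) le_card_wr
  rw [← pow_mul, ← pow_add, Fintype.card_fin, SymplecticOrder.card_symplectic
    (q := Nat.card F) (Nat.card_eq_fintype_card (α := F)).symm n]
  refine le_of_eq (congrArg (2 ^ ·) ?_)
  rw [Nat.factorization_mul (pow_ne_zero _ (by omega)) (Finset.prod_ne_zero_iff.2 fun i _ =>
      Nat.sub_ne_zero_of_lt (Nat.one_lt_pow (by omega) hq)), Finsupp.add_apply,
    Nat.factorization_eq_zero_of_not_dvd (Nat.two_dvd_ne_zero.2 (Nat.odd_iff.1 hodd.pow)),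
    fact_prod_even hq hodd n]
  ring

theorem sp_wr_isPGroup (n : ℕ) (T : Sylow 2 (Equiv.Perm (Fin n))) :
    IsPGroup 2 (wr (Subgroup.pi Set.univ fun _ : Fin n => Q2 F) (T : Subgroup (Equiv.Perm (Fin n)))) :=
  isPGroup_wr (isPGroup_pi.to_le fun _ hv i hi => Q2_le (hv i hi)) T.isPGroup'
    fun σ v hv i _ => hv (σ i) trivial

theorem sylow_symplectic (hodd : Odd (Nat.card F)) (n : ℕ) (S : Sylow 2 (symplecticGroup (Fin n) F)) :
    ∀ x : (S : Subgroup (symplecticGroup (Fin n) F)),
      x ^ 2 ∈ commutator (S : Subgroup (symplecticGroup (Fin n) F)) := by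
  classical
  obtain ⟨hq, h2⟩ := q_facts hodd
  obtain ⟨T, -, hTg⟩ := exists_gen_sylow (⊥ : Subgroup (Equiv.Perm (Fin n))) IsPGroup.of_bot
  refine sylow_good_of_comap (fSp F n) (fSp_injective n)
    (K := wr (Subgroup.pi Set.univ fun _ : Fin n => Q2 F) T) (sp_wr_le_range n _)
    (sp_wr_isPGroup n T) (sp_card_le hodd n T)
    (wr_le_sqKer hTg fun v hv => single_mem_sqKer (sq_mem_Q2 h2) (fun i x hx k _ => ?_)
      fun i => hv i trivial) S
  by_cases hki : k = i
  · subst hki; simpa using hx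
  · simp [hki, one_mem]

/-! ### Special linear groups -/

/-- The product of the determinants of the blocks. -/
def detProd : (ι → GL (Fin 2) F) →* Fˣ where
  toFun v := ∏ i, GeneralLinearGroup.det (v i)
  map_one' := by simp
  map_mul' v w := by simp [Finset.prod_mul_distrib]

/-- The block vectors of determinant one. -/
def B1 (F : Type*) [Field F] [Finite F] (ι : Type*) [Fintype ι] :
    Subgroup (ι → GL (Fin 2) F) :=
  (Subgroup.pi Set.univ fun _ : ι => P F) ⊓ (detProd (F := F) (ι := ι)).ker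

theorem B1_inv (σ : Equiv.Perm ι) {v : ι → GL (Fin 2) F} (hv : v ∈ B1 F ι) :
    (fun i => v (σ i)) ∈ B1 F ι := by
  refine ⟨fun i _ => hv.1 (σ i) trivial, ?_⟩
  exact (Equiv.prod_comp σ fun i => GeneralLinearGroup.det (v i)).trans hv.2

theorem le_card_B1 (hodd : Odd (Nat.card F)) :
    2 ^ (Fintype.card ι * ((Nat.card F ^ 2 - 1).factorization 2 + (Nat.card F - 1).factorization 2)) ≤
      Nat.card (B1 F ι) * 2 ^ (Nat.card F - 1).factorization 2 := by
  set f := (detProd (F := F) (ι := ι)).comp (Subgroup.pi Set.univ fun _ : ι => P F).subtype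
  have h := card_le_ker (isPGroup_pi (F := F) (ι := ι)) f
  rw [card_pi, card_P_eq hodd, ← pow_mul, mul_comm _ (Fintype.card ι)] at h
  refine h.trans (Nat.mul_le_mul_right _ (le_of_eq ?_))
  exact Nat.card_congr
    { toFun := fun x => ⟨x.1.1, x.1.2, x.2⟩
      invFun := fun x => ⟨⟨x.1, x.2.1⟩, x.2.2⟩
      left_inv := fun x => rfl
      right_inv := fun x => rfl }

/-- The special linear group inside `GL`. -/
noncomputable def fSL (F : Type*) [Field F] {N : ℕ} (e : Fin N ≃ Fin 2 × ι) :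
    SpecialLinearGroup (Fin N) F →* GL (Fin 2 × ι) F :=
  (Units.map (Matrix.reindexAlgEquiv F F e).toAlgHom.toRingHom.toMonoidHom).comp
    SpecialLinearGroup.toGL

omit [Finite F] in
theorem fSL_injective {N : ℕ} (e : Fin N ≃ Fin 2 × ι) : Function.Injective (fSL F e) := fun a b h =>
  Subtype.ext ((Matrix.reindexAlgEquiv F F e).injective (congrArg Units.val h))

omit [Finite F] in
theorem mem_range_fSL {N : ℕ} (e : Fin N ≃ Fin 2 × ι) {g : GL (Fin 2 × ι) F} (h : g.1.det = 1) :
    g ∈ (fSL F e).range :=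
  ⟨⟨(Matrix.reindexAlgEquiv F F e).symm g.1, by
      simp only [Matrix.reindexAlgEquiv_symm, Matrix.reindexAlgEquiv_apply,
        Matrix.det_reindex_self]
      exact h⟩,
    Units.ext ((Matrix.reindexAlgEquiv F F e).apply_symm_apply g.1)⟩

theorem Q2_single_mem (i : ι) {x : GL (Fin 2) F} (hx : x ∈ Q2 F) :
    (Pi.mulSingle i x : ι → GL (Fin 2) F) ∈ B1 F ι := by
  obtain ⟨hP, hd⟩ := mem_Q2.1 hx
  refine ⟨fun k _ => ?_, ?_⟩
  · by_cases hki : k = i
    · subst hki; simpa using hP
    · simp [hki, one_mem]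
  · refine MonoidHom.mem_ker.2 (Finset.prod_eq_one fun k _ => ?_)
    by_cases hki : k = i
    · subst hki; exact Units.ext (by simpa using hd)
    · simp [hki]

theorem bd_mem_sqKer_of_split (h2 : (2 : F) ≠ 0) {T : Subgroup (Equiv.Perm ι)}
    {v w : ι → GL (Fin 2) F} (hv : v ∈ B1 F ι) (hw : w ∈ B1 F ι)
    (hdet : ∀ i, GeneralLinearGroup.det (w i) = GeneralLinearGroup.det (v i))
    (hws : bd w ∈ sqKer (wr (B1 F ι) T)) : bd v ∈ sqKer (wr (B1 F ι) T) := by
  have : v = (v * w⁻¹) * w := by rw [inv_mul_cancel_right]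
  rw [this, map_mul]
  refine mul_mem (single_mem_sqKer (sq_mem_Q2 h2) (fun i x hx => Q2_single_mem i hx) fun i => ?_) hws
  refine mem_Q2.2 ⟨mul_mem (hv.1 i trivial) (inv_mem (hw.1 i trivial)), ?_⟩
  have : GeneralLinearGroup.det ((v * w⁻¹) i) = 1 := by
    simp [hdet i]
  exact congrArg Units.val this

/-- The element `diag (z, 1)`, rewritten over a square root `i` of `-1`. -/
noncomputable def hd {i : F} (hi : i ^ 2 = -1) (h2 : (2 : F) ≠ 0) : Fˣ →* GL (Fin 2) F where
  toFun z := mk2 (((z : F) + 1) / 2) (-(((z : F) - 1) / (2 * i))) (((z : F) - 1) / (2 * i))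
    (((z : F) + 1) / 2) (by
      have hi0 : i ≠ 0 := fun h => by simp [h] at hi
      have e : ((z : F) + 1) / 2 * (((z : F) + 1) / 2) -
          -(((z : F) - 1) / (2 * i)) * (((z : F) - 1) / (2 * i)) = z := by
        field_simp
        linear_combination (((z : F) + 1) ^ 2 - 4 * (z : F)) * hi
      rw [e]
      exact z.ne_zero)
  map_one' := ext2 (by simp [one_add_one_eq_two, h2]) (by simp) (by simp)
    (by simp [one_add_one_eq_two, h2])
  map_mul' z w := by
    have hi0 : i ≠ 0 := fun h => by simp [h] at hi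
    refine ext2 ?_ ?_ ?_ ?_ <;> simp <;> field_simp <;>
      (first | ring1 | linear_combination (((z : F) - 1) * ((w : F) - 1)) * hi |
        linear_combination -(((z : F) - 1) * ((w : F) - 1)) * hi)

omit [Finite F] in
theorem det_hd {i : F} (hi : i ^ 2 = -1) (h2 : (2 : F) ≠ 0) (z : Fˣ) :
    GeneralLinearGroup.det (hd hi h2 z) = z := by
  have hi0 : i ≠ 0 := fun h => by simp [h] at hi
  refine Units.ext ?_
  show (hd hi h2 z).1.det = z
  rw [Matrix.det_fin_two]
  simp [hd]
  field_simp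
  linear_combination (((z : F) + 1) ^ 2 - 4 * (z : F)) * hi

theorem hd_mem_P {i : F} (hi : i ^ 2 = -1) (h2 : (2 : F) ≠ 0) {z : Fˣ}
    (hz : ∃ e : ℕ, z ^ 2 ^ e = 1) : hd hi h2 z ∈ P F := by
  obtain ⟨e, he⟩ := hz
  exact Or.inl ⟨by simp [hd, Rot], e, by rw [← map_pow, he, map_one]⟩

theorem sylow_SL_even (hodd : Odd (Nat.card F)) (m : ℕ)
    (hq : ¬ 4 ∣ Nat.card F - 1 ∨ (4 ∣ Nat.card F - 1 ∧ ∃ j : ℕ, m = 2 ^ j)) (hm : 1 ≤ m)
    (S : Sylow 2 (SpecialLinearGroup (Fin (2 * m)) F)) :
    ∀ x : (S : Subgroup (SpecialLinearGroup (Fin (2 * m)) F)),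
      x ^ 2 ∈ commutator (S : Subgroup (SpecialLinearGroup (Fin (2 * m)) F)) := by
  classical
  have := Fintype.ofFinite F
  obtain ⟨hq1, h2⟩ := q_facts hodd
  -- the general shape
  have main : ∀ (ι : Type) [Fintype ι] [DecidableEq ι], Fintype.card ι = m →
      ∀ T : Sylow 2 (Equiv.Perm ι), S4623.Gen 2 (T : Subgroup (Equiv.Perm ι)) →
      (∀ v ∈ B1 F ι, bd v ∈ sqKer (wr (B1 F ι) (T : Subgroup (Equiv.Perm ι)))) →
      ∀ x : (S : Subgroup (SpecialLinearGroup (Fin (2 * m)) F)),
        x ^ 2 ∈ commutator (S : Subgroup (SpecialLinearGroup (Fin (2 * m)) F)) := by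
    intro ι _ _ hι T hTg hBg
    let e : Fin (2 * m) ≃ Fin 2 × ι :=
      (Fintype.equivFinOfCardEq (by rw [Fintype.card_prod, Fintype.card_fin, hι])).symm
    have hB : IsPGroup 2 (B1 F ι) := isPGroup_pi.to_le inf_le_left
    refine sylow_good_of_comap (fSL F e) (fSL_injective e) (K := wr (B1 F ι) T) ?_
      (isPGroup_wr hB T.isPGroup' fun σ v hv => B1_inv σ hv) ?_ (wr_le_sqKer hTg hBg) S
    · refine sup_le ?_ ?_
      · rintro _ ⟨v, hv, rfl⟩
        refine mem_range_fSL e ?_
        rw [det_bd]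
        have h := congrArg Units.val (MonoidHom.mem_ker.1 hv.2)
        simpa [detProd] using h
      · rintro _ ⟨σ, -, rfl⟩
        exact mem_range_fSL e (det_pm σ)
    · have : NeZero (2 * m) := ⟨by omega⟩
      refine le_trans ?_ le_card_wr
      refine Nat.le_of_mul_le_mul_right (le_trans ?_ (le_of_eq (mul_right_comm _ _ _)))
        (Nat.two_pow_pos ((Nat.card F - 1).factorization 2))
      refine le_trans (le_of_eq ?_) (Nat.mul_le_mul_right _ (le_card_B1 (ι := ι) hodd))
      rw [card_sylow_perm, hι, ← pow_add, ← pow_add]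
      congr 1
      have h := congrArg (fun k => k.factorization 2) (PSLCard.card_SL (F := F) (2 * m))
      simp only [fact_GL hq1 hodd, fact_prod_all hq1 hodd,
        Nat.factorization_mul (show Nat.card F - 1 ≠ 0 by omega) Nat.card_pos.ne',
        Finsupp.add_apply] at h
      omega
  rcases hq with h4 | ⟨h4, j, rfl⟩
  · obtain ⟨T, -, hTg⟩ := exists_gen_sylow (⊥ : Subgroup (Equiv.Perm (Fin m))) IsPGroup.of_bot
    refine main (Fin m) (Fintype.card_fin m) T hTg fun v hv => ?_
    set w : Fin m → GL (Fin 2) F := fun i =>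
      if GeneralLinearGroup.det (v i) = 1 then 1 else sM with hwdef
    have hdet : ∀ i, GeneralLinearGroup.det (w i) = GeneralLinearGroup.det (v i) := by
      intro i
      simp only [hwdef]
      split_ifs with h
      · rw [map_one, h]
      · refine Units.ext ?_
        rcases det_eq_or h4 (hv.1 i trivial) with h' | h'
        · exact absurd (Units.ext h') h
        · show (sM : GL (Fin 2) F).1.det = (v i).1.det
          rw [h']
          simp [sM, Matrix.det_fin_two]
    have hw : w ∈ B1 F (Fin m) := by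
      refine ⟨fun i _ => ?_, ?_⟩
      · simp only [hwdef]
        split_ifs
        · exact (P F).one_mem
        · exact sM_mem_P
      · refine MonoidHom.mem_ker.2 (Eq.trans ?_ (MonoidHom.mem_ker.1 hv.2))
        show ∏ i, GeneralLinearGroup.det (w i) = ∏ i, GeneralLinearGroup.det (v i)
        exact Finset.prod_congr rfl fun i _ => hdet i
    refine bd_mem_sqKer_of_split h2 hv hw hdet (mem_sqKer_of_sq_one (bd_mem hw) ?_)
    rw [← map_pow, show w ^ 2 = 1 from funext fun i => ?_, map_one]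
    simp only [hwdef, Pi.pow_apply, Pi.one_apply]
    split_ifs
    · rw [one_pow]
    · rw [pow_two, sM_sq]
  · obtain ⟨i, hi⟩ : ∃ i : F, i ^ 2 = -1 := by
      obtain ⟨i, hi⟩ := (FiniteField.isSquare_neg_one_iff (F := F)).2 (by
        rw [← Nat.card_eq_fintype_card]; omega)
      exact ⟨i, by rw [pow_two, hi]⟩
    obtain ⟨S₀, hS₀, hswap⟩ := exists_swaps j
    let ι := Fin j → ZMod 2
    obtain ⟨T, hT, hTg⟩ := exists_gen_sylow S₀ hS₀
    refine main ι (by simp [ι]) T hTg fun v hv => ?_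
    let Tg : Subgroup (Equiv.Perm (Fin j → ZMod 2)) := T.toSubgroup
    let H : (ι → Fˣ) →* GL (Fin 2 × ι) F := bd.comp
      { toFun := fun z k => hd hi h2 (z k)
        map_one' := funext fun k => map_one _
        map_mul' := fun z w => funext fun k => map_mul _ _ _ }
    set z : ι → Fˣ := fun k => GeneralLinearGroup.det (v k)
    have hz2 : ∀ k, ∃ e : ℕ, z k ^ 2 ^ e = 1 := fun k => by
      obtain ⟨e, he, -⟩ := orderOf_det_dvd (x := v k) (hv.1 k trivial)
      refine ⟨e, ?_⟩
      rw [← he]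
      exact pow_orderOf_eq_one (GeneralLinearGroup.det (v k))
    have hzprod : ∏ k, z k = 1 := hv.2
    have hmem : ∀ y : ι → Fˣ, (∀ k, ∃ e : ℕ, y k ^ 2 ^ e = 1) → ∏ k, y k = 1 →
        (fun k => hd hi h2 (y k)) ∈ B1 F ι := by
      intro y hy hy1
      refine ⟨fun k _ => hd_mem_P hi h2 (hy k), MonoidHom.mem_ker.2 ?_⟩
      show ∏ k, GeneralLinearGroup.det (hd hi h2 (y k)) = 1
      simp only [det_hd]
      exact hy1
    refine bd_mem_sqKer_of_split h2 hv (hmem z hz2 hzprod) (fun k => det_hd hi h2 _) ?_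
    show z ∈ (sqKer (wr (B1 F ι) Tg)).comap H
    have hz : z = ∏ k, (Pi.mulSingle k (z k) * Pi.mulSingle (0 : ι) (z k)⁻¹ : ι → Fˣ) := by
      rw [Finset.prod_mul_distrib, Finset.univ_prod_mulSingle]
      have : (∏ k : ι, (Pi.mulSingle (0 : ι) (z k)⁻¹ : ι → Fˣ)) = 1 := by
        rw [← Pi.mulSingle_one (M := fun _ : ι => Fˣ) (0 : ι), ← inv_one, ← hzprod,
          ← Finset.prod_inv_distrib]
        exact (map_prod (MonoidHom.mulSingle (fun _ : ι => Fˣ) (0 : ι)) _ _).symm
      rw [this, mul_one]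
    rw [hz]
    refine Subgroup.prod_mem _ fun k _ => ?_
    by_cases hk : k = 0
    · rw [hk, ← Pi.mulSingle_mul, mul_inv_cancel, Pi.mulSingle_one]
      exact one_mem _
    set y : ι → Fˣ := Pi.mulSingle k (z k) * Pi.mulSingle (0 : ι) (z k)⁻¹
    have hy2 : ∀ l, ∃ e : ℕ, y l ^ 2 ^ e = 1 := fun l => by
      obtain ⟨e, he⟩ := hz2 k
      refine ⟨e, ?_⟩
      by_cases hl : l = k
      · subst hl; simp [y, hk, he]
      · by_cases hl0 : l = 0
        · subst hl0; simp [y, hl, inv_pow, he]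
        · simp [y, hl, hl0]
    have hy1 : ∏ l, y l = 1 := by
      simp [y, Finset.prod_mul_distrib, Finset.prod_pi_mulSingle']
    obtain ⟨τ, hτ, hτ2, hτk⟩ := hswap k 0
    have hτ0 : τ 0 = k := by rw [← hτk, ← Equiv.Perm.mul_apply, hτ2, Equiv.Perm.one_apply]
    show H y ∈ sqKer (wr (B1 F ι) Tg)
    refine mem_sqKer_of_inverted (t := pm τ) (bd_mem (hmem y hy2 hy1)) (pm_mem (hT hτ)) ?_
    show pm τ * bd (fun l => hd hi h2 (y l)) * (pm τ)⁻¹ = (H y)⁻¹
    rw [conj_bd, ← map_inv]
    show bd _ = bd fun l => hd hi h2 (y⁻¹ l)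
    congr 1
    funext l
    congr 1
    rw [inv_eq_of_mul_eq_one_right hτ2]
    by_cases hl : l = k
    · subst hl; simp [y, hτk, hk, Ne.symm hk]
    · by_cases hl0 : l = 0
      · subst hl0; simp [y, hτ0, hl, hk]
      · have h1 : τ l ≠ 0 := fun h => hl (τ.injective (h.trans hτk.symm))
        have h3 : τ l ≠ k := fun h => hl0 (τ.injective (h.trans hτ0.symm))
        simp [y, h1, h3, hl, hl0]

/-- `GL_{2m}` inside `SL_{2m+1}`. -/
noncomputable def fOdd (F : Type*) [Field F] (m : ℕ) :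
    GL (Fin 2 × Fin m) F →* SpecialLinearGroup (Fin (2 * m + 1)) F where
  toFun g := ⟨Matrix.reindexAlgEquiv F F
      (Fintype.equivFinOfCardEq (α := (Fin 2 × Fin m) ⊕ Unit) (by simp))
      (Matrix.fromBlocks g.1 0 0 (Matrix.diagonal fun _ : Unit => (g.1.det)⁻¹)), by
    rw [Matrix.reindexAlgEquiv_apply, Matrix.det_reindex_self, Matrix.det_fromBlocks_zero₂₁,
      Matrix.det_diagonal, Fintype.prod_unique, mul_inv_cancel₀ (GeneralLinearGroup.det_ne_zero g)]⟩
  map_one' := Subtype.ext (by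
    simp only [Units.val_one, Matrix.det_one, inv_one, Matrix.diagonal_one, Matrix.fromBlocks_one,
      map_one]
    rfl)
  map_mul' g h := Subtype.ext (by
    show Matrix.reindexAlgEquiv F F _ _ =
      Matrix.reindexAlgEquiv F F _ _ * Matrix.reindexAlgEquiv F F _ _
    rw [← map_mul, Matrix.fromBlocks_multiply]
    congr 1
    simp [Matrix.det_mul, mul_comm])

omit [Finite F] in
theorem fOdd_injective (m : ℕ) : Function.Injective (fOdd F m) := by
  intro g h he
  have := (Matrix.reindexAlgEquiv F F _).injective (congrArg Subtype.val he)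
  exact Units.ext (Matrix.fromBlocks_inj.1 this).1

theorem sylow_SL_odd (hodd : Odd (Nat.card F)) (h4 : ¬ 4 ∣ Nat.card F - 1) (m : ℕ)
    (S : Sylow 2 (SpecialLinearGroup (Fin (2 * m + 1)) F)) :
    ∀ x : (S : Subgroup (SpecialLinearGroup (Fin (2 * m + 1)) F)),
      x ^ 2 ∈ commutator (S : Subgroup (SpecialLinearGroup (Fin (2 * m + 1)) F)) := by
  classical
  have := Fintype.ofFinite F
  obtain ⟨hq, h2⟩ := q_facts hodd
  obtain ⟨T, -, hTg⟩ := exists_gen_sylow (⊥ : Subgroup (Equiv.Perm (Fin m))) IsPGroup.of_bot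
  set B := Subgroup.pi Set.univ fun _ : Fin m => P F
  refine sylow_good_of_map (fOdd F m) (fOdd_injective m) (K := wr B T)
    (isPGroup_wr isPGroup_pi T.isPGroup' fun σ v hv i _ => hv (σ i) trivial) ?_
    (wr_le_sqKer hTg fun v hv => single_mem_sqKer (sq_mem_P h2 h4) (fun i x hx k _ => ?_)
      fun i => hv i trivial) S
  · refine le_trans (le_of_eq ?_) le_card_wr
    rw [card_pi, card_sylow_perm, card_P_eq hodd, Fintype.card_fin, ← pow_mul, ← pow_add]
    congr 1
    have h := congrArg (fun k => k.factorization 2) (PSLCard.card_SL (F := F) (2 * m + 1))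
    simp only [fact_GL hq hodd, Finset.prod_range_succ] at h
    rw [Nat.factorization_mul (show Nat.card F - 1 ≠ 0 by omega) Nat.card_pos.ne',
      Nat.factorization_mul (Finset.prod_ne_zero_iff.2 fun i _ =>
        Nat.sub_ne_zero_of_lt (Nat.one_lt_pow (by omega) hq))
        (Nat.sub_ne_zero_of_lt (Nat.one_lt_pow (by omega) hq)),
      Finsupp.add_apply, Finsupp.add_apply, fact_prod_all hq hodd, fact_odd_sub hq hodd] at h
    ring_nf at h ⊢
    omega
  · by_cases hki : k = i
    · subst hki; simpa using hx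
    · simp [hki, one_mem]

end Cfsg.Agent.WreathTwo85Classical
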