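import Cfsg.Agent.Lib.WreathTwo85Classical

/-!
Normal elementary abelian subgroups of the wreath Sylow subgroups.
-/

set_option autoImplicit false

namespace Cfsg.Agent.WreathTwo85Normal

open Matrix Cfsg.Agent.WreathTwo85
open Cfsg.Agent.S5318 (P nM nM_sq nM_comm nM_mem_P)
open scoped MatrixGroups

/-- A normal elementary abelian subgroup of some large `2`-subgroup gives one in every Sylow
subgroup. -/
theorem exists_normal_in_sylow {G M : Type*} [Group G] [Finite G] [Group M] (f : G →* M)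
    (hf : Function.Injective f) {K E : Subgroup M} (hr : K ≤ f.range) (hK : IsPGroup 2 K)
    (hc : 2 ^ (Nat.card G).factorization 2 ≤ Nat.card K) (hEK : E ≤ K)
    (hcomm : ∀ a ∈ E, ∀ b ∈ E, a * b = b * a) (hsq : ∀ a ∈ E, a * a = 1)
    (hn : ∀ k ∈ K, ∀ a ∈ E, k * a * k⁻¹ ∈ E) (S : Sylow 2 G) :
    ∃ E' : Subgroup (S : Subgroup G), E'.Normal ∧
      (IsMulCommutative E' ∧ ∀ a ∈ E', a ^ 2 = 1) ∧ Nat.card E ≤ Nat.card E' := by
  have : Fact (Nat.Prime 2) := ⟨Nat.prime_two⟩
  have h1 : (K.comap f).map f = K := Subgroup.map_comap_eq_self hr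
  let e : K.comap f ≃* K := ((K.comap f).equivMapOfInjective f hf).trans (MulEquiv.subgroupCongr h1)
  obtain ⟨T, hT⟩ := (hK.comap_of_injective f hf).exists_le_sylow
  have hTK : (T : Subgroup G) = K.comap f :=
    (Subgroup.eq_of_le_of_card_ge hT (by rw [T.card_eq_multiplicity, Nat.card_congr e.toEquiv]; exact hc)).symm
  let ψ : (S : Subgroup G) ≃* K :=
    ((Sylow.equiv S T).trans (MulEquiv.subgroupCongr hTK)).trans e
  refine ⟨(E.subgroupOf K).comap ψ.toMonoidHom, ⟨fun a ha g => ?_⟩, ⟨⟨⟨?_⟩⟩, fun a ha => ?_⟩, ?_⟩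
  · show ((ψ (g * a * g⁻¹) : K) : M) ∈ E
    rw [map_mul, map_mul, map_inv]
    exact hn _ (ψ g).2 _ ha
  · rintro ⟨a, ha⟩ ⟨b, hb⟩
    exact Subtype.ext (ψ.injective (Subtype.ext (by
      show ((ψ (a * b) : K) : M) = (ψ (b * a) : K)
      rw [map_mul, map_mul]; exact hcomm _ ha _ hb)))
  · refine ψ.injective (Subtype.ext ?_)
    rw [map_pow, map_one, Subgroup.coe_pow, pow_two]
    exact hsq _ ha
  · refine Nat.card_le_card_of_injective
      (fun a : E => (⟨ψ.symm ⟨a.1, hEK a.2⟩, by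
        show ((ψ (ψ.symm _) : K) : M) ∈ E
        rw [MulEquiv.apply_symm_apply]; exact a.2⟩ : (E.subgroupOf K).comap ψ.toMonoidHom)) ?_
    intro a b h
    have h' : ψ.symm ⟨a.1, hEK a.2⟩ = ψ.symm ⟨b.1, hEK b.2⟩ := congrArg Subtype.val h
    exact Subtype.ext (congrArg (fun k : K => (k : M)) (ψ.symm.injective h'))

variable {F : Type*} [Field F] [Finite F] {ι : Type*} [Fintype ι] [DecidableEq ι]

/-- The vectors of scalars `±1`. -/
def signs (F : Type*) [Field F] [Finite F] (ι : Type*) : Subgroup (ι → GL (Fin 2) F) where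
  carrier := {v | ∀ i, v i = 1 ∨ v i = nM}
  one_mem' := fun i => Or.inl rfl
  mul_mem' := fun {a b} ha hb i => by
    show a i * b i = 1 ∨ a i * b i = nM
    rcases ha i with h | h <;> rcases hb i with h' | h' <;> rw [h, h'] <;>
      simp [nM_sq]
  inv_mem' := fun {a} ha i => by
    show (a i)⁻¹ = 1 ∨ (a i)⁻¹ = nM
    rcases ha i with h | h <;> rw [h]
    · simp
    · exact Or.inr (inv_eq_of_mul_eq_one_right nM_sq)

theorem nM_ne_one (h2 : (2 : F) ≠ 0) : (nM : GL (Fin 2) F) ≠ 1 := fun h => h2 (by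
  have := congrArg (fun A : GL (Fin 2) F => A.1 0 0) h
  simp [nM] at this
  linear_combination -this)

theorem two_pow_le_card_signs (h2 : (2 : F) ≠ 0) :
    2 ^ Fintype.card ι ≤ Nat.card (signs F ι) := by
  have := Nat.card_le_card_of_injective
    (fun b : ι → Bool => (⟨fun i => if b i then nM else 1, fun i => by
      by_cases h : b i <;> simp [h]⟩ : signs F ι))
    (fun b c h => funext fun i => by
      have h' := congrFun (congrArg Subtype.val h) i
      cases hb : b i <;> cases hc : c i <;> simp [hb, hc, nM_ne_one h2, Ne.symm (nM_ne_one h2)] at h' ⊢)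
  simpa using this

/-- The block scalars form a normal elementary abelian subgroup. -/
theorem signs_normal {B : Subgroup (ι → GL (Fin 2) F)} {T : Subgroup (Equiv.Perm ι)}
    (h : signs F ι ≤ B) :
    (signs F ι).map bd ≤ wr B T ∧
    (∀ a ∈ (signs F ι).map bd, ∀ b ∈ (signs F ι).map bd, a * b = b * a) ∧
    (∀ a ∈ (signs F ι).map bd, a * a = 1) ∧
    ∀ k ∈ wr B T, ∀ a ∈ (signs F ι).map bd, k * a * k⁻¹ ∈ (signs F ι).map bd := by
  have hc : ∀ v ∈ signs F ι, ∀ w : ι → GL (Fin 2) F, w * v = v * w := by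
    intro v hv w
    funext i
    show w i * v i = v i * w i
    rcases hv i with h | h <;> rw [h]
    · simp
    · exact nM_comm _
  refine ⟨Subgroup.map_le_iff_le_comap.2 fun v hv => bd_mem (h hv), ?_, ?_, ?_⟩
  · rintro _ ⟨v, hv, rfl⟩ _ ⟨w, hw, rfl⟩
    rw [← map_mul, ← map_mul, hc v hv w]
  · rintro _ ⟨v, hv, rfl⟩
    rw [← map_mul, show v * v = 1 from funext fun i => ?_, map_one]
    rcases hv i with h | h <;> simp [h, nM_sq]
  · suffices wr B T ≤ Subgroup.normalizer (((signs F ι).map bd : Subgroup (GL (Fin 2 × ι) F)) : Set _) by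
      intro k hk a ha
      exact (Subgroup.mem_normalizer_iff.1 (this hk) a).1 ha
    refine sup_le ?_ ?_
    · rintro _ ⟨w, -, rfl⟩
      refine Subgroup.mem_normalizer_iff.2 fun a => ?_
      have key : ∀ w : ι → GL (Fin 2) F, ∀ a ∈ (signs F ι).map bd, bd w * a * (bd w)⁻¹ = a := by
        rintro w _ ⟨v, hv, rfl⟩
        rw [← map_mul, hc v hv w, map_mul, mul_inv_cancel_right]
      refine ⟨fun ha => (key w a ha).symm ▸ ha, fun ha => ?_⟩
      have e : a = bd w * a * (bd w)⁻¹ := by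
        have := key w⁻¹ _ ha
        rw [map_inv, inv_inv] at this
        simpa [mul_assoc] using this
      exact e.symm ▸ ha
    · rintro _ ⟨σ, -, rfl⟩
      refine Subgroup.mem_normalizer_iff.2 fun a => ⟨?_, ?_⟩
      · rintro ⟨v, hv, rfl⟩
        exact ⟨_, fun i => hv (σ⁻¹ i), (conj_bd σ v).symm⟩
      · rintro ⟨v, hv, hv'⟩
        refine ⟨fun i => v (σ i), fun i => hv (σ i), ?_⟩
        have := conj_bd σ⁻¹ v
        rw [hv', map_inv, inv_inv, inv_inv] at this
        rw [← this]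
        group

end Cfsg.Agent.WreathTwo85Normal
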