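import Cfsg.Agent.Lib.WreathTwo85Classical
import Cfsg.Agent.Lib.WreathTwo85Normal
import Cfsg.Agent.S2233

/-!
Normal elementary abelian subgroups of the Sylow `2`-subgroups of `GL n F`, `F` of odd order.
-/

set_option autoImplicit false
set_option linter.unusedVariables false

namespace Cfsg.Agent.WreathTwo85GL

open Matrix Cfsg.Agent.WreathTwo85
open Cfsg.Agent.S5318 (P mem_P sM sM_sq sM_mem_P nM nM_sq nM_comm nM_mem_P isPGroup_P ext2 mul00
  mul01 mul10 mul11 Rot D mem_D exists_c)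
open Cfsg.Agent.WreathTwo85Classical (q_facts card_P_eq card_pi isPGroup_pi card_sylow_perm hd
  det_hd hd_mem_P)
open scoped MatrixGroups Pointwise

/-! ### Transfer to a Sylow subgroup -/

section Transfer

variable {G M : Type*} [Group G] [Finite G] [Group M]

theorem exists_equiv (f : M →* G) (hf : Function.Injective f) {K : Subgroup M} (hK : IsPGroup 2 K)
    (hc : 2 ^ (Nat.card G).factorization 2 ≤ Nat.card K) (S : Sylow 2 G) :
    Nonempty ((S : Subgroup G) ≃* K) := by
  have : Fact (Nat.Prime 2) := ⟨Nat.prime_two⟩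
  obtain ⟨T, hT⟩ := (hK.map f).exists_le_sylow
  have hTK : (T : Subgroup G) = K.map f :=
    (Subgroup.eq_of_le_of_card_ge hT (by
      rw [T.card_eq_multiplicity, Subgroup.card_map_of_injective (f := f) hf]; exact hc)).symm
  exact ⟨((Sylow.equiv S T).trans (MulEquiv.subgroupCongr hTK)).trans
    (K.equivMapOfInjective f hf).symm⟩

omit [Finite G] in
/-- The hypotheses on a normal elementary abelian subgroup of `K`. -/
def NEA (K E : Subgroup M) : Prop :=
  E ≤ K ∧ (∀ a ∈ E, ∀ b ∈ E, a * b = b * a) ∧ (∀ a ∈ E, a * a = 1) ∧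
    ∀ k ∈ K, ∀ a ∈ E, k * a * k⁻¹ ∈ E

omit [Finite G] in
theorem transfer {S : Subgroup G} {K : Subgroup M} (ψ : S ≃* K) {lo hi : ℕ}
    (hlo : ∃ E, NEA K E ∧ lo ≤ Nat.card E) (hhi : ∀ E, NEA K E → Nat.card E ≤ hi) :
    (∃ E : Subgroup S, E.Normal ∧ (IsMulCommutative E ∧ ∀ a ∈ E, a ^ 2 = 1) ∧ lo ≤ Nat.card E) ∧
      ∀ E : Subgroup S, E.Normal → (IsMulCommutative E ∧ ∀ a ∈ E, a ^ 2 = 1) → Nat.card E ≤ hi := by
  constructor
  · obtain ⟨E, ⟨hEK, hcomm, hsq, hn⟩, hlo⟩ := hlo
    refine ⟨(E.subgroupOf K).comap ψ.toMonoidHom, ⟨fun a ha g => ?_⟩, ⟨⟨⟨?_⟩⟩, fun a ha => ?_⟩,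
      hlo.trans (le_of_eq ?_)⟩
    · show ((ψ (g * a * g⁻¹) : K) : M) ∈ E
      rw [map_mul, map_mul, map_inv]
      exact hn _ (ψ g).2 _ ha
    · rintro ⟨a, ha⟩ ⟨b, hb⟩
      exact Subtype.ext (ψ.injective (Subtype.ext (by
        show ((ψ (a * b) : K) : M) = (ψ (b * a) : K)
        rw [map_mul, map_mul]; exact hcomm _ ha _ hb)))
    · refine ψ.injective (Subtype.ext ?_)
      rw [map_pow, map_one, Subgroup.coe_pow, pow_two]
      exact hsq _ ha
    · rw [← Nat.card_congr (Subgroup.subgroupOfEquivOfLe hEK).toEquiv]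
      exact (Nat.card_congr (Equiv.subtypeEquiv ψ.toEquiv fun a => Iff.rfl)).symm
  · rintro E hE ⟨hEc, hE2⟩
    let f : S →* M := K.subtype.comp ψ.toMonoidHom
    have hf : Function.Injective f := K.subtype_injective.comp ψ.injective
    rw [← Subgroup.card_map_of_injective (K := E) hf]
    refine hhi _ ⟨?_, ?_, ?_, ?_⟩
    · rintro _ ⟨a, -, rfl⟩
      exact (ψ a).2
    · rintro _ ⟨a, ha, rfl⟩ _ ⟨b, hb, rfl⟩
      rw [← map_mul, ← map_mul]
      exact congrArg f (congrArg Subtype.val (hEc.is_comm.comm ⟨a, ha⟩ ⟨b, hb⟩))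
    · rintro _ ⟨a, ha, rfl⟩
      rw [← map_mul, ← pow_two, hE2 a ha, map_one]
    · rintro k hk _ ⟨a, ha, rfl⟩
      refine ⟨ψ.symm ⟨k, hk⟩ * a * (ψ.symm ⟨k, hk⟩)⁻¹, hE.conj_mem a ha _, ?_⟩
      simp [f]

end Transfer

/-! ### Small subgroups of the blocks -/

variable {F : Type*} [Field F] [Finite F] {ι : Type*} [Fintype ι] [DecidableEq ι]

theorem pi_nea {R : Subgroup (GL (Fin 2) F)} {T : Subgroup (Equiv.Perm ι)} (hR : NEA (P F) R) :
    NEA (wr (Subgroup.pi Set.univ fun _ : ι => P F) T)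
      ((Subgroup.pi Set.univ fun _ : ι => R).map bd) := by
  obtain ⟨hle, hc, hs, hn⟩ := hR
  refine ⟨Subgroup.map_le_iff_le_comap.2 fun v hv => bd_mem fun i hi => hle (hv i hi), ?_, ?_, ?_⟩
  · rintro _ ⟨v, hv, rfl⟩ _ ⟨w, hw, rfl⟩
    rw [← map_mul, ← map_mul, show v * w = w * v from funext fun i =>
      hc _ (hv i trivial) _ (hw i trivial)]
  · rintro _ ⟨v, hv, rfl⟩
    rw [← map_mul, show v * v = 1 from funext fun i => hs _ (hv i trivial), map_one]
  · set E := (Subgroup.pi Set.univ fun _ : ι => R).map (bd (F := F))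
    intro k hk
    refine Subgroup.closure_induction (p := fun k _ => ∀ a ∈ E, k * a * k⁻¹ ∈ E) ?_ ?_ ?_ ?_
      (show k ∈ Subgroup.closure (((Subgroup.pi Set.univ fun _ : ι => P F).map bd : Set (GL (Fin 2 × ι) F)) ∪
        (T.map pm : Subgroup (GL (Fin 2 × ι) F))) by rwa [← Subgroup.sup_eq_closure])
    · rintro g (⟨w, hw, rfl⟩ | ⟨σ, -, rfl⟩) _ ⟨v, hv, rfl⟩
      · exact ⟨w * v * w⁻¹, fun i _ => hn _ (hw i trivial) _ (hv i trivial), by simp⟩
      · exact ⟨fun i => v (σ⁻¹ i), fun i _ => hv _ trivial, (conj_bd σ v).symm⟩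
    · intro a ha; simpa using ha
    · intro x y _ _ hx hy a ha
      simpa [mul_assoc] using hx _ (hy a ha)
    · intro x _ hx a ha
      have hbij : Set.BijOn (fun a => x * a * x⁻¹) (E : Set (GL (Fin 2 × ι) F)) E :=
        (Set.toFinite _).injOn_iff_bijOn_of_mapsTo hx |>.1
          fun a _ b _ h => mul_left_cancel (mul_right_cancel h)
      obtain ⟨b, hb, hb'⟩ := hbij.surjOn ha
      simp only [← hb', inv_inv, mul_assoc, inv_mul_cancel_left, inv_mul_cancel, mul_one]
      exact hb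

omit [Finite F] in
theorem pi_card (R : Subgroup (GL (Fin 2) F)) :
    Nat.card ((Subgroup.pi Set.univ fun _ : ι => R).map bd) = Nat.card R ^ Fintype.card ι := by
  rw [Subgroup.card_map_of_injective bd_injective, ← Nat.card_eq_fintype_card, ← Nat.card_fun]
  exact Nat.card_congr
    { toFun := fun v i => ⟨v.1 i, v.2 i trivial⟩
      invFun := fun v => ⟨fun i => (v i).1, fun i _ => (v i).2⟩
      left_inv := fun v => rfl
      right_inv := fun v => rfl }

/-- `±1`. -/
def R2 (F : Type*) [Field F] : Subgroup (GL (Fin 2) F) where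
  carrier := {x | x = 1 ∨ x = nM}
  one_mem' := Or.inl rfl
  mul_mem' := fun {a b} ha hb => by
    rcases ha with rfl | rfl <;> rcases hb with rfl | rfl <;>
      simp [nM_sq]
  inv_mem' := fun {a} ha => by
    rcases ha with rfl | rfl
    · simp
    · exact Or.inr (inv_eq_of_mul_eq_one_right nM_sq)

theorem R2_nea : NEA (P F) (R2 F) := by
  refine ⟨?_, ?_, ?_, ?_⟩
  · rintro x (rfl | rfl)
    · exact one_mem _
    · exact nM_mem_P
  · rintro x (rfl | rfl) y hy
    · simp
    · exact (nM_comm y).symm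
  · rintro x (rfl | rfl)
    · simp
    · exact nM_sq
  · rintro k - x (rfl | rfl)
    · exact Or.inl (by simp)
    · exact Or.inr (by rw [nM_comm, mul_inv_cancel_right])

theorem card_R2 (h2 : (2 : F) ≠ 0) : Nat.card (R2 F) = 2 := by
  have hne := WreathTwo85Normal.nM_ne_one h2
  rw [Nat.card_eq_two_iff]
  refine ⟨⟨1, Or.inl rfl⟩, ⟨nM, Or.inr rfl⟩, fun h => hne (congrArg Subtype.val h).symm, ?_⟩
  refine Set.eq_univ_iff_forall.2 fun x => ?_
  rcases x.2 with h | h
  · exact Or.inl (Subtype.ext h)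
  · exact Or.inr (Subtype.ext h)

theorem exists_R4 {i : F} (hi : i ^ 2 = -1) (h2 : (2 : F) ≠ 0) :
    ∃ R : Subgroup (GL (Fin 2) F), NEA (P F) R ∧ 4 ≤ Nat.card R := by
  set h := hd hi h2 (-1) with hh
  have hi0 : i ≠ 0 := fun h => by simp [h] at hi
  have hhh : h * h = 1 := by rw [hh, ← map_mul, neg_mul_neg, one_mul, map_one]
  have hP : h ∈ P F := hd_mem_P hi h2 ⟨1, by simp⟩
  have hrot : Rot h := by simp [hh, hd, Rot]
  have hs : sM * h * sM = nM * h := by
    refine ext2 ?_ ?_ ?_ ?_ <;> simp [hh, hd, sM, nM]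
  have hdiag : h.1 0 0 = 0 := by simp [hh, hd]
  have hoff : h.1 0 1 ≠ 0 := by
    simp only [hh, hd, MonoidHom.coe_mk, OneHom.coe_mk, S5318.mk2_val]
    simp [hi0, h2, sub_eq_zero]
    intro hc
    exact h2 (by linear_combination -hc)
  let R : Subgroup (GL (Fin 2) F) :=
    { carrier := {x | x = 1 ∨ x = nM ∨ x = h ∨ x = nM * h}
      one_mem' := Or.inl rfl
      mul_mem' := fun {a b} ha hb => by
        have e1 : nM * (nM * h) = h := by rw [← mul_assoc, nM_sq, one_mul]
        have e2 : h * nM = nM * h := nM_comm h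
        have e3 : h * (nM * h) = nM := by rw [← mul_assoc, e2, mul_assoc, hhh, mul_one]
        have e4 : nM * h * nM = h := by rw [mul_assoc, e2, e1]
        have e5 : nM * h * h = nM := by rw [mul_assoc, hhh, mul_one]
        have e6 : nM * h * (nM * h) = 1 := by rw [← mul_assoc, e4, hhh]
        rcases ha with rfl | rfl | rfl | rfl <;> rcases hb with rfl | rfl | rfl | rfl <;>
          simp [nM_sq, hhh, e1, e2, e3, e4, e5, e6]
      inv_mem' := fun {a} ha => by
        rcases ha with rfl | rfl | rfl | rfl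
        · simp
        · exact Or.inr (Or.inl (inv_eq_of_mul_eq_one_right nM_sq))
        · exact Or.inr (Or.inr (Or.inl (inv_eq_of_mul_eq_one_right hhh)))
        · refine Or.inr (Or.inr (Or.inr (inv_eq_of_mul_eq_one_right ?_)))
          rw [mul_assoc, ← mul_assoc h, nM_comm h, mul_assoc, hhh, mul_one, nM_sq] }
  have hrotR : ∀ x ∈ R, Rot x := by
    have hn : Rot (nM : GL (Fin 2) F) := by simp [Rot, nM]
    rintro x (rfl | rfl | rfl | rfl)
    exacts [S5318.rot_one, hn, hrot, hn.mul hrot]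
  refine ⟨R, ⟨?_, fun a ha b hb => (hrotR a ha).comm (hrotR b hb), ?_, ?_⟩, ?_⟩
  · rintro x (rfl | rfl | rfl | rfl)
    exacts [one_mem _, nM_mem_P, hP, mul_mem nM_mem_P hP]
  · rintro x (rfl | rfl | rfl | rfl)
    · simp
    · exact nM_sq
    · exact hhh
    · rw [mul_assoc, ← mul_assoc h, nM_comm h, mul_assoc, hhh, mul_one, nM_sq]
  · have hsR : ∀ a ∈ R, sM * a * sM ∈ R := by
      rintro a (rfl | rfl | rfl | rfl)
      · rw [mul_one, sM_sq]; exact R.one_mem
      · rw [nM_comm, mul_assoc, sM_sq, mul_one]; exact Or.inr (Or.inl rfl)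
      · exact Or.inr (Or.inr (Or.inr hs))
      · refine Or.inr (Or.inr (Or.inl ?_))
        rw [← mul_assoc, nM_comm, mul_assoc, mul_assoc, ← mul_assoc sM, hs, ← mul_assoc, nM_sq,
          one_mul]
    intro k hk a ha
    rcases mem_P.1 hk with hd' | hd'
    · rw [(mem_D.1 hd').1.comm (hrotR a ha), mul_inv_cancel_right]
      exact ha
    · have e : k * a * k⁻¹ = sM * a * sM := by
        have hc := (mem_D.1 hd').1.comm (hrotR a ha)
        have hk' : k = sM * (sM * k) := by rw [← mul_assoc, sM_sq, one_mul]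
        conv_lhs => rw [hk']
        rw [mul_assoc sM, hc, _root_.mul_inv_rev, inv_eq_of_mul_eq_one_right sM_sq]
        group
      exact e ▸ hsR a ha
  · have hne := WreathTwo85Normal.nM_ne_one (F := F) h2
    have h4 := Nat.card_le_card_of_injective (β := R)
      (fun b : Bool × Bool => ⟨(if b.1 then nM else 1) * (if b.2 then h else 1),
        R.mul_mem (by split_ifs; exacts [Or.inr (Or.inl rfl), Or.inl rfl])
          (by split_ifs; exacts [Or.inr (Or.inr (Or.inl rfl)), Or.inl rfl])⟩) (fun b c hbc => by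
        rcases b with ⟨b1, b2⟩
        rcases c with ⟨c1, c2⟩
        have e00 := congrArg (fun x : R => (x : GL (Fin 2) F).1 0 0) hbc
        have e01 := congrArg (fun x : R => (x : GL (Fin 2) F).1 0 1) hbc
        have h1 : (1 : F) ≠ -1 := fun h => h2 (by linear_combination h)
        have h01 : h.1 0 1 ≠ -(h.1 0 1) := fun he =>
          mul_ne_zero h2 hoff (by linear_combination he)
        cases b1 <;> cases b2 <;> cases c1 <;> cases c2 <;>
          simp [nM, hdiag, hoff, h1, Ne.symm h1, h01, Ne.symm h01, neg_eq_zero, eq_comm] at e00 e01 ⊢)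
    simpa using h4

/-! ### The upper bound -/

theorem rot_involution (hns : ∀ c : F, c ^ 2 ≠ -1) {x : GL (Fin 2) F} (hx : Rot x) (h : x * x = 1) :
    x ∈ R2 F := by
  obtain ⟨r1, r2⟩ := hx
  have e0 := congrArg (fun A : GL (Fin 2) F => A.1 0 0) h
  have e1 := congrArg (fun A : GL (Fin 2) F => A.1 0 1) h
  simp [r1, r2] at e0 e1
  by_cases hb : x.1 0 1 = 0
  · rw [hb] at e0
    simp at e0
    rcases mul_self_eq_one_iff.1 e0 with he | he
    · exact Or.inl (ext2 (by simp [r1, he]) (by simp [hb]) (by simp [r2, hb]) (by simp [he]))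
    · exact Or.inr (ext2 (by simp [nM, r1, he]) (by simp [nM, hb]) (by simp [nM, r2, hb])
        (by simp [nM, he]))
  · exfalso
    by_cases ha : x.1 1 1 = 0
    · rw [ha] at e0
      exact hns (x.1 0 1) (by linear_combination -e0)
    · have h2 : (2 : F) = 0 := by
        refine (mul_eq_zero.1 (show (2 : F) * (x.1 1 1 * x.1 0 1) = 0 by linear_combination e1)).resolve_right ?_
        exact mul_ne_zero ha hb
      have hsq : x.1 1 1 ^ 2 + x.1 0 1 ^ 2 = 1 := by
        linear_combination e0 + (x.1 0 1 ^ 2) * h2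
      exact hns 1 (by linear_combination h2)

theorem exists_r (h2 : (2 : F) ≠ 0) (hns : ∀ c : F, c ^ 2 ≠ -1) :
    ∃ r ∈ D F, r * r * (r * r) ≠ 1 := by
  obtain ⟨c, hc, -, hcc⟩ := exists_c h2
  refine ⟨c, hc, fun h => ?_⟩
  rcases rot_involution hns (hc.1.mul hc.1) h with h1 | h1 <;> rw [h1] at hcc
  · simp at hcc
  · simp [nM] at hcc

theorem mem_wr {T : Subgroup (Equiv.Perm ι)} {x : GL (Fin 2 × ι) F}
    (hx : x ∈ wr (Subgroup.pi Set.univ fun _ : ι => P F) T) :
    ∃ v : ι → GL (Fin 2) F, (∀ i, v i ∈ P F) ∧ ∃ σ, x = bd v * pm σ := by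
  have hle : T.map pm ≤ Subgroup.normalizer
      (((Subgroup.pi Set.univ fun _ : ι => P F).map bd : Subgroup (GL (Fin 2 × ι) F)) :
        Set (GL (Fin 2 × ι) F)) := by
    rintro _ ⟨σ, -, rfl⟩
    rw [Subgroup.mem_normalizer_iff]
    intro g
    constructor
    · rintro ⟨v, hv, rfl⟩
      exact ⟨_, fun i _ => hv (σ⁻¹ i) trivial, (conj_bd σ v).symm⟩
    · rintro ⟨v, hv, hv'⟩
      refine ⟨_, fun i _ => hv (σ i) trivial, ?_⟩
      have := conj_bd σ⁻¹ v
      rw [hv', map_inv, inv_inv, inv_inv] at this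
      rw [← this]
      group
  have hx' : x ∈ (((Subgroup.pi Set.univ fun _ : ι => P F).map bd : Subgroup (GL (Fin 2 × ι) F)) :
      Set (GL (Fin 2 × ι) F)) *
      ((T.map pm : Subgroup (GL (Fin 2 × ι) F)) : Set (GL (Fin 2 × ι) F)) := by
    rw [← Subgroup.coe_mul_of_right_le_normalizer_left _ _ hle]
    exact hx
  obtain ⟨_, ⟨v, hv, rfl⟩, _, ⟨σ, -, rfl⟩, rfl⟩ := hx'
  exact ⟨v, fun i => hv i trivial, σ, rfl⟩

theorem conj_bd_pm (v w : ι → GL (Fin 2) F) (σ : Equiv.Perm ι) :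
    (bd v * pm σ) * bd w * (bd v * pm σ)⁻¹ = bd (fun i => v i * w (σ⁻¹ i) * (v i)⁻¹) := by
  rw [show (bd v * pm σ) * bd w * (bd v * pm σ)⁻¹ = bd v * (pm σ * bd w * (pm σ)⁻¹) * (bd v)⁻¹ by
    group, conj_bd, ← map_inv, ← map_mul, ← map_mul]
  rfl

theorem nea_upper (h2 : (2 : F) ≠ 0) (hns : ∀ c : F, c ^ 2 ≠ -1) (h4 : ¬ 4 ∣ Nat.card F - 1)
    {T : Subgroup (Equiv.Perm ι)} {E : Subgroup (GL (Fin 2 × ι) F)}
    (hE : NEA (wr (Subgroup.pi Set.univ fun _ : ι => P F) T) E) :
    E ≤ (Subgroup.pi Set.univ fun _ : ι => R2 F).map bd := by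
  obtain ⟨hle, -, hs, hn⟩ := hE
  obtain ⟨r, hr, hr4⟩ := exists_r h2 hns
  have hr2 : r * r ≠ 1 := fun h => hr4 (by rw [h, one_mul])
  intro e he
  obtain ⟨v, hv, σ, rfl⟩ := mem_wr (hle he)
  have hsingle : ∀ i, (Pi.mulSingle i r : ι → GL (Fin 2) F) ∈ Subgroup.pi Set.univ fun _ : ι => P F := by
    intro i k _
    by_cases hki : k = i
    · subst hki; simpa using mem_P.2 (Or.inl hr)
    · simp [hki, one_mem]
  have key : ∀ i k, (Pi.mulSingle i r : ι → GL (Fin 2) F) k *
      (v k * ((Pi.mulSingle i r : ι → GL (Fin 2) F) (σ⁻¹ k))⁻¹ * (v k)⁻¹) *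
      ((Pi.mulSingle i r : ι → GL (Fin 2) F) k *
      (v k * ((Pi.mulSingle i r : ι → GL (Fin 2) F) (σ⁻¹ k))⁻¹ * (v k)⁻¹)) = 1 := by
    intro i k
    set w : ι → GL (Fin 2) F := Pi.mulSingle i r
    set g : GL (Fin 2 × ι) F := bd v * pm σ
    have hz : bd w * g * (bd w)⁻¹ * g⁻¹ ∈ E :=
      mul_mem (hn _ (bd_mem (hsingle i)) _ he) (inv_mem he)
    have hz2 := hs _ hz
    rw [show bd w * g * (bd w)⁻¹ * g⁻¹ = bd w * (g * bd w⁻¹ * g⁻¹) by rw [map_inv]; group,
      conj_bd_pm, ← map_mul, ← map_mul] at hz2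
    have := congrFun (bd_injective (hz2.trans (map_one bd).symm)) k
    simpa using this
  have hσ : σ = 1 := by
    refine Equiv.ext fun i => ?_
    by_contra hne
    rw [Equiv.Perm.one_apply] at hne
    have h := key i i
    have hi' : σ⁻¹ i ≠ i := fun h => hne (by
      conv_lhs => rw [← h]
      simp)
    rw [Pi.mulSingle_eq_same, Pi.mulSingle_eq_of_ne hi'] at h
    simp at h
    exact hr2 h
  subst hσ
  have he2 := hs _ he
  rw [map_one, mul_one] at he2 ⊢
  rw [← map_mul] at he2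
  refine Subgroup.mem_map_of_mem _ fun i _ => ?_
  have hb : v i * v i = 1 := congrFun (bd_injective (he2.trans (map_one bd).symm)) i
  rcases mem_P.1 (hv i) with hd' | hd'
  · exact rot_involution hns hd'.1 hb
  · exfalso
    have h := key i i
    rw [show ((1 : Equiv.Perm ι)⁻¹) i = i by simp, Pi.mulSingle_eq_same] at h
    set d := sM * v i
    have hvd : v i = sM * d := by rw [← mul_assoc, sM_sq, one_mul]
    have e : v i * r⁻¹ * (v i)⁻¹ = (sM * r * sM)⁻¹ := by
      rw [hvd, show sM * d * r⁻¹ * (sM * d)⁻¹ = sM * (d * r⁻¹ * d⁻¹) * sM⁻¹ by group,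
        hd'.1.comm (mem_D.1 (inv_mem hr)).1, mul_inv_cancel_right, _root_.mul_inv_rev,
        _root_.mul_inv_rev, inv_eq_of_mul_eq_one_right sM_sq, mul_assoc]
    rw [e] at h
    set rb := sM * r * sM
    have hcomm : Commute r rb := (mem_D.1 hr).1.comm (mem_D.1 hr).1.conj_sM
    have hN : ∀ x : GL (Fin 2) F, x = r * rb → x * x = 1 := by
      rintro _ rfl
      refine Units.ext ?_
      rw [Units.val_mul, det_conj_rot (mem_D.1 hr).1, Matrix.diagonal_mul_diagonal]
      rcases det_eq_or h4 (mem_P.2 (Or.inl hr)) with hh | hh <;> simp [hh]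
    have hN' := hN _ rfl
    refine hr4 ?_
    calc r * r * (r * r) = (r * rb⁻¹ * (r * rb⁻¹)) * (r * rb * (r * rb)) := by
          have c1 : Commute r rb⁻¹ := hcomm.inv_right
          calc r * r * (r * r) = r ^ 4 * (rb⁻¹ * rb) ^ 2 := by
                rw [inv_mul_cancel, one_pow, mul_one]
                simp [pow_succ, mul_assoc]
            _ = _ := by
                rw [(Commute.inv_left (Commute.refl rb)).mul_pow]
                calc r ^ 4 * (rb⁻¹ ^ 2 * rb ^ 2) = (r ^ 2 * rb⁻¹ ^ 2) * (r ^ 2 * rb ^ 2) := by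
                      rw [show (4 : ℕ) = 2 + 2 by norm_num, pow_add, mul_assoc, mul_assoc,
                        ← mul_assoc (r ^ 2) (rb⁻¹ ^ 2), ((c1.pow_pow 2 2)).eq, mul_assoc]
                  _ = (r * rb⁻¹) ^ 2 * (r * rb) ^ 2 := by rw [c1.mul_pow, hcomm.mul_pow]
                  _ = _ := by rw [pow_two, pow_two]
      _ = 1 := by rw [h, hN', one_mul]

/-! ### Index changes -/

/-- `GL` along a change of index type. -/
noncomputable def fEven (F : Type*) [Field F] {κ : Type*} [Fintype κ] [DecidableEq κ] {n : ℕ}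
    (e : κ ≃ Fin n) : GL κ F →* GL (Fin n) F :=
  Units.map (Matrix.reindexAlgEquiv F F e).toAlgHom.toRingHom.toMonoidHom

omit [Finite F] in
theorem fEven_injective {κ : Type*} [Fintype κ] [DecidableEq κ] {n : ℕ} (e : κ ≃ Fin n) :
    Function.Injective (fEven F e) := fun a b h =>
  Units.ext ((Matrix.reindexAlgEquiv F F e).injective (congrArg Units.val h))

/-- `GL_{2m} × GL_1` inside `GL_{2m+1}`, as block matrices. -/
def blockScalar (F : Type*) [Field F] (κ : Type*) [Fintype κ] [DecidableEq κ] :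
    GL κ F × Fˣ →* GL (κ ⊕ Unit) F :=
  MonoidHom.toHomUnits
    { toFun := fun x => Matrix.fromBlocks x.1.1 0 0 (Matrix.diagonal fun _ : Unit => (x.2 : F))
      map_one' := by simp [Matrix.fromBlocks_one]
      map_mul' := fun x y => by simp [Matrix.fromBlocks_multiply] }

omit [Finite F] in
theorem blockScalar_injective {κ : Type*} [Fintype κ] [DecidableEq κ] :
    Function.Injective (blockScalar F κ) := by
  intro x y h
  obtain ⟨h1, -, -, h2⟩ := Matrix.fromBlocks_inj.1 (congrArg Units.val h)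
  exact Prod.ext (Units.ext h1) (Units.ext (by simpa using congrFun (congrFun h2 ()) ()))

/-! ### The bound from `SL` -/

theorem card_le_GL [Fintype F] (hF : Odd (Fintype.card F)) {n : ℕ} (hn : 1 ≤ n)
    (A : Subgroup (GL (Fin n) F)) (hc : IsMulCommutative A) (h2 : ∀ a ∈ A, a ^ 2 = 1) :
    Nat.card A ≤ 2 ^ n := by
  set f : A →* Fˣ := GeneralLinearGroup.det.comp A.subtype
  have hr : Nat.card f.range ≤ 2 := by
    have : Nat.card f.range ≤ Nat.card ({1, -1} : Set Fˣ) := by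
      refine Nat.card_mono (Set.toFinite _) ?_
      rintro z ⟨a, rfl⟩
      have : f a ^ 2 = 1 := by rw [← map_pow, show a ^ 2 = 1 from Subtype.ext (h2 a a.2), map_one]
      have h' := congrArg Units.val this
      rw [Units.val_pow_eq_pow_val, Units.val_one, pow_two, mul_self_eq_one_iff] at h'
      rcases h' with h' | h'
      · exact Or.inl (Units.ext h')
      · exact Or.inr (Units.ext (by simpa using h'))
    refine this.trans ?_
    rw [Nat.card_coe_set_eq]
    exact Set.ncard_insert_le _ _ |>.trans (by simp)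
  have hk : Nat.card f.ker ≤ 2 ^ (n - 1) := by
    let g : f.ker →* SpecialLinearGroup (Fin n) F :=
      { toFun := fun a => ⟨a.1.1.1, congrArg Units.val (MonoidHom.mem_ker.1 a.2)⟩
        map_one' := rfl
        map_mul' := fun a b => rfl }
    have hg : Function.Injective g := fun a b h =>
      Subtype.ext (Subtype.ext (Units.ext (congrArg Subtype.val h)))
    rw [Nat.card_congr (MonoidHom.ofInjective hg).toEquiv]
    refine (S2233.result hF n hn).2 g.range ⟨⟨?_⟩⟩ ?_
    · rintro ⟨_, a, rfl⟩ ⟨_, b, rfl⟩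
      refine Subtype.ext ?_
      show g a * g b = g b * g a
      rw [← map_mul, ← map_mul]
      exact congrArg g (Subtype.ext (hc.is_comm.comm a.1 b.1))
    · rintro _ ⟨a, rfl⟩
      rw [← map_pow, show a ^ 2 = 1 from Subtype.ext (Subtype.ext (h2 a.1 a.1.2)), map_one]
  rw [← f.ker.card_mul_index, Subgroup.index_ker]
  calc Nat.card f.ker * Nat.card f.range ≤ 2 ^ (n - 1) * 2 := Nat.mul_le_mul hk hr
    _ = 2 ^ n := by rw [← pow_succ]; congr 1; omega

/-! ### The result -/

theorem normal_rank [Fintype F] (hF : Odd (Fintype.card F)) (n : ℕ) (hn : 1 ≤ n)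
    (S : Sylow 2 (GL (Fin n) F)) :
    let r := if Fintype.card F % 4 = 1 then n else (n + 1) / 2
    (∃ E : Subgroup (S : Subgroup (GL (Fin n) F)), E.Normal ∧
        (IsMulCommutative E ∧ ∀ a ∈ E, a ^ 2 = 1) ∧ 2 ^ r ≤ Nat.card E) ∧
      ∀ E : Subgroup (S : Subgroup (GL (Fin n) F)), E.Normal →
        (IsMulCommutative E ∧ ∀ a ∈ E, a ^ 2 = 1) → Nat.card E ≤ 2 ^ r := by
  classical
  intro r
  have hodd : Odd (Nat.card F) := by rwa [Nat.card_eq_fintype_card]
  obtain ⟨hq, h2⟩ := q_facts hodd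
  obtain ⟨kq, hkq⟩ := hF
  have hmain : ∀ (m : ℕ) (T : Sylow 2 (Equiv.Perm (Fin m))),
      (∃ E, NEA (wr (Subgroup.pi Set.univ fun _ : Fin m => P F) (T : Subgroup (Equiv.Perm (Fin m)))) E ∧
        2 ^ (if Fintype.card F % 4 = 1 then 2 * m else m) ≤ Nat.card E) ∧
      (Fintype.card F % 4 ≠ 1 → ∀ E,
        NEA (wr (Subgroup.pi Set.univ fun _ : Fin m => P F) (T : Subgroup (Equiv.Perm (Fin m)))) E →
        Nat.card E ≤ 2 ^ m) := by
    intro m T
    refine ⟨?_, fun hq4 E hE => ?_⟩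
    · split_ifs with hq4
      · obtain ⟨i, hi⟩ : ∃ i : F, i ^ 2 = -1 := by
          obtain ⟨i, hi⟩ := (FiniteField.isSquare_neg_one_iff (F := F)).2 (by omega)
          exact ⟨i, by rw [pow_two, hi]⟩
        obtain ⟨R, hR, hR4⟩ := exists_R4 hi h2
        refine ⟨_, pi_nea hR, ?_⟩
        rw [pi_card, Fintype.card_fin, pow_mul]
        exact Nat.pow_le_pow_left (le_trans (by norm_num) hR4) m
      · refine ⟨_, pi_nea R2_nea, ?_⟩
        rw [pi_card, Fintype.card_fin, card_R2 h2]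
    · have hns : ∀ c : F, c ^ 2 ≠ -1 := fun c hc => by
        have := (FiniteField.isSquare_neg_one_iff (F := F)).1 ⟨c, by rw [← hc, pow_two]⟩
        omega
      refine (Subgroup.card_le_of_le (nea_upper h2 hns (by rw [Nat.card_eq_fintype_card]; omega) hE)).trans ?_
      rw [pi_card, Fintype.card_fin, card_R2 h2]
  have hglobal : ∀ E : Subgroup (S : Subgroup (GL (Fin n) F)),
      (IsMulCommutative E ∧ ∀ a ∈ E, a ^ 2 = 1) → Nat.card E ≤ 2 ^ n := by
    rintro E ⟨hEc, hE2⟩
    rw [← Subgroup.card_map_of_injective (K := E) (f := (S : Subgroup (GL (Fin n) F)).subtype)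
      (S : Subgroup (GL (Fin n) F)).subtype_injective]
    refine card_le_GL ⟨kq, hkq⟩ hn _ ⟨⟨?_⟩⟩ ?_
    · rintro ⟨_, a, ha, rfl⟩ ⟨_, b, hb, rfl⟩
      exact Subtype.ext (congrArg (fun x : E => ((x : (S : Subgroup (GL (Fin n) F))) : GL (Fin n) F))
        (hEc.is_comm.comm ⟨a, ha⟩ ⟨b, hb⟩))
    · rintro _ ⟨a, ha, rfl⟩
      rw [← map_pow, hE2 a ha, map_one]
  have hfact := fact_GL (q := Nat.card F) hq hodd n
  rw [← PSLCard.card_GL] at hfact
  obtain ⟨m, rfl | rfl⟩ := Nat.even_or_odd' n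
  · obtain ⟨T⟩ : Nonempty (Sylow 2 (Equiv.Perm (Fin m))) := inferInstance
    set K := wr (Subgroup.pi Set.univ fun _ : Fin m => P F) (T : Subgroup (Equiv.Perm (Fin m)))
    obtain ⟨ψ⟩ := exists_equiv (fEven F (Fintype.equivFinOfCardEq (α := Fin 2 × Fin m) (by simp)))
      (fEven_injective _) (K := K)
      (isPGroup_wr isPGroup_pi T.isPGroup' fun σ v hv i _ => hv (σ i) trivial)
      (by
        refine le_trans (le_of_eq ?_) le_card_wr
        rw [card_pi, card_sylow_perm, card_P_eq hodd, Fintype.card_fin, hfact,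
          fact_prod_all hq hodd, ← pow_mul, ← pow_add]
        ring_nf) S
    obtain ⟨hlow, hupp⟩ := hmain m T
    by_cases hq4 : Fintype.card F % 4 = 1
    · rw [if_pos hq4] at hlow
      simp only [r, if_pos hq4]
      exact ⟨(transfer ψ (hi := Nat.card K) hlow fun E hE => Subgroup.card_le_of_le hE.1).1,
        fun E _ hE' => hglobal E hE'⟩
    · rw [if_neg hq4] at hlow
      simp only [r, if_neg hq4, show (2 * m + 1) / 2 = m by omega]
      exact transfer ψ hlow (hupp hq4)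
  · obtain ⟨T⟩ : Nonempty (Sylow 2 (Equiv.Perm (Fin m))) := inferInstance
    have : Fact (Nat.Prime 2) := ⟨Nat.prime_two⟩
    set sq : Fˣ →* Fˣ := powMonoidHom 2
    have hker2 : IsPGroup 2 sq.ker := fun x => ⟨1, Subtype.ext (by
      rw [pow_one]; exact MonoidHom.mem_ker.1 x.2)⟩
    obtain ⟨μ, hμ⟩ := hker2.exists_le_sylow
    have hkcard : Nat.card sq.ker = 2 := by
      rw [Nat.card_eq_two_iff]
      refine ⟨⟨1, by simp [sq]⟩, ⟨-1, by simp [sq]⟩, fun h => h2 ?_, ?_⟩
      · have := congrArg (fun x : sq.ker => ((x : Fˣ) : F)) h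
        simp at this
        linear_combination this
      refine Set.eq_univ_iff_forall.2 fun x => ?_
      have h := congrArg Units.val (MonoidHom.mem_ker.1 x.2)
      change (((x : Fˣ) ^ 2 : Fˣ) : F) = 1 at h
      rw [Units.val_pow_eq_pow_val, pow_two, mul_self_eq_one_iff] at h
      rcases h with h | h
      · exact Or.inl (Subtype.ext (Units.ext h))
      · exact Or.inr (Subtype.ext (Units.ext (by simpa using h)))
    set K0 := wr (Subgroup.pi Set.univ fun _ : Fin m => P F) (T : Subgroup (Equiv.Perm (Fin m)))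
    set K := K0.prod (μ : Subgroup Fˣ)
    have hK0 : IsPGroup 2 K0 := isPGroup_wr isPGroup_pi T.isPGroup' fun σ v hv i _ => hv (σ i) trivial
    have hK : IsPGroup 2 K := by
      obtain ⟨a, ha⟩ := IsPGroup.iff_card.1 hK0
      obtain ⟨b, hb⟩ := IsPGroup.iff_card.1 μ.isPGroup'
      exact IsPGroup.of_card (n := a + b) (by
        rw [Nat.card_congr (K0.prodEquiv (μ : Subgroup Fˣ)).toEquiv, Nat.card_prod, ha, hb, pow_add])
    obtain ⟨ψ⟩ := exists_equiv
      ((fEven F (Fintype.equivFinOfCardEq (α := (Fin 2 × Fin m) ⊕ Unit) (by simp))).comp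
        (blockScalar F (Fin 2 × Fin m)))
      ((fEven_injective _).comp blockScalar_injective) hK
      (by
        rw [Nat.card_congr (K0.prodEquiv (μ : Subgroup Fˣ)).toEquiv, Nat.card_prod]
        refine le_trans (le_of_eq ?_) (Nat.mul_le_mul_right _ le_card_wr)
        rw [card_pi, card_sylow_perm, card_P_eq hodd, Fintype.card_fin, hfact,
          μ.card_eq_multiplicity, Nat.card_units, Finset.prod_range_succ,
          Nat.factorization_mul (Finset.prod_ne_zero_iff.2 fun i _ =>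
            Nat.sub_ne_zero_of_lt (Nat.one_lt_pow (by omega) hq))
            (Nat.sub_ne_zero_of_lt (Nat.one_lt_pow (by omega) hq)),
          Finsupp.add_apply, fact_prod_all hq hodd, fact_odd_sub hq hodd, ← pow_mul, ← pow_add,
          ← pow_add]
        ring_nf) S
    obtain ⟨hlow, hupp⟩ := hmain m T
    have hlow' : ∃ E, NEA K E ∧
        2 ^ (if Fintype.card F % 4 = 1 then 2 * m else m) * 2 ≤ Nat.card E := by
      obtain ⟨E, ⟨hEK, hc, hs, hn'⟩, hE⟩ := hlow
      refine ⟨E.prod sq.ker, ⟨Subgroup.prod_mono hEK hμ, ?_, ?_, ?_⟩, ?_⟩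
      · rintro a ⟨ha, -⟩ b ⟨hb, -⟩
        exact Prod.ext (hc _ ha _ hb) (mul_comm _ _)
      · rintro a ⟨ha, ha'⟩
        exact Prod.ext (hs _ ha) (by simpa [sq, pow_two] using MonoidHom.mem_ker.1 ha')
      · rintro k ⟨hk, -⟩ a ⟨ha, ha'⟩
        exact ⟨hn' _ hk _ ha, by rw [show (k * a * k⁻¹).2 = a.2 by simp [mul_comm k.2 a.2]]; exact ha'⟩
      · rw [Nat.card_congr (E.prodEquiv sq.ker).toEquiv, Nat.card_prod, hkcard]
        exact Nat.mul_le_mul_right _ hE
    by_cases hq4 : Fintype.card F % 4 = 1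
    · rw [if_pos hq4] at hlow'
      simp only [r, if_pos hq4]
      rw [pow_succ 2 (2 * m)]
      exact ⟨(transfer ψ (hi := Nat.card K) hlow' fun E hE => Subgroup.card_le_of_le hE.1).1,
        fun E _ hE' => pow_succ 2 (2 * m) ▸ hglobal E hE'⟩
    · rw [if_neg hq4] at hlow'
      simp only [r, if_neg hq4, show (2 * m + 1 + 1) / 2 = m + 1 by omega]
      rw [pow_succ 2 m]
      refine transfer ψ hlow' fun E hE => ?_
      obtain ⟨hEK, hc, hs, hn'⟩ := hE
      set π := MonoidHom.fst (GL (Fin 2 × Fin m) F) Fˣ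
      have hE0 : NEA K0 (E.map π) := by
        refine ⟨?_, ?_, ?_, ?_⟩
        · rintro _ ⟨a, ha, rfl⟩; exact (hEK ha).1
        · rintro _ ⟨a, ha, rfl⟩ _ ⟨b, hb, rfl⟩
          rw [← map_mul, ← map_mul, hc a ha b hb]
        · rintro _ ⟨a, ha, rfl⟩
          rw [← map_mul, hs a ha, map_one]
        · rintro k hk _ ⟨a, ha, rfl⟩
          exact ⟨(k, 1) * a * (k, 1)⁻¹, hn' _ ⟨hk, (μ : Subgroup Fˣ).one_mem⟩ _ ha, by simp [π]⟩
      have hle : E ≤ (E.map π).prod sq.ker := fun a ha =>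
        ⟨Subgroup.mem_map_of_mem π ha, MonoidHom.mem_ker.2 (by
          have := congrArg Prod.snd (hs a ha)
          simpa [sq, pow_two] using this)⟩
      refine (Subgroup.card_le_of_le hle).trans ?_
      rw [Nat.card_congr ((E.map π).prodEquiv sq.ker).toEquiv, Nat.card_prod, hkcard]
      exact Nat.mul_le_mul_right _ (hupp hq4 _ hE0)

end Cfsg.Agent.WreathTwo85GL
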