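import Cfsg.Agent.Lib.Fi23PointCheck78
import Cfsg.Agent.Lib.CosetCertRestrict
import Cfsg.Agent.Lib.SpiderKill78

/-!
The group presented by the diagram Y432 and the spider relation alone is a central extension of Fi23 by the
end node element; in it enough relations hold to force the end node `f` of the long arm.
-/

set_option autoImplicit false
set_option maxRecDepth 100000
set_option Elab.async false

namespace Cfsg.Agent.Y432Spider78

open Cfsg.Agent.CosetCertCore Cfsg.Agent.CosetCertTable Cfsg.Agent.CosetCertPres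
open Cfsg.Agent.CosetCertOrder Cfsg.Agent.CosetCertFi23Simple Cfsg.Agent.Fi23PointCheck78

/-- The spider relator of `P23`. -/
abbrev spiderWx : Wx :=
  .pow (.mul (.mul (.mul (.mul (.mul (.mul (.mul (.mul (.gen 3) (.gen 2)) (.gen 1)) (.gen 3)) (.gen 4)) (.gen 5)) (.gen 3)) (.gen 8)) (.gen 9)) 10

/-- Y432 with the spider relation. -/
abbrev P4 : Pres where
  α := Cfsg.Spor.Fi23.Gen
  gens := [.a, .b, .c, .d, .e, .f, .g, .j, .h, .i]
  dflt := .a
  edges := Cfsg.Spor.Fi23.edges
  extra := [spiderWx]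

/-- Y322 with the spider relation, letters `b c d e f g h i`. -/
abbrev P8 : Pres where
  α := Fin 8
  gens := [0, 1, 2, 3, 4, 5, 6, 7]
  dflt := 0
  edges := [(0, 3, 1), (1, 3, 2), (2, 3, 3), (2, 3, 6), (3, 3, 4), (4, 3, 5), (6, 3, 7)]
  extra := [.pow (.mul (.mul (.mul (.mul (.mul (.mul (.mul (.mul (.gen 2) (.gen 1)) (.gen 0)) (.gen 2)) (.gen 3)) (.gen 4)) (.gen 2)) (.gen 6)) (.gen 7)) 10]

theorem good4 : P4.Good where
  complete := fun a => by cases a <;> decide
  nodes := fun a => by cases a <;> decide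
  symm := fun a b => by cases a <;> cases b <;> decide

theorem good8 : P8.Good where
  complete := fun a => by revert a; decide
  nodes := fun a => by revert a; decide
  symm := fun a b => by revert a b; decide

theorem invol4 : ∀ x, P4.gg x * P4.gg x = 1 := gg_sq good4

theorem invol8 : ∀ x, P8.gg x * P8.gg x = 1 := gg_sq good8

theorem exists_hom {Q : Pres} (hQ : Q.Good) (hnd : Q.gens.Nodup) {K : Type*} [Group K] (f : Nat → K)
    (hinv : ∀ x, f x * f x = 1) (hw : ∀ w ∈ Q.relWords, val f w = 1)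
    (hl : ∀ e ∈ Q.extra, ∀ x ∈ e.letters, x < Q.gens.length) :
    ∃ φ : Q.Grp →* K, ∀ x, x < Q.gens.length → φ (Q.gg x) = f x := by
  refine ⟨PresentedGroup.toGroup (CosetCertRestrict.lift_rels hQ hnd f hinv hw hl), fun x hx => ?_⟩
  rw [Pres.gg, PresentedGroup.toGroup.of]
  congr 1
  unfold Pres.gen
  rw [List.getD_eq_getElem _ _ hx, hnd.idxOf_getElem x hx]

theorem map_val {G K : Type*} [Group G] [Group K] (φ : G →* K) (g : Nat → G) (f : Nat → K)
    (w : List Nat) (h : ∀ x ∈ w, φ (g x) = f x) : φ (val g w) = val f w := by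
  unfold val
  rw [map_list_prod, List.map_map]
  exact congrArg List.prod (List.map_congr_left h)

theorem val_map {K : Type*} [Group K] (g : Nat → K) (σ : Nat → Nat) (w : List Nat) :
    val (fun x => g (σ x)) w = val g (w.map σ) := by
  simp [val, List.map_map, Function.comp_def]

theorem comm_of_pairs {K : Type*} [Group K] (g : Nat → K) (y : K) (w : List Nat)
    (h : ∀ x ∈ w, Commute y (g x)) : Commute y (val g w) := by
  induction w with
  | nil => rw [val_nil]; exact Commute.one_right y
  | cons x w ih =>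
    rw [val_cons]
    exact (h x (List.mem_cons_self ..)).mul_right (ih fun z hz => h z (List.mem_cons_of_mem _ hz))

/-! ### The subgroup Y322 is faithfully represented in Fi23 -/

/-- The letters of Y322 inside `P23`. -/
abbrev SIG8 : List Nat := [1, 2, 3, 4, 5, 6, 8, 9]

/-- The other embedding, exchanging the two longer arms. -/
abbrev SIGB : List Nat := [5, 4, 3, 2, 1, 0, 8, 9]

theorem rels8 {C : Cert} {σ : List Nat}
    (h : (C.rels.all fun w => decide (w.map (ren σ) ∈ P8.relWords)) = true) :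
    ∀ w ∈ C.rels, val P8.gg (w.map (ren σ)) = 1 := by
  intro w hw
  simp only [List.all_eq_true, decide_eq_true_eq] at h
  exact val_relWords good8 (h w hw)

theorem sgens8 {C : Cert} {σ τ : List Nat}
    (h : C.sgens.map (List.map (ren σ)) = τ.map fun i => [i]) :
    ∀ w ∈ C.sgens, val P8.gg (w.map (ren σ)) ∈ span P8.gg τ := by
  intro w hw
  have h1 : w.map (ren σ) ∈ τ.map fun i => [i] := h ▸ List.mem_map_of_mem hw
  obtain ⟨i, hi, hiw⟩ := List.mem_map.mp h1
  rw [← hiw, val_cons, val_nil, mul_one]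
  exact Subgroup.subset_closure ⟨i, hi, rfl⟩

theorem bound8 : Finite P8.Grp ∧ Nat.card P8.Grp ≤ 9170703360 := by
  have h5 := span_card_le P8.gg invol8 CosetCertFi23S5.closed (σ := [2, 3, 4, 5, 6]) (by decide +kernel)
    (by simp) (rels8 (by decide +kernel)) (τ := []) (by decide +kernel) (sgens8 (by decide +kernel))
    (span_nil_card _)
  have h4 := span_card_le P8.gg invol8 CosetCertFi23S4.closed (σ := [1, 2, 3, 4, 5, 6]) (by decide +kernel)
    (by simp) (rels8 (by decide +kernel)) (τ := [2, 3, 4, 5, 6]) (by decide +kernel)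
    (sgens8 (by decide +kernel)) h5
  have h3 := span_card_le P8.gg invol8 CosetCertFi23S3.closed (σ := [0, 1, 2, 3, 4, 5, 6]) (by decide +kernel)
    (by simp) (rels8 (by decide +kernel)) (τ := [1, 2, 3, 4, 5, 6]) (by decide +kernel)
    (sgens8 (by decide +kernel)) h4
  have h2 := span_card_le P8.gg invol8 CosetCertFi23S2.closed (σ := [0, 1, 2, 3, 4, 5, 6, 7])
    (by decide +kernel) (by simp) (rels8 (by decide +kernel)) (τ := [0, 1, 2, 3, 4, 5, 6])
    (by decide +kernel) (sgens8 (by decide +kernel)) h3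
  have htop : span P8.gg [0, 1, 2, 3, 4, 5, 6, 7] = ⊤ := by
    rw [eq_top_iff, ← closure_gg good8]
    apply Subgroup.closure_mono
    rintro y ⟨x, hx, rfl⟩
    exact ⟨x, by have hx' : x < 8 := hx; interval_cases x <;> simp, rfl⟩
  rw [htop, Subgroup.card_top] at h2
  obtain ⟨hf, hc⟩ := h2
  exact ⟨Finite.of_equiv _ Subgroup.topEquiv.toEquiv, hc.trans_eq (by decide +kernel)⟩

theorem card_span8 : 9170703360 ≤ Nat.card (span P23.gg SIG8) := by
  have hfin := upper.1
  have h := span_card_le P23.gg invol CosetCertFi23S1.closed (σ := [0, 1, 2, 3, 4, 5, 6, 8, 9])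
    (by decide +kernel) (by simp) (rels_of (by decide +kernel)) (τ := SIG8) (by decide +kernel)
    (sgens_of (by decide +kernel)) ⟨inferInstance, le_rfl⟩
  have h2 := h.2
  rw [card_span.1, show CosetCertFi23S1Data.table.N = 14080 by decide +kernel] at h2
  omega

theorem rels8to23 : ∀ w ∈ P8.relWords, w.map (ren SIG8) ∈ P23.relWords := by decide +kernel

/-- A relation between words in the letters of Y322 that holds in Fi23 holds in `P8`. -/
theorem eq8 {u v : List Nat} (hl : ((u ++ v.reverse).all fun x => decide (x < 8)) = true)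
    (h : chk ((u ++ v.reverse).map (ren SIG8)) = true) : val P8.gg u = val P8.gg v := by
  obtain ⟨hf, hc⟩ := bound8
  obtain ⟨φ, hφ⟩ := exists_hom good8 (by decide) (fun x => P23.gg (ren SIG8 x)) (fun x => invol _)
    (fun w hw => by rw [val_map]; exact val_relWords good (rels8to23 w hw)) (by decide +kernel)
  have hle : span P23.gg SIG8 ≤ φ.range := by
    rw [span, Subgroup.closure_le]
    rintro y ⟨i, hi, rfl⟩
    obtain ⟨x, hx, rfl⟩ := List.mem_iff_getElem.mp hi
    refine ⟨P8.gg x, ?_⟩
    rw [hφ x hx, ren, List.getD_eq_getElem _ _ hx]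
  haveI := hf
  haveI : Finite φ.range := Finite.of_surjective _ φ.rangeRestrict_surjective
  have hker : Nat.card φ.ker = 1 := by
    have h1 := Subgroup.card_mul_index φ.ker
    rw [Subgroup.index_ker] at h1
    have h2 := (card_span8.trans (Nat.card_le_card_of_injective _ (Subgroup.inclusion_injective hle)))
    have h3 : 0 < Nat.card φ.ker := Nat.card_pos
    by_contra h4
    have : 2 * Nat.card φ.range ≤ Nat.card φ.ker * Nat.card φ.range :=
      Nat.mul_le_mul_right _ (by omega)
    omega
  have hlt : ∀ x ∈ u ++ v.reverse, x < 8 := by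
    simpa only [List.all_eq_true, decide_eq_true_eq] using hl
  have hw : ∀ x ∈ (u ++ v.reverse).map (ren SIG8), x < 10 := by
    intro x hx
    obtain ⟨y, hy, rfl⟩ := List.mem_map.mp hx
    have := hlt y hy
    interval_cases y <;> decide
  have h1 : φ (val P8.gg (u ++ v.reverse)) = 1 := by
    rw [map_val φ _ (fun x => P23.gg (ren SIG8 x)) _ fun x hx => hφ x (hlt x hx), val_map]
    exact val_eq_one hw h
  have h2 : val P8.gg (u ++ v.reverse) = 1 :=
    Subgroup.eq_bot_iff_forall _ |>.mp (Subgroup.card_eq_one.mp hker) _ h1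
  rwa [CosetCertPres.val_append, val_reverse _ invol8, mul_inv_eq_one] at h2

/-- The word of the end element of the long arm. -/
abbrev W1 : List Nat := (List.replicate 9 [3, 4, 2, 8, 5, 1, 6]).flatten
/-- The same element through the other short arm. -/
abbrev W13 : List Nat := (List.replicate 9 [3, 4, 8, 2, 5, 9, 6]).flatten
/-- The word killed in Fi23. -/
abbrev W2 : List Nat := (List.replicate 9 [0, 1, 2, 3, 4, 5, 8]).flatten
/-- The same element through the other short arm. -/
abbrev W23 : List Nat := (List.replicate 9 [0, 1, 2, 3, 4, 8, 9]).flatten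

/-- Transfer from `P8` along an embedding. -/
theorem transfer {σ : List Nat} (hσ : ∀ w ∈ P8.relWords, val P4.gg (w.map (ren σ)) = 1)
    {u v : List Nat} (hl : ((u ++ v.reverse).all fun x => decide (x < 8)) = true)
    (h : chk ((u ++ v.reverse).map (ren SIG8)) = true) :
    val P4.gg (u.map (ren σ)) = val P4.gg (v.map (ren σ)) := by
  obtain ⟨φ, hφ⟩ := exists_hom good8 (by decide) (fun x => P4.gg (ren σ x)) (fun x => invol4 _)
    (fun w hw => by rw [val_map]; exact hσ w hw) (by decide +kernel)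
  have hlt : ∀ x ∈ u ++ v.reverse, x < 8 := by
    simpa only [List.all_eq_true, decide_eq_true_eq] using hl
  have := congrArg φ (eq8 hl h)
  rwa [map_val φ _ (fun x => P4.gg (ren σ x)) _ fun x hx => hφ x (hlt x (List.mem_append_left _ hx)),
    map_val φ _ (fun x => P4.gg (ren σ x)) _
      fun x hx => hφ x (hlt x (List.mem_append_right _ (List.mem_reverse.mpr hx))),
    val_map P4.gg (ren σ) u, val_map P4.gg (ren σ) v] at this

/-- A word is a relator up to inversion. -/
abbrev RelOk (w : List Nat) : Prop := w ∈ P4.relWords ∨ w.reverse ∈ P4.relWords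

theorem val_relOk {w : List Nat} (h : RelOk w) : val P4.gg w = 1 := by
  rcases h with h | h
  · exact val_relWords good4 h
  · have := val_relWords good4 h
    rwa [val_reverse _ invol4, inv_eq_one] at this

theorem comm4 {i j : Nat} (h : RelOk [i, j, i, j]) : Commute (P4.gg i) (P4.gg j) := by
  have := val_relOk h
  simp only [val_cons, val_nil, mul_one] at this
  show P4.gg i * P4.gg j = P4.gg j * P4.gg i
  calc P4.gg i * P4.gg j = P4.gg i * P4.gg j * (P4.gg i * (P4.gg j * (P4.gg j * P4.gg i))) := by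
        rw [← mul_assoc (P4.gg j), invol4, one_mul, invol4, mul_one]
    _ = (P4.gg i * (P4.gg j * (P4.gg i * P4.gg j))) * (P4.gg j * P4.gg i) := by group
    _ = P4.gg j * P4.gg i := by rw [this, one_mul]

/-- The swapped spider word. -/
abbrev SWAP : List Nat := (List.replicate 10 [3, 4, 5, 3, 2, 1, 3, 8, 9]).flatten

theorem swap_rel : val P4.gg SWAP = 1 := by
  have h : val P4.gg (List.replicate 10 [3, 2, 1, 3, 4, 5, 3, 8, 9]).flatten = 1 :=
    val_relWords good4 (by decide +kernel)
  rw [val_replicate] at h ⊢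
  simp only [val_cons, val_nil, mul_one, ← mul_assoc] at h ⊢
  exact SpiderKill78.spider_swap (invol4 3) (invol4 2) (invol4 1) (invol4 4) (invol4 5) (invol4 8)
    (invol4 9) (comm4 (by decide +kernel)) (comm4 (by decide +kernel)) (comm4 (by decide +kernel))
    (comm4 (by decide +kernel)) (comm4 (by decide +kernel)) (comm4 (by decide +kernel))
    (comm4 (by decide +kernel)) (comm4 (by decide +kernel)) (comm4 (by decide +kernel))
    (comm4 (by decide +kernel)) (comm4 (by decide +kernel)) (comm4 (by decide +kernel)) h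

theorem embA_dec : ∀ w ∈ P8.relWords, RelOk (w.map (ren SIG8)) := by decide +kernel

theorem embB_dec : ∀ w ∈ P8.relWords, RelOk (w.map (ren SIGB)) ∨ w.map (ren SIGB) = SWAP := by
  decide +kernel

theorem embA : ∀ w ∈ P8.relWords, val P4.gg (w.map (ren SIG8)) = 1 :=
  fun w hw => val_relOk (embA_dec w hw)

theorem embB : ∀ w ∈ P8.relWords, val P4.gg (w.map (ren SIGB)) = 1 := fun w hw =>
  (embB_dec w hw).elim val_relOk fun h => h ▸ swap_rel

/-- The preimages in `P8`. -/
abbrev V1 : List Nat := (List.replicate 9 [2, 3, 1, 6, 4, 0, 5]).flatten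
/-- The preimage of `W13`. -/
abbrev V13 : List Nat := (List.replicate 9 [2, 3, 6, 1, 4, 7, 5]).flatten
/-- The preimage of `W2`. -/
abbrev V2 : List Nat := (List.replicate 9 [5, 4, 3, 2, 1, 0, 6]).flatten
/-- The preimage of `W23`. -/
abbrev V23 : List Nat := (List.replicate 9 [5, 4, 3, 2, 1, 6, 7]).flatten

theorem mapV : V1.map (ren SIG8) = W1 ∧ V13.map (ren SIG8) = W13 ∧ V2.map (ren SIGB) = W2 ∧
    V23.map (ren SIGB) = W23 := by decide +kernel

theorem z1_eq : val P4.gg W1 = val P4.gg W13 := by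
  have := transfer embA (u := V1) (v := V13) (by decide +kernel) (by decide +kernel)
  rwa [mapV.1, mapV.2.1] at this

theorem z2_eq : val P4.gg W2 = val P4.gg W23 := by
  have := transfer embB (u := V2) (v := V23) (by decide +kernel) (by decide +kernel)
  rwa [mapV.2.2.1, mapV.2.2.2] at this

theorem z1_sq : val P4.gg W1 * val P4.gg W1 = 1 := by
  have := transfer embA (u := V1 ++ V1) (v := []) (by decide +kernel) (by decide +kernel)
  rwa [List.map_append, mapV.1, CosetCertPres.val_append, List.map_nil, val_nil] at this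

theorem z2_sq : val P4.gg W2 * val P4.gg W2 = 1 := by
  have := transfer embB (u := V2 ++ V2) (v := []) (by decide +kernel) (by decide +kernel)
  rwa [List.map_append, mapV.2.2.1, CosetCertPres.val_append, List.map_nil, val_nil] at this

theorem checkA : ∀ x < 8, chk (((V1 ++ [x]) ++ ([x] ++ V1).reverse).map (ren SIG8)) = true := by
  decide +kernel

theorem checkB : ∀ x < 8, chk (((V2 ++ [x]) ++ ([x] ++ V2).reverse).map (ren SIG8)) = true := by
  decide +kernel

theorem far_dec : (∀ x ∈ W13, RelOk [0, x, 0, x]) ∧ (∀ x ∈ W23, RelOk [6, x, 6, x]) ∧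
    ∀ x ∈ W23, RelOk [7, x, 7, x] := by decide +kernel

theorem z1_comm : ∀ x, x < 10 → x ≠ 7 → Commute (val P4.gg W1) (P4.gg x) := by
  intro x hx h7
  by_cases h0 : x = 0
  · subst h0
    rw [z1_eq]
    exact (comm_of_pairs _ _ _ fun y hy => comm4 (far_dec.1 y hy)).symm
  · obtain ⟨y, hy, rfl⟩ : ∃ y, y < 8 ∧ ren SIG8 y = x :=
      (show ∀ x < 10, x ≠ 7 → x ≠ 0 → ∃ y, y < 8 ∧ ren SIG8 y = x by decide) x hx h7 h0
    have := transfer embA (u := V1 ++ [y]) (v := [y] ++ V1)
      (by interval_cases y <;> decide +kernel) (checkA y hy)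
    simp only [List.map_append, mapV.1, CosetCertPres.val_append, List.map_cons, List.map_nil,
      val_cons, val_nil, mul_one] at this
    exact this

theorem z2_comm : ∀ x, x < 10 → Commute (val P4.gg W2) (P4.gg x) := by
  intro x hx
  by_cases h67 : x = 6 ∨ x = 7
  · rw [z2_eq]
    rcases h67 with rfl | rfl
    · exact (comm_of_pairs _ _ _ fun y hy => comm4 (far_dec.2.1 y hy)).symm
    · exact (comm_of_pairs _ _ _ fun y hy => comm4 (far_dec.2.2 y hy)).symm
  · obtain ⟨y, hy, rfl⟩ : ∃ y, y < 8 ∧ ren SIGB y = x :=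
      (show ∀ x < 10, x ≠ 6 → x ≠ 7 → ∃ y, y < 8 ∧ ren SIGB y = x by decide) x hx
        (fun h => h67 (Or.inl h)) (fun h => h67 (Or.inr h))
    have := transfer embB (u := V2 ++ [y]) (v := [y] ++ V2)
      (by interval_cases y <;> decide +kernel) (checkB y hy)
    simp only [List.map_append, mapV.2.2.1, CosetCertPres.val_append, List.map_cons, List.map_nil,
      val_cons, val_nil, mul_one] at this
    exact this

theorem z2_central : val P4.gg W2 ∈ Subgroup.center P4.Grp := by
  rw [Subgroup.mem_center_iff]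
  intro g
  have hg : g ∈ Subgroup.closure {y | ∃ x, x < P4.gens.length ∧ y = P4.gg x} :=
    (closure_gg good4).symm ▸ Subgroup.mem_top g
  induction hg using Subgroup.closure_induction with
  | mem y hy => obtain ⟨x, hx, rfl⟩ := hy; exact (z2_comm x hx).symm.eq
  | one => simp
  | mul a b _ _ ha hb => rw [mul_assoc, hb, ← mul_assoc, ha, mul_assoc]
  | inv a _ ha => exact (Commute.inv_left (show Commute a (val P4.gg W2) from ha)).eq

theorem rels23 : ∀ w ∈ P23.relWords, w ∈ P4.relWords ∨ w = W2 := by decide +kernel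

theorem rels4to23 : ∀ w ∈ P4.relWords, w ∈ P23.relWords := by decide +kernel

theorem rels_even : ∀ w ∈ P4.relWords, w.length % 2 = 0 := by decide +kernel

/-- An even word in the ten letters is trivial as soon as it is trivial in Fi23. -/
theorem eq_one4 {w : List Nat} (hl : (w.all fun x => decide (x < 10)) = true)
    (hp : w.length % 2 = 0) (h : chk w = true) : val P4.gg w = 1 := by
  have hlt : ∀ x ∈ w, x < 10 := by simpa only [List.all_eq_true, decide_eq_true_eq] using hl
  obtain ⟨π, hπ⟩ := exists_hom good4 (by decide) P23.gg invol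
    (fun v hv => val_relWords good (rels4to23 v hv)) (by decide +kernel)
  haveI hn : (Subgroup.zpowers (val P4.gg W2)).Normal := ⟨fun n hn g => by
    rw [Subgroup.mem_center_iff.mp (Subgroup.zpowers_le.mpr z2_central hn) g]; simpa using hn⟩
  set mk := QuotientGroup.mk' (Subgroup.zpowers (val P4.gg W2)) with hmk
  obtain ⟨ψ, hψ⟩ := exists_hom good (by decide) (fun x => mk (P4.gg x))
    (fun x => by rw [← map_mul, invol4, map_one]) (fun v hv => by
      rw [← map_val mk P4.gg _ v fun x _ => rfl]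
      rcases rels23 v hv with hv | rfl
      · rw [val_relWords good4 hv, map_one]
      · exact (QuotientGroup.eq_one_iff _).mpr (Subgroup.mem_zpowers _)) (by decide +kernel)
  have hπw : π (val P4.gg w) = val P23.gg w := map_val π _ _ w fun x hx => hπ x (hlt x hx)
  have hψw : ψ (val P23.gg w) = mk (val P4.gg w) := by
    rw [map_val ψ P23.gg _ w fun x hx => hψ x (hlt x hx), ← map_val mk P4.gg _ w fun x _ => rfl]
  rw [val_eq_one hlt h, map_one] at hψw
  have hz : val P4.gg w ∈ Subgroup.zpowers (val P4.gg W2) := (QuotientGroup.eq_one_iff _).mp hψw.symm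
  obtain ⟨k, hk⟩ := Subgroup.mem_zpowers_iff.mp hz
  -- parity
  let o : Multiplicative (ZMod 2) := Multiplicative.ofAdd 1
  have ho : o * o = 1 := by decide
  have hlen : ∀ v : List Nat, val (fun _ => o) v = o ^ (v.length % 2) := by
    intro v
    have e : val (fun _ => o) v = o ^ v.length := by simp [val]
    conv_lhs => rw [e, ← Nat.mod_add_div v.length 2, pow_add, pow_mul, pow_two, ho, one_pow, mul_one]
  obtain ⟨χ, hχ⟩ := exists_hom good4 (by decide) (fun _ => o) (fun _ => ho)
    (fun v hv => by rw [hlen, rels_even v hv, pow_zero]) (by decide +kernel)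
  have hW : ∀ x ∈ W2, x < 10 := by decide +kernel
  have h1 : χ (val P4.gg w) = 1 := by
    rw [map_val χ _ (fun _ => o) w fun x hx => hχ x (hlt x hx), hlen, hp, pow_zero]
  have h2 : χ (val P4.gg W2) = o := by
    rw [map_val χ _ (fun _ => o) W2 fun x hx => hχ x (hW x hx), hlen,
      show W2.length % 2 = 1 by decide +kernel, pow_one]
  have hz2 : (val P4.gg W2) ^ 2 = 1 := by rw [pow_two, z2_sq]
  rcases Int.even_or_odd k with ⟨m, hm⟩ | ⟨m, hm⟩
  · rw [← hk, hm, ← two_mul, zpow_mul, zpow_ofNat, hz2, one_zpow]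
  · exfalso
    rw [← hk, hm, zpow_add, zpow_mul, zpow_ofNat, hz2, one_zpow, one_mul, zpow_one, h2] at h1
    exact absurd h1 (by decide)

/-- Equality of two words of equal parity. -/
theorem eq4 {u v : List Nat} (hl : ((u ++ v.reverse).all fun x => decide (x < 10)) = true)
    (hp : (u ++ v.reverse).length % 2 = 0) (h : chk (u ++ v.reverse) = true) :
    val P4.gg u = val P4.gg v := by
  have := eq_one4 hl hp h
  rwa [CosetCertPres.val_append, val_reverse _ invol4, mul_inv_eq_one] at this

/-! ### The plane -/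

/-- word -/ abbrev AW : List Nat := W1 ++ [7]
/-- word -/ abbrev M1 : List Nat := [1, 0, 6, 5, 4, 3, 8, 9, 2, 3, 8, 1, 2, 3, 4, 5, 6]
/-- word -/ abbrev M2 : List Nat := [2, 3, 8, 6, 5, 4, 3, 2, 1, 0, 8, 9, 5, 4, 3, 2, 6, 5, 4, 3, 8, 1, 2, 3, 4, 5, 6]
/-- word -/ abbrev M3 : List Nat := [2, 3, 8, 9, 4, 3, 8, 5, 4, 3, 2, 1, 0, 6, 5, 4, 3, 8, 9, 2, 3, 8, 1, 2, 3, 4, 5, 6]
/-- word -/ abbrev CW : List Nat := ([2, 1] ++ [0] ++ [1, 2]) ++ ([1, 2, 3, 8, 9, 4, 3, 8, 5, 4, 3, 2, 1] ++ [0] ++ [1, 2, 3, 4, 5, 8, 3, 4, 9, 8, 3, 2, 1]) ++ ([] ++ [0] ++ []) ++ ([3, 8, 9, 4, 3, 8, 5, 4, 3, 2, 1] ++ [0] ++ [1, 2, 3, 4, 5, 8, 3, 4, 9, 8, 3])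
/-- word -/ abbrev BW : List Nat := M1 ++ AW ++ M1.reverse

theorem letters_ok : (∀ x ∈ M1 ++ M2 ++ M3 ++ CW, x < 10 ∧ x ≠ 7) ∧ ∀ x ∈ AW, x < 10 := by
  decide +kernel

theorem plane_eqs : val P4.gg AW ^ 3 = 1 ∧
    val P4.gg CW * val P4.gg AW = val P4.gg AW * val P4.gg CW ∧
    val P4.gg CW * val P4.gg BW = val P4.gg BW * val P4.gg CW ∧
    val P4.gg AW * val P4.gg BW = val P4.gg CW * (val P4.gg BW * val P4.gg AW) ∧
    val P4.gg AW * val P4.gg BW * val P4.gg CW =
      val P4.gg M2 * val P4.gg AW * (val P4.gg M2)⁻¹ ∧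
    val P4.gg AW * (val P4.gg BW)⁻¹ * val P4.gg CW ^ 2 =
      val P4.gg M3 * val P4.gg AW * (val P4.gg M3)⁻¹ := by
  refine ⟨?_, ?_, ?_, ?_, ?_, ?_⟩
  · rw [← val_replicate]
    exact eq_one4 (by decide +kernel) (by decide +kernel) (by decide +kernel)
  · simp only [← CosetCertPres.val_append]
    exact eq4 (by decide +kernel) (by decide +kernel) (by decide +kernel)
  · simp only [← CosetCertPres.val_append]
    exact eq4 (by decide +kernel) (by decide +kernel) (by decide +kernel)
  · simp only [← CosetCertPres.val_append]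
    exact eq4 (by decide +kernel) (by decide +kernel) (by decide +kernel)
  · rw [← val_reverse _ invol4]
    simp only [← CosetCertPres.val_append]
    exact eq4 (by decide +kernel) (by decide +kernel) (by decide +kernel)
  · rw [← val_reverse _ invol4, ← val_reverse _ invol4, pow_two]
    simp only [← CosetCertPres.val_append]
    exact eq4 (by decide +kernel) (by decide +kernel) (by decide +kernel)

/-- The end node of the long arm is the ninth power of the Coxeter element. -/
theorem end_eq {K : Type*} [Group K] (t : Nat → K) (ht : ∀ x, t x * t x = 1)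
    (hrel : ∀ w ∈ P4.relWords, val t w = 1) (f : K) (hf : f * f = 1)
    (hc : ∀ x, x < 10 → x ≠ 7 → Commute f (t x)) (hb : (f * t 7) ^ 3 = 1) :
    f = val t W1 := by
  obtain ⟨ι, hι⟩ := exists_hom good4 (by decide) t ht hrel (by decide +kernel)
  have hW1 : ∀ x ∈ W1, x < 10 ∧ x ≠ 7 := by decide +kernel
  have hv : ∀ w : List Nat, (∀ x ∈ w, x < 10) → ι (val P4.gg w) = val t w :=
    fun w hw => map_val ι _ _ w fun x hx => hι x (hw x hx)
  set z := val t W1 with hzdef
  have hzι : ι (val P4.gg W1) = z := hv W1 fun x hx => (hW1 x hx).1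
  have hzz : z * z = 1 := by rw [← hzι, ← map_mul, z1_sq, map_one]
  have hzc : ∀ x, x < 10 → x ≠ 7 → Commute z (t x) := fun x hx h7 => by
    have := (z1_comm x hx h7).map ι
    rwa [hzι, hι x hx] at this
  have hfz : Commute f z := comm_of_pairs t f W1 fun x hx => hc x (hW1 x hx).1 (hW1 x hx).2
  have hu : f * z * (f * z) = 1 := by
    rw [mul_assoc, ← mul_assoc z f z, ← hfz.eq, mul_assoc f z z, hzz, mul_one, hf]
  have hM : ∀ w : List Nat, (∀ x ∈ w, x < 10 ∧ x ≠ 7) → Commute (f * z) (val t w) := fun w hw =>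
    comm_of_pairs t _ w fun x hx => (hc x (hw x hx).1 (hw x hx).2).mul_left (hzc x (hw x hx).1 (hw x hx).2)
  obtain ⟨eA, eCA, eCB, eAB, eC, eD⟩ := plane_eqs
  set A := ι (val P4.gg AW) with hA
  have hAt : A = z * t 7 := by
    rw [hA, CosetCertPres.val_append, map_mul, hzι, val_cons, val_nil, mul_one, hι 7 (by decide)]
  have lA : (f * z * A) ^ 3 = 1 := by
    rw [hAt, mul_assoc, ← mul_assoc z z, hzz, one_mul, hb]
  have hA3 : A ^ 3 = 1 := by rw [hA, ← map_pow, eA, map_one]
  -- conjugates of A by elements commuting with u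
  have conjL : ∀ M : List Nat, (∀ x ∈ M, x < 10 ∧ x ≠ 7) →
      (f * z * (ι (val P4.gg M) * A * (ι (val P4.gg M))⁻¹)) ^ 3 = 1 ∧
        (ι (val P4.gg M) * A * (ι (val P4.gg M))⁻¹) ^ 3 = 1 := by
    intro M hMl
    rw [hv M fun x hx => (hMl x hx).1]
    have hm := hM M hMl
    generalize val t M = m at hm ⊢
    refine ⟨?_, by rw [conj_pow, hA3, mul_one, mul_inv_cancel]⟩
    rw [show f * z * (m * A * m⁻¹) = m * (f * z * A) * m⁻¹ by
      rw [← mul_assoc, ← mul_assoc, hm.eq, mul_assoc m (f * z) A]]
    rw [conj_pow, lA, mul_one, mul_inv_cancel]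
  have hl := letters_ok.1
  have hB := conjL M1 fun x hx => hl x (List.mem_append_left _ (List.mem_append_left _ (List.mem_append_left _ hx)))
  have hC := conjL M2 fun x hx => hl x (List.mem_append_left _ (List.mem_append_left _ (List.mem_append_right _ hx)))
  have hD := conjL M3 fun x hx => hl x (List.mem_append_left _ (List.mem_append_right _ hx))
  have hBdef : ι (val P4.gg BW) = ι (val P4.gg M1) * A * (ι (val P4.gg M1))⁻¹ := by
    rw [CosetCertPres.val_append, CosetCertPres.val_append, val_reverse _ invol4, map_mul, map_mul,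
      map_inv]
  set B := ι (val P4.gg BW) with hBv
  set c := ι (val P4.gg CW) with hcv
  have hCeq : A * B * c = ι (val P4.gg M2) * A * (ι (val P4.gg M2))⁻¹ := by
    rw [hA, hBv, hcv, ← map_mul, ← map_mul, eC, map_mul, map_mul, map_inv]
  have hDeq : A * B⁻¹ * c ^ 2 = ι (val P4.gg M3) * A * (ι (val P4.gg M3))⁻¹ := by
    rw [hA, hBv, hcv, ← map_inv, ← map_mul, ← map_pow, ← map_mul, eD, map_mul, map_mul, map_inv]
  have hcu : Commute c (f * z) := by
    rw [hcv, hv CW fun x hx => (hl x (List.mem_append_right _ hx)).1]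
    exact (hM CW fun x hx => hl x (List.mem_append_right _ hx)).symm
  have key : f * z = 1 := SpiderKill78.plane_kill (A := A) (B := B) (c := c) hu hA3
    (hBdef ▸ hB.2) (by
      show c * A = A * c
      rw [hA, hcv, ← map_mul, eCA, map_mul]) (by
      show c * B = B * c
      rw [hBv, hcv, ← map_mul, eCB, map_mul]) hcu (by
      rw [hA, hBv, hcv, ← map_mul, ← map_mul, ← map_mul, eAB]) lA (hBdef ▸ hB.1)
    (hCeq ▸ hC.1) (hDeq ▸ hD.1) (hCeq ▸ hC.2) (hDeq ▸ hD.2)
  calc f = f * z * z := by rw [mul_assoc, hzz, mul_one]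
    _ = z := by rw [key, one_mul]

end Cfsg.Agent.Y432Spider78
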