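import Mathlib

/-!
Lifting an eigenvector: an operator of order prime to `p` on an abelian `p`-group which acts on a
section of exponent `p` by the power `v` on some element has an element of order `p` with the same
property, and the automiser of a subgroup of order `p` containing such a power map for a primitive
root `v` is full.
-/

set_option autoImplicit false

namespace Cfsg.Agent.ZJEigenLift20

variable {G : Type*} [Group G] [Finite G] {p : ℕ} [Fact p.Prime]

theorem exists_eigen {A : Subgroup G} (hAp : IsPGroup p A) (hAc : ∀ a ∈ A, ∀ b ∈ A, a * b = b * a)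
    (B : Subgroup G) {g : G} (hgA : ∀ a ∈ A, g * a * g⁻¹ ∈ A) (hgB : ∀ a ∈ B, g * a * g⁻¹ ∈ B)
    (hg : (orderOf g).Coprime p) {v : ℕ} (hv : v.Coprime p) {z : G} (hzA : z ∈ A) (hzB : z ∉ B)
    (hzp : z ^ p ∈ B) (hgz : g * z * g⁻¹ * (z ^ v)⁻¹ ∈ B) :
    ∃ c ∈ A, orderOf c = p ∧ g * c * g⁻¹ = c ^ v := by
  classical
  have hP : p.Prime := Fact.out
  letI : CommGroup A :=
    { (inferInstance : Group A) with mul_comm := fun a b => Subtype.ext (hAc a a.2 b b.2) }
  let α : A →* A := MonoidHom.mk' (fun a => ⟨g * a * g⁻¹, hgA a a.2⟩)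
    (fun a b => Subtype.ext (by
      show g * (a * b : A) * g⁻¹ = g * a * g⁻¹ * (g * b * g⁻¹)
      rw [Subgroup.coe_mul]; group))
  have hα : ∀ (i : ℕ) (a : A), ((α^[i] a : A) : G) = g ^ i * a * (g ^ i)⁻¹ := by
    intro i a
    induction i with
    | zero => simp
    | succ i ih =>
      rw [Function.iterate_succ_apply', show ((α (α^[i] a) : A) : G) = g * (α^[i] a : A) * g⁻¹ from rfl,
        ih, pow_succ']
      group
  let B' : Subgroup A := B.subgroupOf A
  let π : A →* A ⧸ B' := QuotientGroup.mk' B'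
  have hπ : ∀ a : A, π a = 1 ↔ (a : G) ∈ B := fun a =>
    (QuotientGroup.eq_one_iff a).trans Subgroup.mem_subgroupOf
  obtain ⟨k, hk⟩ := IsPGroup.iff_card.mp hAp
  set m : ℕ := v ^ p ^ k with hm
  set n : ℕ := orderOf g * (p - 1) with hn
  have hmv : m ≡ v [MOD p] := by
    rw [← ZMod.natCast_eq_natCast_iff, hm, Nat.cast_pow, ZMod.pow_card_pow]
  have hmn : m ^ n ≡ 1 [MOD p ^ (k + 1)] := by
    have h1 : v ^ (p ^ k * (p - 1)) ≡ 1 [MOD p ^ (k + 1)] := by
      have h := Nat.ModEq.pow_totient (Nat.Coprime.pow_right (k + 1) hv)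
      rwa [Nat.totient_prime_pow_succ hP] at h
    have h2 := h1.pow (orderOf g)
    rw [one_pow, ← pow_mul] at h2
    rw [hm, hn, ← pow_mul, show p ^ k * (orderOf g * (p - 1)) = p ^ k * (p - 1) * orderOf g by ring]
    exact h2
  have hpowN : ∀ a : A, a ^ p ^ k = 1 := fun a => by rw [← hk]; exact pow_card_eq_one'
  set z' : A := ⟨z, hzA⟩ with hz'
  let f : ℕ → A := fun i => α^[i] z'
  have hfn : f n = z' := Subtype.ext (by
    rw [show ((f n : A) : G) = g ^ n * z * (g ^ n)⁻¹ from hα n z', hn, pow_mul, pow_orderOf_eq_one,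
      one_pow, one_mul, inv_one, mul_one])
  let Gf : ℕ → A := fun i => f i ^ m ^ (n - i)
  set P : A := ∏ i ∈ Finset.range n, f i ^ m ^ (n - 1 - i) with hPdef
  have hzmn : z' ^ m ^ n = z' := by
    have hord : orderOf z' ∣ p ^ (k + 1) :=
      (orderOf_dvd_of_pow_eq_one (hpowN z')).trans (pow_dvd_pow p k.le_succ)
    conv_rhs => rw [← pow_one z']
    rw [pow_eq_pow_iff_modEq]
    exact hmn.of_dvd hord
  have hαP : α P = P ^ m := by
    have h1 : α P = ∏ i ∈ Finset.range n, Gf (i + 1) := by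
      rw [hPdef, map_prod]
      refine Finset.prod_congr rfl fun i _ => ?_
      show α (f i ^ _) = f (i + 1) ^ _
      rw [map_pow, show f (i + 1) = α (f i) from Function.iterate_succ_apply' α i z',
        show n - (i + 1) = n - 1 - i by omega]
    have h2 : P ^ m = ∏ i ∈ Finset.range n, Gf i := by
      rw [hPdef, ← Finset.prod_pow]
      refine Finset.prod_congr rfl fun i hi => ?_
      have hi' : i < n := Finset.mem_range.mp hi
      show (f i ^ _) ^ m = f i ^ _
      rw [← pow_mul, ← pow_succ, show n - 1 - i + 1 = n - i by omega]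
    have h3 := Finset.prod_range_succ' Gf n
    rw [Finset.prod_range_succ, show Gf n = z' by
        show f n ^ m ^ (n - n) = z'
        rw [Nat.sub_self, pow_zero, pow_one, hfn],
      show Gf 0 = z' from hzmn] at h3
    rw [h1, h2]
    exact (mul_right_cancel h3).symm
  have hπz : π z' ^ p = 1 := by rw [← map_pow, hπ]; exact hzp
  have hπf : ∀ i, π (f i) = π z' ^ m ^ i := by
    intro i
    induction i with
    | zero => rw [pow_zero, pow_one]; rfl
    | succ i ih =>
      have h1 : π (f i * (z' ^ m ^ i)⁻¹) = 1 := by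
        rw [map_mul, map_inv, map_pow, ih, mul_inv_cancel]
      have h2 : π (α (f i * (z' ^ m ^ i)⁻¹)) = 1 := (hπ _).mpr (hgB _ ((hπ _).mp h1))
      have h3 : π (α z') = π z' ^ v := by
        rw [← map_pow, ← mul_inv_eq_one, ← map_inv, ← map_mul, hπ]
        exact hgz
      rw [map_mul, map_inv, map_pow, map_mul, map_inv, map_pow, h3, mul_inv_eq_one] at h2
      rw [show f (i + 1) = α (f i) from Function.iterate_succ_apply' α i z', h2, ← pow_mul,
        pow_eq_pow_iff_modEq, pow_succ, mul_comm v]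
      exact ((hmv.symm.mul_left (m ^ i)).of_dvd (orderOf_dvd_of_pow_eq_one hπz))
  have hπP : π P = π z' ^ (n * m ^ (n - 1)) := by
    have h : ∀ i ∈ Finset.range n, π (f i ^ m ^ (n - 1 - i)) = π z' ^ m ^ (n - 1) := by
      intro i hi
      have hi' : i < n := Finset.mem_range.mp hi
      rw [map_pow, hπf, ← pow_mul, ← pow_add, show i + (n - 1 - i) = n - 1 by omega]
    rw [hPdef, map_prod, Finset.prod_congr rfl h, Finset.prod_const, Finset.card_range, ← pow_mul,
      mul_comm]
  have hcop : (n * m ^ (n - 1)).Coprime p := by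
    refine Nat.Coprime.mul_left (Nat.Coprime.mul_left hg ?_) (Nat.Coprime.pow_left _ ?_)
    · refine ((hP.coprime_iff_not_dvd).mpr fun h => ?_).symm
      have := Nat.le_of_dvd (Nat.sub_pos_of_lt hP.one_lt) h
      have := hP.pos
      omega
    · rw [hm]; exact hv.pow_left _
  have hP1 : P ≠ 1 := by
    intro h
    rw [h, map_one] at hπP
    have h1 : π z' = 1 := orderOf_eq_one_iff.mp
      (Nat.eq_one_of_dvd_coprimes hcop (orderOf_dvd_of_pow_eq_one hπP.symm)
        (orderOf_dvd_of_pow_eq_one hπz))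
    exact hzB ((hπ _).mp h1)
  obtain ⟨j, hj, hjord⟩ := (Nat.dvd_prime_pow hP).mp (orderOf_dvd_of_pow_eq_one (hpowN P))
  obtain ⟨i, rfl⟩ : ∃ i, j = i + 1 := by
    refine Nat.exists_eq_succ_of_ne_zero fun h => hP1 ?_
    rw [h, pow_zero] at hjord
    exact orderOf_eq_one_iff.mp hjord
  set c : A := P ^ p ^ i with hc
  have hcord : orderOf c = p := by
    rw [hc, orderOf_pow_of_dvd (pow_ne_zero _ hP.ne_zero) (hjord ▸ pow_dvd_pow p i.le_succ), hjord,
      pow_succ', Nat.mul_div_cancel _ (pow_pos hP.pos i)]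
  refine ⟨c, c.2, by rw [Subgroup.orderOf_coe]; exact hcord, ?_⟩
  have h : α c = c ^ v := by
    rw [hc, map_pow, hαP, ← pow_mul, mul_comm, pow_mul, ← hc, pow_eq_pow_iff_modEq, hcord]
    exact hmv
  exact congrArg Subtype.val h

/-- A power map by a primitive root on a subgroup of order `p` makes the automiser full. -/
theorem relIndex_eq (H : Subgroup G) {c : G} (hc : orderOf c = p) {x : G} (hx : x ∈ H)
    {l : (ZMod p)ˣ} (hl : orderOf l = p - 1) (hxc : x * c * x⁻¹ = c ^ (l : ZMod p).val) :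
    (H ⊓ Subgroup.centralizer (Subgroup.zpowers c : Set G)).relIndex
      (H ⊓ Subgroup.normalizer (Subgroup.zpowers c : Set G)) = p - 1 := by
  classical
  have hP : p.Prime := Fact.out
  set C := Subgroup.zpowers c with hC
  set N := Subgroup.normalizer (C : Set G) with hN
  have hxN : x ∈ N := by
    refine Subgroup.mem_normalizer_fintype (h := ?_)
    intro a ha
    obtain ⟨k, rfl⟩ := Subgroup.mem_zpowers_iff.mp ha
    show x * c ^ k * x⁻¹ ∈ C
    rw [← conj_zpow, hxc]
    exact zpow_mem (pow_mem (Subgroup.mem_zpowers c) _) k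
  let inc : ↥(H ⊓ N) →* ↥N := Subgroup.inclusion inf_le_right
  let θ : ↥(H ⊓ N) →* MulAut ↥C := C.normalizerMonoidHom.comp inc
  have hker : θ.ker = (H ⊓ Subgroup.centralizer (C : Set G)).subgroupOf (H ⊓ N) := by
    ext y
    rw [MonoidHom.mem_ker, MonoidHom.comp_apply, ← MonoidHom.mem_ker, Subgroup.normalizerMonoidHom_ker,
      Subgroup.mem_subgroupOf, Subgroup.mem_subgroupOf]
    exact ⟨fun h => ⟨(Subgroup.mem_inf.mp y.2).1, h⟩, fun h => h.2⟩
  rw [Subgroup.relIndex, ← hker, Subgroup.index_ker]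
  refine le_antisymm ?_ ?_
  · have hcard : Nat.card (MulAut ↥C) = p - 1 := by
      rw [IsCyclic.card_mulAut, Nat.card_zpowers, hc, Nat.totient_prime hP]
    rw [← hcard]
    exact Subgroup.card_le_card_group _
  · set x' : ↥(H ⊓ N) := ⟨x, hx, hxN⟩
    have hmem : θ x' ∈ θ.range := ⟨x', rfl⟩
    have hiter : ∀ i : ℕ, x ^ i * c * (x ^ i)⁻¹ = c ^ ((l : ZMod p).val ^ i) := by
      intro i
      induction i with
      | zero => simp
      | succ i ih =>
        calc x ^ (i + 1) * c * (x ^ (i + 1))⁻¹ = x * (x ^ i * c * (x ^ i)⁻¹) * x⁻¹ := by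
              rw [pow_succ']; group
          _ = (x * c * x⁻¹) ^ ((l : ZMod p).val ^ i) := by rw [ih, conj_pow]
          _ = _ := by rw [hxc, ← pow_mul, pow_succ']
    have hdvd : p - 1 ∣ orderOf (θ x') := by
      set j := orderOf (θ x')
      have h1 : θ (x' ^ j) = 1 := by rw [map_pow, pow_orderOf_eq_one]
      have h2 : (θ (x' ^ j)) ⟨c, Subgroup.mem_zpowers c⟩ = ⟨c, Subgroup.mem_zpowers c⟩ := by
        rw [h1]; rfl
      have h3 : x ^ j * c * (x ^ j)⁻¹ = c := congrArg Subtype.val h2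
      rw [hiter] at h3
      have h4 : (l : ZMod p).val ^ j ≡ 1 [MOD p] := by
        have h5 : c ^ ((l : ZMod p).val ^ j) = c ^ 1 := by rw [pow_one]; exact h3
        rwa [pow_eq_pow_iff_modEq, hc] at h5
      rw [← hl]
      refine orderOf_dvd_of_pow_eq_one (Units.ext ?_)
      have h6 := (ZMod.natCast_eq_natCast_iff _ _ _).mpr h4
      rw [Nat.cast_pow, ZMod.natCast_zmod_val, Nat.cast_one] at h6
      rw [Units.val_pow_eq_pow_val, h6, Units.val_one]
    refine le_trans (Nat.le_of_dvd (orderOf_pos _) hdvd) ?_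
    rw [← Nat.card_zpowers]
    exact Subgroup.card_le_of_le (Subgroup.zpowers_le.mpr hmem)

end Cfsg.Agent.ZJEigenLift20
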