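import Mathlib
import Cfsg.Prelude.Def_PLocal
import Cfsg.Prelude.Def_LocalEven
import Cfsg.Agent.Lib.FusionQd
import Cfsg.Agent.Lib.QuadraticSL2
import Cfsg.Agent.Lib.ZJTorusA20

/-!
A `p`-group with a plane quotient acted on by exactly the Borel subgroup of `SL(2,p)`, `p` odd, gives a
section `F(p)`.
-/

set_option autoImplicit false

universe u

namespace Cfsg.Agent.ZJFOver20

open Matrix
open scoped MatrixGroups
open Cfsg.Agent.QdStructure56 Cfsg.Agent.FusionQd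

variable {p : ℕ} [Fact p.Prime] {G : Type u} [Group G]

/-- Recognition of `F(p)`. -/
theorem involves_fOver [Finite G] (hp2 : p ≠ 2) {R : Subgroup G} (hR : IsPGroup p R)
    {π : R →* Plane p} (hπ : Function.Surjective π) {H : Subgroup G} (hRH : R ≤ H)
    (hH : ∀ x ∈ H, ∃ A : SL(2, ZMod p), A.1 1 0 = 0 ∧ Acts R π x A)
    (hsurj : ∀ A : SL(2, ZMod p), A.1 1 0 = 0 → ∃ x ∈ H, Acts R π x A) :
    Cfsg.Involves ↥(Cfsg.fOver (ZMod p)) H := by
  classical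
  obtain ⟨q, w, hq, hpq, hwq, hw0, hZn, hfpf⟩ : ∃ (q : ℕ) (w : SL(2, ZMod p)), q.Prime ∧ p ≠ q ∧
      w ^ q = 1 ∧ w.1 1 0 = 0 ∧ (Subgroup.zpowers w).Normal ∧
      ∀ v : Fin 2 → ZMod p, w.1 *ᵥ v = v → v = 0 := by
    refine ⟨2, -1, Nat.prime_two, hp2, by rw [pow_two, neg_mul_neg, one_mul], by simp, ⟨fun z hz g => ?_⟩,
      fun v hv => ?_⟩
    · obtain ⟨k, rfl⟩ := Subgroup.mem_zpowers_iff.mp hz
      rw [← MulAut.conj_apply, map_zpow, MulAut.conj_apply,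
        show g * (-1 : SL(2, ZMod p)) * g⁻¹ = -1 by simp]
      exact zpow_mem (Subgroup.mem_zpowers _) _
    · have h2 := QuadraticSL2.two_ne_zero' (F := ZMod p) hp2
      rw [Matrix.SpecialLinearGroup.coe_neg, Matrix.SpecialLinearGroup.coe_one, Matrix.neg_mulVec,
        Matrix.one_mulVec] at hv
      funext i
      have h := congrFun hv i
      simp only [Pi.neg_apply, Pi.zero_apply] at h ⊢
      exact (mul_eq_zero.mp (show (2 : ZMod p) * v i = 0 by linear_combination (-1 : ZMod p) * h)).resolve_left h2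
  haveI := Fact.mk hq
  choose A hA1 hA using fun x : H => hH x x.2
  let φ : H →* SL(2, ZMod p) := MonoidHom.mk' A fun x y =>
    acts_unique hπ (hA (x * y)) (by simpa using acts_mul (hA x) (hA y))
  have hφR : ∀ r : R, φ ⟨r, hRH r.2⟩ = 1 := fun r => acts_unique hπ (hA _) (acts_self π r)
  -- the preimage of the cyclic normal subgroup and its Sylow `q`-subgroup
  let Zc : Subgroup SL(2, ZMod p) := Subgroup.zpowers w
  have hZc : Zc.Normal := hZn
  let B : Subgroup H := Zc.comap φ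
  haveI : B.Normal := hZc.comap φ
  obtain ⟨x₀, hx₀, hx₀A⟩ := hsurj w hw0
  have hx₀φ : φ ⟨x₀, hx₀⟩ = w := acts_unique hπ (hA _) hx₀A
  obtain ⟨T⟩ : Nonempty (Sylow q B) := inferInstance
  -- `T` contains an element acting as `w`
  have hTneg : ∃ t : B, t ∈ (T : Subgroup B) ∧ φ t = w := by
    obtain ⟨k, m, hm, hk⟩ :=
      Nat.exists_eq_pow_mul_and_not_dvd (orderOf_pos (⟨x₀, hx₀⟩ : H)).ne' q hq.ne_one
    obtain ⟨c, hc⟩ : ∃ c : ℕ, (w ^ m) ^ c = w := by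
      refine exists_pow_eq_self_of_coprime (Nat.Coprime.coprime_dvd_right
        (orderOf_dvd_of_pow_eq_one hwq) ((hq.coprime_iff_not_dvd.mpr hm).symm))
    have hφ : φ ((⟨x₀, hx₀⟩ : H) ^ (m * c)) = w := by
      rw [map_pow, hx₀φ, pow_mul, hc]
    have hb : (⟨x₀, hx₀⟩ : H) ^ (m * c) ∈ B := by
      show φ _ ∈ Zc
      rw [hφ]
      exact Subgroup.mem_zpowers _
    have hord : IsPGroup q (Subgroup.zpowers (⟨_, hb⟩ : B)) := by
      rintro ⟨g, hg⟩
      obtain ⟨i, rfl⟩ := Subgroup.mem_zpowers_iff.mp hg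
      refine ⟨k, Subtype.ext ?_⟩
      have he : (⟨_, hb⟩ : B) ^ q ^ k = 1 := Subtype.ext (by
        show ((⟨x₀, hx₀⟩ : H) ^ (m * c)) ^ q ^ k = 1
        rw [← pow_mul, show m * c * q ^ k = q ^ k * m * c by ring, ← hk, pow_mul,
          pow_orderOf_eq_one, one_pow])
      show ((⟨_, hb⟩ : B) ^ i) ^ q ^ k = 1
      rw [← zpow_natCast, ← _root_.zpow_mul, mul_comm i, _root_.zpow_mul, zpow_natCast, he, _root_.one_zpow]
    obtain ⟨T', hT'⟩ := hord.exists_le_sylow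
    obtain ⟨c, hc⟩ := MulAction.exists_smul_eq B T' T
    refine ⟨c * ⟨_, hb⟩ * c⁻¹, ?_, ?_⟩
    · rw [← hc]
      exact ⟨_, hT' (Subgroup.mem_zpowers _), rfl⟩
    · show φ ((c : H) * _ * (c : H)⁻¹) = w
      rw [map_mul, map_mul, hφ, map_inv]
      obtain ⟨j, hj⟩ := Subgroup.mem_zpowers_iff.mp (show φ (c : H) ∈ Zc from c.2)
      rw [← hj, ((Commute.refl w).zpow_left j).eq, mul_inv_cancel_right]
  let N : Subgroup H := Subgroup.normalizer (((T : Subgroup B).map B.subtype : Subgroup H) : Set H)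
  have hNB : N ⊔ B = ⊤ := T.normalizer_sup_eq_top
  have hNsurj : ∀ M : SL(2, ZMod p), M.1 1 0 = 0 → ∃ n ∈ N, φ n = M := by
    intro M hM
    obtain ⟨x, hx, hxM⟩ := hsurj M hM
    obtain ⟨t, ht, htφ⟩ := hTneg
    have hmem : (⟨x, hx⟩ : H) ∈ N ⊔ B := hNB ▸ Subgroup.mem_top _
    obtain ⟨n, hn, b, hb, hnb⟩ := Subgroup.mem_sup_of_normal_right.mp hmem
    have hxφ : φ ⟨x, hx⟩ = M := acts_unique hπ (hA _) hxM
    have htN : (t : H) ∈ N := Subgroup.le_normalizer ⟨t, ht, rfl⟩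
    obtain ⟨i, hi⟩ := Subgroup.mem_zpowers_iff.mp (show φ b ∈ Zc from hb)
    refine ⟨n * (t : H) ^ i, mul_mem hn (zpow_mem htN i), ?_⟩
    rw [map_mul, map_zpow, htφ, hi, ← map_mul, hnb, hxφ]
  -- elements of `R` normalising `T` vanish under `π`
  have hker : ∀ r : R, (⟨r, hRH r.2⟩ : H) ∈ N → π r = 1 := by
    intro r hr
    obtain ⟨t, ht, htφ⟩ := hTneg
    obtain ⟨h1, e1⟩ := hA (t : H) r
    have hA1 : A (t : H) = w := htφ
    rw [hA1] at e1
    set c : G := (r : G) * ((t : H) : G) * (r : G)⁻¹ * ((t : H) : G)⁻¹ with hc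
    have hcR : c ∈ R := by
      have : c = (r : G) * (((t : H) : G) * (r : G) * ((t : H) : G)⁻¹)⁻¹ := by rw [hc]; group
      rw [this]
      exact mul_mem r.2 (inv_mem h1)
    have hcT : (⟨c, hRH hcR⟩ : H) ∈ (T : Subgroup B).map B.subtype := by
      have := mul_mem ((Subgroup.mem_normalizer_iff.mp hr (t : H)).mp ⟨t, ht, rfl⟩)
        (inv_mem (⟨t, ht, rfl⟩ : (t : H) ∈ (T : Subgroup B).map B.subtype))
      exact this
    obtain ⟨a, ha⟩ := hR ⟨c, hcR⟩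
    obtain ⟨b, hb⟩ := (T.2.map B.subtype) ⟨_, hcT⟩
    have ha' : c ^ p ^ a = 1 := congrArg Subtype.val ha
    have hb' : c ^ q ^ b = 1 := congrArg (fun z : ↥((T : Subgroup B).map B.subtype) => ((z : H) : G)) hb
    have hc1 : c = 1 := by
      have hcop : (p ^ a).Coprime (q ^ b) :=
        Nat.Coprime.pow _ _ ((Nat.coprime_primes Fact.out hq).mpr hpq)
      have := pow_gcd_eq_one.mpr ⟨ha', hb'⟩
      rwa [hcop.gcd_eq_one, pow_one] at this
    have e2 : ((t : H) : G) * r * ((t : H) : G)⁻¹ = r := by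
      rw [hc] at hc1
      rw [mul_inv_eq_one] at hc1
      calc ((t : H) : G) * r * ((t : H) : G)⁻¹
          = ((r : G) * ((t : H) : G) * (r : G)⁻¹) * r * ((t : H) : G)⁻¹ := by rw [hc1]
        _ = r := by group
    refine Multiplicative.toAdd.injective ?_
    rw [toAdd_one]
    refine hfpf _ ?_
    rw [← e1]
    exact congrArg (fun z => (π z).toAdd) (Subtype.ext e2)
  -- the section
  let R' : Subgroup H := R.subgroupOf H
  haveI hR'n : R'.Normal := ⟨fun r hr x => by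
    obtain ⟨h1, -⟩ := hA x ⟨r, hr⟩
    exact h1⟩
  have hdec : ∀ x : ↥(R' ⊔ N), ∃ rn : R × N, (⟨rn.1, hRH rn.1.2⟩ : H) * rn.2 = x := fun x => by
    obtain ⟨r, hr, n, hn, e⟩ := Subgroup.mem_sup_of_normal_left.mp x.2
    exact ⟨(⟨r, hr⟩, ⟨n, hn⟩), e⟩
  choose rn hrn using hdec
  let val : R × N → Qd (ZMod p) := fun q => mk (φ q.2) (π q.1).toAdd
  have hwd : ∀ (x : ↥(R' ⊔ N)) (q : R × N), (⟨q.1, hRH q.1.2⟩ : H) * q.2 = x →
      val (rn x) = val q := by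
    intro x q hq
    have e := (hrn x).trans hq.symm
    have hd : (⟨(rn x).1, hRH (rn x).1.2⟩ : H) = ⟨q.1, hRH q.1.2⟩ * (q.2 * ((rn x).2 : H)⁻¹) := by
      rw [← mul_assoc, ← e, mul_inv_cancel_right]
    have hφ2 : φ (q.2 : H) = φ (rn x).2 := by
      have := congrArg φ e
      rw [map_mul, map_mul, hφR, hφR, one_mul, one_mul] at this
      exact this.symm
    have hπ2 : π (rn x).1 = π q.1 := by
      have h := hker (q.1⁻¹ * (rn x).1) (by
        have : (⟨((q.1⁻¹ * (rn x).1 : R) : G), hRH (q.1⁻¹ * (rn x).1).2⟩ : H) =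
            (q.2 : H) * ((rn x).2 : H)⁻¹ := by
          rw [← inv_mul_cancel_left (⟨q.1, hRH q.1.2⟩ : H) ((q.2 : H) * _), ← hd]
          rfl
        rw [this]
        exact mul_mem q.2.2 (inv_mem (rn x).2.2))
      rw [map_mul, map_inv, inv_mul_eq_one] at h
      exact h.symm
    show mk _ _ = mk _ _
    rw [hφ2, hπ2]
  let ψ : ↥(R' ⊔ N) →* Qd (ZMod p) := MonoidHom.mk' (fun x => val (rn x)) fun x y => by
    obtain ⟨h1, e1⟩ := hA ((rn x).2 : H) (rn y).1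
    have hq : (⟨((rn x).1 * ⟨_, h1⟩ : R), hRH ((rn x).1 * ⟨_, h1⟩).2⟩ : H) *
        ((rn x).2 * (rn y).2 : N) = (x * y : ↥(R' ⊔ N)) := by
      show _ = (x : H) * (y : H)
      conv_rhs => rw [← hrn x, ← hrn y]
      apply Subtype.ext
      simp [mul_assoc]
    show val (rn (x * y)) = val (rn x) * val (rn y)
    rw [hwd _ ((rn x).1 * ⟨_, h1⟩, (rn x).2 * (rn y).2) hq]
    show mk (φ ((rn x).2 * (rn y).2 : H)) (π _).toAdd = mk _ _ * mk _ _
    rw [mk_mul, ← map_mul φ, map_mul π, toAdd_mul, e1, add_comm]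
    rfl
  let ψ' : ↥(R' ⊔ N) →* ↥(Cfsg.fOver (ZMod p)) :=
    ((Cfsg.qdOver (ZMod p)).subtype.comp ψ).codRestrict (Cfsg.fOver (ZMod p)) fun x => by
      obtain ⟨h20, h21, h22⟩ := row (ψ x)
      refine Subgroup.subset_closure ⟨?_, h20, h21, h22⟩
      show ent (mk (φ (rn x).2) (π (rn x).1).toAdd) 1 0 = 0
      exact hA1 _
  refine involves_of_hom ψ' fun M' => ?_
  obtain ⟨M, hM, hMe⟩ : ∃ M : Qd (ZMod p), (blk M).1 1 0 = 0 ∧ (M : SL(3, ZMod p)) = M'.1 := by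
    have hle : Cfsg.fOver (ZMod p) ≤
        ((ZJTorus20.upper (ZMod p)).comap blk).map (Cfsg.qdOver (ZMod p)).subtype := by
      refine (Subgroup.closure_le _).mpr ?_
      rintro M ⟨h10, h20, h21, h22⟩
      exact ⟨⟨M, mem_qdOver.mpr ⟨h20, h21, h22⟩⟩, (blk_apply _).2.2.1.trans h10, rfl⟩
    obtain ⟨M, hM, e⟩ := hle M'.2
    exact ⟨M, hM, e⟩
  obtain ⟨n, hn, hnA⟩ := hNsurj (blk M) hM
  obtain ⟨r, hr⟩ := hπ (Multiplicative.ofAdd (vec M))
  refine ⟨⟨(⟨r, hRH r.2⟩ : H) * n, mul_mem (Subgroup.mem_sup_left r.2)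
    (Subgroup.mem_sup_right hn)⟩, Subtype.ext (Eq.trans ?_ hMe)⟩
  show (val (rn _)).1 = (M : SL(3, ZMod p))
  rw [hwd _ (r, ⟨n, hn⟩) rfl]
  show (mk (φ n) (π r).toAdd).1 = (M : SL(3, ZMod p))
  rw [hnA, hr, toAdd_ofAdd, mk_blk_vec]

end Cfsg.Agent.ZJFOver20
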