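import Mathlib
import Cfsg.Prelude.Def_LocalEven
import Cfsg.Agent.Lib.ZJFailureConfig20
import Cfsg.Agent.Lib.ZJEigenLift20
import Cfsg.Agent.Lib.ZJFOver20

/-!
From a failing configuration, an elementary abelian section `W` of `Q` with a `T`-fixed moved element
from `Z` and a quadratic element, to the section `F(p)` of `H` and the subgroup `C ≤ Z` of order `p`.
-/

set_option autoImplicit false

open scoped MatrixGroups commutatorElement

namespace Cfsg.Agent.ZJFailure20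

open Subgroup FusionQd

variable {G : Type*} [Group G] [Finite G] {p : ℕ} [Fact p.Prime]

/-- The elements acting on a plane through upper triangular matrices. -/
def upperActs (R : Subgroup G) (π : R →* Plane p) : Subgroup G :=
  Subgroup.closure {x | ∃ A : SL(2, ZMod p), A.1 1 0 = 0 ∧ Acts R π x A}

theorem mem_upperActs {R : Subgroup G} {π : R →* Plane p} {x : G} (hx : x ∈ upperActs R π) :
    ∃ A : SL(2, ZMod p), A.1 1 0 = 0 ∧ Acts R π x A := by
  rw [upperActs, ← Subgroup.mem_toSubmonoid, Subgroup.closure_toSubmonoid_of_finite] at hx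
  induction hx using Submonoid.closure_induction with
  | mem y hy => exact hy
  | one => exact ⟨1, by simp, acts_one R π⟩
  | mul y z _ _ hy hz =>
    obtain ⟨A, hA, hyA⟩ := hy
    obtain ⟨B, hB, hzB⟩ := hz
    exact ⟨A * B, (ZJTorus20.upper (ZMod p)).mul_mem hA hB, acts_mul hyA hzB⟩

variable {S : Sylow p G} {H L : Subgroup G} {T : Sylow p L}

theorem Config.finish (hp : p ≠ 2) (c : Config S H L T) (hSH : (S : Subgroup G) ≤ H)
    (Z : Subgroup G) (hH : H = normalizer (Z : Set G))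
    (hZc : ∀ a ∈ Z, ∀ b ∈ Z, a * b = b * a)
    (K : Subgroup L) [K.Normal] (hK : K ≤ Cfsg.pCore p L)
    (W : Subgroup (L ⧸ K)) [W.Normal] (hW : Cfsg.IsElementaryAbelian p W)
    (hWQ : W ≤ centralizer ((Cfsg.pCore p L).map (QuotientGroup.mk' K) : Set (L ⧸ K)))
    {y : L ⧸ K} (hyW : y ∈ W)
    (hyZ : y ∈ (Z.subgroupOf L ⊓ Cfsg.pCore p L).map (QuotientGroup.mk' K))
    (hyT : ∀ t ∈ (T : Subgroup L), QuotientGroup.mk' K t * y * (QuotientGroup.mk' K t)⁻¹ = y)
    (hyL : ∃ g : L ⧸ K, g * y * g⁻¹ ≠ y)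
    {b : L} (hbT : b ∈ (T : Subgroup L)) (hbQ : b ∉ Cfsg.pCore p L)
    (hb : ⁅⁅W, zpowers (QuotientGroup.mk' K b)⁆, zpowers (QuotientGroup.mk' K b)⁆ = ⊥) :
    Cfsg.Involves ↥(Cfsg.fOver (ZMod p)) ↥H ∧
      ∃ C : Subgroup G, C ≤ Z ∧ Nat.card C = p ∧
        (H ⊓ centralizer (C : Set G)).relIndex (H ⊓ normalizer (C : Set G)) = p - 1 := by
  classical
  have hP : p.Prime := Fact.out
  haveI hQn := HallCore.pCore_normal p L
  set q := QuotientGroup.mk' K with hq
  have hqs : Function.Surjective q := QuotientGroup.mk'_surjective K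
  set M := goodSub p H L with hMdef
  have hQT : Cfsg.pCore p L ≤ (T : Subgroup L) := HallCore.pCore_le_sylow T
  have hTM := c.le_goodSub hSH
  have hKM : K ≤ M := hK.trans (hQT.trans hTM)
  have hpre : (M.map q).comap q = M := by
    rw [comap_map_eq, hq, QuotientGroup.ker_mk', sup_eq_left]; exact hKM
  have hQb : Cfsg.pCore p (L ⧸ K) = (Cfsg.pCore p L).map q := by
    refine le_antisymm ?_ ?_
    · rw [← map_comap_eq_self_of_surjective hqs (Cfsg.pCore p (L ⧸ K))]
      refine map_mono ?_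
      haveI := HallCore.pCore_normal p (L ⧸ K)
      haveI : ((Cfsg.pCore p (L ⧸ K)).comap q).Normal := Normal.comap inferInstance _
      exact HallCore.le_pCore (HallCore.isPGroup_comap_mk' ((HallCore.isPGroup_pCore p L).to_le hK)
        (HallCore.isPGroup_pCore p _))
    · haveI : ((Cfsg.pCore p L).map q).Normal := hQn.map _ hqs
      exact HallCore.le_pCore ((HallCore.isPGroup_pCore p L).map _)
  set Tb : Sylow p (L ⧸ K) := T.mapSurjective hqs with hTb
  have hTbe : (Tb : Subgroup (L ⧸ K)) = (T : Subgroup L).map q := Sylow.coe_mapSurjective _ _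
  have hMb : M.map q ≠ ⊤ := fun h => c.goodSub_ne_top (by rw [← hMdef, ← hpre, h, comap_top])
  have hTMb : (Tb : Subgroup (L ⧸ K)) ≤ M.map q := hTbe ▸ map_mono hTM
  have hoverb : ∀ U : Subgroup (L ⧸ K), (Tb : Subgroup (L ⧸ K)) ≤ U → U ≠ ⊤ → U ≤ M.map q := by
    intro U hTU hU
    have h1 : U.comap q ≤ M := by
      refine c.over _ (map_le_iff_le_comap.mp (hTbe ▸ hTU)) fun e => hU ?_
      rw [← map_comap_eq_self_of_surjective hqs U, e, map_top_of_surjective q hqs]
    rw [← map_comap_eq_self_of_surjective hqs U]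
    exact map_mono h1
  set Zq := Z.subgroupOf L ⊓ Cfsg.pCore p L with hZq
  -- realised elements preserve `Z ∩ Q`
  have hMZ : ∀ m ∈ M, ∀ z ∈ Zq, m * z * m⁻¹ ∈ Zq := by
    intro m hm z hz
    obtain ⟨x, hx, he⟩ := (mem_goodSub.mp hm)
    refine ⟨?_, hQn.conj_mem z hz.2 m⟩
    show ((m : G) * (z : G) * (m : G)⁻¹) ∈ Z
    have h1 := he (z : G) ⟨z, hz.2, rfl⟩
    rw [← h1]
    rw [hH] at hx
    exact (mem_normalizer_iff.mp hx _).mp hz.1
  obtain ⟨htor, K', W', π, hK'M, hW'W, hπ, hact, hall⟩ :=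
    ZJLocal20.exists_torus_borel hp Tb (M.map q) hMb hTMb hoverb W hW
      (hQb ▸ le_centralizer_iff.mp hWQ) (W ⊓ Zq.map q) inf_le_left
      (by
        rintro _ ⟨m, hm, rfl⟩ _ ⟨hzW, z, hz, rfl⟩
        refine ⟨(inferInstance : W.Normal).conj_mem _ hzW _, m * z * m⁻¹, hMZ m hm z hz, ?_⟩
        rw [map_mul, map_mul, map_inv])
      (y := y) ⟨hyW, hyZ⟩
      (by
        intro t ht
        rw [hTbe] at ht
        obtain ⟨t, ht, rfl⟩ := ht
        exact hyT t ht)
      hyL (b := q b) (hTbe ▸ mem_map_of_mem q hbT)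
      (by
        rw [hQb]
        rintro ⟨u, hu, hue⟩
        refine hbQ ?_
        have h1 : u⁻¹ * b ∈ K := by
          rw [← QuotientGroup.eq_one_iff, QuotientGroup.mk_mul, QuotientGroup.mk_inv, inv_mul_eq_one]
          exact hue
        simpa using mul_mem hu (hK h1))
      hb
  refine ⟨?_, ?_⟩
  · -- the plane inside `Q`
    let RL : Subgroup L := W'.comap q ⊓ Cfsg.pCore p L
    let R : Subgroup G := RL.map L.subtype
    let eR := RL.equivMapOfInjective L.subtype L.subtype_injective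
    let qR : RL →* W' := MonoidHom.mk' (fun u => ⟨q u.1, u.2.1⟩)
      (fun u v => Subtype.ext (map_mul q _ _))
    let πG : R →* Plane p := (π.comp qR).comp eR.symm.toMonoidHom
    have hRQ : R ≤ coreIn p L := map_mono inf_le_right
    have hRS : R ≤ (S : Subgroup G) := hRQ.trans ((map_mono hQT).trans c.le_S)
    have hπG : Function.Surjective πG := by
      intro v
      obtain ⟨w, hw⟩ := hπ v
      obtain ⟨u, hu⟩ := hqs w.1
      have huQ : u ∈ Cfsg.pCore p L := by
        have h1 : q u ∈ Cfsg.pCore p (L ⧸ K) := by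
          rw [hu]
          exact HallCore.le_pCore (Offenders.ea_isPGroup hW) (hW'W w.2)
        rw [hQb] at h1
        obtain ⟨u', hu', hue⟩ := h1
        have h2 : u'⁻¹ * u ∈ K := by
          rw [← QuotientGroup.eq_one_iff, QuotientGroup.mk_mul, QuotientGroup.mk_inv, inv_mul_eq_one]
          exact hue
        simpa using mul_mem hu' (hK h2)
      have huR : u ∈ RL := ⟨by show q u ∈ W'; rw [hu]; exact w.2, huQ⟩
      refine ⟨eR ⟨u, huR⟩, ?_⟩
      show π (qR (eR.symm (eR ⟨u, huR⟩))) = v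
      rw [eR.symm_apply_apply, ← hw]
      exact congrArg π (Subtype.ext hu)
    -- transfer of the action
    have htr : ∀ (k : L) (A : SL(2, ZMod p)), Acts W' π (q k) A → ∀ x : G,
        (∀ u ∈ coreIn p L, x * u * x⁻¹ = (k : G) * u * (k : G)⁻¹) → Acts R πG x A := by
      intro k A hA x hx r
      obtain ⟨u, hu⟩ := eR.surjective r
      subst hu
      obtain ⟨h1, e1⟩ := hA (qR u)
      have hkuR : k * u.1 * k⁻¹ ∈ RL :=
        ⟨by show q (k * u.1 * k⁻¹) ∈ W'; rw [map_mul, map_mul, map_inv]; exact h1,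
          hQn.conj_mem _ u.2.2 _⟩
      have hxu : x * (eR u : G) * x⁻¹ = ((k * u.1 * k⁻¹ : L) : G) := by
        rw [hx _ (hRQ (eR u).2)]
        rfl
      refine ⟨⟨k * u.1 * k⁻¹, hkuR, hxu.symm⟩, ?_⟩
      show (π (qR (eR.symm _))).toAdd = A.1.mulVec (π (qR (eR.symm (eR u)))).toAdd
      rw [eR.symm_apply_apply, ← e1]
      refine congrArg (fun w => (π w).toAdd) (Subtype.ext ?_)
      have h2 : (⟨x * (eR u : G) * x⁻¹, ⟨k * u.1 * k⁻¹, hkuR, hxu.symm⟩⟩ : R) =
          eR ⟨k * u.1 * k⁻¹, hkuR⟩ := Subtype.ext hxu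
      rw [h2, eR.symm_apply_apply]
      show q (k * u.1 * k⁻¹) = q k * q u.1 * (q k)⁻¹
      rw [map_mul, map_mul, map_inv]
    have hsub : H ⊓ upperActs R πG ≤ H := inf_le_left
    refine involves_mono hsub (ZJFOver20.involves_fOver hp (S.isPGroup'.to_le hRS) hπG
      (H := H ⊓ upperActs R πG) ?_ (fun x hx => mem_upperActs hx.2) ?_)
    · exact le_inf (hRS.trans hSH) fun r hr =>
        Subgroup.subset_closure ⟨1, by simp, acts_self πG ⟨r, hr⟩⟩
    · intro A hA
      obtain ⟨k, hk, hkA⟩ := hall A hA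
      obtain ⟨k, rfl⟩ := hqs k
      have hkM : k ∈ M := by rw [← hpre]; exact hK'M hk
      obtain ⟨x, hx, he⟩ := mem_goodSub.mp hkM
      have hxA := htr k A hkA x he
      exact ⟨x, ⟨hx, Subgroup.subset_closure ⟨A, hA, hxA⟩⟩, hxA⟩
  · -- the torus
    obtain ⟨l, hl⟩ := IsCyclic.exists_ofOrder_eq_natCard (α := (ZMod p)ˣ)
    rw [Nat.card_eq_fintype_card, ZMod.card_units] at hl
    have hl1 : l ≠ 1 := fun h => by
      rw [h, orderOf_one] at hl
      have := hP.two_le
      omega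
    obtain ⟨_, ⟨m, hm, rfl⟩, hcop, w, ⟨hwW, z, hz, rfl⟩, hw1, hconj⟩ := htor l hl1
    obtain ⟨k, d, hd, hmd⟩ := Nat.exists_eq_pow_mul_and_not_dvd (orderOf_pos m).ne' p hP.ne_one
    obtain ⟨j, hj⟩ := exists_pow_eq_self_of_coprime (x := q m) (n := p ^ k)
      ((hcop.pow_right k).symm)
    set m' : L := (m ^ p ^ k) ^ j with hm'
    have hm'M : m' ∈ M := pow_mem (pow_mem hm _) _
    have hm'cop : (orderOf (m' : G)).Coprime p := by
      rw [Subgroup.orderOf_coe]
      refine Nat.Coprime.coprime_dvd_left (orderOf_pow_dvd j) ?_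
      rw [orderOf_pow_of_dvd (pow_ne_zero _ hP.ne_zero) (hmd ▸ dvd_mul_right _ _), hmd,
        Nat.mul_div_cancel_left _ (pow_pos hP.pos k)]
      exact (hP.coprime_iff_not_dvd.mpr hd).symm
    have hm'q : q m' = q m := by rw [hm', map_pow, map_pow, hj]
    let A : Subgroup G := Zq.map L.subtype
    let B : Subgroup G := (Zq ⊓ K).map L.subtype
    have hAZ : A ≤ Z := by rintro _ ⟨u, hu, rfl⟩; exact hu.1
    have hzp : z ^ p ∈ K := by
      rw [← QuotientGroup.eq_one_iff, QuotientGroup.mk_pow]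
      exact ((Offenders.ea_iff W).1 hW).2 _ hwW
    have hKmem : m' * z * m'⁻¹ * (z ^ (l : ZMod p).val)⁻¹ ∈ K := by
      rw [← QuotientGroup.eq_one_iff, ← QuotientGroup.mk'_apply, ← hq, map_mul, map_inv, map_pow,
        map_mul, map_mul, map_inv, hm'q, hconj, mul_inv_cancel]
    obtain ⟨c₀, hc₀A, hc₀, hc₀v⟩ := ZJEigenLift20.exists_eigen (A := A) (g := (m' : G))
      (v := (l : ZMod p).val) (z := (z : G))
      (((HallCore.isPGroup_pCore p L).to_le inf_le_right).map _)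
      (fun a ha b hb => hZc a (hAZ ha) b (hAZ hb)) B
      (by rintro _ ⟨u, hu, rfl⟩; exact ⟨m' * u * m'⁻¹, hMZ m' hm'M u hu, rfl⟩)
      (by
        rintro _ ⟨u, hu, rfl⟩
        exact ⟨m' * u * m'⁻¹, ⟨hMZ m' hm'M u hu.1, (inferInstance : K.Normal).conj_mem u hu.2 _⟩, rfl⟩)
      hm'cop (ZMod.val_coe_unit_coprime l) ⟨z, hz, rfl⟩
      (by
        rintro ⟨u, hu, hue⟩
        refine hw1 ((QuotientGroup.eq_one_iff z).mpr ?_)
        rw [← L.subtype_injective hue]
        exact hu.2)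
      ⟨z ^ p, ⟨pow_mem hz p, hzp⟩, rfl⟩
      ⟨m' * z * m'⁻¹ * (z ^ (l : ZMod p).val)⁻¹,
        Subgroup.mem_inf.mpr ⟨Zq.mul_mem (hMZ m' hm'M z hz) (Zq.inv_mem (pow_mem hz _)), hKmem⟩, rfl⟩
    obtain ⟨x, hx, he⟩ := mem_goodSub.mp hm'M
    refine ⟨zpowers c₀, zpowers_le.mpr (hAZ hc₀A), by rw [Nat.card_zpowers, hc₀], ?_⟩
    refine ZJEigenLift20.relIndex_eq H hc₀ hx hl ?_
    obtain ⟨u, hu, rfl⟩ := hc₀A
    rw [he _ ⟨u, hu.2, rfl⟩]
    exact hc₀v

end Cfsg.Agent.ZJFailure20
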