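import Mathlib
import Cfsg.Prelude.Def_LocalEven
import Cfsg.Agent.Lib.ZJFailureFinish20
import Cfsg.Agent.Lib.GlaubermanZJ
import Cfsg.Agent.Lib.GlaubermanReplace
import Cfsg.Agent.Lib.ThompsonAQuad
import Cfsg.Agent.Lib.PGroupsBasic

/-!
The two cases of a failing configuration for `Z = Z(J(S))`: the Sylow subgroup of `L` is `S`, or it is
properly contained in `S`.
-/

set_option autoImplicit false

open scoped MatrixGroups commutatorElement

namespace Cfsg.Agent.ZJFailure20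

open Subgroup FusionQd GlaubermanZJ

universe u

variable {G : Type u} [Group G] [Finite G] {p : ℕ} [Fact p.Prime]

variable {S : Sylow p G} {H L : Subgroup G} {T : Sylow p L}

/-- A subgroup normalised by a `p`-group `T` and not in `K` has an element central modulo `K`. -/
theorem exists_central_mod {L : Type*} [Group L] [Finite L] (T : Sylow p L) (K : Subgroup L)
    [K.Normal] (U : Subgroup L) (hUT : U ≤ (T : Subgroup L))
    (hTU : (T : Subgroup L) ≤ normalizer (U : Set L)) (hUK : ¬ U ≤ K) :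
    ∃ z ∈ U, z ∉ K ∧ (∀ t ∈ (T : Subgroup L), ⁅t, z⁆ ∈ K) ∧ z ^ p ∈ K := by
  classical
  have hP : p.Prime := Fact.out
  let Tq : Subgroup (L ⧸ K) := (T : Subgroup L).map (QuotientGroup.mk' K)
  have hTq : IsPGroup p Tq := T.isPGroup'.map _
  let N : Subgroup Tq := (U.map (QuotientGroup.mk' K)).subgroupOf Tq
  haveI : N.Normal := by
    refine LocalBasics.normal_subgroupOf_of_le ?_
    exact (map_mono hTU).trans (le_normalizer_map _)
  have hN : N ≠ ⊥ := by
    intro h
    refine hUK fun x hx => ?_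
    rw [← QuotientGroup.eq_one_iff]
    have h1 : (⟨QuotientGroup.mk' K x, mem_map_of_mem _ (hUT hx)⟩ : Tq) ∈ N :=
      mem_map_of_mem _ hx
    rw [h, mem_bot] at h1
    exact congrArg Subtype.val h1
  have hne := PGroupsBasic.inf_center_ne_bot hTq hN
  obtain ⟨c, hc, hc1⟩ : ∃ c ∈ N ⊓ Subgroup.center Tq, c ≠ 1 := by
    by_contra hno
    push Not at hno
    exact hne (le_bot_iff.mp fun x hx => mem_bot.mpr (hno x hx))
  obtain ⟨k, hk⟩ := hTq c
  obtain ⟨j, hj, hjord⟩ := (Nat.dvd_prime_pow hP).mp (orderOf_dvd_of_pow_eq_one hk)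
  obtain ⟨i, rfl⟩ : ∃ i, j = i + 1 := by
    refine Nat.exists_eq_succ_of_ne_zero fun h => hc1 ?_
    rw [h, pow_zero] at hjord
    exact orderOf_eq_one_iff.mp hjord
  set d := c ^ p ^ i with hd
  have hdp : d ^ p = 1 := by rw [hd, ← pow_mul, ← pow_succ, ← hjord, pow_orderOf_eq_one]
  have hd1 : d ≠ 1 := by
    intro h
    have h1 := Nat.le_of_dvd (pow_pos hP.pos i) (orderOf_dvd_of_pow_eq_one h)
    rw [hjord] at h1
    exact absurd h1 (not_le.mpr (Nat.pow_lt_pow_right hP.one_lt i.lt_succ_self))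
  have hdN : d ∈ N ⊓ Subgroup.center Tq := pow_mem hc _
  obtain ⟨z, hz, hze⟩ := hdN.1
  refine ⟨z, hz, fun h => hd1 ?_, fun t ht => ?_, ?_⟩
  · refine Subtype.ext (hze.symm.trans ?_)
    exact (QuotientGroup.eq_one_iff z).mpr h
  · have h1 := congrArg Subtype.val
      (Subgroup.mem_center_iff.mp hdN.2 ⟨QuotientGroup.mk' K t, mem_map_of_mem _ ht⟩)
    rw [← QuotientGroup.eq_one_iff, ← QuotientGroup.mk'_apply, map_commutatorElement,
      commutatorElement_eq_one_iff_commute, hze]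
    exact h1
  · rw [← QuotientGroup.eq_one_iff, ← QuotientGroup.mk'_apply, map_pow, hze, ← map_pow, hdp]
    rfl

/-- The elementary abelian normal closure of an element of `Q` central modulo `K`. -/
theorem exists_closure {L : Type*} [Group L] [Finite L] (T : Sylow p L) (K : Subgroup L) [K.Normal]
    {z : L} (hzQ : z ∈ Cfsg.pCore p L) (hzT : ∀ t ∈ (T : Subgroup L), ⁅t, z⁆ ∈ K)
    (hzp : z ^ p ∈ K) :
    Cfsg.IsElementaryAbelian p (normalClosure {QuotientGroup.mk' K z}) ∧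
      normalClosure {QuotientGroup.mk' K z} ≤ (Cfsg.pCore p L).map (QuotientGroup.mk' K) ∧
      normalClosure {QuotientGroup.mk' K z} ≤
        centralizer ((Cfsg.pCore p L).map (QuotientGroup.mk' K) : Set (L ⧸ K)) ∧
      ∀ t ∈ (T : Subgroup L), QuotientGroup.mk' K t * QuotientGroup.mk' K z *
        (QuotientGroup.mk' K t)⁻¹ = QuotientGroup.mk' K z := by
  classical
  haveI hQn := HallCore.pCore_normal p L
  set q := QuotientGroup.mk' K
  set Qb := (Cfsg.pCore p L).map q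
  haveI : Qb.Normal := hQn.map _ (QuotientGroup.mk'_surjective K)
  haveI : (centralizer (Qb : Set (L ⧸ K))).Normal := normal_centralizer
  have hcomm : ∀ t ∈ (T : Subgroup L), q t * q z = q z * q t := by
    intro t ht
    have h := (QuotientGroup.eq_one_iff _).mpr (hzT t ht)
    rw [← QuotientGroup.mk'_apply, map_commutatorElement, commutatorElement_eq_one_iff_commute] at h
    exact h
  have hzC : q z ∈ centralizer (Qb : Set (L ⧸ K)) := by
    refine mem_centralizer_iff.mpr ?_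
    rintro _ ⟨x, hx, rfl⟩
    exact hcomm x (HallCore.pCore_le_sylow T hx)
  have h1 : normalClosure {q z} ≤ Qb :=
    normalClosure_le_normal (Set.singleton_subset_iff.mpr (mem_map_of_mem q hzQ))
  have h2 : normalClosure {q z} ≤ centralizer (Qb : Set (L ⧸ K)) :=
    normalClosure_le_normal (Set.singleton_subset_iff.mpr hzC)
  have hab : ∀ u ∈ normalClosure {q z}, ∀ v ∈ normalClosure {q z}, u * v = v * u := fun u hu v hv =>
    mem_centralizer_iff.mp (h2 hv) u (h1 hu)
  refine ⟨(Offenders.ea_iff _).2 ⟨hab, fun u hu => ?_⟩, h1, h2, fun t ht => ?_⟩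
  · have hu' : u ∈ closure (Group.conjugatesOfSet {q z}) := hu
    induction hu' using closure_induction with
    | mem x hx =>
      obtain ⟨y, hy, hyx⟩ := Group.mem_conjugatesOfSet_iff.mp hx
      obtain ⟨g, rfl⟩ := isConj_iff.mp hyx
      rw [Set.mem_singleton_iff] at hy
      rw [conj_pow, hy, ← map_pow, show q (z ^ p) = 1 from (QuotientGroup.eq_one_iff _).mpr hzp,
        mul_one, mul_inv_cancel]
    | one => exact one_pow p
    | mul x y hx hy ihx ihy =>
      rw [(show Commute x y from hab x hx y hy).mul_pow, ihx hx, ihy hy, one_mul]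
    | inv x hx ih => rw [inv_pow, ih hx, inv_one]
  · rw [hcomm t ht, mul_inv_cancel_right]

/-- `Z ∩ Q` is not normal in `L`. -/
theorem Config.not_normal (c : Config S H L T) (hSH : (S : Subgroup G) ≤ H) (Z : Subgroup G)
    (hH : H = normalizer (Z : Set G)) (hZS : Z ≤ (S : Subgroup G))
    (hZc : ∀ a ∈ Z, ∀ b ∈ Z, a * b = b * a) :
    ¬ (Z.subgroupOf L ⊓ Cfsg.pCore p L).Normal := by
  classical
  intro hn
  haveI := hn
  haveI hQn := HallCore.pCore_normal p L
  have hQS : coreIn p L ≤ (S : Subgroup G) :=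
    (map_mono (HallCore.pCore_le_sylow T)).trans c.le_S
  by_cases hZQ : Z ≤ coreIn p L
  · obtain ⟨l, hl⟩ := c.bad
    refine hl (Good.of_mem (hH ▸ ?_))
    refine mem_normalizer_fintype (h := ?_)
    intro z hz
    obtain ⟨u, hu, rfl⟩ := hZQ hz
    exact (hn.conj_mem u ⟨hz, hu⟩ l).1
  · set P := Z ⊔ coreIn p L with hPdef
    have hPS : P ≤ (S : Subgroup G) := sup_le hZS hQS
    have hlt : coreIn p L < P :=
      lt_of_le_of_ne le_sup_right fun e => hZQ (le_sup_left.trans e.ge)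
    have h := TransferAlperin.card_lt_card_inf_normalizer (S.isPGroup'.to_le hPS) hlt
    obtain ⟨u, hu, huQ⟩ : ∃ u ∈ P ⊓ normalizer (coreIn p L : Set G), u ∉ coreIn p L :=
      SetLike.not_le_iff_exists.mp fun hle => absurd (card_le_of_le hle) (not_le.mpr h)
    have hQZ : coreIn p L ≤ normalizer (Z : Set G) := hQS.trans (hH ▸ hSH)
    obtain ⟨z, hz, v, hv, rfl⟩ : ∃ z ∈ Z, ∃ v ∈ coreIn p L, z * v = u := by
      have h1 : u ∈ ((Z ⊔ coreIn p L : Subgroup G) : Set G) := hu.1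
      rw [Subgroup.coe_mul_of_right_le_normalizer_left _ _ hQZ] at h1
      exact Set.mem_mul.mp h1
    have hzN : z ∈ normalizer (coreIn p L : Set G) := by
      have h2 := Subgroup.mul_mem _ hu.2 (Subgroup.inv_mem _ (Subgroup.le_normalizer hv))
      simpa using h2
    have hzT : z ∈ (T : Subgroup L).map L.subtype := c.eq_normalizer ▸ ⟨hZS hz, hzN⟩
    obtain ⟨b, hb, rfl⟩ := hzT
    have hbQ : b ∉ Cfsg.pCore p L := fun h' => huQ (mul_mem ⟨b, h', rfl⟩ hv)
    refine hbQ (c.mem_core_of_chain hSH (Z.subgroupOf L ⊓ Cfsg.pCore p L) inf_le_right hb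
      (fun q hq => ⟨?_, ?_⟩) (fun w hw => Subtype.ext (hZc _ hz _ hw.1)))
    · have h3 : (q : G) * (b : G)⁻¹ * (q : G)⁻¹ ∈ Z :=
        (mem_normalizer_iff.mp (hQZ ⟨q, hq, rfl⟩) _).mp (inv_mem hz)
      show ((⁅b, q⁆ : L) : G) ∈ Z
      have e : ((⁅b, q⁆ : L) : G) = (b : G) * ((q : G) * (b : G)⁻¹ * (q : G)⁻¹) := by
        rw [commutatorElement_def]
        simp [mul_assoc]
      rw [e]
      exact mul_mem hz h3
    · rw [commutatorElement_def]
      exact Subgroup.mul_mem _ (hQn.conj_mem q hq b) (Subgroup.inv_mem _ hq)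

set_option maxHeartbeats 800000 in
/-- The case `T = S`. -/
theorem Config.case_top (hp : p ≠ 2) (c : Config S H L T)
    (hH : H = normalizer (thomY 0 (S : Subgroup G) : Set G))
    (hTS : (T : Subgroup L).map L.subtype = (S : Subgroup G)) :
    Cfsg.Involves ↥(Cfsg.fOver (ZMod p)) ↥H ∧
      ∃ C : Subgroup G, C ≤ thomY 0 (S : Subgroup G) ∧ Nat.card C = p ∧
        (H ⊓ centralizer (C : Set G)).relIndex (H ⊓ normalizer (C : Set G)) = p - 1 := by
  classical
  set Z := thomY 0 (S : Subgroup G) with hZdef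
  have hZS : Z ≤ (S : Subgroup G) := thomY_le _
  have hZc : ∀ a ∈ Z, ∀ b ∈ Z, a * b = b * a := fun a ha b hb => thomY_isComm ha hb
  have hSH : (S : Subgroup G) ≤ H := hH ▸ (Subgroup.le_normalizer).trans (normalizer_le_thomY _)
  haveI hQn := HallCore.pCore_normal p L
  set Q := Cfsg.pCore p L with hQdef
  set Zq := Z.subgroupOf L ⊓ Q with hZq
  set K := Zq.normalCore with hKdef
  have hKZq : K ≤ Zq := normalCore_le Zq
  have hQT : Q ≤ (T : Subgroup L) := HallCore.pCore_le_sylow T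
  have hSN : (S : Subgroup G) ≤ normalizer (Z : Set G) := by rw [← hH]; exact hSH
  have hTL : ∀ t ∈ (T : Subgroup L), (t : G) ∈ (S : Subgroup G) := fun t ht =>
    c.le_S ⟨t, ht, rfl⟩
  have hnn := c.not_normal hSH Z hH hZS hZc
  obtain ⟨z, hz, hzK, hzT, hzp⟩ := exists_central_mod T K Zq (inf_le_right.trans hQT)
    (LocalBasics.le_normalizer_of_conj fun t ht u hu =>
      ⟨(mem_normalizer_iff.mp (hSN (hTL t ht)) _).mp hu.1, hQn.conj_mem u hu.2 t⟩)
    (fun h => hnn (by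
      show Zq.Normal
      rw [le_antisymm h hKZq]
      exact normalCore_normal _))
  obtain ⟨hWea, hWQ, hWC, hyT⟩ := exists_closure T K hz.2 hzT hzp
  set q := QuotientGroup.mk' K with hq
  set W := normalClosure {q z} with hW
  have hzW : q z ∈ W := subset_normalClosure rfl
  -- `z` is moved
  have hyL : ∃ g : L ⧸ K, g * q z * g⁻¹ ≠ q z := by
    by_contra hno
    push Not at hno
    have hn : ((zpowers (q z)).comap q).Normal := by
      haveI : (zpowers (q z)).Normal := ⟨fun x hx g => by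
        obtain ⟨i, rfl⟩ := mem_zpowers_iff.mp hx
        rw [← conj_zpow, hno g]
        exact zpow_mem (mem_zpowers _) i⟩
      exact Normal.comap inferInstance _
    have hle : (zpowers (q z)).comap q ≤ Zq := by
      intro x hx
      obtain ⟨i, hi⟩ := mem_zpowers_iff.mp hx
      have h1 : (z ^ i)⁻¹ * x ∈ K := by
        rw [← QuotientGroup.eq_one_iff, ← QuotientGroup.mk'_apply, map_mul, map_inv, map_zpow,
          ← hq, hi, inv_mul_cancel]
      have := mul_mem (zpow_mem hz i) (hKZq h1)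
      simpa using this
    haveI := hn
    exact hzK ((normal_le_normalCore.mpr hle) (mem_comap.mpr (mem_zpowers _)))
  -- the quadratic element
  set B := W.comap q with hBdef
  haveI : B.Normal := Normal.comap inferInstance _
  have hKB : K ≤ B := fun x hx => by
    show q x ∈ W
    rw [show q x = 1 from (QuotientGroup.eq_one_iff x).mpr hx]
    exact one_mem W
  have hBQ : B ≤ Q := by
    refine (comap_mono hWQ).trans ?_
    rw [comap_map_eq, hq, QuotientGroup.ker_mk', sup_le_iff]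
    exact ⟨le_rfl, hKZq.trans inf_le_right⟩
  have hBgen : ∀ X : Subgroup L, X.Normal → K ≤ X → z ∈ X → B ≤ X := by
    intro X hX hKX hzX
    haveI : (X.map q).Normal := hX.map _ (QuotientGroup.mk'_surjective K)
    refine (comap_mono (normalClosure_le_normal
      (Set.singleton_subset_iff.mpr (mem_map_of_mem q hzX)))).trans ?_
    rw [comap_map_eq, hq, QuotientGroup.ker_mk', sup_le_iff]
    exact ⟨le_rfl, hKX⟩
  have hBK : ∀ x ∈ B, ∀ y ∈ B, ⁅x, y⁆ ∈ K := fun x hx y hy => by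
    rw [← QuotientGroup.eq_one_iff, ← QuotientGroup.mk'_apply, map_commutatorElement,
      commutatorElement_eq_one_iff_commute]
    exact ((Offenders.ea_iff W).1 hWea).1 _ hx _ hy
  have hKc : ∀ x ∈ B, ∀ k ∈ K, k * x = x * k := by
    haveI : (centralizer (K : Set L)).Normal := normal_centralizer
    have hle : B ≤ centralizer (K : Set L) := hBgen _ inferInstance
      (fun k hk => mem_centralizer_iff.mpr fun k' hk' => Subtype.ext
        (hZc _ (hKZq hk').1 _ (hKZq hk).1))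
      (mem_centralizer_iff.mpr fun k hk => Subtype.ext (hZc _ (hKZq hk).1 _ hz.1))
    exact fun x hx k hk => mem_centralizer_iff.mp (hle hx) k hk
  set BG := B.map L.subtype with hBG
  set QG := coreIn p L with hQG
  have hBGS : BG ≤ (S : Subgroup G) := (map_mono (hBQ.trans hQT)).trans c.le_S
  have hBGder : ∀ A ∈ maxFam 0 (S : Subgroup G), ⁅BG, BG⁆ ≤ A := by
    intro A hA
    refine commutator_le.mpr ?_
    rintro _ ⟨x, hx, rfl⟩ _ ⟨y, hy, rfl⟩
    rw [← map_commutatorElement]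
    have h1 : (L.subtype ⁅x, y⁆) ∈ Z := (hKZq (hBK x hx y hy)).1
    exact mem_of_commute hA (hZS h1) (pow_zero _) fun a ha => thomY_comm hA h1 ha
  have hBG2 : ⁅⁅BG, BG⁆, BG⁆ = ⊥ := by
    rw [commutator_eq_bot_iff_le_centralizer, commutator_le]
    rintro _ ⟨x, hx, rfl⟩ _ ⟨y, hy, rfl⟩
    rw [← map_commutatorElement]
    refine mem_centralizer_iff.mpr ?_
    rintro _ ⟨w, hw, rfl⟩
    rw [← map_mul, ← map_mul, hKc w hw _ (hBK x hx y hy)]
  have hAL : ∀ A ∈ maxFam 0 (S : Subgroup G), ∀ a ∈ A, a ∈ L := fun A hA a ha => by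
    obtain ⟨t, -, rfl⟩ := hTS.symm ▸ hA.1.le ha
    exact t.2
  have hLQ : ∀ l : L, (l : G) ∈ normalizer (QG : Set G) := fun l =>
    LocalBasics.le_normalizer_of_conj (X := L) (fun g hg x hx => conj_mem_coreIn ⟨g, hg⟩ hx) l.2
  have hex : ∃ A ∈ maxFam 0 (S : Subgroup G), ¬ A ≤ QG := by
    by_contra hno
    push Not at hno
    have hQGS : QG ≤ (S : Subgroup G) := (map_mono hQT).trans c.le_S
    obtain ⟨A0, hA0⟩ := exists_maxFam 0 (S : Subgroup G)
    have he : thomJ 0 QG = thomJ 0 (S : Subgroup G) := by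
      refine le_antisymm (sSup_le fun A hA => le_thomJ ?_) (sSup_le fun A hA => le_thomJ ?_)
      · exact ⟨⟨hA.1.le.trans hQGS, hA.1.comm, hA.1.pow⟩, fun A' hA' =>
          (hA0.2 A' hA').trans (hA.2 A0 ⟨hno A0 hA0, hA0.1.comm, hA0.1.pow⟩)⟩
      · exact ⟨⟨hno A hA, hA.1.comm, hA.1.pow⟩,
          fun A' hA' => hA.2 A' ⟨hA'.le.trans hQGS, hA'.comm, hA'.pow⟩⟩
    obtain ⟨l, hl⟩ := c.bad
    refine hl (Good.of_mem ?_)
    rw [hH, hZdef, thomY, ← he]
    exact normalizer_le_thomY QG (hLQ l)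
  obtain ⟨A, ⟨hA, hAQ⟩, hAmax⟩ := Set.exists_max_image
    {A ∈ maxFam 0 (S : Subgroup G) | ¬ A ≤ QG}
    (fun A => Nat.card (A ⊓ BG : Subgroup G)) (Set.toFinite _)
    (by obtain ⟨A, hA, hA'⟩ := hex; exact ⟨A, hA, hA'⟩)
  have hABn : A ≤ normalizer (BG : Set G) := by
    refine LocalBasics.le_normalizer_of_conj fun a ha x hx => ?_
    obtain ⟨u, hu, rfl⟩ := hx
    exact ⟨⟨a, hAL A hA a ha⟩ * u * ⟨a, hAL A hA a ha⟩⁻¹,
      (inferInstance : B.Normal).conj_mem u hu _, rfl⟩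
  have hBA : BG ≤ normalizer (A : Set G) := by
    by_contra hnot
    obtain ⟨As, hc1, hcard, hlt, hnorm, -, hle, -, -⟩ :=
      GlaubermanReplace.replacement hp (A := A) (B := BG)
        (S.isPGroup'.to_le (sup_le hA.1.le hBGS))
        ⟨⟨fun a b => Subtype.ext (hA.1.comm a a.2 b b.2)⟩⟩ hBG2 (hBGder A hA) hABn hnot
    have hAs : As ∈ maxFam 0 (S : Subgroup G) :=
      ⟨⟨hle.trans (sup_le hA.1.le hBGS),
        fun a ha b hb => congrArg Subtype.val (hc1.is_comm.comm (⟨a, ha⟩ : As) ⟨b, hb⟩),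
        fun a _ => pow_zero a⟩, fun A' hA' => hcard ▸ hA.2 A' hA'⟩
    have hAsQ : As ≤ QG := by
      by_contra h
      exact absurd (hAmax As ⟨hAs, h⟩) (not_le.mpr (Set.Finite.card_lt_card (Set.toFinite _) hlt))
    have hQGS : QG ≤ (S : Subgroup G) := (map_mono hQT).trans c.le_S
    have hJle : thomJ 0 QG ≤ thomJ 0 (S : Subgroup G) := sSup_le fun A' hA' => le_thomJ
      ⟨⟨hA'.1.le.trans hQGS, hA'.1.comm, hA'.1.pow⟩, fun A'' hA'' =>
        (hAs.2 A'' hA'').trans (hA'.2 As ⟨hAsQ, hAs.1.comm, hAs.1.pow⟩)⟩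
    have hAsJ : As ≤ thomJ 0 QG := le_thomJ ⟨⟨hAsQ, hAs.1.comm, hAs.1.pow⟩,
      fun A' hA' => hAs.2 A' ⟨hA'.le.trans hQGS, hA'.comm, hA'.pow⟩⟩
    let X : Subgroup L := (centralizer (thomJ 0 QG : Set G)).subgroupOf L
    haveI hXn : X.Normal := LocalBasics.normal_subgroupOf_of_le
      (LocalBasics.le_normalizer_centralizer
        (fun g hg => normalizer_le_thomJ QG (hLQ ⟨g, hg⟩)))
    have hZX : ∀ u : L, (u : G) ∈ Z → u ∈ X := fun u hu =>
      mem_centralizer_iff.mpr fun a ha => mem_centralizer_iff.mp hu.2 a (hJle ha)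
    have hBX : B ≤ X := hBgen X hXn (fun k hk => hZX k (hKZq hk).1) (hZX z hz.1)
    refine hnot ?_
    rintro _ ⟨u, hu, rfl⟩
    exact hnorm (mem_of_commute hAs (hBGS ⟨u, hu, rfl⟩) (pow_zero _) fun a ha =>
      mem_centralizer_iff.mp (hBX hu) a (hAsJ ha))
  obtain ⟨a, ha, haQ⟩ := SetLike.not_le_iff_exists.mp hAQ
  obtain ⟨b, hbT, rfl⟩ := hTS.symm ▸ hA.1.le ha
  have hbQ : b ∉ Cfsg.pCore p L := fun h => haQ ⟨b, h, rfl⟩
  -- quadratic
  have hquad : ⁅⁅W, zpowers (q b)⁆, zpowers (q b)⁆ = ⊥ := by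
    have hWB : W = B.map q :=
      (map_comap_eq_self_of_surjective (QuotientGroup.mk'_surjective K) W).symm
    rw [hWB, ← MonoidHom.map_zpowers, ← map_commutator, ← map_commutator]
    refine (Subgroup.map_eq_bot_iff _).mpr (le_trans ?_ bot_le)
    have h1 : ⁅B, zpowers b⁆ ≤ A.subgroupOf L := commutator_le.mpr fun x hx y hy => by
      have hyA : (y : G) ∈ A := by
        obtain ⟨i, rfl⟩ := mem_zpowers_iff.mp hy
        rw [SubgroupClass.coe_zpow]
        exact zpow_mem ha i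
      show ((⁅x, y⁆ : L) : G) ∈ A
      have e : ((⁅x, y⁆ : L) : G) = (x : G) * (y : G) * (x : G)⁻¹ * (y : G)⁻¹ := by
        rw [commutatorElement_def]; rfl
      rw [e]
      exact mul_mem ((mem_normalizer_iff.mp (hBA ⟨x, hx, rfl⟩) _).mp hyA) (inv_mem hyA)
    refine commutator_le.mpr fun x hx y hy => mem_bot.mpr ?_
    have hyA : (y : G) ∈ A := by
      obtain ⟨i, rfl⟩ := mem_zpowers_iff.mp hy
      rw [SubgroupClass.coe_zpow]
      exact zpow_mem ha i
    exact commutatorElement_eq_one_iff_commute.mpr (Subtype.ext (hA.1.comm _ (h1 hx) _ hyA))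
  exact c.finish hp hSH Z hH hZc K (hKZq.trans inf_le_right) W hWea hWC hzW
    (mem_map_of_mem q hz) hyT hyL hbT hbQ hquad

set_option maxHeartbeats 800000 in
/-- The case `T < S`. -/
theorem Config.case_lt (hp : p ≠ 2) (c : Config S H L T) (hSH : (S : Subgroup G) ≤ H)
    (Z : Subgroup G) (hH : H = normalizer (Z : Set G)) (hZS : Z ≤ (S : Subgroup G))
    (hZc : ∀ a ∈ Z, ∀ b ∈ Z, a * b = b * a)
    (hTS : (T : Subgroup L).map L.subtype ≠ (S : Subgroup G)) :
    Cfsg.Involves ↥(Cfsg.fOver (ZMod p)) ↥H ∧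
      ∃ C : Subgroup G, C ≤ Z ∧ Nat.card C = p ∧
        (H ⊓ centralizer (C : Set G)).relIndex (H ⊓ normalizer (C : Set G)) = p - 1 := by
  classical
  haveI hQn := HallCore.pCore_normal p L
  set Tg := (T : Subgroup L).map L.subtype with hTg
  set NT := (S : Subgroup G) ⊓ normalizer (Tg : Set G) with hNT
  have hlt : Nat.card Tg < Nat.card NT :=
    TransferAlperin.card_lt_card_inf_normalizer S.isPGroup' (lt_of_le_of_ne c.le_S hTS)
  set QG := coreIn p L with hQG
  have hQT : Cfsg.pCore p L ≤ (T : Subgroup L) := HallCore.pCore_le_sylow T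
  have hQGT : QG ≤ Tg := map_mono hQT
  -- the largest subgroup of `Q` normalised by `L` and `N_S(T)`
  let X : Subgroup G := L ⊔ NT
  obtain ⟨K, ⟨hKQ, hKX⟩, hKmax⟩ := Set.exists_max_image
    {K : Subgroup G | K ≤ QG ∧ X ≤ normalizer (K : Set G)} (fun K => Nat.card K)
    (Set.toFinite _) ⟨⊥, bot_le, le_top.trans (normalizer_eq_top (⊥ : Subgroup G)).ge⟩
  have hKbig : ∀ U : Subgroup G, U ≤ QG → X ≤ normalizer (U : Set G) → U ≤ K := fun U hU hUX => by
    have h1 := hKmax (K ⊔ U) ⟨sup_le hKQ hU, LocalBasics.le_normalizer_sup hKX hUX⟩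
    exact le_sup_right.trans (eq_of_le_of_card_ge le_sup_left h1).ge
  have hLK : L ≤ normalizer (K : Set G) := le_sup_left.trans hKX
  have hNK : NT ≤ normalizer (K : Set G) := le_sup_right.trans hKX
  have hKS : K ≤ (S : Subgroup G) := hKQ.trans (hQGT.trans c.le_S)
  have hgoodK : ∀ g ∈ normalizer (K : Set G), Good H K g :=
    c.big K hKS (hlt.trans_le (card_le_of_le (le_inf inf_le_left hNK)))
  haveI hKLn : (K.subgroupOf L).Normal := LocalBasics.normal_subgroupOf_of_le hLK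
  set KL := K.subgroupOf L with hKL
  have hKLQ : KL ≤ Cfsg.pCore p L := fun x hx => by
    obtain ⟨u, hu, hue⟩ := hKQ (show (x : G) ∈ K from hx)
    rwa [← L.subtype_injective hue]
  set q := QuotientGroup.mk' KL with hq
  set ZT := Z.subgroupOf L ⊓ (T : Subgroup L) with hZT
  -- `L` preserves `Z ∩ K`
  have hZK : ∀ g ∈ normalizer (K : Set G), ∀ z ∈ Z, z ∈ K → g * z * g⁻¹ ∈ Z := by
    intro g hg z hz hzK
    obtain ⟨x, hx, he⟩ := hgoodK g hg
    rw [← he z hzK]
    rw [hH] at hx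
    exact (mem_normalizer_iff.mp hx z).mp hz
  haveI hZ1n : (Z.subgroupOf L ⊓ KL).Normal := ⟨fun u hu g =>
    ⟨hZK _ (hLK g.2) _ hu.1 hu.2, hKLn.conj_mem u hu.2 g⟩⟩
  have hZTK : ¬ ZT ≤ KL := by
    intro h
    refine c.not_normal hSH Z hH hZS hZc ?_
    have e : Z.subgroupOf L ⊓ Cfsg.pCore p L = Z.subgroupOf L ⊓ KL :=
      le_antisymm (le_inf inf_le_left fun u hu => h ⟨hu.1, hQT hu.2⟩) (inf_le_inf_left _ hKLQ)
    rw [e]
    exact hZ1n
  have hTZ : ∀ t ∈ (T : Subgroup L), ∀ z : L, (z : G) ∈ Z → ((t * z * t⁻¹ : L) : G) ∈ Z :=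
    fun t ht z hz => (mem_normalizer_iff.mp (hH ▸ hSH (c.le_S ⟨t, ht, rfl⟩)) _).mp hz
  obtain ⟨z₀, hz₀, hz₀K, hz₀T, hz₀p⟩ := exists_central_mod T KL ZT inf_le_right
    (LocalBasics.le_normalizer_of_conj fun t ht u hu =>
      ⟨hTZ t ht u hu.1, (T : Subgroup L).mul_mem ((T : Subgroup L).mul_mem ht hu.2)
        ((T : Subgroup L).inv_mem ht)⟩) hZTK
  -- the whole set of such elements
  let Y₀ : Set G := {g | g ∈ Z ∧ g ∈ Tg ∧ (∀ t ∈ Tg, ⁅t, g⁆ ∈ K) ∧ g ^ p ∈ K}
  have hY₀ : ∀ u : L, u ∈ ZT → (∀ t ∈ (T : Subgroup L), ⁅t, u⁆ ∈ KL) → u ^ p ∈ KL →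
      (u : G) ∈ Y₀ := by
    intro u hu h1 h2
    refine ⟨hu.1, ⟨u, hu.2, rfl⟩, ?_, by rw [← SubgroupClass.coe_pow]; exact h2⟩
    rintro _ ⟨t, ht, rfl⟩
    exact h1 t ht
  have hYQ : ∀ u : L, (u : G) ∈ Y₀ → u ∈ Cfsg.pCore p L ∧ u ∈ ZT ∧
      (∀ t ∈ (T : Subgroup L), ⁅t, u⁆ ∈ KL) ∧ u ^ p ∈ KL := by
    intro u hu
    have huT : u ∈ (T : Subgroup L) := by
      obtain ⟨v, hv, hve⟩ := hu.2.1
      rwa [← L.subtype_injective hve]
    have h1 : ∀ t ∈ (T : Subgroup L), ⁅t, u⁆ ∈ KL := fun t ht => hu.2.2.1 _ ⟨t, ht, rfl⟩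
    refine ⟨?_, ⟨hu.1, huT⟩, h1, hu.2.2.2⟩
    refine c.mem_core_of_chain hSH (Z.subgroupOf L ⊓ KL) (inf_le_right.trans hKLQ) huT
      (fun v hv => ⟨?_, ?_⟩) (fun w hw => Subtype.ext (hZc _ hu.1 _ hw.1))
    · show ((⁅u, v⁆ : L) : G) ∈ Z
      have h3 : ((v * u⁻¹ * v⁻¹ : L) : G) ∈ Z := hTZ v (hQT hv) u⁻¹ (inv_mem hu.1)
      have e : ((⁅u, v⁆ : L) : G) = (u : G) * ((v * u⁻¹ * v⁻¹ : L) : G) := by
        rw [commutatorElement_def]
        simp [mul_assoc]
      rw [e]
      exact mul_mem hu.1 h3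
    · rw [← commutatorElement_inv]
      exact Subgroup.inv_mem _ (h1 v (hQT hv))
  have hY₀L : ∀ g ∈ Y₀, g ∈ L := fun g hg => map_subtype_le _ hg.2.1
  -- some such element is moved
  obtain ⟨z, hzY, hzmoved⟩ : ∃ z : L, (z : G) ∈ Y₀ ∧ ∃ l : L, ⁅l, z⁆ ∉ KL := by
    by_contra hno
    push Not at hno
    set Y : Subgroup G := closure Y₀ ⊔ K with hY
    have hYQG : Y ≤ QG := sup_le ((closure_le _).mpr fun g hg =>
      ⟨⟨g, hY₀L g hg⟩, (hYQ ⟨g, hY₀L g hg⟩ hg).1, rfl⟩) hKQ
    have hLY : L ≤ normalizer (Y : Set G) := by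
      refine LocalBasics.le_normalizer_of_conj fun l hl y hy => ?_
      have hle : Y ≤ Y.comap (MulAut.conj l).toMonoidHom := by
        refine sup_le ((closure_le _).mpr fun g hg => ?_) fun k hk => ?_
        · have h1 : ((⁅(⟨l, hl⟩ : L), (⟨g, hY₀L g hg⟩ : L)⁆ : L) : G) ∈ K :=
            hno ⟨g, hY₀L g hg⟩ hg ⟨l, hl⟩
          show l * g * l⁻¹ ∈ Y
          have e : l * g * l⁻¹ = (l * g * l⁻¹ * g⁻¹) * g := by group
          rw [e]
          exact mul_mem (mem_sup_right h1) (mem_sup_left (subset_closure hg))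
        · exact mem_sup_right ((mem_normalizer_iff.mp (hLK hl) k).mp hk)
      exact hle hy
    have hNY : NT ≤ normalizer (Y : Set G) := by
      refine LocalBasics.le_normalizer_of_conj fun s hs y hy => ?_
      have hle : Y ≤ Y.comap (MulAut.conj s).toMonoidHom := by
        refine sup_le ((closure_le _).mpr fun g hg => ?_) fun k hk => ?_
        · show s * g * s⁻¹ ∈ Y
          refine mem_sup_left (subset_closure ⟨(mem_normalizer_iff.mp (hH ▸ hSH hs.1) g).mp hg.1,
            (mem_normalizer_iff.mp hs.2 g).mp hg.2.1, fun t ht => ?_, ?_⟩)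
          · have ht' : s⁻¹ * t * s ∈ Tg := by
              refine (mem_normalizer_iff.mp hs.2 _).mpr ?_
              simpa [mul_assoc] using ht
            have h1 := (mem_normalizer_iff.mp (hNK hs) _).mp (hg.2.2.1 _ ht')
            have e : ⁅t, s * g * s⁻¹⁆ = s * ⁅s⁻¹ * t * s, g⁆ * s⁻¹ := by
              rw [commutatorElement_def, commutatorElement_def]; group
            rw [e]; exact h1
          · rw [conj_pow]
            exact (mem_normalizer_iff.mp (hNK hs) _).mp hg.2.2.2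
        · exact mem_sup_right ((mem_normalizer_iff.mp (hNK hs) k).mp hk)
      exact hle hy
    exact hz₀K (hKbig Y hYQG (sup_le hLY hNY)
      (mem_sup_left (subset_closure (hY₀ z₀ hz₀ hz₀T hz₀p))))
  obtain ⟨hzQ, hzZT, hzT, hzp⟩ := hYQ z hzY
  obtain ⟨hWea, hWQ, hWC, hyT⟩ := exists_closure T KL hzQ hzT hzp
  set W := normalClosure {q z} with hW
  have hzW : q z ∈ W := subset_normalClosure rfl
  have hyL : ∃ g : L ⧸ KL, g * q z * g⁻¹ ≠ q z := by
    obtain ⟨l, hl⟩ := hzmoved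
    refine ⟨q l, fun h => hl ((QuotientGroup.eq_one_iff _).mp ?_)⟩
    rw [← QuotientGroup.mk'_apply, ← hq, map_commutatorElement, commutatorElement_def, h, mul_inv_cancel]
  -- `J` of `T / K` is not inside `Q`
  have hqs : Function.Surjective q := QuotientGroup.mk'_surjective KL
  set Tb : Sylow p (L ⧸ KL) := T.mapSurjective hqs with hTb
  have hTbe : (Tb : Subgroup (L ⧸ KL)) = (T : Subgroup L).map q := Sylow.coe_mapSurjective _ _
  set Qb := (Cfsg.pCore p L).map q with hQb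
  haveI hQbn : Qb.Normal := hQn.map _ hqs
  set J := (Cfsg.thompsonSubgroupA ↥(Tb : Subgroup (L ⧸ KL))).map (Tb : Subgroup (L ⧸ KL)).subtype
    with hJ
  have hJQ : ¬ J ≤ Qb := by
    intro hle
    have hQbT : Qb ≤ (Tb : Subgroup (L ⧸ KL)) := hTbe ▸ map_mono hQT
    have heq := ThompsonAQuad.thompsonA_map_eq_of_le _ Qb hQbT hle
    haveI hJn : J.Normal := ⟨fun x hx g => by
      rw [hJ, heq] at hx ⊢
      obtain ⟨u, hu, rfl⟩ := hx
      refine ⟨MulAut.conjNormal g u, ?_, MulAut.conjNormal_apply g u⟩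
      rw [← ThompsonAQuad.map_thompsonA (MulAut.conjNormal g : MulAut Qb)]
      exact mem_map_of_mem _ hu⟩
    -- its preimage
    set RL := J.comap q with hRL
    haveI hRLn : RL.Normal := Normal.comap inferInstance _
    have hRLQ : RL ≤ Cfsg.pCore p L := by
      refine (comap_mono hle).trans ?_
      rw [comap_map_eq, hq, QuotientGroup.ker_mk', sup_le_iff]
      exact ⟨le_rfl, hKLQ⟩
    set R := RL.map L.subtype with hR
    have hLR : L ≤ normalizer (R : Set G) := LocalBasics.le_normalizer_map_normal L RL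
    have hNR : NT ≤ normalizer (R : Set G) := by
      refine LocalBasics.le_normalizer_of_conj fun s hs x hx => ?_
      obtain ⟨v, hv, rfl⟩ := hx
      -- the automorphism of `T / K` induced by `s`
      have hsT : ∀ t : (T : Subgroup L), s * ((t : L) : G) * s⁻¹ ∈ L := fun t =>
        map_subtype_le _ ((mem_normalizer_iff.mp hs.2 _).mp ⟨t, t.2, rfl⟩)
      have hsT' : ∀ t : (T : Subgroup L), (⟨_, hsT t⟩ : L) ∈ (T : Subgroup L) := fun t => by
        obtain ⟨u, hu, hue⟩ := (mem_normalizer_iff.mp hs.2 _).mp ⟨(t : L), t.2, rfl⟩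
        have e : u = (⟨_, hsT t⟩ : L) := L.subtype_injective hue
        exact e ▸ hu
      let f : (T : Subgroup L) →* (Tb : Subgroup (L ⧸ KL)) :=
        MonoidHom.mk' (fun t => ⟨q t.1, hTbe ▸ mem_map_of_mem q t.2⟩)
          (fun t t' => Subtype.ext (map_mul q _ _))
      let α : (T : Subgroup L) →* (T : Subgroup L) :=
        MonoidHom.mk' (fun t => ⟨⟨_, hsT t⟩, hsT' t⟩) (fun t t' => Subtype.ext (Subtype.ext (by
          show s * (((t * t' : (T : Subgroup L)) : L) : G) * s⁻¹ =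
            s * ((t : L) : G) * s⁻¹ * (s * ((t' : L) : G) * s⁻¹)
          rw [Subgroup.coe_mul, Subgroup.coe_mul]; group)))
      have hfs : Function.Surjective f := by
        rintro ⟨y, hy⟩
        rw [hTbe] at hy
        obtain ⟨t, ht, rfl⟩ := hy
        exact ⟨⟨t, ht⟩, rfl⟩
      have hker : ∀ t, f (α t) = 1 ↔ f t = 1 := by
        intro t
        show (⟨q _, _⟩ : (Tb : Subgroup (L ⧸ KL))) = 1 ↔ (⟨q _, _⟩ : (Tb : Subgroup (L ⧸ KL))) = 1
        simp only [Subtype.ext_iff, OneMemClass.coe_one, hq, QuotientGroup.mk'_apply,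
          QuotientGroup.eq_one_iff]
        show s * ((t : L) : G) * s⁻¹ ∈ K ↔ ((t : L) : G) ∈ K
        exact (mem_normalizer_iff.mp (hNK hs) _).symm
      let g : (Tb : Subgroup (L ⧸ KL)) →* (Tb : Subgroup (L ⧸ KL)) :=
        (f.liftOfSurjective hfs) ⟨f.comp α, fun t ht => (hker t).mpr ht⟩
      have hgf : ∀ t, g (f t) = f (α t) := fun t =>
        MonoidHom.liftOfRightInverse_comp_apply _ _ _ _ t
      have hgi : Function.Injective g := by
        rw [injective_iff_map_eq_one]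
        intro y hy
        obtain ⟨t, rfl⟩ := hfs y
        rw [hgf, hker] at hy
        exact hy
      let β : (Tb : Subgroup (L ⧸ KL)) ≃* (Tb : Subgroup (L ⧸ KL)) :=
        MulEquiv.ofBijective g ⟨hgi, Finite.injective_iff_surjective.mp hgi⟩
      have hvT : v ∈ (T : Subgroup L) := hQT (hRLQ hv)
      have hvJ : q v ∈ J := hv
      obtain ⟨y, hy, hye⟩ := hvJ
      have hyf : y = f ⟨v, hvT⟩ := Subtype.ext hye
      refine ⟨⟨_, hsT ⟨v, hvT⟩⟩, ?_, rfl⟩
      show q _ ∈ J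
      refine ⟨β y, ?_, ?_⟩
      · rw [← ThompsonAQuad.map_thompsonA β]
        exact mem_map_of_mem _ hy
      · rw [hyf]
        show (g (f ⟨v, hvT⟩) : L ⧸ KL) = _
        rw [hgf]
        rfl
    have hRK := hKbig R (map_mono hRLQ) (sup_le hLR hNR)
    have hJbot : J = ⊥ := by
      rw [← map_comap_eq_self_of_surjective hqs J, ← hRL, Subgroup.map_eq_bot_iff, hq,
        QuotientGroup.ker_mk']
      exact fun x hx => hRK ⟨x, hx, rfl⟩
    have hTb1 : (Tb : Subgroup (L ⧸ KL)) ≠ ⊥ := by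
      intro h
      refine hz₀K ?_
      rw [← QuotientGroup.eq_one_iff, ← mem_bot, ← h, hTbe]
      exact mem_map_of_mem q hz₀.2
    have hcen := ThompsonAQuad.center_le ↥(Tb : Subgroup (L ⧸ KL))
    have hA0 : Cfsg.thompsonSubgroupA ↥(Tb : Subgroup (L ⧸ KL)) = ⊥ := by
      rwa [hJ, Subgroup.map_eq_bot_iff_of_injective _ (Subgroup.subtype_injective _)] at hJbot
    haveI : Nontrivial ↥(Tb : Subgroup (L ⧸ KL)) := (nontrivial_iff_ne_bot _).mpr hTb1
    haveI := Tb.isPGroup'.center_nontrivial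
    exact (nontrivial_iff_ne_bot _).mp inferInstance (le_bot_iff.mp (hA0 ▸ hcen))
  -- the quadratic element
  obtain ⟨A, hAT, hAQ, hAc, hAW, -⟩ := ThompsonAQuad.exists_quad Tb W
    (hWQ.trans (hTbe ▸ map_mono hQT)) ((Offenders.ea_iff W).1 hWea).1 Qb
    (fun x hx v hv => (mem_centralizer_iff.mp (hWC hv) x hx).symm) hJQ
  obtain ⟨a, ha, haQ⟩ := SetLike.not_le_iff_exists.mp hAQ
  obtain ⟨b, hbT, rfl⟩ := (hTbe ▸ hAT ha : a ∈ (T : Subgroup L).map q)
  have hbQ : b ∉ Cfsg.pCore p L := fun h => haQ (mem_map_of_mem q h)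
  have hquad : ⁅⁅W, zpowers (q b)⁆, zpowers (q b)⁆ = ⊥ := by
    have h1 : ⁅W, zpowers (q b)⁆ ≤ A := commutator_le.mpr fun v hv y hy =>
      hAW v hv y (zpowers_le.mpr ha hy)
    exact le_bot_iff.mp (commutator_le.mpr fun x hx y hy => mem_bot.mpr
      (commutatorElement_eq_one_iff_commute.mpr (hAc x (h1 hx) y (zpowers_le.mpr ha hy))))
  exact c.finish hp hSH Z hH hZc KL hKLQ W hWea hWC hzW
    (mem_map_of_mem q (⟨hzZT.1, hzQ⟩ : z ∈ Z.subgroupOf L ⊓ Cfsg.pCore p L)) hyT hyL hbT hbQ hquad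

/-- The structure theorem. -/
theorem main (hp : p ≠ 2) (S : Sylow p G)
    (h : ¬ Cfsg.ControlsStrongFusion p (Cfsg.centerThompsonAOf (S : Subgroup G))) :
    Cfsg.Involves ↥(Cfsg.fOver (ZMod p))
      ↥(normalizer (Cfsg.centerThompsonAOf (S : Subgroup G) : Set G)) ∧
      ∃ C : Subgroup G, C ≤ Cfsg.centerThompsonAOf (S : Subgroup G) ∧ Nat.card C = p ∧
        (normalizer (Cfsg.centerThompsonAOf (S : Subgroup G) : Set G) ⊓
            centralizer (C : Set G)).relIndex
          (normalizer (Cfsg.centerThompsonAOf (S : Subgroup G) : Set G) ⊓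
            normalizer (C : Set G)) = p - 1 := by
  rw [centerThompsonAOf_eq] at h ⊢
  obtain ⟨L, T, c⟩ := exists_config S _ (thomY_le (S : Subgroup G)) h
  by_cases hTS : (T : Subgroup L).map L.subtype = (S : Subgroup G)
  · exact c.case_top hp rfl hTS
  · exact c.case_lt hp ((Subgroup.le_normalizer).trans (normalizer_le_thomY _)) _ rfl (thomY_le _)
      (fun a ha b hb => thomY_isComm ha hb) hTS

end Cfsg.Agent.ZJFailure20
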