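import Mathlib
import Cfsg.Prelude.Def_JComponents
import Cfsg.Agent.Lib.MaxClassTwo
import Cfsg.Agent.Lib.PGroupsCyclic
import Cfsg.Agent.Lib.TransferThompson

/-!
2-groups with a self-centralizing four-group, and small tools for 2-subgroups.
-/

set_option autoImplicit false

namespace Cfsg.Agent.ZNShapes82

open Subgroup

/-- A 2-group of order at least 8 with a self-centralizing four-group is dihedral or semidihedral. -/
theorem dihedral_or_quasi {X : Type*} [Group X] [Finite X] (hp : IsPGroup 2 X)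
    (h8 : 8 ≤ Nat.card X) (A : Subgroup X) (hA : Nat.card A = 4) (hA2 : ∀ a ∈ A, a * a = 1)
    (hC : centralizer (A : Set X) = A) :
    (∃ m : ℕ, 2 ≤ m ∧ Nonempty (X ≃* DihedralGroup m)) ∨ Cfsg.IsQuasiDihedral X := by
  have : Fact (Nat.Prime 2) := ⟨Nat.prime_two⟩
  obtain ⟨n, hn⟩ := IsPGroup.iff_card.mp hp
  have hn3 : 3 ≤ n := by
    by_contra hlt
    have := Nat.pow_le_pow_right (by norm_num : 0 < 2) (by omega : n ≤ 2)
    omega
  have hcl := MaxClassTwo.class_of_self_centralizing (p := 2) n X hn A (by rw [hA]; norm_num) hC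
  obtain ⟨hZ, -, -, hnc⟩ := MaxClassTwo.center_of_maxClass hn3 hn hcl
  obtain ⟨C, hCc, hCi, -, -, hZC, hsq⟩ := MaxClassTwo.structure_of_maxClass hn3 hn hcl
  obtain ⟨⟨a, haC⟩, hgen⟩ := hCc.exists_generator
  have hCa : C = zpowers a := le_antisymm (fun x hx => by
    obtain ⟨i, hi⟩ := mem_zpowers_iff.mp (hgen ⟨x, hx⟩)
    exact mem_zpowers_iff.mpr ⟨i, congrArg Subtype.val hi⟩) (zpowers_le.mpr haC)
  obtain ⟨m, rfl⟩ : ∃ m, n = m + 2 := ⟨n - 2, by omega⟩
  have ha : orderOf a = 2 ^ (m + 1) := by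
    have h := card_mul_index C
    rw [hCi, hn, hCa, Nat.card_zpowers, pow_succ 2 (m + 1)] at h
    omega
  have ha1 : a ^ 2 ^ (m + 1) = 1 := ha ▸ pow_orderOf_eq_one a
  -- elements of `⟨a⟩` squaring to 1
  have hinv2 : ∀ x ∈ C, x * x = 1 → x = 1 ∨ x = a ^ 2 ^ m := by
    intro x hx hx2
    obtain ⟨i, rfl⟩ : ∃ i : ℕ, x = a ^ i := by
      rw [hCa, ← (isOfFinOrder_of_finite a).mem_powers_iff_mem_zpowers] at hx
      obtain ⟨i, hi⟩ := hx
      exact ⟨i, hi.symm⟩
    have hd : 2 ^ (m + 1) ∣ 2 * i := by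
      rw [← ha]
      refine orderOf_dvd_of_pow_eq_one ?_
      rw [two_mul, pow_add, hx2]
    rw [pow_succ'] at hd
    obtain ⟨j, rfl⟩ := Nat.dvd_of_mul_dvd_mul_left two_pos hd
    rcases Nat.even_or_odd' j with ⟨l, rfl | rfl⟩
    · left
      rw [show 2 ^ m * (2 * l) = 2 ^ (m + 1) * l by ring, pow_mul, ha1, one_pow]
    · right
      rw [show 2 ^ m * (2 * l + 1) = 2 ^ (m + 1) * l + 2 ^ m by ring, pow_add, pow_mul, ha1,
        one_pow, one_mul]
  obtain ⟨b, hbA, hbC⟩ : ∃ b ∈ A, b ∉ C := by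
    by_contra hno
    push Not at hno
    have hle : A ≤ zpowers (a ^ 2 ^ m) := fun x hx => by
      rcases hinv2 x (hno x hx) (hA2 x hx) with rfl | rfl
      exacts [one_mem _, mem_zpowers _]
    have h1 := card_le_of_le hle
    rw [hA, Nat.card_zpowers] at h1
    have h2 : orderOf (a ^ 2 ^ m) ≤ 2 := Nat.le_of_dvd two_pos
      (orderOf_dvd_of_pow_eq_one (by rw [← pow_mul, ← pow_succ, ha1]))
    omega
  have hb2 : b * b = 1 := hA2 b hbA
  have hbi : b⁻¹ = b := inv_eq_of_mul_eq_one_right hb2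
  have hbaC : b * a ∉ C := fun h => hbC (by
    have := mul_mem h (inv_mem haC)
    rwa [mul_inv_cancel_right] at this)
  have he := hsq _ hbaC
  have he2 : (b * a) ^ 2 * (b * a) ^ 2 = 1 := by
    have h := pow_card_eq_one' (G := center X) (x := (⟨_, he⟩ : center X))
    rw [hZ, pow_two] at h
    exact congrArg Subtype.val h
  have hcard : Nat.card X = 2 * 2 ^ (m + 1) := by rw [hn]; ring
  have hba : b * a * b⁻¹ = (b * a) ^ 2 * a⁻¹ := by
    rw [hbi, pow_two]; group
  rcases hinv2 _ (hZC he) he2 with e | e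
  · rw [e, one_mul] at hba
    left
    refine ⟨2 ^ (m + 1), Nat.le_self_pow (by omega) 2, ?_⟩
    exact PGroupsCyclic.nonempty_mulEquiv_dihedral ha (fun h => hbC (hCa ▸ h)) hba
      (by rw [pow_two, hb2]) hcard
  · rw [e] at hba
    have hm : 1 ≤ m := by
      by_contra hm0
      obtain rfl : m = 0 := by omega
      refine hnc ?_
      have h4 : Nat.card X = 2 ^ 2 := by rw [hn]
      exact (IsPGroup.isMulCommutative_of_card_eq_prime_sq h4).is_comm.comm
    right
    refine ⟨m + 1, ?_, by rw [hn], a, b, ha, ?_, ?_⟩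
    · by_contra hlt
      obtain rfl : m = 1 := by omega
      exfalso
      -- `b` would centralise `a`
      have hc : b * a * b⁻¹ = a := by
        rw [hba, pow_one, pow_two, mul_inv_cancel_right]
      -- so `a` would be central
      have haZ : a ∈ center X := by
        have htop : C ⊔ zpowers b = ⊤ := (PGroupsBasic.isCoatom_of_index_eq hCi).2 _
          (lt_of_le_of_ne le_sup_left fun h => hbC (h.symm ▸ mem_sup_right (mem_zpowers b)))
        have hle : C ⊔ zpowers b ≤ centralizer ({a} : Set X) :=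
          sup_le (hCa ▸ zpowers_le.mpr (mem_centralizer_singleton_iff.mpr rfl))
            (zpowers_le.mpr (mem_centralizer_singleton_iff.mpr (mul_inv_eq_iff_eq_mul.mp hc)))
        exact mem_center_iff.mpr fun g =>
          mem_centralizer_singleton_iff.mp (hle (htop ▸ mem_top g))
      have h := card_le_of_le (zpowers_le.mpr haZ)
      rw [Nat.card_zpowers, ha, hZ] at h
      omega
    · exact orderOf_eq_prime (by rw [pow_two, hb2]) (fun e => hbC (e ▸ one_mem _))
    · rw [hba, show m + 1 - 1 = m by omega]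
      have h := Nat.one_le_two_pow (n := m)
      rw [mul_inv_eq_iff_eq_mul, ← pow_succ, Nat.sub_add_cancel h]

/-- Transport of semidihedrality. -/
theorem quasi_congr {X Y : Type*} [Group X] [Group Y] (e : X ≃* Y)
    (h : Cfsg.IsQuasiDihedral X) : Cfsg.IsQuasiDihedral Y := by
  obtain ⟨n, hn, hc, x, y, hx, hy, hxy⟩ := h
  refine ⟨n, hn, (Nat.card_congr e.toEquiv).symm.trans hc, e x, e y, ?_, ?_, ?_⟩
  · rw [MulEquiv.orderOf_eq, hx]
  · rw [MulEquiv.orderOf_eq, hy]
  · rw [← map_inv, ← map_mul, ← map_mul, hxy, map_pow]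

/-- A proper subgroup of a 2-group is properly contained in its normalizer there. -/
theorem exists_norm_outside {G : Type*} [Group G] [Finite G] {p : ℕ} [Fact p.Prime]
    {A P : Subgroup G} (hP : IsPGroup p P) (hAP : A ≤ P) (hne : A ≠ P) :
    ∃ y ∈ P, y ∉ A ∧ y ∈ normalizer (A : Set G) := by
  have : Group.IsNilpotent P := hP.isNilpotent
  have hlt : A.subgroupOf P < ⊤ := lt_top_iff_ne_top.mpr fun h =>
    hne (le_antisymm hAP (subgroupOf_eq_top.mp h))
  obtain ⟨y, hy, hyA⟩ :=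
    SetLike.exists_of_lt (Group.normalizerCondition_of_isNilpotent _ hlt)
  refine ⟨y, y.2, fun h => hyA (mem_subgroupOf.mpr h), mem_normalizer_iff.mpr fun x => ?_⟩
  by_cases hx : x ∈ P
  · simpa [mem_subgroupOf] using mem_normalizer_iff.mp hy ⟨x, hx⟩
  · refine iff_of_false (fun h => hx (hAP h)) (fun h => hx ?_)
    have := P.mul_mem (P.mul_mem (P.inv_mem y.2) (hAP h)) y.2
    simpa [mul_assoc] using this

/-- A 2-subgroup of `L` containing a Sylow 2-subgroup of `L` equals it. -/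
theorem eq_of_sylowTwoIn {G : Type*} [Group G] [Finite G] {T P L : Subgroup G}
    (hT : Cfsg.IsSylowTwoIn T L) (hP : IsPGroup 2 P) (hTP : T ≤ P) (hPL : P ≤ L) : P = T := by
  have : Fact (Nat.Prime 2) := ⟨Nat.prime_two⟩
  refine le_antisymm (relIndex_eq_one.mp ?_) hTP
  obtain ⟨k, hk⟩ := IsPGroup.iff_card.mp hP
  have h2 : T.relIndex P ∣ 2 ^ k := hk ▸ relIndex_dvd_card _ _
  have h3 : Odd (T.relIndex P) :=
    hT.2.2.of_dvd_nat ⟨_, (relIndex_mul_relIndex T P L hTP hPL).symm⟩
  obtain ⟨j, -, hj⟩ := (Nat.dvd_prime_pow Nat.prime_two).1 h2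
  rcases j with _ | j
  · simpa using hj
  · exact absurd h3 (Nat.not_odd_iff_even.mpr ⟨2 ^ j, by rw [hj, pow_succ]; ring⟩)

end Cfsg.Agent.ZNShapes82
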