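import Mathlib
import Cfsg.Prelude.Def_JComponents
import Cfsg.Agent.Lib.JCompMaxPair
import Cfsg.Agent.Lib.JCompShape
import Cfsg.Agent.Lib.ZNShapes82
import Cfsg.Agent.Lib.TransferThompson
import Cfsg.Agent.Lib.PGroupsCyclic

/-!
The Sylow 2-subgroup met by `O²` when two maximal 2-local subgroups `S₄` or `S₄ × 2` share a
Sylow 2-subgroup.
-/

set_option autoImplicit false

namespace Cfsg.Agent.ZNPair82

open Subgroup Cfsg JCompBase JCompTV JCompCore JCompLine JCompClass JCompDuo JCompSide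
open JCompAdjacent JCompShape
open scoped commutatorElement

variable {G : Type*} [Group G] [Finite G]

/-- The conclusion at one Sylow 2-subgroup. -/
def Shape (Q : Sylow 2 G) : Prop :=
  (∃ m : ℕ, 2 ≤ m ∧ Nonempty (↥((Q : Subgroup G) ⊓ Cfsg.pResidual 2 G) ≃* DihedralGroup m)) ∨
    Cfsg.IsQuasiDihedral ↥((Q : Subgroup G) ⊓ Cfsg.pResidual 2 G)

theorem comp_le_residual {T K : Subgroup G} (h : Cfsg.IsJComponent T K) :
    K ≤ Cfsg.pResidual 2 G :=
  comp_gen_odd h fun _ _ ho =>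
    TransferPResidual.mem_pResidual_of_coprime (Nat.coprime_two_right.mpr ho)

theorem wOf_le_residual {T K : Subgroup G} (h : Cfsg.IsJComponent T K) :
    Cfsg.wOf K ≤ Cfsg.pResidual 2 G :=
  (wOf_le_core K).trans ((LocalBasics.pCoreOf_le 2 K).trans (comp_le_residual h))

theorem card_Rt {T K K' : Subgroup G} {w k w' k' : G} (n : Near T K K' w k w' k') :
    Nat.card ↥(Rt T K) = 4 * Nat.card ↥(Cz T K) ∧
      Nat.card ↥T = 8 * Nat.card ↥(Cz T K) := by
  have h := HallCore.card_mul_relIndex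
    ((inf_le_left : Rt T K ≤ T).trans (le_sup_right (a := K)))
  rw [show (T ⊓ centralizer (Cfsg.wOf K : Set G)) = Rt T K from rfl, n.p.relIndex_Rt,
    n.card_P] at h
  have h' := HallCore.card_mul_relIndex (inf_le_left : Rt T K ≤ T)
  rw [show (T ⊓ centralizer (Cfsg.wOf K : Set G)) = Rt T K from rfl, n.p.Rt_index] at h'
  omega

/-! ### The case `S₄` -/

theorem shape_small {T K K' : Subgroup G} {w k w' k' : G} (n : Near T K K' w k w' k')
    (h1 : Nat.card ↥(Cz T K) = 1) (Q : Sylow 2 G) (hTQ : T ≤ (Q : Subgroup G))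
    (hgen : Cfsg.pResidual 2 G ⊔ Cfsg.omegaCenterOf (Q : Subgroup G) = ⊤) : Shape Q := by
  obtain ⟨hR, hT⟩ := card_Rt n
  set W := Cfsg.wOf K
  have hW4 : Nat.card ↥W = 4 := n.p.side.r.comp.2.2.2.2.1
  have hWR : W = Rt T K := eq_of_le_of_card_ge n.p.W_le_Rt (by rw [hR, h1, hW4])
  have hCW : ∀ x, (∀ y ∈ W, y * x = x * y) → x ∈ W := fun x hx =>
    hWR.ge (n.p.cent_Rt fun r hr => hx r (hWR.ge hr))
  have hWQ : W ≤ (Q : Subgroup G) := n.p.W_le_Rt.trans (inf_le_left.trans hTQ)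
  have hH : Cfsg.pResidual 2 G = ⊤ := by
    refine top_le_iff.mp (hgen.ge.trans (sup_le le_rfl fun x hx => ?_))
    exact wOf_le_residual n.p.side.r.comp (hCW x fun y hy =>
      ((Offenders.omegaOne_le _).trans inf_le_right) hx y (hWQ hy))
  have e : (Q : Subgroup G) ⊓ Cfsg.pResidual 2 G = (Q : Subgroup G) := by rw [hH, inf_top_eq]
  unfold Shape
  rw [e]
  refine ZNShapes82.dihedral_or_quasi Q.2 ?_ (W.subgroupOf (Q : Subgroup G)) ?_ ?_ ?_
  · have := card_le_of_le hTQ
    rw [hT, h1] at this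
    omega
  · rw [Nat.card_congr (subgroupOfEquivOfLe hWQ).toEquiv, hW4]
  · exact fun a ha => Subtype.ext (n.p.W_sq (mem_subgroupOf.mp ha))
  · ext x
    refine ⟨fun hx => mem_subgroupOf.mpr (hCW x fun y hy => congrArg Subtype.val
      (mem_centralizer_iff.mp hx ⟨y, hWQ hy⟩ (mem_subgroupOf.mpr hy))), fun hx => ?_⟩
    exact mem_centralizer_iff.mpr fun y hy =>
      Subtype.ext (n.p.W_comm (mem_subgroupOf.mp hy) (mem_subgroupOf.mp hx))

/-! ### The case `S₄ × 2` -/

/-- The data when both centres have order 2. -/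
structure Big (T K K' : Subgroup G) (w k k' c c' : G) : Prop where
  n : Near T K K' w k w k'
  cC : c ∈ Cz T K
  c1 : c ≠ 1
  two : Nat.card ↥(Cz T K) = 2
  cC' : c' ∈ Cz T K'
  c1' : c' ≠ 1
  two' : Nat.card ↥(Cz T K') = 2

variable {T K K' : Subgroup G} {w k k' c c' : G}

theorem eq_or_of_card_two {A : Subgroup G} (h : Nat.card ↥A = 2) {a x : G} (ha : a ∈ A)
    (ha1 : a ≠ 1) (hx : x ∈ A) : x = 1 ∨ x = a := by
  have hsq : a * a = 1 := by
    have hp := pow_card_eq_one' (G := ↥A) (x := (⟨a, ha⟩ : ↥A))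
    rw [h, pow_two] at hp
    exact congrArg Subtype.val hp
  have e : zpowers a = A := eq_of_le_of_card_ge (zpowers_le.mpr ha)
    (by rw [h, Nat.card_zpowers, orderOf_eq_prime (by rwa [pow_two]) ha1])
  rw [← e, mem_zpowers_iff] at hx
  obtain ⟨i, rfl⟩ := hx
  obtain ⟨j, rfl | rfl⟩ := Int.even_or_odd' i
  · left; rw [zpow_mul, zpow_two, hsq, one_zpow]
  · right; rw [zpow_add, zpow_mul, zpow_two, hsq, one_zpow, one_mul, zpow_one]

namespace Big

variable (b : Big T K K' w k k' c c')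
include b

theorem symm : Big T K' K w k' k c' c :=
  ⟨b.n.symm, b.cC', b.c1', b.two', b.cC, b.c1, b.two⟩

theorem c_T : c ∈ T := Z0_le_T T b.cC.1

theorem c_sq : c * c = 1 := Z0_sq b.cC.1

theorem w_T : w ∈ T := Z0_le_T T b.n.p.wZ

theorem w_sq : w * w = 1 := Z0_sq b.n.p.wZ

theorem T_c {t : G} (ht : t ∈ T) : t * c = c * t := b.n.p.T_Z0 ht b.cC.1

theorem card_T : Nat.card ↥T = 16 := by rw [(card_Rt b.n).2, b.two]

theorem card_R : Nat.card ↥(Rt T K) = 8 := by rw [(card_Rt b.n).1, b.two]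

theorem c'_eq : c' = c * w := by
  rcases b.n.p.wdec c' b.cC'.1 with h | h
  · rcases eq_or_of_card_two b.two b.cC b.c1 h with e | e
    · exact absurd e b.c1'
    · exfalso
      subst e
      have hle : zpowers c' ≤ Cfsg.pCoreOf 2 ((K ⊔ T) ⊔ (K' ⊔ T)) := by
        refine LocalBasics.le_pCoreOf (zpowers_le.mpr (mem_sup_left (mem_sup_right b.c_T))) ?_
          (b.n.p.side.r.tp.to_le (zpowers_le.mpr b.c_T))
        refine le_trans (fun x hx => ?_) (LocalBasics.centralizer_le_normalizer _)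
        have hle : (K ⊔ T) ⊔ (K' ⊔ T) ≤ centralizer ({c'} : Set G) := by
          refine sup_le (sup_le ?_ ?_) (sup_le ?_ ?_) <;>
            intro y hy <;> refine mem_centralizer_singleton_iff.mpr ?_
          exacts [b.cC.2 y hy, b.T_c hy, b.cC'.2 y hy, b.T_c hy]
        refine mem_centralizer_iff.mpr fun y hy => ?_
        obtain ⟨i, rfl⟩ := mem_zpowers_iff.mp hy
        exact ((show Commute c' x from (mem_centralizer_singleton_iff.mp (hle hx)).symm).zpow_left i).eq
      rw [core_join b.n.duo, le_bot_iff, zpowers_eq_bot] at hle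
      exact b.c1 hle
  · rcases eq_or_of_card_two b.two b.cC b.c1 h with e | e
    · exfalso
      have hc : c' = w := by
        rw [← mul_one c', ← b.w_sq, ← mul_assoc, e, one_mul]
      exact b.n.p'.wC (hc ▸ b.cC')
    · rw [← e, mul_assoc, b.w_sq, mul_one]

theorem c_ne_w : c ≠ w := fun h => b.n.p.wC (h ▸ b.cC)

theorem c'_ne_c : c' ≠ c := by
  rw [b.c'_eq]
  exact fun h => b.n.p.w1 (mul_eq_left.mp h)

theorem Z0_cases {x : G} (hx : x ∈ Z0 T) : x = 1 ∨ x = w ∨ x = c ∨ x = c * w := by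
  rcases b.n.p.wdec x hx with h | h <;> rcases eq_or_of_card_two b.two b.cC b.c1 h with e | e
  · exact Or.inl e
  · exact Or.inr (Or.inr (Or.inl e))
  · right; left
    rw [← mul_one x, ← b.w_sq, ← mul_assoc, e, one_mul]
  · right; right; right
    rw [← e, mul_assoc, b.w_sq, mul_one]

/-- A 2-local containing `L` equals it. -/
theorem norm_le {A : Subgroup G} (hA : IsPGroup 2 A) (hA1 : A ≠ ⊥)
    (hle : K ⊔ T ≤ normalizer (A : Set G)) : normalizer (A : Set G) = K ⊔ T := by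
  rw [← b.n.L_eq] at hle ⊢
  exact b.n.p.side.r.isMax_star.2 _ ⟨A, hA, hA1, rfl⟩ hle

theorem cent_c : centralizer ({c} : Set G) = K ⊔ T := by
  have h1 : K ⊔ T ≤ centralizer ({c} : Set G) := by
    refine sup_le ?_ ?_ <;> intro y hy <;> refine mem_centralizer_singleton_iff.mpr ?_
    exacts [b.cC.2 y hy, b.T_c hy]
  have h2 : centralizer ({c} : Set G) ≤ normalizer (zpowers c : Set G) := by
    refine le_trans (fun x hx => ?_) (LocalBasics.centralizer_le_normalizer _)
    refine mem_centralizer_iff.mpr fun y hy => ?_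
    obtain ⟨i, rfl⟩ := mem_zpowers_iff.mp hy
    exact ((show Commute c x from (mem_centralizer_singleton_iff.mp hx).symm).zpow_left i).eq
  exact le_antisymm (h2.trans (b.norm_le (b.n.p.side.r.tp.to_le (zpowers_le.mpr b.c_T))
    (fun e => b.c1 (zpowers_eq_bot.mp e)) (h1.trans h2)).le) h1

theorem norm_R : normalizer (Rt T K : Set G) = K ⊔ T :=
  b.norm_le (b.n.p.side.r.tp.to_le inf_le_left)
    (fun e => by have := b.card_R; rw [e, card_bot] at this; omega) b.n.p.P_norm_Rt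

theorem card_cent_c : Nat.card ↥(centralizer ({c} : Set G)) = 48 := by
  rw [b.cent_c, b.n.card_P, b.two]

theorem v_T : k' * w * k'⁻¹ ∈ T := b.n.u'_T

theorem sq_cases {t : G} (ht : t ∈ T) : t * t = 1 ∨ t * t = w := by
  rcases b.n.split ht with h | ⟨r, hr, rfl⟩
  · exact Or.inl (b.n.exponent h)
  set v := k' * w * k'⁻¹ with hv
  have hvW : v ∈ Cfsg.wOf K' := b.n.p'.k_W b.n.p'.wW
  have hvv : v * v = 1 := b.n.p'.W_sq hvW
  have e : r * v * (r * v) = (r * v * r⁻¹) * v := by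
    rw [inv_eq_of_mul_eq_one_right (b.n.exponent hr)]; group
  rcases b.n.p'.T_move hr.1 hvW with h | h <;> rw [e, h]
  · exact Or.inl hvv
  · right
    rw [mul_assoc, (show w * v = v * w from (b.n.p.T_Z0 b.v_T b.n.p.wZ).symm), ← mul_assoc, hvv,
      one_mul]

theorem a_sq : k * w * k⁻¹ * (k' * w * k'⁻¹) * (k * w * k⁻¹ * (k' * w * k'⁻¹)) = w := by
  set u := k * w * k⁻¹ with hu
  set v := k' * w * k'⁻¹ with hv
  have e : v * u * v⁻¹ = w * u :=
    ((b.n.p.T_u b.n.u'_T).resolve_left fun q => b.n.u'_not q.2).1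
  have huW : u ∈ Cfsg.wOf K := b.n.p.k_W b.n.p.wW
  rw [b.n.p'.W_inv (b.n.p'.k_W b.n.p'.wW)] at e
  calc u * v * (u * v) = u * (v * u * v) := by group
    _ = w := by
      rw [e, ← mul_assoc, b.n.p.W_comm huW b.n.p.wW, mul_assoc, b.n.p.W_sq huW, mul_one]

theorem norm_w {g : G} (hg : g ∈ normalizer (T : Set G)) : g * w * g⁻¹ = w := by
  set a := k * w * k⁻¹ * (k' * w * k'⁻¹)
  have haT : a ∈ T := mul_mem (b.n.p.W_le_Rt (b.n.p.k_W b.n.p.wW)).1 b.v_T
  have e : g * w * g⁻¹ = (g * a * g⁻¹) * (g * a * g⁻¹) := by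
    rw [show g * a * g⁻¹ * (g * a * g⁻¹) = g * (a * a) * g⁻¹ by group, b.a_sq]
  rcases b.sq_cases ((mem_normalizer_iff.mp hg a).mp haT) with h | h
  · rw [h] at e
    exact absurd (conj_eq_one_iff.mp e) b.n.p.w1
  · exact e.trans h

theorem norm_c {g : G} (hg : g ∈ normalizer (T : Set G)) :
    g * c * g⁻¹ = c ∨ g * c * g⁻¹ = c * w := by
  have hgT := (mem_normalizer_iff.mp hg c).mp b.c_T
  have hsq : g * c * g⁻¹ * (g * c * g⁻¹) = 1 := by
    rw [show g * c * g⁻¹ * (g * c * g⁻¹) = g * (c * c) * g⁻¹ by group, b.c_sq]; group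
  have hZ : g * c * g⁻¹ ∈ Z0 T := by
    refine mem_Z0 hgT hsq fun j hj => ?_
    have hj' : g⁻¹ * j * g ∈ T := by
      have := (mem_normalizer_iff.mp (inv_mem hg) j).mp (Offenders.thompsonOf_le T hj)
      simpa using this
    calc j * (g * c * g⁻¹) = g * ((g⁻¹ * j * g) * c) * g⁻¹ := by group
      _ = g * (c * (g⁻¹ * j * g)) * g⁻¹ := by rw [b.T_c hj']
      _ = _ := by group
  rcases b.Z0_cases hZ with h | h | h | h
  · exact absurd (conj_eq_one_iff.mp h) b.c1
  · refine absurd ?_ b.c_ne_w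
    calc c = g⁻¹ * (g * c * g⁻¹) * g := by group
      _ = g⁻¹ * (g * w * g⁻¹) * g := by rw [h, b.norm_w hg]
      _ = w := by group
  · exact Or.inl h
  · exact Or.inr h

variable {Q : Sylow 2 G} (hTQ : T ≤ (Q : Subgroup G))
include hTQ

theorem mem_T {x : G} (hxQ : x ∈ (Q : Subgroup G)) (hxL : x ∈ K ⊔ T) : x ∈ T := by
  have e := ZNShapes82.eq_of_sylowTwoIn b.n.p.sylow_P
    (Q.2.to_le (inf_le_left : (Q : Subgroup G) ⊓ (K ⊔ T) ≤ _)) (le_inf hTQ le_sup_right)
    inf_le_right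
  exact e.le ⟨hxQ, hxL⟩

theorem swap {x : G} (hxQ : x ∈ (Q : Subgroup G)) (hxN : x ∈ normalizer (T : Set G))
    (hxT : x ∉ T) : x * c * x⁻¹ = c * w := by
  refine (b.norm_c hxN).resolve_left fun h => hxT (b.mem_T hTQ hxQ ?_)
  rw [← b.cent_c]
  exact mem_centralizer_singleton_iff.mpr (mul_inv_eq_iff_eq_mul.mp h)

theorem mul_mem_T {x y : G} (hxQ : x ∈ (Q : Subgroup G)) (hxN : x ∈ normalizer (T : Set G))
    (hxT : x ∉ T) (hyQ : y ∈ (Q : Subgroup G)) (hyN : y ∈ normalizer (T : Set G))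
    (hyT : y ∉ T) : x * y ∈ T := by
  refine b.mem_T hTQ (mul_mem hxQ hyQ) ?_
  rw [← b.cent_c]
  refine mem_centralizer_singleton_iff.mpr (mul_inv_eq_iff_eq_mul.mp ?_)
  calc x * y * c * (x * y)⁻¹ = x * (y * c * y⁻¹) * x⁻¹ := by group
    _ = (x * c * x⁻¹) * (x * w * x⁻¹) := by rw [b.swap hTQ hyQ hyN hyT]; group
    _ = c := by rw [b.swap hTQ hxQ hxN hxT, b.norm_w hxN, mul_assoc, b.w_sq, mul_one]

theorem fixed_one_side {x t : G} (hxQ : x ∈ (Q : Subgroup G))
    (hxN : x ∈ normalizer (T : Set G)) (hxT : x ∉ T) (htR : t ∈ Rt T K)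
    (hxt : x * t = t * x) : t ∈ Z0 T := by
  by_contra htZ
  refine hxT (b.mem_T hTQ hxQ (b.norm_R.le ?_))
  have hC : T ⊓ centralizer ({t} : Set G) = Rt T K := by
    refine le_antisymm (fun y hy => ?_)
      (fun r hr => ⟨hr.1, mem_centralizer_singleton_iff.mpr (b.n.comm hr htR)⟩)
    by_contra hyR
    exact htZ (b.n.p.fixed_E0 hy.1 hyR (b.n.Rt_eq.le htR) (mem_centralizer_singleton_iff.mp hy.2))
  rw [← hC]
  refine mem_normalizer_iff.mpr fun y => ?_
  have hc : ∀ z : G, x * z * x⁻¹ * t = t * (x * z * x⁻¹) ↔ z * t = t * z := fun z => by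
    have e1 : x⁻¹ * t = t * x⁻¹ := ((show Commute x t from hxt).inv_left).eq
    rw [show x * z * x⁻¹ * t = x * (z * (x⁻¹ * t)) by group, e1,
      show t * (x * z * x⁻¹) = (t * x) * z * x⁻¹ by group, ← hxt,
      show x * (z * (t * x⁻¹)) = x * ((z * t) * x⁻¹) by group,
      show x * t * z * x⁻¹ = x * ((t * z) * x⁻¹) by group, mul_right_inj, mul_left_inj]
  simp only [mem_inf, mem_centralizer_singleton_iff, hc, mem_normalizer_iff.mp hxN y]

theorem fixed {x t : G} (hxQ : x ∈ (Q : Subgroup G)) (hxN : x ∈ normalizer (T : Set G))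
    (hxT : x ∉ T) (htT : t ∈ T) (ht : t * t = 1) (hxt : x * t = t * x) : t = 1 ∨ t = w := by
  have htZ : t ∈ Z0 T := by
    rcases b.n.mem_R_or htT ht with h | h
    · exact b.fixed_one_side hTQ hxQ hxN hxT h hxt
    · exact b.symm.fixed_one_side hTQ hxQ hxN hxT h hxt
  rcases b.Z0_cases htZ with h | h | h | h
  · exact Or.inl h
  · exact Or.inr h
  · exfalso
    have e := b.swap hTQ hxQ hxN hxT
    rw [← h, mul_inv_eq_iff_eq_mul.mpr hxt] at e
    exact b.n.p.w1 (mul_eq_left.mp e.symm)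
  · exfalso
    have e : x * c * x⁻¹ = c := by
      calc x * c * x⁻¹ = (x * (c * w) * x⁻¹) * (x * w * x⁻¹)⁻¹ := by group
        _ = c := by
          rw [← h, mul_inv_eq_iff_eq_mul.mpr hxt, b.norm_w hxN, h, mul_inv_cancel_right]
    rw [b.swap hTQ hxQ hxN hxT] at e
    exact b.n.p.w1 (mul_eq_left.mp e)

/-- Elementary abelian subgroups of order at least 8 normalising `T` lie in `T`. -/
theorem ea_le {E : Subgroup G} (hEQ : E ≤ (Q : Subgroup G))
    (hEN : E ≤ normalizer (T : Set G)) (hsq : ∀ a ∈ E, a * a = 1)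
    (hcomm : ∀ a ∈ E, ∀ a' ∈ E, a * a' = a' * a) (h8 : 8 ≤ Nat.card ↥E) : E ≤ T := by
  by_contra hne
  obtain ⟨a, haE, haT⟩ := SetLike.not_le_iff_exists.mp hne
  have hw : ∀ y ∈ E ⊓ T, y ∈ zpowers w := fun y hy => by
    rcases b.fixed hTQ (hEQ haE) (hEN haE) haT hy.2 (hsq y hy.1) (hcomm a haE y hy.1)
      with rfl | rfl
    exacts [one_mem _, mem_zpowers _]
  have hcard : Nat.card ↥(E ⊓ T) ≤ 2 := by
    refine (card_le_of_le hw).trans ?_
    rw [Nat.card_zpowers]
    exact Nat.le_of_dvd two_pos (orderOf_dvd_of_pow_eq_one (by rw [pow_two, b.w_sq]))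
  have hidx : (E ⊓ T).relIndex E = 2 := by
    refine index_eq_two_iff.mpr ⟨⟨a, haE⟩, fun y => ?_⟩
    simp only [mem_subgroupOf, coe_mul, mem_inf, SetLike.coe_mem, true_and,
      mul_mem haE y.2, mul_mem y.2 haE]
    by_cases hy : (y : G) ∈ T
    · refine Or.inr ⟨hy, fun h => haT ?_⟩
      have := mul_mem (inv_mem hy) h
      rwa [inv_mul_cancel_left] at this
    · exact Or.inl ⟨b.mul_mem_T hTQ (hEQ y.2) (hEN y.2) hy (hEQ haE) (hEN haE) haT, hy⟩
  have h := HallCore.card_mul_relIndex (inf_le_left : E ⊓ T ≤ E)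
  rw [hidx] at h
  omega

theorem norm_T : (Q : Subgroup G) ≤ normalizer (T : Set G) := by
  have : Fact (Nat.Prime 2) := ⟨Nat.prime_two⟩
  set T1 := (Q : Subgroup G) ⊓ normalizer (T : Set G) with hT1
  suffices h : T1 = (Q : Subgroup G) from h.ge.trans inf_le_right
  by_contra hne
  obtain ⟨y, hyQ, hy1, hyN⟩ := ZNShapes82.exists_norm_outside Q.2 inf_le_left hne
  refine hy1 ⟨hyQ, ?_⟩
  -- the images of the two largest elementary abelian subgroups lie in `T`
  have key : ∀ {A : Subgroup G}, A ≤ T → (∀ a ∈ A, a * a = 1) →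
      (∀ a ∈ A, ∀ a' ∈ A, a * a' = a' * a) → 8 ≤ Nat.card ↥A →
      A.map (MulAut.conj y).toMonoidHom ≤ T := by
    intro A hA hsq hcomm h8
    have hmem : A.map (MulAut.conj y).toMonoidHom ≤ T1 := by
      rintro _ ⟨a, ha, rfl⟩
      exact (mem_normalizer_iff.mp hyN a).mp ⟨hTQ (hA ha), le_normalizer (hA ha)⟩
    refine b.ea_le hTQ (hmem.trans inf_le_left) (hmem.trans inf_le_right) ?_ ?_
      (h8.trans (card_map_of_injective (MulAut.conj y).injective).ge)
    · rintro _ ⟨a, ha, rfl⟩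
      rw [← map_mul, hsq a ha, map_one]
    · rintro _ ⟨a, ha, rfl⟩ _ ⟨a', ha', rfl⟩
      rw [← map_mul, hcomm a ha a' ha', map_mul]
  have hle : T.map (MulAut.conj y).toMonoidHom ≤ T := by
    rintro _ ⟨t, ht, rfl⟩
    rcases b.n.split ht with h | ⟨r, hr, rfl⟩
    · exact key inf_le_left (fun a => b.n.exponent) (fun a ha a' => b.n.comm ha)
        b.card_R.ge ⟨t, h, rfl⟩
    · rw [map_mul]
      exact mul_mem (key inf_le_left (fun a => b.n.exponent) (fun a ha a' => b.n.comm ha)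
          b.card_R.ge ⟨r, hr, rfl⟩)
        (key inf_le_left (fun a => b.symm.n.exponent) (fun a ha a' => b.symm.n.comm ha)
          b.symm.card_R.ge ⟨_, b.n.p'.W_le_Rt (b.n.p'.k_W b.n.p'.wW), rfl⟩)
  exact mem_normalizer_of_map_eq (eq_of_le_of_card_ge hle
    (card_map_of_injective (MulAut.conj y).injective).ge)

omit hTQ

/-- The subgroup generated by the two four-groups. -/
theorem exists_dihedral : ∃ D : Subgroup G, D ≤ T ∧ D ≤ Cfsg.pResidual 2 G ∧
    Nat.card ↥D = 8 ∧ c ∉ D ∧ Nonempty (↥D ≃* DihedralGroup 4) ∧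
    Cfsg.wOf K ≤ D ∧ Cfsg.wOf K' ≤ D ∧
    D = zpowers (k * w * k⁻¹ * (k' * w * k'⁻¹)) ⊔ zpowers (k * w * k⁻¹) ∧
    ∀ x ∈ D, x * x = 1 ∨ x = k * w * k⁻¹ * (k' * w * k'⁻¹) ∨
      x = (k * w * k⁻¹ * (k' * w * k'⁻¹))⁻¹ := by
  set u := k * w * k⁻¹ with hu
  set v := k' * w * k'⁻¹ with hv
  have huW : u ∈ Cfsg.wOf K := b.n.p.k_W b.n.p.wW
  have hvW : v ∈ Cfsg.wOf K' := b.n.p'.k_W b.n.p'.wW
  have hu2 : u * u = 1 := b.n.p.W_sq huW
  have hv2 : v * v = 1 := b.n.p'.W_sq hvW
  have hui : u⁻¹ = u := inv_eq_of_mul_eq_one_right hu2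
  have hvi : v⁻¹ = v := inv_eq_of_mul_eq_one_right hv2
  set a := u * v with ha
  have haa : a * a = w := b.a_sq
  have hu1 : u ≠ 1 := b.n.p.u_one
  have huw : u ≠ w := b.n.p.u_ne
  have hord : orderOf a = 4 := by
    refine orderOf_eq_prime_pow (p := 2) (n := 1) (fun h => b.n.p.w1 ?_) ?_
    · rwa [pow_one, pow_two, haa] at h
    · rw [show 2 ^ (1 + 1) = 2 * 2 from rfl, pow_mul, pow_two, pow_two, haa, b.w_sq]
  have huau : u * a * u⁻¹ = a⁻¹ := by
    calc u * a * u⁻¹ = u * a * u := congrArg (u * a * ·) hui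
      _ = v * u := congrArg (· * u) ((mul_assoc u u v).symm.trans
          ((congrArg (· * v) hu2).trans (one_mul v)))
      _ = v⁻¹ * u⁻¹ := (congrArg₂ (· * ·) hvi hui).symm
      _ = a⁻¹ := (mul_inv_rev u v).symm
  have hun : zpowers u ≤ normalizer (zpowers a : Set G) := by
    rw [zpowers_le]
    refine mem_normalizer_of_map_eq ?_
    rw [MonoidHom.map_zpowers, MulEquiv.coe_toMonoidHom, MulAut.conj_apply, huau, zpowers_inv]
  set D := zpowers a ⊔ zpowers u with hD
  have hdec : ∀ x ∈ D, ∃ i : ℤ, x = a ^ i ∨ x = a ^ i * u := by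
    intro x hx
    rw [← SetLike.mem_coe, hD, coe_mul_of_right_le_normalizer_left _ _ hun] at hx
    obtain ⟨_, ⟨i, rfl⟩, _, ⟨j, rfl⟩, rfl⟩ := hx
    refine ⟨i, ?_⟩
    obtain ⟨l, rfl | rfl⟩ := Int.even_or_odd' j
    · left; simp only; rw [zpow_mul, zpow_two, hu2, one_zpow, mul_one]
    · right; simp only; rw [zpow_add, zpow_mul, zpow_two, hu2, one_zpow, one_mul, zpow_one]
  have huT : u ∈ T := (b.n.p.W_le_Rt huW).1
  have haT : a ∈ T := mul_mem huT b.v_T
  have hDT : D ≤ T := sup_le (zpowers_le.mpr haT) (zpowers_le.mpr huT)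
  have hDH : D ≤ Cfsg.pResidual 2 G := by
    have h1 := wOf_le_residual b.n.p.side.r.comp huW
    exact sup_le (zpowers_le.mpr (mul_mem h1 (wOf_le_residual b.n.p'.side.r.comp hvW)))
      (zpowers_le.mpr h1)
  have hua : u ∉ zpowers a := by
    intro h
    have hc : u * a * u⁻¹ = a := by
      obtain ⟨i, hi⟩ := mem_zpowers_iff.mp h
      rw [← hi]; group
    rw [huau] at hc
    have := mul_inv_cancel a
    rw [hc, haa] at this
    exact b.n.p.w1 this
  have hinf : zpowers a ⊓ zpowers u = ⊥ := by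
    refine (eq_bot_iff_forall _).mpr fun x hx => ?_
    obtain ⟨j, rfl⟩ := mem_zpowers_iff.mp hx.2
    obtain ⟨l, rfl | rfl⟩ := Int.even_or_odd' j
    · rw [zpow_mul, zpow_two, hu2, one_zpow]
    · refine absurd ?_ hua
      have h := hx.1
      rwa [zpow_add, zpow_mul, zpow_two, hu2, one_zpow, one_mul, zpow_one] at h
  have hcard : Nat.card ↥D = 8 := by
    have h := OffendersReplace.card_sup_mul_card_inf (zpowers u) (zpowers a) hun
    rw [inf_comm, hinf, card_bot, mul_one, sup_comm, Nat.card_zpowers, Nat.card_zpowers, hord,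
      orderOf_eq_prime (by rw [pow_two, hu2]) hu1] at h
    exact h
  have hw : w ∈ D := haa ▸ mul_mem (mem_sup_left (mem_zpowers a)) (mem_sup_left (mem_zpowers a))
  have huD : u ∈ D := mem_sup_right (mem_zpowers u)
  have hWD : Cfsg.wOf K ≤ D := fun x hx => by
    rcases b.n.p.W_cases hx with rfl | rfl | rfl | rfl
    exacts [one_mem _, hw, huD, mul_mem hw huD]
  have hvD : v ∈ D := by
    have : v = u * a := by rw [ha, ← mul_assoc, hu2, one_mul]
    exact this ▸ mul_mem huD (mem_sup_left (mem_zpowers a))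
  have hWD' : Cfsg.wOf K' ≤ D := fun x hx => by
    rcases b.n.p'.W_cases hx with rfl | rfl | rfl | rfl
    exacts [one_mem _, hw, hvD, mul_mem hw hvD]
  have hc : c ∉ D := by
    intro h
    have hR : Rt T K ≤ D := fun r hr => by
      obtain ⟨x, hx, z, hz, rfl⟩ := b.n.p.E0_mem (b.n.Rt_eq.le hr)
      refine mul_mem (hWD hx) ?_
      rcases eq_or_of_card_two b.two b.cC b.c1 hz with rfl | rfl
      exacts [one_mem _, h]
    have hTD : T ≤ D := fun t ht => by
      rcases b.n.split ht with h' | ⟨r, hr, rfl⟩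
      exacts [hR h', mul_mem (hR hr) hvD]
    have := card_le_of_le hTD
    rw [hcard, b.card_T] at this
    omega
  refine ⟨D, hDT, hDH, hcard, hc, ?_, hWD, hWD', rfl, fun x hx => ?_⟩
  · refine PGroupsCyclic.nonempty_mulEquiv_dihedral (x := (⟨a, mem_sup_left (mem_zpowers a)⟩ : ↥D))
      (y := ⟨u, huD⟩) (by rw [orderOf_mk, hord]) ?_ (Subtype.ext huau)
      (Subtype.ext (by rw [pow_two]; exact hu2)) (by rw [hcard])
    intro h
    obtain ⟨i, hi⟩ := mem_zpowers_iff.mp h
    exact hua (mem_zpowers_iff.mpr ⟨i, congrArg Subtype.val hi⟩)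
  · obtain ⟨i, rfl | rfl⟩ := hdec x hx
    · have hmod : a ^ i = a ^ (i % 4) := by
        have := zpow_mod_orderOf a i
        rw [hord] at this
        exact_mod_cast this.symm
      rcases (show i % 4 = 0 ∨ i % 4 = 1 ∨ i % 4 = 2 ∨ i % 4 = 3 by omega) with h | h | h | h <;>
        rw [hmod, h]
      · left; simp
      · right; left; simp
      · left; rw [zpow_two, haa, b.w_sq]
      · right; right
        refine eq_inv_of_mul_eq_one_left ?_
        rw [← zpow_add_one, show (3 : ℤ) + 1 = ((4 : ℕ) : ℤ) from rfl, zpow_natCast, ← hord,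
          pow_orderOf_eq_one]
    · left
      have e : u * a ^ i * u⁻¹ = (a ^ i)⁻¹ := by rw [← conj_zpow, huau, inv_zpow]
      rw [hui] at e
      calc a ^ i * u * (a ^ i * u) = a ^ i * (u * a ^ i * u) := by group
        _ = 1 := by rw [e, mul_inv_cancel]

/-- An involution of `T` is conjugate to `w`, `c` or `c'`. -/
theorem conj_class {x : G} (hx : x ∈ Rt T K) :
    x = 1 ∨ (x ∈ Cfsg.wOf K ∧ IsConj x w) ∨ IsConj x c ∨ IsConj x c' := by
  have hW : ∀ y ∈ Cfsg.wOf K, y ≠ 1 → ∃ g ∈ K, y = g * w * g⁻¹ := by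
    intro y hy hy1
    rcases b.n.p.W_cases hy with rfl | rfl | rfl | rfl
    · exact absurd rfl hy1
    · exact ⟨1, one_mem _, by group⟩
    · exact ⟨k, b.n.p.kK, rfl⟩
    · exact ⟨k * k, mul_mem b.n.p.kK b.n.p.kK, by rw [← b.n.p.u_sq]; group⟩
  obtain ⟨y, hy, z, hz, rfl⟩ := b.n.p.E0_mem (b.n.Rt_eq.le hx)
  rcases eq_or_of_card_two b.two b.cC b.c1 hz with rfl | rfl <;> rcases eq_or_ne y 1 with rfl | hy1
  · left; rw [mul_one]
  · obtain ⟨g, -, rfl⟩ := hW y hy hy1
    exact Or.inr (Or.inl ⟨by rwa [mul_one], (isConj_iff.mpr ⟨g, by group⟩).symm⟩)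
  · right; right; left; rw [one_mul]
  · obtain ⟨g, hg, rfl⟩ := hW y hy hy1
    right; right; right
    refine (isConj_iff.mpr ⟨g, ?_⟩).symm
    rw [b.c'_eq, show z * w = w * z from Z0_comm' b.cC.1 b.n.p.wZ,
      show g * (w * z) * g⁻¹ = g * w * g⁻¹ * (g * z * g⁻¹) by group,
      mul_inv_eq_iff_eq_mul.mpr (b.cC.2 g hg)]

theorem not_conj_w_of_eq (hQ : (Q : Subgroup G) = T) : ¬ IsConj c w := by
  have : Fact (Nat.Prime 2) := ⟨Nat.prime_two⟩
  intro hc
  obtain ⟨g, hg⟩ := isConj_iff.mp hc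
  have hcen : ∀ z ∈ Z0 T, z ∈ centralizer ((Q : Subgroup G) : Set G) := fun z hz =>
    mem_centralizer_iff.mpr fun t ht => b.n.p.T_Z0 (hQ.le ht) hz
  obtain ⟨m, hm, e⟩ := Q.conj_eq_normalizer_conj_of_mem_centralizer c g⁻¹ (hcen c b.cC.1)
    (by rw [inv_inv, hg]; exact hcen w b.n.p.wZ)
  rw [inv_inv, hg] at e
  have hm' : m ∈ normalizer (T : Set G) := hQ ▸ hm
  refine b.c_ne_w ?_
  calc c = m * (m⁻¹ * c * m) * m⁻¹ := by group
    _ = w := by rw [← e, b.norm_w hm']

theorem c_not_mem_eq (hQ : (Q : Subgroup G) = T) : c ∉ Cfsg.pResidual 2 G := by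
  have : Fact (Nat.Prime 2) := ⟨Nat.prime_two⟩
  obtain ⟨D, hDT, hDH, hD8, hcD, hDd, hWD, hWD', -, -⟩ := b.exists_dihedral
  have hnw := b.not_conj_w_of_eq hQ
  have hnw' := b.symm.not_conj_w_of_eq hQ
  have hDrel : D.relIndex T = 2 := by
    have h := HallCore.card_mul_relIndex hDT
    rw [hD8, b.card_T] at h
    omega
  have hcc : ¬ ∃ g : G, g * c * g⁻¹ ∈ D := by
    rintro ⟨g, hg⟩
    have hconj : IsConj c (g * c * g⁻¹) := isConj_iff.mpr ⟨g, rfl⟩
    have hsq : g * c * g⁻¹ * (g * c * g⁻¹) = 1 := by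
      rw [show g * c * g⁻¹ * (g * c * g⁻¹) = g * (c * c) * g⁻¹ by group, b.c_sq]; group
    generalize g * c * g⁻¹ = y at hg hconj hsq
    have hy1 : y ≠ 1 := fun h => b.c1 (isConj_one_left.mp (h ▸ hconj))
    rcases b.n.mem_R_or (hDT hg) hsq with h | h
    · obtain ⟨x, hx, z, hz, rfl⟩ := b.n.p.E0_mem (b.n.Rt_eq.le h)
      rcases eq_or_of_card_two b.two b.cC b.c1 hz with rfl | rfl
      · rcases b.conj_class h with e | ⟨-, e⟩ | -
        · exact hy1 e
        · exact hnw (hconj.trans e)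
        · rw [mul_one] at hconj hy1
          rcases b.n.p.W_cases hx with rfl | rfl | rfl | rfl
          · exact hy1 rfl
          · exact hnw hconj
          · exact hnw (hconj.trans (isConj_iff.mpr ⟨k, rfl⟩).symm)
          · exact hnw (hconj.trans (isConj_iff.mpr ⟨k * k, by rw [← b.n.p.u_sq]; group⟩).symm)
      · exact hcD (by
          have := mul_mem (inv_mem (hWD hx)) hg
          rwa [inv_mul_cancel_left] at this)
    · obtain ⟨x, hx, z, hz, rfl⟩ := b.n.p'.E0_mem (b.n.symm.Rt_eq.le h)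
      rcases eq_or_of_card_two b.two' b.cC' b.c1' hz with rfl | rfl
      · rw [mul_one] at hconj hy1
        rcases b.n.p'.W_cases hx with rfl | rfl | rfl | rfl
        · exact hy1 rfl
        · exact hnw hconj
        · exact hnw (hconj.trans (isConj_iff.mpr ⟨k', rfl⟩).symm)
        · exact hnw (hconj.trans (isConj_iff.mpr ⟨k' * k', by rw [← b.n.p'.u_sq]; group⟩).symm)
      · refine hcD ?_
        have h1 := mul_mem (inv_mem (hWD' hx)) hg
        rw [inv_mul_cancel_left] at h1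
        have h2 := mul_mem h1 (hWD b.n.p.wW)
        rwa [b.c'_eq, mul_assoc, b.w_sq, mul_one] at h2
  obtain ⟨M, hM, hMi, hcM⟩ := TransferThompson.thompson_transfer Q D (hQ.ge.trans' hDT)
    (by rw [hQ, hDrel]) (orderOf_eq_prime (by rw [pow_two, b.c_sq]) b.c1) (hQ.ge b.c_T)
    (fun g h => hcc ⟨g, h⟩)
  have hHM : Cfsg.pResidual 2 G ≤ M :=
    TransferPResidual.pResidual_le_of_index (k := 1) (by rw [hMi, pow_one])
  exact fun h => hcM (hHM h)

theorem shape_eq (hQ : (Q : Subgroup G) = T) : Shape Q := by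
  obtain ⟨D, hDT, hDH, hD8, hcD, hDd, -, -, -, -⟩ := b.exists_dihedral
  have hcH := b.c_not_mem_eq hQ
  have hEq : (Q : Subgroup G) ⊓ Cfsg.pResidual 2 G = D := by
    rw [hQ]
    refine (eq_of_le_of_card_ge (le_inf hDT hDH) ?_).symm
    by_contra hlt
    set X := T ⊓ Cfsg.pResidual 2 G
    have h1 := HallCore.card_mul_relIndex (show D ≤ X from le_inf hDT hDH)
    have h2 := HallCore.card_mul_relIndex (show X ≤ T from inf_le_left)
    rw [b.card_T, ← h1, hD8] at h2
    rw [← h1, hD8] at hlt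
    have hX : X.relIndex T = 1 := by
      rcases Nat.lt_or_ge (X.relIndex T) 2 with h3 | h3
      · have : X.relIndex T ≠ 0 := by intro h0; rw [h0] at h2; omega
        omega
      · exfalso
        have hd : 2 ≤ D.relIndex X := by omega
        have := Nat.mul_le_mul hd h3
        rw [mul_assoc] at h2
        omega
    exact hcH ((relIndex_eq_one.mp hX) b.c_T).2
  obtain ⟨e⟩ := hDd
  exact Or.inl ⟨4, by norm_num, ⟨(MulEquiv.subgroupCongr hEq).trans e⟩⟩

include hTQ in
theorem c_not_mem_lt (hne : (Q : Subgroup G) ≠ T) : c ∉ Cfsg.pResidual 2 G := by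
  have : Fact (Nat.Prime 2) := ⟨Nat.prime_two⟩
  have hQN := b.norm_T hTQ
  obtain ⟨x0, hx0Q, hx0T⟩ : ∃ x ∈ (Q : Subgroup G), x ∉ T :=
    SetLike.not_le_iff_exists.mp fun h => hne (le_antisymm h hTQ)
  have hidx : T.relIndex (Q : Subgroup G) = 2 := by
    refine index_eq_two_iff.mpr ⟨⟨x0, hx0Q⟩, fun y => ?_⟩
    simp only [mem_subgroupOf, coe_mul]
    by_cases hy : (y : G) ∈ T
    · refine Or.inr ⟨hy, fun h => hx0T ?_⟩
      have := mul_mem (inv_mem hy) h
      rwa [inv_mul_cancel_left] at this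
    · exact Or.inl ⟨b.mul_mem_T hTQ y.2 (hQN y.2) hy hx0Q (hQN hx0Q) hx0T, hy⟩
  have hQcard : Nat.card ↥(Q : Subgroup G) = 32 := by
    rw [← HallCore.card_mul_relIndex hTQ, b.card_T, hidx]
  -- the central involutions of `Q`
  have homega : Cfsg.omegaCenterOf (Q : Subgroup G) ≤ zpowers w := by
    refine (closure_le _).mpr ?_
    rintro y ⟨⟨hyQ, hyC⟩, hy2⟩
    have hyT : y ∈ T := (b.n.p.cent_Rt fun r hr => hyC r (hTQ hr.1)).1
    rcases b.fixed hTQ hx0Q (hQN hx0Q) hx0T hyT (by rwa [← pow_two]) (hyC x0 hx0Q)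
      with rfl | rfl
    exacts [one_mem _, mem_zpowers _]
  have hQw : ∀ y ∈ (Q : Subgroup G), y * w = w * y := fun y hy =>
    mul_inv_eq_iff_eq_mul.mp (b.norm_w (hQN hy))
  -- 2-subgroups centralising `w` lie in `Q`
  have hCw : ∀ P : Subgroup G, IsPGroup 2 P → (∀ y ∈ P, y * w = w * y) →
      P ≤ (Q : Subgroup G) := by
    intro P hP hPw
    have hPN : P ≤ normalizer ((Q : Subgroup G) : Set G) := by
      refine le_trans (fun y hy => ?_) (b.n.p.side.r.zentral Q)
      refine mem_centralizer_iff.mpr fun z hz => ?_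
      obtain ⟨i, rfl⟩ := mem_zpowers_iff.mp (homega hz)
      exact ((show Commute w y from (hPw y hy).symm).zpow_left i).eq
    exact le_sup_left.trans (Q.3 (hP.to_sup_of_normal_right' Q.2 hPN) le_sup_right).le
  have hnw : ∀ {T' : Subgroup G} {c₀ : G}, Nat.card ↥(centralizer ({c₀} : Set G)) = 48 →
      ¬ IsConj c₀ w := by
    intro _ c₀ h48 hc
    obtain ⟨g, hg⟩ := isConj_iff.mp hc
    have hle : (Q : Subgroup G) ≤
        (centralizer ({c₀} : Set G)).map (MulAut.conj g).toMonoidHom := by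
      intro y hy
      refine ⟨g⁻¹ * y * g, mem_centralizer_singleton_iff.mpr ?_, by simp [mul_assoc]⟩
      calc g⁻¹ * y * g * c₀ = g⁻¹ * (y * w) * g := by rw [← hg]; group
        _ = g⁻¹ * (w * y) * g := by rw [hQw y hy]
        _ = c₀ * (g⁻¹ * y * g) := by rw [← hg]; group
    have h := card_dvd_of_le hle
    rw [hQcard, card_map_of_injective (MulAut.conj g).injective, h48] at h
    norm_num at h
  have hcw : ¬ IsConj c w := hnw (T' := T) b.card_cent_c
  have hcw' : ¬ IsConj c' w := hnw (T' := T) b.symm.card_cent_c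
  obtain ⟨D, hDT, -, hD8, hcD, -, hWD, hWD', hDdef, hD4⟩ := b.exists_dihedral
  -- the involutions of `T` conjugate to `w` lie in `D`
  have hwD : ∀ y ∈ T, IsConj y w → y ∈ D := by
    intro y hyT hy
    have hy2 : y * y = 1 := by
      obtain ⟨g, hg⟩ := isConj_iff.mp hy
      calc y * y = g⁻¹ * ((g * y * g⁻¹) * (g * y * g⁻¹)) * g := by group
        _ = 1 := by rw [hg, b.w_sq]; group
    rcases b.n.mem_R_or hyT hy2 with h | h
    · rcases b.conj_class h with rfl | ⟨e, -⟩ | e | e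
      · exact one_mem _
      · exact hWD e
      · exact absurd (e.symm.trans hy) hcw
      · exact absurd (e.symm.trans hy) hcw'
    · rcases b.symm.conj_class h with rfl | ⟨e, -⟩ | e | e
      · exact one_mem _
      · exact hWD' e
      · exact absurd (e.symm.trans hy) hcw'
      · exact absurd (e.symm.trans hy) hcw
  have hDinv : ∀ y ∈ D, IsConj y c → False := by
    intro y hyD hy
    have hy2 : y * y = 1 := by
      obtain ⟨g, hg⟩ := isConj_iff.mp hy
      calc y * y = g⁻¹ * ((g * y * g⁻¹) * (g * y * g⁻¹)) * g := by group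
        _ = 1 := by rw [hg, b.c_sq]; group
    have hy1 : y ≠ 1 := fun h => b.c1 (isConj_one_right.mp (h ▸ hy))
    rcases b.n.mem_R_or (hDT hyD) hy2 with h | h
    · obtain ⟨x, hx, z, hz, rfl⟩ := b.n.p.E0_mem (b.n.Rt_eq.le h)
      rcases eq_or_of_card_two b.two b.cC b.c1 hz with rfl | rfl
      · rw [mul_one] at hy hy1
        rcases b.n.p.W_cases hx with rfl | rfl | rfl | rfl
        · exact hy1 rfl
        · exact hcw hy.symm
        · exact hcw (hy.symm.trans (isConj_iff.mpr ⟨k, rfl⟩).symm)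
        · exact hcw (hy.symm.trans (isConj_iff.mpr ⟨k * k, by rw [← b.n.p.u_sq]; group⟩).symm)
      · exact hcD (by
          have := mul_mem (inv_mem (hWD hx)) hyD
          rwa [inv_mul_cancel_left] at this)
    · obtain ⟨x, hx, z, hz, rfl⟩ := b.n.p'.E0_mem (b.n.symm.Rt_eq.le h)
      rcases eq_or_of_card_two b.two' b.cC' b.c1' hz with rfl | rfl
      · rw [mul_one] at hy hy1
        rcases b.n.p'.W_cases hx with rfl | rfl | rfl | rfl
        · exact hy1 rfl
        · exact hcw hy.symm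
        · exact hcw (hy.symm.trans (isConj_iff.mpr ⟨k', rfl⟩).symm)
        · exact hcw (hy.symm.trans (isConj_iff.mpr ⟨k' * k', by rw [← b.n.p'.u_sq]; group⟩).symm)
      · refine hcD ?_
        have h1 := mul_mem (inv_mem (hWD' hx)) hyD
        rw [inv_mul_cancel_left] at h1
        have h2 := mul_mem h1 (hWD b.n.p.wW)
        rwa [b.c'_eq, mul_assoc, b.w_sq, mul_one] at h2
  -- `Q` normalises `D`
  have hQD : (Q : Subgroup G) ≤ normalizer (D : Set G) := by
    refine LocalBasics.le_normalizer_of_conj fun y hy z hz => ?_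
    have huT : k * w * k⁻¹ ∈ T := (b.n.p.W_le_Rt (b.n.p.k_W b.n.p.wW)).1
    have hgenD : ∀ t ∈ T, IsConj t w → y * t * y⁻¹ ∈ D := fun t ht htw =>
      hwD _ ((mem_normalizer_iff.mp (hQN hy) t).mp ht)
        ((isConj_iff.mpr ⟨y, rfl⟩).symm.trans htw)
    have hu : y * (k * w * k⁻¹) * y⁻¹ ∈ D := hgenD _ huT (isConj_iff.mpr ⟨k, rfl⟩).symm
    have hv : y * (k' * w * k'⁻¹) * y⁻¹ ∈ D := hgenD _ b.v_T (isConj_iff.mpr ⟨k', rfl⟩).symm
    have hle : D ≤ D.comap (MulAut.conj y).toMonoidHom := by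
      conv_lhs => rw [hDdef]
      refine sup_le (zpowers_le.mpr ?_) (zpowers_le.mpr ?_) <;>
        simp only [mem_comap, MulEquiv.coe_toMonoidHom, MulAut.conj_apply]
      · rw [show y * (k * w * k⁻¹ * (k' * w * k'⁻¹)) * y⁻¹ =
          (y * (k * w * k⁻¹) * y⁻¹) * (y * (k' * w * k'⁻¹) * y⁻¹) by group]
        exact mul_mem hu hv
      · exact hu
    exact hle hz
  by_cases hα : ∃ x ∈ (Q : Subgroup G), x ∉ T ∧ x * x ∈ D
  · obtain ⟨x, hxQ, hxT, hxD⟩ := hα
    have hxn : zpowers x ≤ normalizer (D : Set G) := zpowers_le.mpr (hQD hxQ)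
    set M := D ⊔ zpowers x with hM
    have hMdec : ∀ y ∈ M, y ∈ D ∨ (y * x⁻¹ ∈ D ∧ y ∉ T) := by
      intro y hy
      rw [← SetLike.mem_coe, hM, coe_mul_of_right_le_normalizer_left _ _ hxn] at hy
      obtain ⟨z, hz, _, ⟨i, rfl⟩, rfl⟩ := hy
      obtain ⟨l, rfl | rfl⟩ := Int.even_or_odd' i
      · refine Or.inl (mul_mem hz ?_)
        simp only
        rw [zpow_mul, zpow_two]
        exact zpow_mem hxD l
      · right
        simp only
        have h1 : x ^ (2 * l) ∈ D := by rw [zpow_mul, zpow_two]; exact zpow_mem hxD l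
        have e : z * x ^ (2 * l + 1) * x⁻¹ = z * x ^ (2 * l) := by group
        refine ⟨e ▸ mul_mem hz h1, fun h => hxT ?_⟩
        have h2 := mul_mem (inv_mem (hDT (e ▸ mul_mem hz h1 :
          z * x ^ (2 * l + 1) * x⁻¹ ∈ D))) h
        rwa [mul_inv_rev, inv_inv, inv_mul_cancel_right] at h2
    have hMQ : M ≤ (Q : Subgroup G) := sup_le (hDT.trans hTQ) (zpowers_le.mpr hxQ)
    have hrel : M.relIndex (Q : Subgroup G) = 2 := by
      refine index_eq_two_iff.mpr ⟨⟨c, hTQ b.c_T⟩, fun y => ?_⟩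
      simp only [mem_subgroupOf, coe_mul]
      have hcM : c ∉ M := fun h => by
        rcases hMdec c h with h' | h'
        exacts [hcD h', h'.2 b.c_T]
      by_cases hy : (y : G) ∈ M
      · refine Or.inr ⟨hy, fun h => hcM ?_⟩
        have := mul_mem (inv_mem hy) h
        rwa [inv_mul_cancel_left] at this
      · refine Or.inl ⟨?_, hy⟩
        -- `D` has index 2 in `T`
        have hT2 : ∀ t ∈ T, t ∉ D → t * c ∈ D := by
          intro t ht htD
          have h2 : D.relIndex T = 2 := by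
            have h := HallCore.card_mul_relIndex hDT
            rw [hD8, b.card_T] at h
            omega
          have := (mul_mem_iff_of_index_two h2 (a := (⟨t, ht⟩ : ↥T)) (b := ⟨c, b.c_T⟩)).mpr
            (iff_of_false htD hcD)
          exact this
        by_cases hyT : (y : G) ∈ T
        · exact mem_sup_left (hT2 _ hyT fun h => hy (mem_sup_left h))
        · have hxyT : x * (y : G) ∈ T :=
            b.mul_mem_T hTQ hxQ (hQN hxQ) hxT y.2 (hQN y.2) hyT
          have hxy : x * (y : G) ∉ D := fun h => hy (by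
            have := mul_mem (inv_mem (mem_sup_right (mem_zpowers x) : x ∈ M)) (mem_sup_left h)
            rwa [inv_mul_cancel_left] at this)
          have := mul_mem (inv_mem (mem_sup_right (mem_zpowers x) : x ∈ M))
            (mem_sup_left (hT2 _ hxyT hxy))
          rwa [mul_assoc x, inv_mul_cancel_left] at this
    by_cases hd : ∃ g : G, g * c * g⁻¹ ∈ M
    swap
    · push Not at hd
      obtain ⟨N, hN, hNi, hcN⟩ := TransferThompson.thompson_transfer Q M hMQ hrel
        (orderOf_eq_prime (by rw [pow_two, b.c_sq]) b.c1) (hTQ b.c_T) hd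
      exact fun h => hcN (TransferPResidual.pResidual_le_of_index (k := 1)
        (by rw [hNi, pow_one]) h)
    obtain ⟨g, hd⟩ := hd
    have hdQ := hMQ hd
    have hdT : g * c * g⁻¹ ∉ T := fun h => by
      rcases hMdec _ hd with h' | h'
      exacts [hDinv _ h' (isConj_iff.mpr ⟨g, rfl⟩).symm, h'.2 h]
    have hd2 : g * c * g⁻¹ * (g * c * g⁻¹) = 1 := by
      rw [show g * c * g⁻¹ * (g * c * g⁻¹) = g * (c * c) * g⁻¹ by group, b.c_sq]; group
    set d := g * c * g⁻¹ with hd'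
    -- an element of `T` centralising `d` with square `w`
    obtain ⟨q, hqT, hqd, hqq⟩ : ∃ q ∈ T, d * q * d⁻¹ = q ∧ q * q = w := by
      set a := k * w * k⁻¹ * (k' * w * k'⁻¹) with ha
      have haD : a ∈ D := hDdef.ge (mem_sup_left (mem_zpowers a))
      have haD' : d * a * d⁻¹ ∈ D := LocalBasics.conj_mem_of_le_normalizer hQD hdQ haD
      rcases hD4 _ haD' with h | h | h
      · exfalso
        rw [show d * a * d⁻¹ * (d * a * d⁻¹) = d * (a * a) * d⁻¹ by group, b.a_sq,
          b.norm_w (hQN hdQ)] at h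
        exact b.n.p.w1 h
      · exact ⟨a, hDT haD, h, b.a_sq⟩
      · refine ⟨a * c, mul_mem (hDT haD) b.c_T, ?_, ?_⟩
        · have hai : a⁻¹ = a * w := by
            refine inv_eq_of_mul_eq_one_right ?_
            rw [← mul_assoc, b.a_sq, b.w_sq]
          rw [show d * (a * c) * d⁻¹ = (d * a * d⁻¹) * (d * c * d⁻¹) by group, h, hai,
            b.swap hTQ hdQ (hQN hdQ) hdT,
            show c * w = w * c from Z0_comm' b.cC.1 b.n.p.wZ, mul_assoc a, ← mul_assoc w w c,
            b.w_sq, one_mul]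
        · calc a * c * (a * c) = a * (c * a) * c := by group
            _ = a * (a * c) * c := by rw [b.T_c (hDT haD)]
            _ = a * a * (c * c) := by group
            _ = w := by rw [b.a_sq, b.c_sq, mul_one]
    -- move `q` into `T` inside the centraliser of `c`
    have hq' : g⁻¹ * q * g ∈ K ⊔ T := by
      rw [← b.cent_c]
      refine mem_centralizer_singleton_iff.mpr ?_
      calc g⁻¹ * q * g * c = g⁻¹ * (q * d) * g := by rw [hd']; group
        _ = g⁻¹ * (d * q) * g := by rw [mul_inv_eq_iff_eq_mul.mp hqd]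
        _ = c * (g⁻¹ * q * g) := by rw [hd']; group
    have hqp : IsPGroup 2 ↥(zpowers (g⁻¹ * q * g)) := by
      have h : zpowers (g⁻¹ * q * g) = (zpowers q).map (MulAut.conj g⁻¹).toMonoidHom := by
        rw [MonoidHom.map_zpowers, MulEquiv.coe_toMonoidHom, MulAut.conj_apply, inv_inv]
      rw [h]
      exact (b.n.p.side.r.tp.to_le (zpowers_le.mpr hqT)).map _
    obtain ⟨l, hl, hle⟩ := sylowTwoIn_conj b.n.p.sylow_P (zpowers_le.mpr hq') hqp
    obtain ⟨t, htT, ht⟩ := hle (mem_zpowers _)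
    rw [MulEquiv.coe_toMonoidHom, MulAut.conj_apply] at ht
    -- `g * l` centralises `w`
    have hlw : (g * l) * w * (g * l)⁻¹ = w := by
      have e : (g * l) * (t * t) * (g * l)⁻¹ = w := by
        calc (g * l) * (t * t) * (g * l)⁻¹ = g * ((l * t * l⁻¹) * (l * t * l⁻¹)) * g⁻¹ := by group
          _ = w := by
            rw [ht, show g * (g⁻¹ * q * g * (g⁻¹ * q * g)) * g⁻¹ = q * q by group, hqq]
      rcases b.sq_cases htT with h | h <;> rw [h] at e
      · exfalso
        refine b.n.p.w1 ?_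
        rw [← e]; group
      · exact e
    have hlc : (g * l) * c * (g * l)⁻¹ = d := by
      have : l * c = c * l := by
        rw [← b.cent_c] at hl
        exact mem_centralizer_singleton_iff.mp hl
      calc (g * l) * c * (g * l)⁻¹ = g * (l * c * l⁻¹) * g⁻¹ := by group
        _ = d := by rw [mul_inv_eq_iff_eq_mul.mpr this, hd']
    set A := (Rt T K).map (MulAut.conj (g * l)).toMonoidHom with hA
    have hA8 : Nat.card ↥A = 8 := by
      rw [hA, card_map_of_injective (MulAut.conj (g * l)).injective, b.card_R]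
    have hAQ : A ≤ (Q : Subgroup G) := by
      refine hCw A ((b.n.p.side.r.tp.to_le inf_le_left).map _) ?_
      rintro _ ⟨r, hr, rfl⟩
      simp only [MulEquiv.coe_toMonoidHom, MulAut.conj_apply]
      calc g * l * r * (g * l)⁻¹ * w = g * l * r * (g * l)⁻¹ * (g * l * w * (g * l)⁻¹) := by
            rw [hlw]
        _ = g * l * (r * w) * (g * l)⁻¹ := by group
        _ = g * l * (w * r) * (g * l)⁻¹ := by rw [b.n.p.T_Z0 hr.1 b.n.p.wZ]
        _ = (g * l * w * (g * l)⁻¹) * (g * l * r * (g * l)⁻¹) := by group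
        _ = _ := by rw [hlw]
    have hAsq : ∀ y ∈ A, y * y = 1 := by
      rintro _ ⟨r, hr, rfl⟩
      rw [← map_mul, b.n.exponent hr, map_one]
    have hAT : A ≤ T := by
      refine b.ea_le hTQ hAQ (hAQ.trans hQN) hAsq ?_ hA8.ge
      rintro _ ⟨r, hr, rfl⟩ _ ⟨r', hr', rfl⟩
      rw [← map_mul, b.n.comm hr hr', map_mul]
    have hAw : A ≤ zpowers w := by
      intro y hy
      have hyd : d * y = y * d := by
        obtain ⟨r, hr, rfl⟩ := hy
        simp only [MulEquiv.coe_toMonoidHom, MulAut.conj_apply]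
        rw [← hlc]
        calc g * l * c * (g * l)⁻¹ * (g * l * r * (g * l)⁻¹) = g * l * (c * r) * (g * l)⁻¹ := by
              group
          _ = g * l * (r * c) * (g * l)⁻¹ := by rw [b.T_c hr.1]
          _ = _ := by group
      rcases b.fixed hTQ hdQ (hQN hdQ) hdT (hAT hy) (hAsq y hy) hyd with rfl | rfl
      exacts [one_mem _, mem_zpowers _]
    have h := card_le_of_le hAw
    rw [hA8, Nat.card_zpowers, orderOf_eq_prime (by rw [pow_two, b.w_sq]) b.n.p.w1] at h
    omega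
  · push Not at hα
    have hT4 : ∀ t ∈ T, t ^ 4 = 1 := fun t ht => by
      rw [show t ^ 4 = (t * t) * (t * t) by simp [pow_succ, mul_assoc]]
      rcases b.sq_cases ht with h | h <;> rw [h]
      exacts [one_mul _, b.w_sq]
    have h4T : ∀ y ∈ (Q : Subgroup G), y ^ 4 = 1 → y ∈ T := by
      intro y hy hy4
      by_contra hyT
      have hy2 := b.mul_mem_T hTQ hy (hQN hy) hyT hy (hQN hy) hyT
      rcases b.fixed hTQ hy (hQN hy) hyT hy2
        (by rw [show y * y * (y * y) = y ^ 4 by simp [pow_succ, mul_assoc]];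
            exact hy4) (by group) with e | e
      · exact hα y hy hyT (e ▸ one_mem _)
      · exact hα y hy hyT (e ▸ hWD b.n.p.wW)
    have hfoc : (Q : Subgroup G).focalSubgroup ≤ T := by
      refine (closure_le _).mpr ?_
      rintro y ⟨hyQ, x, hx, u, rfl⟩
      set x' := u * x⁻¹ * u⁻¹ with hx'
      have e : ⁅x, u⁆ = x * x' := by rw [hx', commutatorElement_def]; group
      have hx'Q : x' ∈ (Q : Subgroup G) := by
        have := mul_mem (inv_mem hx) hyQ
        rwa [e, inv_mul_cancel_left] at this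
      have hiff : x' ^ 4 = 1 ↔ x ^ 4 = 1 := by
        rw [hx', conj_pow, conj_eq_one_iff, inv_pow, inv_eq_one]
      rw [SetLike.mem_coe, e]
      by_cases hxT : x ∈ T
      · exact mul_mem hxT (h4T _ hx'Q (hiff.mpr (hT4 x hxT)))
      · exact b.mul_mem_T hTQ hx (hQN hx) hxT hx'Q (hQN hx'Q)
          fun h => hxT (h4T x hx (hiff.mp (hT4 _ h)))
    -- otherwise `T` would be a Sylow subgroup of `O²(G)`
    intro hcH
    set H := Cfsg.pResidual 2 G with hH
    have hDH : D ≤ H := by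
      rw [hDdef]
      have hu := wOf_le_residual b.n.p.side.r.comp (b.n.p.k_W b.n.p.wW)
      exact sup_le (zpowers_le.mpr (mul_mem hu
        (wOf_le_residual b.n.p'.side.r.comp (b.n.p'.k_W b.n.p'.wW)))) (zpowers_le.mpr hu)
    have hTH : T ≤ H := by
      intro t ht
      by_cases htD : t ∈ D
      · exact hDH htD
      · have h2 : D.relIndex T = 2 := by
          have h := HallCore.card_mul_relIndex hDT
          rw [hD8, b.card_T] at h
          omega
        have h3 : t * c ∈ D := (mul_mem_iff_of_index_two h2 (a := (⟨t, ht⟩ : ↥T))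
          (b := ⟨c, b.c_T⟩)).mpr (iff_of_false htD hcD)
        have := mul_mem (hDH h3) (inv_mem hcH)
        rwa [mul_inv_cancel_right] at this
    obtain ⟨R, hR⟩ := LocalBasics.exists_sylow_inf Q H
    have hR' : (R : Subgroup H) = T.subgroupOf H := by
      rw [hR]
      ext y
      simp only [mem_subgroupOf]
      exact ⟨fun hy => hfoc (TransferPResidual.inf_pResidual_le_focal Q ⟨hy, y.2⟩),
        fun hy => hTQ hy⟩
    obtain ⟨N, hN, hNi, -⟩ := TransferThompson.thompson_transfer R (D.subgroupOf H)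
      (hR'.ge.trans' (fun y hy => hDT hy))
      (by
        rw [hR', relIndex_subgroupOf hTH]
        have h := HallCore.card_mul_relIndex hDT
        rw [hD8, b.card_T] at h
        omega)
      (u := ⟨c, hcH⟩) (by rw [Subgroup.orderOf_mk]; exact orderOf_eq_prime (by rw [pow_two, b.c_sq]) b.c1)
      (hR'.ge b.c_T)
      (fun g hg => hDinv _ (mem_subgroupOf.mp hg)
        (isConj_iff.mpr ⟨(g : G), rfl⟩).symm)
    exact TransferThompson.pResidual_ne_top_of_index (M := N) hNi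
      TransferPResidual.pResidual_pResidual

include hTQ in
theorem shape_lt (hne : (Q : Subgroup G) ≠ T)
    (hgen : Cfsg.pResidual 2 G ⊔ Cfsg.omegaCenterOf (Q : Subgroup G) = ⊤) : False := by
  have hQN := b.norm_T hTQ
  obtain ⟨x0, hx0Q, hx0T⟩ : ∃ x ∈ (Q : Subgroup G), x ∉ T :=
    SetLike.not_le_iff_exists.mp fun h => hne (le_antisymm h hTQ)
  have homega : Cfsg.omegaCenterOf (Q : Subgroup G) ≤ zpowers w := by
    refine (closure_le _).mpr ?_
    rintro y ⟨⟨hyQ, hyC⟩, hy2⟩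
    have hyT : y ∈ T := (b.n.p.cent_Rt fun r hr => hyC r (hTQ hr.1)).1
    rcases b.fixed hTQ hx0Q (hQN hx0Q) hx0T hyT (by rwa [← pow_two]) (hyC x0 hx0Q)
      with rfl | rfl
    exacts [one_mem _, mem_zpowers _]
  have hH : Cfsg.pResidual 2 G = ⊤ := top_le_iff.mp (hgen.ge.trans (sup_le le_rfl
    (homega.trans (zpowers_le.mpr (wOf_le_residual b.n.p.side.r.comp b.n.p.wW)))))
  refine b.c_not_mem_lt hTQ hne ?_
  rw [hH]; trivial

end Big

/-- The final shape at a Sylow subgroup containing `T`. -/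
theorem shape_of_near {T K K' : Subgroup G} {w k w' k' : G} (n : Near T K K' w k w' k')
    (Q : Sylow 2 G) (hTQ : T ≤ (Q : Subgroup G))
    (hgen : Cfsg.pResidual 2 G ⊔ Cfsg.omegaCenterOf (Q : Subgroup G) = ⊤) : Shape Q := by
  obtain rfl := n.w_eq
  rcases n.iso with ⟨h1, -⟩ | ⟨h2, -⟩
  · exact shape_small n h1 Q hTQ hgen
  have h2' : Nat.card ↥(Cz T K') = 2 := by
    have e := card_Z0 n.duo.r
    rw [card_Z0 n.duo.r', h2] at e
    omega
  have hex : ∀ {A : Subgroup G}, Nat.card ↥A = 2 → ∃ a ∈ A, a ≠ 1 := fun {A} hA => by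
    by_contra hno
    push Not at hno
    have : A = ⊥ := (eq_bot_iff_forall _).mpr hno
    rw [this, card_bot] at hA
    omega
  obtain ⟨c, hc, hc1⟩ := hex h2
  obtain ⟨c', hc', hc1'⟩ := hex h2'
  have b : Big T K K' w' k k' c c' := ⟨n, hc, hc1, h2, hc', hc1', h2'⟩
  by_cases hQ : (Q : Subgroup G) = T
  · exact b.shape_eq hQ
  · exact (b.shape_lt hTQ hQ hgen).elim

end Cfsg.Agent.ZNPair82
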