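import Mathlib
import Cfsg.Prelude.Def_JComponents
import Cfsg.Agent.S2947
import Cfsg.Agent.Lib.ZNPair82

/-!
ZN-groups of characteristic 2 type with trivial 2-core: strongly embedded subgroup, or a dihedral
or semidihedral Sylow 2-subgroup of `O²`.
-/

set_option autoImplicit false

namespace Cfsg.Agent.ZNCore82

open Subgroup Cfsg JCompCore

variable {G : Type*} [Group G] [Finite G]

theorem exists_max_straddling {M : Subgroup G}
    (hne : (Cfsg.straddlingTwoSubgroups M).Nonempty) :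
    (Cfsg.maxStraddlingTwoSubgroups M).Nonempty := by
  set s := Cfsg.straddlingTwoSubgroups M
  obtain ⟨A, hA, hAmax⟩ := Set.exists_max_image s Cfsg.maxElemAbelianOrder (Set.toFinite _) hne
  obtain ⟨B, ⟨hB, hBa⟩, hBmax⟩ := Set.exists_max_image
    {T | T ∈ s ∧ Cfsg.maxElemAbelianOrder T = Cfsg.maxElemAbelianOrder A}
    (fun T => Nat.card ↥(Cfsg.thompsonSubgroupOf 2 T)) (Set.toFinite _) ⟨A, hA, rfl⟩
  obtain ⟨C, ⟨hC, hCa, hCj⟩, hCmax⟩ := Set.exists_max_image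
    {T | T ∈ s ∧ Cfsg.maxElemAbelianOrder T = Cfsg.maxElemAbelianOrder A ∧
      Nat.card ↥(Cfsg.thompsonSubgroupOf 2 T) = Nat.card ↥(Cfsg.thompsonSubgroupOf 2 B)}
    (fun T => Nat.card ↥T) (Set.toFinite _) ⟨B, hB, hBa, rfl⟩
  refine ⟨C, hC, fun T hT => ⟨hCa.symm ▸ hAmax T hT, fun ha => ?_⟩⟩
  refine ⟨hCj.symm ▸ hBmax T ⟨hT, ha.trans hCa⟩, fun hj => ?_⟩
  exact hCmax T ⟨hT, ha.trans hCa, hj.trans hCj⟩

theorem shape_transfer {Q Q' : Sylow 2 G} (h : ZNPair82.Shape Q) : ZNPair82.Shape Q' := by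
  have : Fact (Nat.Prime 2) := ⟨Nat.prime_two⟩
  obtain ⟨g, hg⟩ := MulAction.exists_smul_eq G Q Q'
  have e : ((Q : Subgroup G) ⊓ Cfsg.pResidual 2 G).map (MulAut.conj g).toMonoidHom =
      (Q' : Subgroup G) ⊓ Cfsg.pResidual 2 G := by
    rw [map_inf _ _ _ (MulAut.conj g).injective,
      show (Cfsg.pResidual 2 G).map (MulAut.conj g).toMonoidHom = Cfsg.pResidual 2 G from
        Subgroup.Normal.map_conj_eq _ g, ← hg, Sylow.coe_subgroup_smul]
    rfl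
  let φ : ↥((Q : Subgroup G) ⊓ Cfsg.pResidual 2 G) ≃* ↥((Q' : Subgroup G) ⊓ Cfsg.pResidual 2 G) :=
    (equivMapOfInjective _ (MulAut.conj g).toMonoidHom (MulAut.conj g).injective).trans
      (MulEquiv.subgroupCongr e)
  rcases h with ⟨m, hm, ⟨e'⟩⟩ | h
  · exact Or.inl ⟨m, hm, ⟨φ.symm.trans e'⟩⟩
  · exact Or.inr (ZNShapes82.quasi_congr φ h)

theorem core (hL : Cfsg.IsCharacteristicTwoType G)
    (hN : ∀ N : Subgroup G, Cfsg.IsTwoLocal N → Group.IsSolvable ↥N)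
    (hZ : ∀ S : Sylow 2 G, centralizer (Cfsg.omegaCenterOf (S : Subgroup G) : Set G) ≤
      normalizer ((S : Subgroup G) : Set G))
    (hO : Cfsg.pCore 2 G = ⊥)
    (hgen : ∀ Q : Sylow 2 G, Cfsg.pResidual 2 G ⊔ Cfsg.omegaCenterOf (Q : Subgroup G) = ⊤) :
    (∃ M : Subgroup G, Cfsg.IsStronglyEmbedded M) ∨ ∀ Q : Sylow 2 G, ZNPair82.Shape Q := by
  have : Fact (Nat.Prime 2) := ⟨Nat.prime_two⟩
  obtain ⟨S⟩ : Nonempty (Sylow 2 G) := inferInstance
  set J := Cfsg.thompsonSubgroupOf 2 (S : Subgroup G) with hJ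
  have hJne : J ≠ ⊥ := by
    intro e
    have hS : (S : Subgroup G) ≠ ⊥ := by
      intro h
      have := S.not_dvd_index
      rw [h, index_bot] at this
      exact this hL.1.two_dvd
    obtain ⟨x, hxS, hxo⟩ := PGroupsBasic.exists_orderOf_eq_of_ne_bot S.2 hS
    obtain ⟨A, hA⟩ := exists_maxIn (S : Subgroup G)
    have hAb : A = ⊥ := le_bot_iff.mp (e ▸ maxIn_le_thompson hA)
    have h := hA.2.2 (zpowers x) (zpowers_le.mpr hxS)
      (Offenders.ea_zpowers (by rw [← hxo]; exact pow_orderOf_eq_one x))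
    rw [hAb, card_bot, Nat.card_zpowers, hxo] at h
    omega
  set M := normalizer (J : Set G) with hM
  have hMl : Cfsg.IsTwoLocal M :=
    ⟨J, S.2.to_le (Offenders.thompsonOf_le _), hJne, rfl⟩
  by_cases hs : Cfsg.straddlingTwoSubgroups M = ∅
  · exact Or.inl ⟨M, (Cfsg.Agent.S2947.result hL hN hZ hO S M hMl le_rfl).mpr hs⟩
  right
  obtain ⟨T, hT⟩ := exists_max_straddling (Set.nonempty_iff_ne_empty.mpr hs)
  obtain ⟨K₁, K₂, d⟩ := JCompMaxPair.exists_pair hL hN hZ hO le_rfl hT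
  obtain ⟨w₁, k₁, p₁⟩ := (JCompSide.Side.of_duo d).exists_pick
  obtain ⟨w₂, k₂, p₂⟩ := (JCompSide.Side.of_duo d.symm).exists_pick
  have n : JCompShape.Near T K₁ K₂ w₁ k₁ w₂ k₂ := ⟨d, p₁, p₂⟩
  obtain ⟨Q, hTQ⟩ := d.r.tp.exists_le_sylow
  intro Q'
  exact shape_transfer (ZNPair82.shape_of_near n Q hTQ (hgen Q))

end Cfsg.Agent.ZNCore82
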