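import Mathlib
import Cfsg.Prelude.Def_JComponents
import Cfsg.Agent.Lib.ZNPair82
import Cfsg.Agent.Lib.ZNCore82

/-!
Inside `O²` the two maximal 2-local subgroups become symmetric groups of degree 4.
-/

set_option autoImplicit false

namespace Cfsg.Agent.ZNExit82

open Subgroup Cfsg JCompBase JCompTV JCompCore JCompLine JCompClass JCompDuo JCompSide
open JCompAdjacent JCompShape ZNPair82

variable {G : Type*} [Group G] [Finite G]

/-- One side seen in `O²(G)`: `S = P ∩ O²(G)` is `S₄`, with `W` its largest normal 2-subgroup. -/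
structure Inner (W P T : Subgroup G) : Prop where
  four : Nat.card ↥W = 4
  leH : W ≤ Cfsg.pResidual 2 G
  lep : W ≤ P
  norm : normalizer (W : Set G) = P
  iso : Nonempty (↥(P ⊓ Cfsg.pResidual 2 G) ≃* Equiv.Perm (Fin 4))
  top2 : ∀ X : Subgroup G, IsPGroup 2 X → X ≤ P ⊓ Cfsg.pResidual 2 G →
    P ⊓ Cfsg.pResidual 2 G ≤ normalizer (X : Set G) → X ≤ W
  irred : ∀ X : Subgroup G, X ≤ W → X ≠ ⊥ →
    P ⊓ Cfsg.pResidual 2 G ≤ normalizer (X : Set G) → X = W
  eight : 8 ∣ Nat.card ↥(T ⊓ Cfsg.pResidual 2 G)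
  leT : T ≤ P

theorem cent_k {T K : Subgroup G} {w k : G} (p : Pick T K w k) {X : Subgroup G}
    (hX : X ≤ Cfsg.wOf K) (hne : X ≠ ⊥) (hk : k ∈ normalizer (X : Set G)) :
    X = Cfsg.wOf K := by
  obtain ⟨x, hx, hx1⟩ : ∃ x ∈ X, x ≠ 1 := by
    by_contra h
    push Not at h
    exact hne ((eq_bot_iff_forall X).mpr h)
  have hkx : ∀ y ∈ X, k * y * k⁻¹ ∈ X := fun y hy => (mem_normalizer_iff.mp hk y).mp hy
  have key : w ∈ X → X = Cfsg.wOf K := by
    intro hw
    refine le_antisymm hX fun y hy => ?_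
    rcases p.W_cases hy with rfl | rfl | rfl | rfl
    exacts [one_mem _, hw, hkx _ hw, mul_mem hw (hkx _ hw)]
  rcases p.W_cases (hX hx) with e | e | e | e
  · exact absurd e hx1
  · exact key (e ▸ hx)
  · subst e
    have h := hkx _ (hkx _ hx)
    rw [p.u_sq, show k * (w * (k * w * k⁻¹)) * k⁻¹ = (k * w * k⁻¹) * (k * (k * w * k⁻¹) * k⁻¹) by
      group, p.u_sq, ← mul_assoc, p.W_comm (p.k_W p.wW) p.wW, mul_assoc,
      p.W_sq (p.k_W p.wW), mul_one] at h
    exact key h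
  · subst e
    have h := hkx _ hx
    rw [show k * (w * (k * w * k⁻¹)) * k⁻¹ = (k * w * k⁻¹) * (k * (k * w * k⁻¹) * k⁻¹) by
      group, p.u_sq, ← mul_assoc, p.W_comm (p.k_W p.wW) p.wW, mul_assoc,
      p.W_sq (p.k_W p.wW), mul_one] at h
    exact key h

theorem two_torsion : ∀ z : Multiplicative (ZMod 2), z * z = 1 := by decide

theorem inner_small {T K K' : Subgroup G} {w k k' : G} (n : Near T K K' w k w k')
    (h1 : Nat.card ↥(Cz T K) = 1) : Inner (Cfsg.wOf K) (K ⊔ T) T := by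
  obtain ⟨hR, hT⟩ := card_Rt n
  set H := Cfsg.pResidual 2 G
  have hW4 : Nat.card ↥(Cfsg.wOf K) = 4 := n.p.side.r.comp.2.2.2.2.1
  have hWR : Cfsg.wOf K = Rt T K :=
    eq_of_le_of_card_ge n.p.W_le_Rt (by rw [hR, h1, hW4])
  have hWH := wOf_le_residual n.p.side.r.comp
  have hTH : T ≤ H := by
    intro t ht
    rcases n.split ht with h | ⟨r, hr, rfl⟩
    · exact hWH (hWR.ge h)
    · exact mul_mem (hWH (hWR.ge hr))
        (wOf_le_residual n.p'.side.r.comp (n.p'.k_W n.p'.wW))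
  have hPH : (K ⊔ T) ⊓ H = K ⊔ T :=
    inf_eq_left.mpr (sup_le (comp_le_residual n.p.side.r.comp) hTH)
  have hWP : Cfsg.wOf K ≤ K ⊔ T := n.p.W_le_Rt.trans (inf_le_left.trans le_sup_right)
  refine ⟨hW4, hWH, hWP, ?_, ?_, fun X hX hXP hn => ?_, fun X hX hne hn => ?_, ?_, le_sup_right⟩
  · rw [hWR, ← n.L_eq]
    refine n.p.side.r.isMax_star.2 _
      ⟨Rt T K, n.p.side.r.tp.to_le inf_le_left, fun e => ?_, rfl⟩ ?_
    · rw [e, card_bot, h1] at hR
      omega
    · rw [show normalizer (Rooted.star T K : Set G) = Lstar T K from rfl, n.L_eq]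
      exact n.p.P_norm_Rt
  · rcases n.iso with ⟨-, ⟨e⟩⟩ | ⟨h2, -⟩
    · exact ⟨(MulEquiv.subgroupCongr (hPH.trans n.L_eq.symm)).trans e⟩
    · omega
  · rw [hPH] at hXP hn
    rw [hWR, ← n.p.core_P]
    exact LocalBasics.le_pCoreOf hXP hn hX
  · rw [hPH] at hn
    exact cent_k n.p hX hne (hn (mem_sup_left n.p.kK))
  · rw [inf_eq_left.mpr hTH, hT, h1]

variable {T K K' : Subgroup G} {w k k' c c' : G}

theorem inner_big (b : Big T K K' w k k' c c') (hc : c ∉ Cfsg.pResidual 2 G) :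
    Inner (Cfsg.wOf K) (K ⊔ T) T := by
  have : Fact (Nat.Prime 2) := ⟨Nat.prime_two⟩
  obtain ⟨D, hDT, hDH, hD8, hcD, -, hWD, -, -, -⟩ := b.exists_dihedral
  set H := Cfsg.pResidual 2 G
  have hW4 : Nat.card ↥(Cfsg.wOf K) = 4 := b.n.p.side.r.comp.2.2.2.2.1
  have hWH := wOf_le_residual b.n.p.side.r.comp
  set P := K ⊔ T
  have hcP : c ∈ P := mem_sup_right b.c_T
  have hK : K ≤ P ⊓ H := le_inf le_sup_left (comp_le_residual b.n.p.side.r.comp)
  have hDrel : D.relIndex T = 2 := by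
    have h := HallCore.card_mul_relIndex hDT
    rw [hD8, b.card_T] at h
    omega
  have hR : Rt T K ⊓ H ≤ Cfsg.wOf K := by
    rintro r ⟨hr, hrH⟩
    obtain ⟨x, hx, z, hz, rfl⟩ := b.n.p.E0_mem (b.n.Rt_eq.le hr)
    rcases eq_or_of_card_two b.two b.cC b.c1 hz with rfl | rfl
    · rwa [mul_one]
    · exfalso
      refine hc ?_
      have := mul_mem (inv_mem (hWH hx)) hrH
      rwa [inv_mul_cancel_left] at this
  -- `P` is generated by `P ∩ H` and `c`
  have hgenP : P ≤ (P ⊓ H) ⊔ zpowers c := by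
    refine sup_le (hK.trans le_sup_left) fun t ht => ?_
    by_cases htD : t ∈ D
    · exact mem_sup_left ⟨mem_sup_right ht, hDH htD⟩
    · have h3 : t * c ∈ D := (mul_mem_iff_of_index_two hDrel (a := (⟨t, ht⟩ : ↥T))
        (b := ⟨c, b.c_T⟩)).mpr (iff_of_false htD hcD)
      have := mul_mem (mem_sup_left (⟨mem_sup_right (mul_mem ht b.c_T), hDH h3⟩ : t * c ∈ P ⊓ H) :
        t * c ∈ (P ⊓ H) ⊔ zpowers c) (mem_sup_right (inv_mem (mem_zpowers c)))
      rwa [mul_inv_cancel_right] at this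
  have hDS : D ≤ P ⊓ H := le_inf (hDT.trans le_sup_right) hDH
  have hcard : Nat.card ↥(P ⊓ H) = 24 := by
    have h8 := card_dvd_of_le hDS
    rw [hD8] at h8
    have h3 : 3 ∣ Nat.card ↥(P ⊓ H) := by
      have h := orderOf_dvd_natCard (⟨k, hK b.n.p.kK⟩ : ↥(P ⊓ H))
      have hk1 : k ≠ 1 := fun e => b.n.p.kQ (e ▸ one_mem _)
      have hk3 : orderOf k = 3 :=
        haveI := Fact.mk Nat.prime_three
        orderOf_eq_prime b.n.p.k3 hk1
      rwa [orderOf_mk, hk3] at h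
    have hd := card_dvd_of_le (inf_le_left : P ⊓ H ≤ P)
    have hP : Nat.card ↥P = 48 := by rw [b.n.card_P, b.two]
    rw [hP] at hd
    have hne : Nat.card ↥(P ⊓ H) ≠ 48 := fun e => hc
      ((eq_of_le_of_card_ge (inf_le_left : P ⊓ H ≤ P) (by rw [e, hP])).ge hcP).2
    have h24 : 24 ∣ Nat.card ↥(P ⊓ H) :=
      (show Nat.Coprime 8 3 by norm_num).mul_dvd_of_dvd_of_dvd h8 h3
    have hle := Nat.le_of_dvd (by norm_num) hd
    have hpos : 0 < Nat.card ↥(P ⊓ H) := Nat.card_pos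
    omega
  have hnormP : ∀ X : Subgroup G, X ≤ P → P ⊓ H ≤ normalizer (X : Set G) →
      P ≤ normalizer (X : Set G) := fun X hXP hn =>
    hgenP.trans (sup_le hn (zpowers_le.mpr (LocalBasics.centralizer_le_normalizer X
      (mem_centralizer_iff.mpr fun y hy => by
        have := hXP hy
        rw [show P = centralizer ({c} : Set G) from b.cent_c.symm] at this
        exact mem_centralizer_singleton_iff.mp this))))
  refine ⟨hW4, hWH, hWD.trans (hDT.trans le_sup_right), ?_, ?_, fun X hX hXP hn => ?_,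
    fun X hX hne hn => ?_, ?_, le_sup_right⟩
  · refine b.norm_le (b.n.p.side.r.tp.to_le (b.n.p.W_le_Rt.trans inf_le_left))
      (fun e => by rw [e, card_bot] at hW4; omega) ?_
    exact sup_le (le_normalizer.trans (normalizer_le_wOf K))
      (b.n.p.side.norm.trans (normalizer_le_wOf K))
  · rcases b.n.iso with ⟨h1, -⟩ | ⟨-, ⟨e⟩⟩
    · have := b.two; omega
    let f : ↥P →* Equiv.Perm (Fin 4) :=
      (MonoidHom.fst _ _).comp (e.toMonoidHom.comp (MulEquiv.subgroupCongr b.n.L_eq.symm).toMonoidHom)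
    let φ : ↥(P ⊓ H) →* Equiv.Perm (Fin 4) := f.comp (inclusion inf_le_left)
    have hinj : Function.Injective φ := by
      rw [← MonoidHom.ker_eq_bot_iff, eq_bot_iff]
      rintro ⟨x, hxP, hxH⟩ hx
      -- an element of the kernel of `f` is central in `P`
      set e' := (MulEquiv.subgroupCongr b.n.L_eq.symm).trans e with he'
      have hx1 : (e' ⟨x, hxP⟩).1 = 1 := hx
      have hcen : ∀ y (hy : y ∈ P), x * y = y * x := fun y hy => by
        have h : (⟨x, hxP⟩ : ↥P) * ⟨y, hy⟩ = ⟨y, hy⟩ * ⟨x, hxP⟩ := by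
          refine e'.injective ?_
          rw [map_mul, map_mul]
          refine Prod.ext ?_ ?_
          · simp [hx1]
          · exact mul_comm _ _
        exact congrArg Subtype.val h
      have hxx : x * x = 1 := by
        have h : (⟨x, hxP⟩ : ↥P) * ⟨x, hxP⟩ = 1 := by
          refine e'.injective ?_
          rw [map_mul, map_one]
          refine Prod.ext ?_ ?_
          · simp [hx1]
          · exact two_torsion _
        exact congrArg Subtype.val h
      have hxT : x ∈ T := by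
        refine le_sylowTwoIn b.n.p.sylow_P (zpowers_le.mpr hxP) ?_ ?_ (mem_zpowers x)
        · intro y hy
          refine LocalBasics.centralizer_le_normalizer _ (mem_centralizer_iff.mpr ?_)
          rintro _ ⟨i, rfl⟩
          exact ((show Commute x y from hcen y hy).zpow_left i).eq
        · rintro ⟨_, i, rfl⟩
          refine ⟨1, Subtype.ext ?_⟩
          show (x ^ i) ^ 2 ^ 1 = 1
          rw [pow_one, pow_two, ← (Commute.refl x).mul_zpow, hxx, one_zpow]
      have hxR : x ∈ Rt T K := b.n.p.cent_Rt fun r hr => (hcen r (mem_sup_right hr.1)).symm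
      have hxW := hR ⟨hxR, hxH⟩
      by_contra hne
      have hx1' : x ≠ 1 := fun h => hne (Subtype.ext h)
      exact b.n.p.k_moves hxW hx1'
        (mul_inv_eq_iff_eq_mul.mpr (hcen k (mem_sup_left b.n.p.kK)).symm)
    exact ⟨MulEquiv.ofBijective φ ((Nat.bijective_iff_injective_and_card φ).2
      ⟨hinj, by rw [hcard, Nat.card_perm, Nat.card_fin]; rfl⟩)⟩
  · refine le_trans ?_ hR
    exact le_inf (b.n.p.core_P ▸ LocalBasics.le_pCoreOf (hXP.trans inf_le_left)
      (hnormP X (hXP.trans inf_le_left) hn) hX) (hXP.trans inf_le_right)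
  · exact cent_k b.n.p hX hne (hn (hK b.n.p.kK))
  · have h := card_dvd_of_le (le_inf hDT hDH)
    rwa [hD8] at h

theorem maximal_in {W P T : Subgroup G} (i : Inner W P T) :
    Cfsg.IsMaximalTwoLocal (P.subgroupOf (Cfsg.pResidual 2 G)) := by
  have : Fact (Nat.Prime 2) := ⟨Nat.prime_two⟩
  set H := Cfsg.pResidual 2 G with hH
  have hWp : IsPGroup 2 ↥W := IsPGroup.of_card (n := 2) (by rw [i.four]; norm_num)
  have hnormW : normalizer ((W.subgroupOf H : Subgroup ↥H) : Set ↥H) = P.subgroupOf H := by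
    ext x
    rw [mem_subgroupOf, ← i.norm, mem_normalizer_iff, mem_normalizer_iff]
    simp only [mem_subgroupOf, Subgroup.coe_mul, Subgroup.coe_inv]
    refine ⟨fun h g => ?_, fun h g => h g⟩
    by_cases hg : g ∈ H
    · exact h ⟨g, hg⟩
    · refine iff_of_false (fun h' => hg (i.leH h')) fun h' => hg ?_
      have := mul_mem (mul_mem (inv_mem x.2) (i.leH h')) x.2
      simpa [mul_assoc] using this
  refine ⟨⟨W.subgroupOf H, hWp.comap_of_injective H.subtype H.subtype_injective, fun e => ?_,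
    hnormW.symm⟩, ?_⟩
  · have h := Nat.card_congr (subgroupOfEquivOfLe i.leH).toEquiv
    rw [e, card_bot, i.four] at h
    omega
  rintro _ ⟨U, hU, hU1, rfl⟩ hle
  set U' := U.map H.subtype with hU'
  have hU'H : U' ≤ H := map_subtype_le U
  have hSn : P ⊓ H ≤ normalizer (U' : Set G) := by
    rintro x ⟨hxP, hxH⟩
    exact le_normalizer_map (H := U) H.subtype
      ⟨⟨x, hxH⟩, hle (mem_subgroupOf.mpr hxP), rfl⟩
  have hSW : P ⊓ H ≤ normalizer (W : Set G) := inf_le_left.trans i.norm.ge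
  have hWn : W ≤ normalizer (U' : Set G) := fun x hx => hSn ⟨i.lep hx, i.leH hx⟩
  have hVp : IsPGroup 2 ↥(U' ⊔ W) := (hU.map H.subtype).to_sup_of_normal_left' hWp hWn
  have hV : U' ⊔ W = W := by
    by_contra hne
    obtain ⟨y, hyV, hyW, hyN⟩ :=
      ZNShapes82.exists_norm_outside hVp le_sup_right (Ne.symm hne)
    rw [i.norm] at hyN
    refine hyW (i.top2 ((U' ⊔ W) ⊓ P) (hVp.to_le inf_le_left)
      (le_inf inf_le_right (inf_le_left.trans (sup_le hU'H i.leH))) ?_ ⟨hyV, hyN⟩)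
    exact LocalBasics.le_normalizer_inf (LocalBasics.le_normalizer_sup hSn hSW)
      (inf_le_left.trans le_normalizer)
  have hUW : U' = W := i.irred U' (le_sup_left.trans hV.le)
    (fun e => hU1 ((map_eq_bot_iff_of_injective _ H.subtype_injective).mp e)) hSn
  have : U = W.subgroupOf H := by
    rw [← hUW, hU', subgroupOf, comap_map_eq_self_of_injective H.subtype_injective]
  rw [this, hnormW]

theorem exit_pair {W₁ W₂ P₁ P₂ T : Subgroup G} (i₁ : Inner W₁ P₁ T) (i₂ : Inner W₂ P₂ T)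
    (hW : W₁ ≠ W₂) :
    ∃ M₁ M₂ : Subgroup ↥(Cfsg.pResidual 2 G), M₁ ≠ M₂ ∧ Cfsg.IsMaximalTwoLocal M₁ ∧
      Cfsg.IsMaximalTwoLocal M₂ ∧ Nonempty (M₁ ≃* Equiv.Perm (Fin 4)) ∧
      Nonempty (M₂ ≃* Equiv.Perm (Fin 4)) ∧ Nat.card ↥(M₁ ⊓ M₂) = 8 := by
  set H := Cfsg.pResidual 2 G with hH
  have hiso : ∀ P : Subgroup G, Nonempty (↥(P.subgroupOf H) ≃* ↥(P ⊓ H)) := fun P =>
    ⟨(equivMapOfInjective _ H.subtype H.subtype_injective).trans
      (MulEquiv.subgroupCongr (subgroupOf_map_subtype P H))⟩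
  obtain ⟨e₁⟩ := i₁.iso
  obtain ⟨e₂⟩ := i₂.iso
  obtain ⟨f₁⟩ := hiso P₁
  obtain ⟨f₂⟩ := hiso P₂
  have hne : P₁.subgroupOf H ≠ P₂.subgroupOf H := by
    intro e
    have hS : P₁ ⊓ H = P₂ ⊓ H := by
      rw [← subgroupOf_map_subtype, e, subgroupOf_map_subtype]
    have hp : IsPGroup 2 ↥W₁ := IsPGroup.of_card (n := 2) (by rw [i₁.four]; norm_num)
    have h1 : W₁ ≤ W₂ := i₂.top2 W₁ hp (hS.le.trans' (le_inf i₁.lep i₁.leH))
      (hS.ge.trans (inf_le_left.trans i₁.norm.ge))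
    exact hW (eq_of_le_of_card_ge h1 (by rw [i₁.four, i₂.four]))
  refine ⟨_, _, hne, maximal_in i₁, maximal_in i₂, ⟨f₁.trans e₁⟩, ⟨f₂.trans e₂⟩, ?_⟩
  have hc : ∀ {P : Subgroup G}, (↥(P.subgroupOf H) ≃* Equiv.Perm (Fin 4)) →
      Nat.card ↥(P.subgroupOf H) = 24 := fun e => by
    rw [Nat.card_congr e.toEquiv, Nat.card_perm, Nat.card_fin]; rfl
  have h24 := hc (f₁.trans e₁)
  have h24' := hc (f₂.trans e₂)
  have hd := card_dvd_of_le (inf_le_left : P₁.subgroupOf H ⊓ P₂.subgroupOf H ≤ P₁.subgroupOf H)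
  rw [h24] at hd
  have h8 : 8 ∣ Nat.card ↥(P₁.subgroupOf H ⊓ P₂.subgroupOf H) := by
    refine i₁.eight.trans ?_
    rw [← card_map_of_injective (f := H.subtype)
      (K := P₁.subgroupOf H ⊓ P₂.subgroupOf H) H.subtype_injective]
    refine card_dvd_of_le fun x hx => ⟨⟨x, hx.2⟩, ⟨i₁.leT hx.1, i₂.leT hx.1⟩, rfl⟩
  have hne24 : Nat.card ↥(P₁.subgroupOf H ⊓ P₂.subgroupOf H) ≠ 24 := fun e => hne
    ((eq_of_le_of_card_ge inf_le_left (by rw [h24, e])).symm.trans
      (eq_of_le_of_card_ge inf_le_right (by rw [h24', e])))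
  have hle := Nat.le_of_dvd (by norm_num) hd
  have hpos : 0 < Nat.card ↥(P₁.subgroupOf H ⊓ P₂.subgroupOf H) := Nat.card_pos
  rcases (show Nat.card ↥(P₁.subgroupOf H ⊓ P₂.subgroupOf H) = 8 ∨
      Nat.card ↥(P₁.subgroupOf H ⊓ P₂.subgroupOf H) = 16 by omega) with h | h
  · exact h
  · rw [h] at hd
    norm_num at hd

theorem core (hL : Cfsg.IsCharacteristicTwoType G)
    (hN : ∀ N : Subgroup G, Cfsg.IsTwoLocal N → Group.IsSolvable ↥N)
    (hZ : ∀ S : Sylow 2 G, centralizer (Cfsg.omegaCenterOf (S : Subgroup G) : Set G) ≤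
      normalizer ((S : Subgroup G) : Set G))
    (hO : Cfsg.pCore 2 G = ⊥) :
    (∃ M : Subgroup G, Cfsg.IsStronglyEmbedded M) ∨
      ∃ M₁ M₂ : Subgroup ↥(Cfsg.pResidual 2 G), M₁ ≠ M₂ ∧ Cfsg.IsMaximalTwoLocal M₁ ∧
        Cfsg.IsMaximalTwoLocal M₂ ∧ Nonempty (M₁ ≃* Equiv.Perm (Fin 4)) ∧
        Nonempty (M₂ ≃* Equiv.Perm (Fin 4)) ∧ Nat.card ↥(M₁ ⊓ M₂) = 8 := by
  have : Fact (Nat.Prime 2) := ⟨Nat.prime_two⟩
  obtain ⟨S⟩ : Nonempty (Sylow 2 G) := inferInstance
  set J := Cfsg.thompsonSubgroupOf 2 (S : Subgroup G) with hJ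
  have hJne : J ≠ ⊥ := by
    intro e
    have hS : (S : Subgroup G) ≠ ⊥ := by
      intro h
      have := S.not_dvd_index
      rw [h, index_bot] at this
      exact this hL.1.two_dvd
    obtain ⟨x, hxS, hxo⟩ := PGroupsBasic.exists_orderOf_eq_of_ne_bot S.2 hS
    obtain ⟨A, hA⟩ := exists_maxIn (S : Subgroup G)
    have hAb : A = ⊥ := le_bot_iff.mp (e ▸ maxIn_le_thompson hA)
    have h := hA.2.2 (zpowers x) (zpowers_le.mpr hxS)
      (Offenders.ea_zpowers (by rw [← hxo]; exact pow_orderOf_eq_one x))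
    rw [hAb, card_bot, Nat.card_zpowers, hxo] at h
    omega
  set M := normalizer (J : Set G) with hM
  have hMl : Cfsg.IsTwoLocal M :=
    ⟨J, S.2.to_le (Offenders.thompsonOf_le _), hJne, rfl⟩
  by_cases hs : Cfsg.straddlingTwoSubgroups M = ∅
  · exact Or.inl ⟨M, (Cfsg.Agent.S2947.result hL hN hZ hO S M hMl le_rfl).mpr hs⟩
  right
  obtain ⟨T, hT⟩ := ZNCore82.exists_max_straddling (Set.nonempty_iff_ne_empty.mpr hs)
  obtain ⟨K₁, K₂, d⟩ := JCompMaxPair.exists_pair hL hN hZ hO le_rfl hT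
  obtain ⟨w₁, k₁, p₁⟩ := (JCompSide.Side.of_duo d).exists_pick
  obtain ⟨w₂, k₂, p₂⟩ := (JCompSide.Side.of_duo d.symm).exists_pick
  have n : JCompShape.Near T K₁ K₂ w₁ k₁ w₂ k₂ := ⟨d, p₁, p₂⟩
  obtain rfl := n.w_eq
  have hW : Cfsg.wOf K₁ ≠ Cfsg.wOf K₂ := fun e => n.u'_not
    (n.p.W_le_Rt (e.ge (n.p'.k_W n.p'.wW)))
  rcases n.iso with ⟨h1, -⟩ | ⟨h2, -⟩
  · have h1' : Nat.card ↥(Cz T K₂) = 1 := by
      have e := card_Z0 n.duo.r
      rw [card_Z0 n.duo.r', h1] at e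
      omega
    exact exit_pair (inner_small n h1) (inner_small n.symm h1') hW
  have h2' : Nat.card ↥(Cz T K₂) = 2 := by
    have e := card_Z0 n.duo.r
    rw [card_Z0 n.duo.r', h2] at e
    omega
  have hex : ∀ {A : Subgroup G}, Nat.card ↥A = 2 → ∃ a ∈ A, a ≠ 1 := fun {A} hA => by
    by_contra hno
    push Not at hno
    have : A = ⊥ := (eq_bot_iff_forall _).mpr hno
    rw [this, card_bot] at hA
    omega
  obtain ⟨c, hc, hc1⟩ := hex h2
  obtain ⟨c', hc', hc1'⟩ := hex h2'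
  have b : Big T K₁ K₂ w₂ k₁ k₂ c c' := ⟨n, hc, hc1, h2, hc', hc1', h2'⟩
  obtain ⟨Q, hTQ⟩ := d.r.tp.exists_le_sylow
  have key : ∀ {K K' : Subgroup G} {k k' c c' : G}, Big T K K' w₂ k k' c c' →
      c ∉ Cfsg.pResidual 2 G := by
    intro K K' k k' c c' b'
    by_cases hQ : (Q : Subgroup G) = T
    · exact b'.c_not_mem_eq hQ
    · exact b'.c_not_mem_lt hTQ hQ
  exact exit_pair (inner_big b (key b)) (inner_big b.symm (key b.symm)) hW

end Cfsg.Agent.ZNExit82
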