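import Mathlib
import Cfsg.Agent.Lib.ZStarTheorem
import Cfsg.Agent.Lib.QDWreathBase

/-!
# A generalized quaternion direct factor of a Sylow 2-subgroup with central involutions
-/

set_option autoImplicit false

namespace Cfsg.Agent.ZStarQuatFactor

open Cfsg QuaternionGroup
open scoped IsMulCommutative

theorem quat_involution {m : ℕ} [NeZero m] {x : QuaternionGroup m} (hx : x * x = 1) :
    x = 1 ∨ x = a (m : ZMod (2 * m)) := by
  cases x with
  | a i =>
    rw [a_mul_a, one_def, QuaternionGroup.a.injEq] at hx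
    rcases QDWreathBase.two_mul_eq_zero (m := m) rfl (show 2 * i = 0 by linear_combination hx) with h | h
    · exact Or.inl (by rw [h]; rfl)
    · exact Or.inr (by rw [h])
  | xa i =>
    rw [xa_mul_xa, one_def, QuaternionGroup.a.injEq] at hx
    simp only [add_sub_cancel_right] at hx
    rw [ZMod.natCast_eq_zero_iff] at hx
    have := Nat.le_of_dvd (NeZero.pos m) hx
    have := NeZero.pos m
    omega

theorem quat_central (m : ℕ) [NeZero m] (x : QuaternionGroup m) :
    x * a (m : ZMod (2 * m)) = a (m : ZMod (2 * m)) * x := by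
  have h : ((2 * m : ℕ) : ZMod (2 * m)) = 0 := ZMod.natCast_self _
  push_cast at h
  cases x with
  | a i => simp [add_comm]
  | xa i =>
    simp only [xa_mul_a, a_mul_xa, QuaternionGroup.xa.injEq]
    linear_combination h

theorem quat_commutator {n : ℕ} (hn : 1 ≤ n) :
    ∃ x y : QuaternionGroup (2 ^ n), x * y * x⁻¹ * y⁻¹ = a ((2 ^ n : ℕ) : ZMod (2 * 2 ^ n)) := by
  refine ⟨a ((2 ^ (n - 1) : ℕ) : ZMod (2 * 2 ^ n)), xa 0, ?_⟩
  obtain ⟨k, rfl⟩ : ∃ k, n = k + 1 := ⟨n - 1, by omega⟩
  set j : ZMod (2 * 2 ^ (k + 1)) := ((2 ^ (k + 1 - 1) : ℕ) : ZMod (2 * 2 ^ (k + 1))) with hj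
  have e : a j * xa 0 * (a j)⁻¹ * (xa 0)⁻¹ = a (2 * j) := by
    rw [mul_inv_eq_iff_eq_mul, mul_inv_eq_iff_eq_mul]
    simp only [a_mul_xa, a_mul_a, xa_mul_a, QuaternionGroup.xa.injEq]
    ring
  rw [e, hj, QuaternionGroup.a.injEq, Nat.add_sub_cancel]
  push_cast
  rw [pow_succ]; ring

variable {G : Type*} [Group G] [Finite G]

theorem exists_isolated (S : Sylow 2 G) (Q : Subgroup G) (π : (S : Subgroup G) →* Q)
    (hQS : Q ≤ (S : Subgroup G)) (hπ : ∀ x (hx : x ∈ Q), π ⟨x, hQS hx⟩ = ⟨x, hx⟩)
    (hker : ∀ x y : (S : Subgroup G), π y = 1 → (x : G) ∈ Q → x * y = y * x)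
    (hinv : ∀ x : (S : Subgroup G), x * x = 1 → x ∈ Subgroup.center (S : Subgroup G))
    {q : Q} (hq1 : q ≠ 1) (hq : q * q = 1) (huniq : ∀ x : Q, x * x = 1 → x = 1 ∨ x = q)
    {u v : Q} (hcomm : u * v * u⁻¹ * v⁻¹ = q) :
    ∃ w : G, w ∈ S ∧ IsIsolatedInvolution w := by
  classical
  have : Fact (Nat.Prime 2) := ⟨Nat.prime_two⟩
  set N := Subgroup.normalizer ((S : Subgroup G) : Set G) with hN
  let ψ : N →* MulAut (S : Subgroup G) := (S : Subgroup G).normalizerMonoidHom
  have hψ : ∀ (n : N) (x : (S : Subgroup G)), ((ψ n x : (S : Subgroup G)) : G) = n * x * (n : G)⁻¹ :=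
    fun _ _ => rfl
  set q' : (S : Subgroup G) := Subgroup.inclusion hQS q with hq'
  have hπq : π q' = q := hπ q q.2
  have hπQ : ∀ y : Q, π (Subgroup.inclusion hQS y) = y := fun y => hπ y y.2
  have hQ2 : IsPGroup 2 Q := S.isPGroup'.to_le hQS
  have hcenQ : ∀ y : Q, q * y = y * q := fun y => by
    have h1 := hinv q' (by rw [hq', ← map_mul, hq, map_one])
    have h2 := congrArg π (Subgroup.mem_center_iff.1 h1 (Subgroup.inclusion hQS y))
    rw [map_mul, map_mul, hπQ, hπq] at h2
    exact h2.symm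
  have hsq : ∀ n : N, π (ψ n q') = 1 ∨ π (ψ n q') = q := fun n => huniq _ (by
    rw [← map_mul, ← map_mul, hq', ← map_mul, hq, map_one, map_one, map_one])
  -- images of the factor under the projection
  have hbij : ∀ n : N, π (ψ n q') = q → ∀ z : Q, ∃ y : Q, π (ψ n (Subgroup.inclusion hQS y)) = z := by
    intro n hn
    let f : Q →* Q := π.comp ((ψ n).toMonoidHom.comp (Subgroup.inclusion hQS))
    have hf : Function.Injective f := by
      rw [← MonoidHom.ker_eq_bot_iff]
      by_contra hne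
      have hne' : Nontrivial f.ker := (Subgroup.nontrivial_iff_ne_bot _).2 hne
      obtain ⟨k, hk0, hk⟩ := (hQ2.to_subgroup f.ker).nontrivial_iff_card.1 hne'
      obtain ⟨x, hx⟩ := exists_prime_orderOf_dvd_card' (G := f.ker) 2
        (by rw [hk]; exact dvd_pow_self 2 hk0.ne')
      have hx2 : (x : Q) * x = 1 := congrArg Subtype.val (IsolatedInv.sq_of_orderOf_two hx)
      rcases huniq _ hx2 with h | h
      · exact IsolatedInv.ne_one_of_orderOf_two hx (Subtype.ext h)
      · have := x.2
        rw [MonoidHom.mem_ker, h] at this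
        exact hq1 (hn.symm.trans this)
    exact Finite.injective_iff_surjective.1 hf
  -- the projection on commutators factors through the moved projection
  have hkey : ∀ n : N, π (ψ n q') = q → ∀ a b : (S : Subgroup G),
      π (a * b * a⁻¹ * b⁻¹) =
        π (ψ n (Subgroup.inclusion hQS (π (ψ n⁻¹ (a * b * a⁻¹ * b⁻¹))))) := by
    intro n hn a b
    let η : (S : Subgroup G) →* (S : Subgroup G) :=
      (ψ n).toMonoidHom.comp ((Subgroup.inclusion hQS).comp (π.comp (ψ n⁻¹).toMonoidHom))
    have hcen : ∀ x : (S : Subgroup G), ∀ z : Q, π ((η x)⁻¹ * x) * z = z * π ((η x)⁻¹ * x) := by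
      intro x z
      obtain ⟨y, rfl⟩ := hbij n hn z
      rw [← map_mul, ← map_mul]
      refine congrArg π ?_
      set r := (Subgroup.inclusion hQS (π (ψ n⁻¹ x)))⁻¹ * ψ n⁻¹ x with hr
      have e : (η x)⁻¹ * x = ψ n r := by
        rw [hr, map_mul, map_inv (ψ n), map_inv ψ]
        simp only [η, MonoidHom.comp_apply, MulEquiv.coe_toMonoidHom, map_inv, MulAut.apply_inv_self]
      rw [e, ← map_mul, ← map_mul]
      refine congrArg (ψ n) (hker _ r ?_ y.2).symm
      rw [hr, map_mul, map_inv, hπQ, inv_mul_cancel]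
    have hdec : ∀ x : (S : Subgroup G), π x = π (η x) * π ((η x)⁻¹ * x) := fun x => by
      rw [← map_mul, mul_inv_cancel_left]
    show _ = π (η (a * b * a⁻¹ * b⁻¹))
    rw [map_mul η, map_mul η, map_mul η, map_inv η, map_inv η, map_mul π, map_mul π, map_mul π,
      map_inv π, map_inv π, map_mul π, map_mul π, map_mul π, map_inv π, map_inv π, hdec a, hdec b]
    set A := π (η a)
    set B := π (η b)
    set ca := π ((η a)⁻¹ * a) with hca
    set cb := π ((η b)⁻¹ * b) with hcb
    have h1 : ∀ z, ca * z = z * ca := hcen a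
    have h2 : ∀ z, cb * z = z * cb := hcen b
    calc A * ca * (B * cb) * (A * ca)⁻¹ * (B * cb)⁻¹
        = A * (ca * (B * (cb * (ca⁻¹ * A⁻¹)))) * (cb⁻¹ * B⁻¹) := by group
      _ = A * (B * (cb * A⁻¹)) * (cb⁻¹ * B⁻¹) := by
        rw [← mul_assoc ca B, h1, mul_assoc B, ← mul_assoc ca cb, h1, mul_assoc cb,
          mul_inv_cancel_left]
      _ = A * B * A⁻¹ * B⁻¹ := by rw [h2]; group
  set C : Subgroup N :=
    { carrier := {n | ψ n q' = q'}
      one_mem' := by simp
      mul_mem' := fun {x y} hx hy => by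
        simp only [Set.mem_setOf_eq, map_mul, MulAut.mul_apply] at hx hy ⊢
        rw [hy, hx]
      inv_mem' := fun {x} hx => by
        simp only [Set.mem_setOf_eq, map_inv] at hx ⊢
        conv_lhs => rw [← hx]
        exact MulAut.inv_apply_self _ _ _ } with hC
  have hmove : ∀ n : N, π (ψ n q') = q → ∀ c : N, π (ψ c q') = π (ψ (n⁻¹ * c) q') := by
    intro n hn c
    set d := ψ c q' with hd
    have hd' : d = ψ c (Subgroup.inclusion hQS u) * ψ c (Subgroup.inclusion hQS v) *
        (ψ c (Subgroup.inclusion hQS u))⁻¹ * (ψ c (Subgroup.inclusion hQS v))⁻¹ := by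
      rw [hd, hq', ← hcomm]; simp only [map_mul, map_inv]
    have h := hkey n hn (ψ c (Subgroup.inclusion hQS u)) (ψ c (Subgroup.inclusion hQS v))
    rw [← hd'] at h
    rw [h, map_mul, MulAut.mul_apply]
    rcases huniq (π (ψ n⁻¹ d)) (by
      rw [← map_mul, ← map_mul, hd, ← map_mul, hq', ← map_mul, hq, map_one, map_one, map_one, map_one])
      with e | e
    · rw [e, map_one, map_one, map_one]
    · rw [e]; exact hn
  let H₀ : Subgroup N :=
    { carrier := {n | π (ψ n q') = q}
      one_mem' := by simp [hπq]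
      mul_mem' := fun {x y} hx hy => by
        simp only [Set.mem_setOf_eq] at hx hy ⊢
        rw [hmove x hx (x * y), inv_mul_cancel_left, hy]
      inv_mem' := fun {x} hx => by
        simp only [Set.mem_setOf_eq] at hx ⊢
        rw [← mul_one x⁻¹, ← hmove x hx 1, map_one, MulAut.one_apply, hπq] }
  let f : N ⧸ C → Subgroup.center (S : Subgroup G) := fun i => ⟨ψ i.out q', hinv _ (by
    rw [← map_mul, hq', ← map_mul, hq, map_one, map_one])⟩
  have hf : ∀ n : N, (f (n : N ⧸ C) : (S : Subgroup G)) = ψ n q' := by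
    intro n
    obtain ⟨c, hc⟩ := QuotientGroup.mk_out_eq_mul C n
    show ψ (n : N ⧸ C).out q' = _
    rw [hc, map_mul, MulAut.mul_apply, c.2]
  have := Fintype.ofFinite (N ⧸ C)
  have : IsMulCommutative (Subgroup.center (S : Subgroup G)) := inferInstance
  let w₀ : Subgroup.center (S : Subgroup G) := ∏ i : N ⧸ C, f i
  have hfix : ∀ n : N, ψ n (w₀ : (S : Subgroup G)) = w₀ := by
    intro n
    let φ : Subgroup.center (S : Subgroup G) →* Subgroup.center (S : Subgroup G) :=
      ((ψ n).toMonoidHom.comp (Subgroup.center _).subtype).codRestrict _ fun x => by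
        have := Subgroup.characteristic_iff_map_le.1
          (inferInstance : (Subgroup.center (S : Subgroup G)).Characteristic) (ψ n)
        exact this ⟨x, x.2, rfl⟩
    show ((φ w₀ : Subgroup.center (S : Subgroup G)) : (S : Subgroup G)) = _
    rw [map_prod]
    congr 1
    refine Fintype.prod_equiv (MulAction.toPerm n) _ _ fun i => Subtype.ext ?_
    induction i using QuotientGroup.induction_on with
    | H m =>
      show ψ n (f (m : N ⧸ C) : (S : Subgroup G)) = f ((n * m : N) : N ⧸ C)
      rw [hf, hf, map_mul, MulAut.mul_apply]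
  set T : Finset (N ⧸ C) := Finset.univ.filter fun i => i.out ∈ H₀ with hT
  have hmemT : ∀ n : N, (n : N ⧸ C) ∈ T ↔ n ∈ H₀ := by
    intro n
    obtain ⟨c, hc⟩ := QuotientGroup.mk_out_eq_mul C n
    have hcH : (c : N) ∈ H₀ := by
      show π (ψ c q') = q
      rw [c.2, hπq]
    simp only [hT, Finset.mem_filter, Finset.mem_univ, true_and, hc]
    exact ⟨fun h => (Subgroup.mul_mem_cancel_right _ hcH).1 h, fun h => mul_mem h hcH⟩
  have hTodd : Odd T.card := by
    have h1 : Nat.card H₀ = Nat.card C * T.card := by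
      rw [← Nat.card_eq_finsetCard T, ← Nat.card_prod]
      refine Nat.card_congr ((Equiv.subtypeEquivRight fun n => ?_).trans
        (QuotientGroup.preimageMkEquivSubgroupProdSet C (T : Set (N ⧸ C))))
      exact (hmemT n).symm
    have h2 : T.card ∣ C.index := by
      refine (Nat.mul_dvd_mul_iff_left (Nat.card_pos (α := C))).1 ?_
      rw [← h1, C.card_mul_index]
      exact H₀.card_subgroup_dvd_card
    have h3 : (S : Subgroup G).subgroupOf N ≤ C := by
      intro n hn
      show ψ n q' = q'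
      refine Subtype.ext ?_
      rw [hψ, mul_inv_eq_iff_eq_mul]
      exact congrArg Subtype.val (Subgroup.mem_center_iff.1 (hinv q' (by
        rw [hq', ← map_mul, hq, map_one])) ⟨n, hn⟩)
    have h4 : T.card ∣ (S : Subgroup G).index :=
      (h2.trans (Subgroup.index_dvd_of_le h3)).trans
        (Subgroup.relIndex_dvd_index_of_le Subgroup.le_normalizer)
    exact (Nat.not_even_iff_odd.1 fun h => S.not_dvd_index h.two_dvd).of_dvd_nat h4
  have hπw : π (w₀ : (S : Subgroup G)) = q := by
    have : IsMulCommutative (Subgroup.zpowers q) := inferInstance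
    let π' : Subgroup.center (S : Subgroup G) →* Subgroup.center Q :=
      (π.comp (Subgroup.center _).subtype).codRestrict _ fun x => Subgroup.mem_center_iff.2 fun y => by
        rw [← hπQ y, MonoidHom.comp_apply, ← map_mul, ← map_mul]
        exact congrArg π (Subgroup.mem_center_iff.1 x.2 _)
    have hqc : q ∈ Subgroup.center Q := Subgroup.mem_center_iff.2 fun y => (hcenQ y).symm
    have h1 : π' w₀ = ⟨q, hqc⟩ := by
      rw [map_prod, ← Finset.prod_filter_mul_prod_filter_not Finset.univ (fun i => i.out ∈ H₀), ← hT,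
        Finset.prod_eq_pow_card (b := (⟨q, hqc⟩ : Subgroup.center Q)), Finset.prod_eq_one, mul_one]
      · obtain ⟨k, hk⟩ := hTodd
        rw [hk, pow_succ, pow_mul, pow_two]
        have : (⟨q, hqc⟩ : Subgroup.center Q) * ⟨q, hqc⟩ = 1 := Subtype.ext hq
        rw [this, one_pow, one_mul]
      · intro i hi
        exact Subtype.ext ((hsq i.out).resolve_right (Finset.mem_filter.1 hi).2)
      · intro i hi
        exact Subtype.ext (Finset.mem_filter.1 hi).2
    exact congrArg Subtype.val h1
  refine ⟨((w₀ : (S : Subgroup G)) : G), (w₀ : (S : Subgroup G)).2, ?_⟩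
  have hw2 : (w₀ : (S : Subgroup G)) * w₀ = 1 := by
    rw [← Subgroup.coe_mul, ← Finset.prod_mul_distrib, Finset.prod_eq_one fun i _ => ?_]
    · rfl
    · exact Subtype.ext (by
        show ψ i.out q' * ψ i.out q' = 1
        rw [← map_mul, hq', ← map_mul, hq, map_one, map_one])
  have hw1 : (w₀ : (S : Subgroup G)) ≠ 1 := fun h => hq1 (by rw [← hπw, h, map_one])
  have hwo : orderOf ((w₀ : (S : Subgroup G)) : G) = 2 := by
    rw [Subgroup.orderOf_coe]
    exact orderOf_eq_prime (by rw [pow_two, hw2]) hw1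
  refine ZStarBasic.isolated_of_sylow S _ hwo (w₀ : (S : Subgroup G)).2 fun g hg => ?_
  have hcenS : ∀ x : (S : Subgroup G), x * x = 1 →
      (x : G) ∈ Subgroup.centralizer ((S : Subgroup G) : Set G) := fun x hx =>
    Subgroup.mem_centralizer_iff.2 fun s hs =>
      congrArg Subtype.val (Subgroup.mem_center_iff.1 (hinv x hx) ⟨s, hs⟩)
  obtain ⟨n, hn, hny⟩ := Sylow.conj_eq_normalizer_conj_of_mem_centralizer S _ g⁻¹ (hcenS _ hw2)
    (by
      rw [inv_inv]
      exact hcenS ⟨_, hg⟩ (Subtype.ext (IsolatedInv.conj_sq hwo g)))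
  rw [inv_inv] at hny
  rw [hny]
  have := congrArg Subtype.val (hfix ⟨n⁻¹, inv_mem hn⟩)
  rw [hψ] at this
  simpa using this

end Cfsg.Agent.ZStarQuatFactor
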