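import Mathlib
import Cfsg.Agent.Lib.ZStarFusion
import Cfsg.Agent.Lib.WrFusionSub
import Cfsg.Agent.Lib.QDWreathQD
import Cfsg.Agent.S1208

/-!
# An isolated involution with quasi-dihedral or wreathed Sylow 2-subgroup
-/

set_option autoImplicit false

namespace Cfsg.Agent.ZStarWreathed

open Cfsg Cfsg.Agent.QDWreathBase Cfsg.Agent.QDWreathWr Cfsg.Agent.QDWreathWrSub
  Cfsg.Agent.QDWreathWrAut Cfsg.Agent.QDWreathWrQZ Cfsg.Agent.QDWreathWrLocal
  Cfsg.Agent.TwoFusionTools Cfsg.Agent.WrFusion Cfsg.Agent.WrFusionSub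
open Cfsg.Agent.QDWreathQD (QD)

variable {G : Type*} [Group G] [Finite G]

theorem isolated_commute (S : Sylow 2 G) {z : G} (hz : IsIsolatedInvolution z) (hzS : z ∈ S)
    {s : G} (hs : s ∈ S) : s * z = z * s := by
  have : Fact (Nat.Prime 2) := ⟨Nat.prime_two⟩
  have hS : z * s * z⁻¹ * s⁻¹ ∈ (S : Subgroup G) :=
    mul_mem (mul_mem (mul_mem hzS hs) (inv_mem hzS)) (inv_mem hs)
  have hO := ZStarTheorem.commutator_mem hz s
  obtain ⟨k, hk⟩ := (IsPGroup.iff_orderOf.1 S.isPGroup') ⟨_, hS⟩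
  rw [Subgroup.orderOf_mk] at hk
  have h1 : orderOf (z * s * z⁻¹ * s⁻¹) = 1 := hk.trans (((Nat.coprime_two_left.2
    (ZStarTheorem.odd_card_pPrimeCore.of_dvd_nat (Subgroup.orderOf_dvd_natCard _ hO))).pow_left
      k).eq_one_of_dvd hk.symm.dvd)
  rw [orderOf_eq_one_iff, mul_inv_eq_one, mul_inv_eq_iff_eq_mul] at h1
  exact h1.symm

theorem center_qd {l : ℕ} [NeZero l] (p : QD l) (hp : ∀ q, p * q = q * p) :
    p = 1 ∨ p = QDWreathQD.C l := by
  have hne : (1 : ZMod (8 * l)) ≠ 0 ∧ 4 * (l : ZMod (8 * l)) ≠ 1 ∧ 4 * (l : ZMod (8 * l)) + 1 ≠ 0 := by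
    have h8 := QDWreathQD.eight_l (l := l)
    have h2 : (2 : ZMod (8 * l)) ≠ 0 := by
      intro h
      have h1 : ((2 : ℕ) : ZMod (8 * l)) = 0 := by exact_mod_cast h
      rw [ZMod.natCast_eq_zero_iff] at h1
      have := Nat.le_of_dvd two_pos h1
      have := NeZero.pos l
      omega
    exact ⟨fun h => h2 (by linear_combination 2 * h), fun h => h2 (by linear_combination h8 - 2 * h),
      fun h => h2 (by linear_combination 2 * h - h8)⟩
  rcases QDWreathQD.commute_true_iff.1 (hp ⟨0, true⟩) with h | h | h | h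
  · exact Or.inl h
  · exact Or.inr h
  · rcases QDWreathQD.commute_true_iff.1 (hp ⟨1, true⟩) with g | g | g | g
    · exact Or.inl g
    · exact Or.inr g
    · exact absurd (congrArg QD.i (g.symm.trans h)) hne.1
    · have := congrArg QD.i (g.symm.trans h)
      simp [QDWreathQD.C] at this
      exact absurd this hne.2.2
  · rcases QDWreathQD.commute_true_iff.1 (hp ⟨1, true⟩) with g | g | g | g
    · exact Or.inl g
    · exact Or.inr g
    · have := congrArg QD.i (h.symm.trans g)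
      simp [QDWreathQD.C] at this
      exact absurd this hne.2.1
    · have := congrArg QD.i (h.symm.trans g)
      simp [QDWreathQD.C] at this
      exact absurd this hne.1

/-- Fusion of central elements for a wreathed Sylow subgroup and an isolated involution. -/
theorem center_fixed (S : Sylow 2 G) (hS : Cfsg.IsWreathed (S : Subgroup G)) {z : G} (hzS : z ∈ S)
    (hz : IsIsolatedInvolution z) :
    ∀ q ∈ (Subgroup.center (S : Subgroup G)).map (S : Subgroup G).subtype, ∀ g : G,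
      g * q * g⁻¹ ∈ S → g * q * g⁻¹ = q := by
  have hS' := hS
  obtain ⟨n, hn, hcard, l, hl0, hl, ⟨E⟩⟩ := exists_equiv hS'
  have hlm : ∃ m, l = 2 ^ m := ⟨_, hl⟩
  have hU : Nat.card (U0 S E) = 2 ^ (2 * n) := by
    rw [U0_card S E, hl]
    obtain ⟨c, rfl⟩ : ∃ c, n = c + 2 := ⟨n - 2, by omega⟩
    rw [show c + 2 - 2 = c by omega, ← pow_mul, show 2 * (c + 2) = c * 2 + 4 by ring, pow_add]
    ring
  set Q := (Q0 l).map (emb S E) with hQ
  let eQ : Q ≃* QuaternionGroup 2 :=
    ((Subgroup.equivMapOfInjective (Q0 l) (emb S E) (emb_injective S E)).symm.trans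
      (MonoidHom.ofInjective q8Hom_injective).symm)
  have hQS : Q ≤ S := by rintro _ ⟨p, -, rfl⟩; exact emb_mem S E p
  have hidx := S1208.result S hS n hcard (U0 S E) (U0_le S E)
    ⟨⟨fun a b => Subtype.ext (U0_comm S E a.2 b.2)⟩⟩ hU Q hQS eQ
  have hV : Q ⊔ (Subgroup.center (S : Subgroup G)).map (S : Subgroup G).subtype = V0 S E := by
    rw [center_map S E, hQ, ← Subgroup.map_sup, ← QZ_eq]
  rw [hV] at hidx
  have hzC : z ∈ (Subgroup.center (S : Subgroup G)).map (S : Subgroup G).subtype :=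
    ⟨⟨z, hzS⟩, Subgroup.mem_center_iff.2 fun s => Subtype.ext (isolated_commute S hz hzS s.2), rfl⟩
  obtain ⟨c, hc⟩ := mem_center_map S E hzC
  have hzI : z = emb S E (zI l) := by
    have h2 : (zc c : WM l) ^ 2 = 1 := emb_injective S E (by
      rw [map_pow, ← hc, map_one]; exact orderOf_dvd_iff_pow_eq_one.1 hz.1.dvd)
    have h1 : c = 0 ∨ c = hh l := by
      refine two_mul_zero ?_
      rw [sq] at h2
      simpa [zc, WM.ext_iff, QDWreathWr.one_def] using congrArg WM.a h2
    rcases h1 with rfl | rfl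
    · exact absurd (hc.trans (map_one (emb S E))) (IsolatedInv.ne_one_of_orderOf_two hz.1)
    · exact hc
  have hU2 : (Subgroup.centralizer (U0 S E : Set G)).relIndex
      (Subgroup.normalizer (U0 S E : Set G)) = 2 := by
    refine hidx.1.resolve_right fun h6 => ?_
    obtain ⟨g, hg⟩ := isConj_iff.1 (U_six_fused S E hlm h6)
    have h1 := hz.2 g
    rw [hzI, hg] at h1
    have hzcomm : Commute (emb S E (zI l)) (emb S E (dI l)) := by
      show _ * _ = _ * _
      rw [← map_mul, ← map_mul]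
      exact congrArg _ (zc_mul_comm (hh l) (dI l)).symm
    have := congrArg WM.b (emb_injective S E (h1 hzcomm))
    exact hh_ne (l := l) (this.symm)
  intro q hq g hg
  rcases hidx.2 with h2 | h6
  · obtain ⟨P, N, hN, hNP⟩ := complement S E hlm hU2 h2
    have : N.Normal := hN
    obtain ⟨k, rfl⟩ := MulAction.exists_smul_eq G S P
    obtain ⟨q₀, hq₀, rfl⟩ := hq
    have hdec : ∀ x : G, ∃ s ∈ (S : Subgroup G), ∃ m ∈ N, s * m = x := by
      intro x
      obtain ⟨⟨⟨m, hm⟩, ⟨p, hp⟩⟩, h⟩ := hNP.2 (k * x * k⁻¹)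
      simp only at h
      rw [SetLike.mem_coe, Sylow.coe_subgroup_smul, Subgroup.mem_smul_pointwise_iff_exists] at hp
      obtain ⟨s, hs, rfl⟩ := hp
      refine ⟨s, hs, s⁻¹ * (k⁻¹ * m * k) * s, ?_, ?_⟩
      · have h' := hN.conj_mem _ (hN.conj_mem m hm k⁻¹) s⁻¹
        simpa [mul_assoc] using h'
      · have h2 : x = k⁻¹ * (k * x * k⁻¹) * k := by group
        rw [h2, ← h]
        simp [mul_assoc]
    obtain ⟨s, hs, m, hm, rfl⟩ := hdec g
    set q := (S : Subgroup G).subtype q₀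
    have hqS : q ∈ (S : Subgroup G) := q₀.2
    have hcomm : s * q = q * s :=
      congrArg Subtype.val (Subgroup.mem_center_iff.1 hq₀ ⟨s, hs⟩)
    have h1 : m * q * m⁻¹ ∈ (S : Subgroup G) := by
      have := mul_mem (mul_mem (inv_mem hs) hg) hs
      rwa [show s⁻¹ * (s * m * q * (s * m)⁻¹) * s = m * q * m⁻¹ by group] at this
    have h2 : m * q * m⁻¹ * q⁻¹ ∈ N := by
      have := mul_mem hm (hN.conj_mem _ (inv_mem hm) q)
      rwa [show m * (q * m⁻¹ * q⁻¹) = m * q * m⁻¹ * q⁻¹ by group] at this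
    have h3 : m * q * m⁻¹ * q⁻¹ = 1 := by
      have hk : k * (m * q * m⁻¹ * q⁻¹) * k⁻¹ ∈ N ⊓ ((k • S : Sylow 2 G) : Subgroup G) := by
        refine Subgroup.mem_inf.2 ⟨hN.conj_mem _ h2 k, ?_⟩
        rw [Sylow.coe_subgroup_smul, Subgroup.mem_smul_pointwise_iff_exists]
        exact ⟨_, mul_mem h1 (inv_mem hqS), rfl⟩
      rw [disjoint_iff.1 hNP.disjoint, Subgroup.mem_bot] at hk
      exact conj_eq_one_iff.1 hk
    rw [mul_inv_eq_one] at h3
    calc s * m * q * (s * m)⁻¹ = s * (m * q * m⁻¹) * s⁻¹ := by group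
      _ = q := by rw [h3, hcomm, mul_inv_cancel_right]
  · have hdt := V_six_fused S E hlm h6
    obtain ⟨c', rfl⟩ := mem_center_map S E hq
    exact central_fixed S E hlm hU2 hdt c' g hg

/-- The centre of `S` is central modulo the odd core. -/
theorem center_le (S : Sylow 2 G)
    (hS : Cfsg.IsQuasiDihedral (S : Subgroup G) ∨ Cfsg.IsWreathed (S : Subgroup G))
    {z : G} (hzS : z ∈ S) (hz : IsIsolatedInvolution z) :
    (Subgroup.center (S : Subgroup G)).map (S : Subgroup G).subtype ≤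
      (Subgroup.center (G ⧸ pPrimeCore 2 G)).comap (QuotientGroup.mk' (pPrimeCore 2 G)) := by
  rcases hS with hS | hS
  · intro q hq
    obtain ⟨n, -, -, l, hl0, -, ⟨E⟩⟩ := QDWreathQD.exists_equiv hS
    have hcen : ∀ x : (S : Subgroup G), x ∈ Subgroup.center (S : Subgroup G) →
        x = 1 ∨ x = E (QDWreathQD.C l) := by
      intro x hx
      obtain ⟨p, rfl⟩ := E.surjective x
      rcases center_qd p fun q => E.injective (by
        rw [map_mul, map_mul]; exact (Subgroup.mem_center_iff.1 hx (E q)).symm) with h | h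
      · exact Or.inl (by rw [h, map_one])
      · exact Or.inr (by rw [h])
    have hz1 := (hcen ⟨z, hzS⟩ (Subgroup.mem_center_iff.2 fun s =>
      Subtype.ext (isolated_commute S hz hzS s.2))).resolve_left fun h =>
        IsolatedInv.ne_one_of_orderOf_two hz.1 (congrArg Subtype.val h)
    obtain ⟨x, hx, rfl⟩ := hq
    rcases hcen x hx with rfl | rfl
    · rw [map_one]; exact one_mem _
    · rw [← hz1]
      refine Subgroup.mem_center_iff.2 fun g' => ?_
      obtain ⟨g, rfl⟩ := QuotientGroup.mk'_surjective _ g'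
      have h1 := (QuotientGroup.eq_one_iff _).2 (ZStarTheorem.commutator_mem hz g)
      simp only [QuotientGroup.mk_mul, QuotientGroup.mk_inv] at h1
      exact (mul_inv_eq_iff_eq_mul.1 (mul_inv_eq_one.1 h1)).symm
  · intro q hq
    refine ZStarFusion.mk_mem_center S (Subgroup.map_subtype_le _ hq) fun j g hg => ?_
    exact center_fixed S hS hzS hz (q ^ j) (pow_mem hq j) g hg

end Cfsg.Agent.ZStarWreathed
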