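import Mathlib
import Cfsg.Agent.Lib.ZassenhausCoord
import Cfsg.Agent.Lib.FrobeniusNilpotent
import Cfsg.Agent.Lib.FrobeniusFPF
import Cfsg.Agent.Lib.PGroupsCyclic

/-!
Groups of automorphisms of an elementary abelian `2`-group, transitive on the non-trivial elements,
with non-trivial point stabilisers and no non-trivial element fixing two of them.
-/

set_option autoImplicit false

namespace Cfsg.Agent.ZassenhausRegularNormal

universe u v

variable {A : Type u} [Group A] [Finite A] {W : Type v} [CommGroup W] [Finite W]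

/-- The point stabiliser of the action on non-trivial elements. -/
def pointStab (φ : A →* MulAut W) (w : W) : Subgroup A where
  carrier := {g | φ g w = w}
  one_mem' := by show φ 1 w = w; rw [map_one]; rfl
  mul_mem' := fun {g k} hg hk => by
    show φ (g * k) w = w
    rw [map_mul, MulAut.mul_apply, show φ k w = w from hk, show φ g w = w from hg]
  inv_mem' := fun {g} hg => by
    show φ g⁻¹ w = w
    conv_lhs => rw [← show φ g w = w from hg]
    rw [← MulAut.mul_apply, ← map_mul, inv_mul_cancel, map_one]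
    rfl

/-- A cyclic group transitive on the non-trivial elements: the exponent is prime. -/
theorem prime_of_cyclic (φ : A →* MulAut W) {n : W} (hn : n ≠ 1) {κ : A}
    (htr : ∀ w : W, w ≠ 1 → ∃ i : ℕ, φ (κ ^ i) n = w)
    {h : A} (hh : φ h n = n) (hnorm : ∃ i : ℕ, h * κ * h⁻¹ = κ ^ i)
    (hfix : ∀ w : W, φ h w = w → w = 1 ∨ w = n)
    (hfixall : ∀ g : A, φ g n = n → g ∈ Subgroup.zpowers h → (∃ w, φ g w = w ∧ w ≠ 1 ∧ w ≠ n) →
      g = 1)
    {k : ℕ} (hk : Nat.card W = 2 ^ k) (hk2 : 2 ≤ k) : k.Prime := by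
  classical
  have hexp : ∀ w : W, w ≠ 1 → ∀ v : W, v ≠ 1 → ∃ i : ℕ, φ (κ ^ i) v = w := by
    intro w hw v hv
    obtain ⟨i, rfl⟩ := htr w hw
    obtain ⟨i', rfl⟩ := htr v hv
    obtain ⟨m, hm⟩ : ∃ m : ℕ, κ ^ m = κ ^ i * (κ ^ i')⁻¹ := by
      obtain ⟨c, hc⟩ := Nat.exists_eq_succ_of_ne_zero (orderOf_pos κ).ne'
      refine ⟨i + i' * c, ?_⟩
      rw [eq_mul_inv_iff_mul_eq, ← pow_add, show i + i' * c + i' = i + i' * (c + 1) by ring,
        show c + 1 = orderOf κ from hc.symm, pow_add, mul_comm i', pow_mul, pow_orderOf_eq_one,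
        one_pow, mul_one]
    exact ⟨m, by rw [hm, ← MulAut.mul_apply, ← map_mul, inv_mul_cancel_right]⟩
  -- endomorphisms
  let act : A →* AddMonoid.End (Additive W) :=
    { toFun := fun g => MonoidHom.toAdditive (φ g : W ≃* W).toMonoidHom
      map_one' := AddMonoidHom.ext fun x => by
        show Additive.ofMul (φ 1 x.toMul) = x
        rw [map_one]
        rfl
      map_mul' := fun g g' => AddMonoidHom.ext fun x => by
        show Additive.ofMul (φ (g * g') x.toMul) = Additive.ofMul (φ g (φ g' x.toMul))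
        rw [map_mul]
        rfl }
  set T : Set (AddMonoid.End (Additive W)) := {act κ}
  have hT : ∀ x ∈ T, ∀ y ∈ T, x * y = y * x := by
    rintro _ rfl _ rfl
    rfl
  letI : CommRing (Subring.closure T) := Subring.closureCommRingOfComm hT
  have hbij : ∀ r ∈ Subring.closure T, r ≠ 0 →
      Function.Bijective (r : Additive W → Additive W) := by
    intro r hr hr0
    refine Zassenhaus.bijective_of_mem_closure T T hT (fun U hU => ?_) hr hr0
    by_cases hbot : ∀ x ∈ U, x = 0
    · exact Or.inl ((AddSubgroup.eq_bot_iff_forall U).2 hbot)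
    push Not at hbot
    obtain ⟨x, hx, hx0⟩ := hbot
    have hit : ∀ i : ℕ, act (κ ^ i) x ∈ U := by
      intro i
      induction i with
      | zero => rw [pow_zero, map_one]; exact hx
      | succ i ih =>
        rw [pow_succ', map_mul]
        exact hU _ rfl _ ih
    refine Or.inr (AddSubgroup.eq_top_iff' U |>.2 fun y => ?_)
    by_cases hy : y = 0
    · rw [hy]; exact U.zero_mem
    obtain ⟨i, hi⟩ := hexp y.toMul hy x.toMul hx0
    have := hit i
    rwa [show act (κ ^ i) x = y from congrArg Additive.ofMul hi] at this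
  let n₀ : Additive W := Additive.ofMul n
  have hn₀ : n₀ ≠ 0 := hn
  let ev : Subring.closure T →+ Additive W :=
    { toFun := fun r => (r : AddMonoid.End (Additive W)) n₀
      map_zero' := rfl
      map_add' := fun _ _ => rfl }
  have hpowmem : ∀ i : ℕ, act (κ ^ i) ∈ Subring.closure T := fun i => by
    rw [map_pow]
    exact (Subring.closure T).pow_mem (Subring.subset_closure rfl) i
  have hev : Function.Bijective ev := by
    refine ⟨?_, fun y => ?_⟩
    · rw [injective_iff_map_eq_zero]
      intro r hr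
      by_contra hr0
      exact hn₀ ((hbij r r.2 (fun h' => hr0 (Subtype.ext h'))).1
        (hr.trans (map_zero (r : AddMonoid.End (Additive W))).symm :
          (r : AddMonoid.End (Additive W)) n₀ = (r : AddMonoid.End (Additive W)) 0))
    · by_cases hy : y = 0
      · exact ⟨0, hy.symm⟩
      obtain ⟨i, hi⟩ := htr y.toMul hy
      exact ⟨⟨_, hpowmem i⟩, congrArg Additive.ofMul hi⟩
  haveI : Finite (Subring.closure T) := Finite.of_injective _ hev.1
  haveI : Nontrivial (Subring.closure T) :=
    ⟨⟨0, 1, fun h' => hn₀ ((congrArg ev h').symm.trans (map_zero ev))⟩⟩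
  haveI : NoZeroDivisors (Subring.closure T) := ⟨fun {r s} h' => by
    by_contra hc
    push Not at hc
    refine hc.2 (Subtype.ext (AddMonoidHom.ext fun x => ?_))
    exact (hbij r r.2 (fun e => hc.1 (Subtype.ext e))).1
      ((congrArg (fun z : Subring.closure T => (z : AddMonoid.End (Additive W)) x) h').trans
        (map_zero _).symm)⟩
  haveI : IsDomain (Subring.closure T) := NoZeroDivisors.to_isDomain _
  letI := Fintype.ofFinite (Subring.closure T)
  letI : Field (Subring.closure T) := Fintype.fieldOfDomain _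
  have hcardR : Nat.card (Subring.closure T) = 2 ^ k := by
    rw [Nat.card_congr (Equiv.ofBijective _ hev), ← hk]
    exact Nat.card_congr Additive.toMul
  -- conjugation by `h`
  have hconj : ∀ r ∈ Subring.closure T, act h * r * act h⁻¹ ∈ Subring.closure T := by
    intro r hr
    induction hr using Subring.closure_induction with
    | mem x hx =>
      rw [show x = act κ from hx, ← map_mul, ← map_mul]
      obtain ⟨i, hi⟩ := hnorm
      rw [hi]
      exact hpowmem i
    | zero => rw [mul_zero, zero_mul]; exact (Subring.closure T).zero_mem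
    | one =>
      rw [mul_one, ← map_mul, mul_inv_cancel, map_one]
      exact (Subring.closure T).one_mem
    | add x y _ _ hx hy => rw [mul_add, add_mul]; exact (Subring.closure T).add_mem hx hy
    | neg x _ hx =>
      have hneg : act h * -x * act h⁻¹ = -(act h * x * act h⁻¹) := AddMonoidHom.ext fun v => by
        show act h (-(x (act h⁻¹ v))) = -(act h (x (act h⁻¹ v)))
        rw [map_neg]
      rw [hneg]
      exact (Subring.closure T).neg_mem hx
    | mul x y _ _ hx hy =>
      have := (Subring.closure T).mul_mem hx hy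
      rwa [show act h * x * act h⁻¹ * (act h * y * act h⁻¹) =
        act h * x * (act h⁻¹ * act h) * y * act h⁻¹ by simp only [mul_assoc],
        ← map_mul act h⁻¹ h, inv_mul_cancel, map_one, mul_one, mul_assoc (act h) x] at this
  have hact1 : act h⁻¹ * act h = 1 := by rw [← map_mul, inv_mul_cancel, map_one]
  let σ : Subring.closure T →+* Subring.closure T :=
    { toFun := fun r => ⟨_, hconj r r.2⟩
      map_one' := Subtype.ext (by
        show act h * 1 * act h⁻¹ = 1
        rw [mul_one, ← map_mul, mul_inv_cancel, map_one])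
      map_mul' := fun r s => Subtype.ext (by
        show act h * ((r : AddMonoid.End (Additive W)) * s) * act h⁻¹ =
          act h * r * act h⁻¹ * (act h * s * act h⁻¹)
        simp only [mul_assoc]
        rw [← mul_assoc (act h⁻¹) (act h), hact1, one_mul])
      map_zero' := Subtype.ext (by show act h * 0 * act h⁻¹ = 0; rw [mul_zero, zero_mul])
      map_add' := fun r s => Subtype.ext (by
        show act h * ((r : AddMonoid.End (Additive W)) + s) * act h⁻¹ = _
        rw [mul_add, add_mul]
        rfl) }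
  have hh' : φ h⁻¹ n = n := (pointStab φ n).inv_mem hh
  have hσval : ∀ r : Subring.closure T, ev (σ r) = act h (ev r) := by
    intro r
    show act h ((r : AddMonoid.End (Additive W)) (act h⁻¹ n₀)) = _
    rw [show act h⁻¹ n₀ = n₀ from congrArg Additive.ofMul hh']
    rfl
  have hσ1 : ev 1 = n₀ := rfl
  haveI : CharP (Subring.closure T) 2 := by
    obtain ⟨p, hp⟩ := CharP.exists (Subring.closure T)
    haveI := hp
    obtain ⟨m, hpp, hm⟩ := FiniteField.card (Subring.closure T) p
    rw [← Nat.card_eq_fintype_card, hcardR] at hm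
    have h2p : p ∣ 2 ^ k := hm ▸ dvd_pow_self p m.ne_zero
    rw [(Nat.prime_dvd_prime_iff_eq hpp Nat.prime_two).1 (hpp.dvd_of_dvd_pow h2p)] at hp
    exact hp
  haveI : Fact (Nat.Prime 2) := ⟨Nat.prime_two⟩
  letI := ZMod.algebra (Subring.closure T) 2
  have hσbij : Function.Bijective σ :=
    Finite.injective_iff_bijective.1 σ.injective
  let τ : Gal(Subring.closure T/ZMod 2) :=
    AlgEquiv.ofBijective { σ with commutes' := fun x => RingHom.congr_fun (RingHom.ext_zmod
      ((σ.comp (algebraMap (ZMod 2) (Subring.closure T))))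
      (algebraMap (ZMod 2) (Subring.closure T))) x } hσbij
  obtain ⟨⟨i, hik⟩, hi⟩ :=
    (FiniteField.bijective_frobeniusAlgEquivOfAlgebraic_pow (ZMod 2) (Subring.closure T)).2 τ
  have hfin : Module.finrank (ZMod 2) (Subring.closure T) = k := by
    have h1 := Module.natCard_eq_pow_finrank (K := ZMod 2) (V := Subring.closure T)
    rw [hcardR, Nat.card_zmod] at h1
    exact (Nat.pow_right_injective le_rfl h1).symm
  rw [hfin] at hik
  have hσpow : ∀ r : Subring.closure T, σ r = r ^ (2 ^ i) := by
    intro r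
    show τ r = _
    rw [← hi, AlgEquiv.coe_pow, FiniteField.coe_frobeniusAlgEquivOfAlgebraic_iterate, ZMod.card]
  have hpowσ : ∀ (m : ℕ) (r : Subring.closure T), ev (r ^ (2 ^ (i * m))) = act (h ^ m) (ev r) := by
    intro m
    induction m with
    | zero => intro r; rw [mul_zero, pow_zero, pow_one, pow_zero, map_one]; rfl
    | succ m ih =>
      intro r
      rw [show i * (m + 1) = i * m + i by ring, pow_add, pow_mul, ← hσpow, hσval, ih, pow_succ',
        map_mul]
      rfl
  -- subfield elements
  have hsub : ∀ c : ℕ, 2 ≤ c → c ∣ k → ∃ r : Subring.closure T, r ≠ 0 ∧ r ≠ 1 ∧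
      ∀ m, c ∣ m → r ^ (2 ^ m) = r := by
    intro c hc hck
    obtain ⟨g, hg⟩ := IsCyclic.exists_generator (α := (Subring.closure T)ˣ)
    have hgo : orderOf g = 2 ^ k - 1 := by
      rw [orderOf_eq_card_of_forall_mem_zpowers hg, Nat.card_units, hcardR]
    have hd : 2 ^ c - 1 ∣ 2 ^ k - 1 := Nat.pow_sub_one_dvd_pow_sub_one 2 hck
    have hpos : 0 < 2 ^ k - 1 := by
      have : 2 ≤ 2 ^ k := (Nat.le_self_pow (by omega) 2)
      omega
    set s := g ^ ((2 ^ k - 1) / (2 ^ c - 1)) with hs
    have hso : orderOf s = 2 ^ c - 1 := by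
      rw [hs, orderOf_pow_of_dvd (Nat.div_pos (Nat.le_of_dvd hpos hd) (by
        have : 2 ≤ 2 ^ c := (Nat.le_self_pow (by omega) 2)
        omega)).ne' (by rw [hgo]; exact Nat.div_dvd_of_dvd hd), hgo, Nat.div_div_self hd hpos.ne']
    refine ⟨s, s.ne_zero, fun h1 => ?_, fun m hm => ?_⟩
    · rw [show s = 1 from Units.ext (h1.trans Units.val_one.symm), orderOf_one] at hso
      have : 4 ≤ 2 ^ c := by
        calc 4 = 2 ^ 2 := rfl
          _ ≤ 2 ^ c := Nat.pow_le_pow_right (by omega) hc
      omega
    · have h1 : 2 ^ c - 1 ∣ 2 ^ m - 1 := Nat.pow_sub_one_dvd_pow_sub_one 2 hm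
      have h2 : s ^ (2 ^ m) = s := by
        obtain ⟨d, hd'⟩ : ∃ d, 2 ^ m = d + 1 :=
          ⟨2 ^ m - 1, by have := Nat.one_le_two_pow (n := m); omega⟩
        rw [hd', pow_succ, orderOf_dvd_iff_pow_eq_one.1 (hso ▸ (by rwa [hd', Nat.add_sub_cancel] at h1)),
          one_mul]
      rw [← Units.val_pow_eq_pow_val, h2]
  have hkill : ∀ c m : ℕ, 2 ≤ c → c ∣ k → c ∣ i * m → h ^ m = 1 := by
    intro c m hc hck hcm
    obtain ⟨r, hr0, hr1, hr⟩ := hsub c hc hck
    refine hfixall (h ^ m) ((pointStab φ n).pow_mem hh m) (Subgroup.pow_mem _ (Subgroup.mem_zpowers h) m)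
      ⟨(ev r).toMul, ?_, fun h' => hr0 (hev.1 ((show ev r = 0 from h').trans (map_zero ev).symm)),
        fun h' => hr1 (hev.1 ((show ev r = n₀ from h').trans hσ1.symm))⟩
    have := hpowσ m r
    rw [hr _ hcm] at this
    exact congrArg Additive.toMul this.symm
  have hh1 : h ≠ 1 := by
    intro h1
    obtain ⟨r, hr0, hr1, -⟩ := hsub k hk2 dvd_rfl
    rcases hfix (ev r).toMul (by rw [h1, map_one]; rfl) with h' | h'
    · exact hr0 (hev.1 ((show ev r = 0 from h').trans (map_zero ev).symm))
    · exact hr1 (hev.1 ((show ev r = n₀ from h').trans hσ1.symm))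
  have hi0 : i ≠ 0 := by
    intro h0
    exact hh1 (by simpa using hkill k 1 hk2 dvd_rfl (by simp [h0]))
  have hcop : Nat.Coprime i k := by
    by_contra hg
    have h1 : 2 ≤ Nat.gcd i k := by
      have := Nat.pos_of_ne_zero (fun h0 => hi0 (Nat.eq_zero_of_gcd_eq_zero_left h0) : Nat.gcd i k ≠ 0)
      have : Nat.gcd i k ≠ 1 := hg
      omega
    exact hh1 (by simpa using hkill _ 1 h1 (Nat.gcd_dvd_right i k) (by
      rw [mul_one]; exact Nat.gcd_dvd_left i k))
  rw [Nat.prime_def_lt']
  refine ⟨hk2, fun c hc2 hck hcd => ?_⟩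
  have h1 : h ^ c = 1 := hkill c c hc2 hcd (dvd_mul_left c i)
  obtain ⟨g, hg⟩ := IsCyclic.exists_generator (α := (Subring.closure T)ˣ)
  have hgo : orderOf g = 2 ^ k - 1 := by
    rw [orderOf_eq_card_of_forall_mem_zpowers hg, Nat.card_units, hcardR]
  have h2 := hpowσ c (g : Subring.closure T)
  rw [h1, map_one] at h2
  have h3 : g ^ (2 ^ (i * c)) = g := Units.ext (by
    rw [Units.val_pow_eq_pow_val]
    exact hev.1 h2)
  obtain ⟨d, hd⟩ : ∃ d, 2 ^ (i * c) = d + 1 :=
    ⟨2 ^ (i * c) - 1, by have := Nat.one_le_two_pow (n := i * c); omega⟩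
  rw [hd, pow_succ, mul_eq_right] at h3
  have h4 : 2 ^ k - 1 ∣ 2 ^ (i * c) - 1 := by
    rw [← hgo, hd, Nat.add_sub_cancel]
    exact orderOf_dvd_of_pow_eq_one h3
  have h4' : k ∣ i * c := by
    have e1 := Nat.pow_sub_one_mod_pow_sub_one 2 k (i * c)
    rw [Nat.mod_eq_zero_of_dvd h4, eq_comm, Nat.sub_eq_zero_iff_le] at e1
    refine Nat.dvd_of_mod_eq_zero (Nat.eq_zero_of_le_zero (by_contra fun hne => ?_))
    have : 2 ≤ 2 ^ (i * c % k) := Nat.le_self_pow (by omega) 2
    omega
  have h5 : k ∣ c := hcop.symm.dvd_of_dvd_mul_left h4'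
  exact absurd (Nat.le_of_dvd (by omega) h5) (by omega)

/-- A transitive group with Frobenius stabilisers: the exponent is prime. -/
theorem prime_exponent (φ : A →* MulAut W) (hexp : ∀ w : W, w * w = 1)
    (htr : ∀ u w : W, u ≠ 1 → w ≠ 1 → ∃ g : A, φ g u = w)
    (hthree : ∀ g : A, ∀ u w : W, u ≠ 1 → w ≠ 1 → u ≠ w → φ g u = u → φ g w = w → g = 1)
    (hstab : ∃ g : A, g ≠ 1 ∧ ∃ n : W, n ≠ 1 ∧ φ g n = n)
    {k : ℕ} (hk : Nat.card W = 2 ^ k) (hk2 : 3 ≤ k) : k.Prime := by
  classical
  obtain ⟨h₀, hh₀, n, hn, hh₀n⟩ := hstab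
  have hfix2 : ∀ g : A, φ g n = n → g ≠ 1 → ∀ w, φ g w = w → w = 1 ∨ w = n := by
    intro g hg hg1 w hw
    by_contra hc
    push Not at hc
    exact hg1 (hthree g n w hn hc.1 (Ne.symm hc.2) hg hw)
  have h8 : 8 ≤ 2 ^ k := by
    calc 8 = 2 ^ 3 := rfl
      _ ≤ 2 ^ k := Nat.pow_le_pow_right (by omega) hk2
  -- odd order
  have hodd : Odd (Nat.card A) := by
    rw [← Nat.not_even_iff_odd, even_iff_two_dvd]
    intro h2
    obtain ⟨z, hz⟩ := exists_prime_orderOf_dvd_card' (G := A) 2 (hp := ⟨Nat.prime_two⟩) h2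
    have hzz : z * z = 1 := by rw [← pow_two, ← hz]; exact pow_orderOf_eq_one z
    have hz1 : z ≠ 1 := fun e => by rw [e, orderOf_one] at hz; omega
    let F : W →* W :=
      { toFun := fun w => w * φ z w
        map_one' := by simp
        map_mul' := fun u w => by rw [map_mul, mul_mul_mul_comm] }
    have hker : ∀ w, w ∈ F.ker ↔ φ z w = w := fun w => by
      rw [MonoidHom.mem_ker]
      show w * φ z w = 1 ↔ _
      rw [mul_eq_one_iff_eq_inv', inv_eq_of_mul_eq_one_left (hexp w)]
    have hle : F.range ≤ F.ker := by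
      rintro _ ⟨w, rfl⟩
      rw [hker]
      show φ z (w * φ z w) = w * φ z w
      rw [map_mul, ← MulAut.mul_apply, ← map_mul, hzz, map_one, mul_comm]
      rfl
    have hcardker : Nat.card F.ker ≤ 2 := by
      have hsub : ∀ u ∈ F.ker, ∀ w ∈ F.ker, u ≠ 1 → w ≠ 1 → u = w := fun u hu w hw hu1 hw1 =>
        by_contra fun hne => hz1 (hthree z u w hu1 hw1 hne ((hker u).1 hu) ((hker w).1 hw))
      rcases eq_or_ne F.ker ⊥ with he | he
      · rw [he]; simp
      obtain ⟨u, hu, hu1⟩ := F.ker.bot_or_exists_ne_one.resolve_left he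
      calc Nat.card F.ker = (F.ker : Set W).ncard := Nat.card_coe_set_eq _
        _ ≤ ({1, u} : Set W).ncard := Set.ncard_le_ncard (fun w hw => by
            by_cases hw1 : w = 1
            · exact Or.inl hw1
            · exact Or.inr (hsub w hw u hu hw1 hu1))
        _ ≤ 2 := (Set.ncard_insert_le _ _).trans (by rw [Set.ncard_singleton])
    have h1 := Subgroup.card_mul_index F.ker
    rw [Subgroup.index_ker, hk] at h1
    have h2' := (Subgroup.card_le_of_le hle).trans hcardker
    have := Nat.mul_le_mul hcardker h2'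
    omega
  -- the Frobenius kernel
  set H := pointStab φ n with hH
  have hHmem : ∀ g, g ∈ H ↔ φ g n = n := fun g => Iff.rfl
  have hfrob : Cfsg.IsFrobeniusComplement H := by
    refine FrobeniusBasic.isFrobeniusComplement_of_ti ?_ ?_ ?_
    · exact fun e => hh₀ (Subgroup.mem_bot.1 (e ▸ (hHmem h₀).2 hh₀n))
    · intro e
      obtain ⟨w, hw1, hwn⟩ : ∃ w : W, w ≠ 1 ∧ w ≠ n := by
        by_contra hc
        push Not at hc
        have : Nat.card W ≤ ({1, n} : Set W).ncard := by
          rw [← Set.ncard_univ]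
          exact Set.ncard_le_ncard (fun w _ => by
            by_cases hw : w = 1
            · exact Or.inl hw
            · exact Or.inr (hc w hw))
        have h2 : ({1, n} : Set W).ncard ≤ 2 :=
          (Set.ncard_insert_le _ _).trans (by rw [Set.ncard_singleton])
        omega
      obtain ⟨g, hg⟩ := htr n w hn hw1
      exact hwn (hg.symm.trans ((hHmem g).1 (e ▸ Subgroup.mem_top g)))
    · intro g x hx hx1 hgx
      rw [hHmem] at hx hgx ⊢
      rw [map_mul, MulAut.mul_apply, map_mul, MulAut.mul_apply] at hgx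
      have h1 : φ x (φ g n) = φ g n := by
        have := congrArg (φ g) hgx
        rwa [← MulAut.mul_apply, ← map_mul, mul_inv_cancel, map_one, MulAut.one_apply] at this
      by_contra hne
      exact hne ((hfix2 x hx hx1 _ h1).resolve_left fun h' => hn ((φ g).injective
        (h'.trans (map_one _).symm)))
  obtain ⟨K, hKset, hKn, hKc, hKnil⟩ := FrobeniusNilpotent.exists_nilpotent_kernel hfrob
  haveI := hKn
  haveI := hKnil
  have hKfpf : ∀ g ∈ K, g ≠ 1 → ∀ w : W, φ g w = w → w = 1 := by
    intro g hg hg1 w hw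
    by_contra hw1
    obtain ⟨c, hc⟩ := htr n w hn hw1
    have hgk : g ∈ Cfsg.frobeniusKernel H := hKset ▸ hg
    refine (hgk.resolve_left hg1) c (FrobeniusBasic.mem_conj_smul_iff.2 ?_)
    rw [hHmem, map_mul, MulAut.mul_apply, map_mul, MulAut.mul_apply, hc, hw, ← hc,
      ← MulAut.mul_apply, ← map_mul, inv_mul_cancel, map_one, MulAut.one_apply]
  have hfpf : @FrobeniusFPF.IsFPF K W _ _ (MulDistribMulAction.compHom W (φ.comp K.subtype)) :=
    fun m hm w hw => hKfpf m m.2 (fun e => hm (Subtype.ext e)) w hw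
  haveI : Nontrivial W := ⟨n, 1, hn⟩
  haveI : IsCyclic K := by
    let _ := MulDistribMulAction.compHom W (φ.comp K.subtype)
    haveI : IsZGroup K := by
      rw [isZGroup_iff]
      intro p hp P
      haveI := Fact.mk hp
      by_contra hnc
      have hp2 : p ≠ 2 := by
        rintro rfl
        apply hnc
        have : Nat.card P = 1 := by
          obtain ⟨i, hi⟩ := P.isPGroup'.exists_card_eq
          rcases i with _ | i
          · exact hi.trans (pow_zero 2)
          · exfalso
            have h1 : 2 ∣ Nat.card A := (hi ▸ dvd_pow_self 2 i.succ_ne_zero : 2 ∣ Nat.card P).trans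
              ((Subgroup.card_subgroup_dvd_card _).trans (Subgroup.card_subgroup_dvd_card _))
            exact hodd.not_two_dvd_nat h1
        haveI : Subsingleton P := (Nat.card_eq_one_iff_unique.1 this).1
        exact isCyclic_of_subsingleton
      obtain ⟨E, -, hEc, hE⟩ := PGroupsCyclic.exists_normal_elementary_sq P.isPGroup' hp2 hnc
      have hEfpf := FrobeniusFPF.isFPF_subgroup
        (FrobeniusFPF.isFPF_subgroup hfpf (P : Subgroup K)) E
      haveI := FrobeniusFPF.isCyclic_of_comm hEfpf fun x y => hE.1.is_comm.comm x y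
      have h1 : Monoid.exponent E ∣ p := Monoid.exponent_dvd_of_forall_pow_eq_one fun x =>
        Subtype.ext (hE.2 x x.2)
      rw [IsCyclic.exponent_eq_card, hEc, pow_two] at h1
      have := Nat.le_of_dvd hp.pos h1
      nlinarith [hp.two_le]
    infer_instance
  obtain ⟨κ, hκ⟩ := IsCyclic.exists_generator (α := K)
  -- regularity
  have hcardK : Nat.card K + 1 = Nat.card W := by
    have hidx := hKc.index_eq_card
    let f : A ⧸ H → {w : W // w ≠ 1} := Quotient.lift
      (fun g => ⟨φ g n, fun h' => hn ((φ g).injective (h'.trans (map_one _).symm))⟩)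
      fun g g' hgg => Subtype.ext (by
        have hm : φ (g⁻¹ * g') n = n := QuotientGroup.leftRel_apply.1 hgg
        show φ g n = φ g' n
        conv_lhs => rw [← hm]
        rw [← MulAut.mul_apply, ← map_mul, mul_inv_cancel_left])
    have hf : Function.Bijective f := by
      refine ⟨?_, fun w => ?_⟩
      · intro p q
        induction p using Quotient.inductionOn' with
        | h x =>
          induction q using Quotient.inductionOn' with
          | h y =>
            intro e
            have e' : φ x n = φ y n := congrArg Subtype.val e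
            refine QuotientGroup.eq.2 ?_
            show φ (x⁻¹ * y) n = n
            rw [map_mul, MulAut.mul_apply, ← e', ← MulAut.mul_apply, ← map_mul, inv_mul_cancel,
              map_one, MulAut.one_apply]
      · obtain ⟨g, hg⟩ := htr n w hn w.2
        exact ⟨QuotientGroup.mk g, Subtype.ext hg⟩
    have h1 := Nat.card_congr (Equiv.ofBijective f hf)
    rw [← Subgroup.index_eq_card, hidx] at h1
    haveI := Fintype.ofFinite W
    rw [h1, Nat.card_eq_fintype_card, Fintype.card_subtype_compl, Fintype.card_subtype_eq,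
      Nat.card_eq_fintype_card]
    have : 1 ≤ Fintype.card W := Fintype.card_pos
    omega
  have htrK : ∀ w : W, w ≠ 1 → ∃ i : ℕ, φ ((κ : A) ^ i) n = w := by
    intro w hw
    let f : K → {w : W // w ≠ 1} := fun g =>
      ⟨φ g n, fun h' => hn ((φ g).injective (h'.trans (map_one _).symm))⟩
    have hf : Function.Bijective f := by
      refine (Nat.bijective_iff_injective_and_card f).2 ⟨fun x y e => ?_, ?_⟩
      · have e' : φ x n = φ y n := congrArg Subtype.val e
        by_contra hne
        refine hn (hKfpf _ (K.mul_mem (K.inv_mem x.2) y.2)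
          (fun h' => hne (Subtype.ext (inv_mul_eq_one.1 h'))) n ?_)
        rw [map_mul, MulAut.mul_apply, ← e', ← MulAut.mul_apply, ← map_mul, inv_mul_cancel,
          map_one, MulAut.one_apply]
      · haveI := Fintype.ofFinite W
        rw [Nat.card_eq_fintype_card (α := {w : W // w ≠ 1}), Fintype.card_subtype_compl,
          Fintype.card_subtype_eq, ← Nat.card_eq_fintype_card]
        omega
    obtain ⟨g, hg⟩ := hf.2 ⟨w, hw⟩
    obtain ⟨i, hi⟩ := ((isOfFinOrder_of_finite κ).mem_powers_iff_mem_zpowers.2 (hκ g))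
    exact ⟨i, by rw [← SubmonoidClass.coe_pow, show κ ^ i = g from hi]; exact congrArg Subtype.val hg⟩
  refine prime_of_cyclic φ hn htrK hh₀n ?_ (hfix2 h₀ hh₀n hh₀) ?_ hk (by omega)
  · obtain ⟨i, hi⟩ := ((isOfFinOrder_of_finite κ).mem_powers_iff_mem_zpowers.2
      (hκ ⟨h₀ * κ * h₀⁻¹, hKn.conj_mem _ κ.2 h₀⟩))
    exact ⟨i, (congrArg Subtype.val hi).symm.trans (SubmonoidClass.coe_pow κ i)⟩
  · rintro g hg - ⟨w, hw, hw1, hwn⟩
    by_contra hg1
    exact (hfix2 g hg hg1 w hw).elim hw1 hwn

end Cfsg.Agent.ZassenhausRegularNormal
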