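import Cfsg.Agent.Lib.ZornQuaternionPair50

/-!
A Sylow `2`-subgroup of the automorphism group of the split octonions in odd characteristic, and the
vanishing of squares in its abelianisation.
-/

set_option autoImplicit false

open Matrix Cfsg.Agent.ZornQuaternionPair50

namespace Cfsg.Agent.ZornSylowTwo50

variable {F : Type*} [Field F]

/-- A `p`-subgroup whose normaliser lies in a subgroup in which its index is prime to `p` is a
Sylow subgroup. -/
theorem exists_sylow_eq {G : Type*} [Group G] [Finite G] {p : ℕ} [Fact p.Prime] {P C : Subgroup G}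
    (hP : IsPGroup p P) (hPC : P ≤ C) (hN : Subgroup.normalizer (P : Set G) ≤ C)
    (hidx : ¬ p * Nat.card P ∣ Nat.card C) : ∃ S : Sylow p G, (S : Subgroup G) = P := by
  obtain ⟨S, hS⟩ := hP.exists_le_sylow
  refine ⟨S, le_antisymm ?_ hS⟩
  by_contra hne
  have hlt : P.subgroupOf (S : Subgroup G) ≠ ⊤ := fun h => hne (Subgroup.subgroupOf_eq_top.1 h)
  have : Group.IsNilpotent (S : Subgroup G) := S.isPGroup'.isNilpotent
  have hn := Group.normalizerCondition_of_isNilpotent (P.subgroupOf (S : Subgroup G))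
    hlt.lt_top
  obtain ⟨w, hw, hwP⟩ := SetLike.exists_of_lt hn
  have hwC : (w : G) ∈ Subgroup.normalizer (P : Set G) := by
    rw [Subgroup.mem_normalizer_iff]
    intro h
    rw [Subgroup.mem_normalizer_iff] at hw
    constructor
    · intro hh
      have := (hw ⟨h, hS hh⟩).1 (Subgroup.mem_subgroupOf.2 hh)
      simpa [Subgroup.mem_subgroupOf] using this
    · intro hh
      have hS' : h ∈ (S : Subgroup G) := by
        have := mul_mem (mul_mem (inv_mem w.2) (hS hh)) w.2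
        simpa [mul_assoc] using this
      exact Subgroup.mem_subgroupOf.1 ((hw ⟨h, hS'⟩).2 (Subgroup.mem_subgroupOf.2 hh))
  set M := (S : Subgroup G) ⊓ C with hM
  have hPM : P ≤ M := le_inf hS hPC
  have hwM : (w : G) ∈ M := ⟨w.2, hN hwC⟩
  have hne' : P ≠ M := fun e => hwP (Subgroup.mem_subgroupOf.2 (e ▸ hwM))
  obtain ⟨i, hi⟩ := IsPGroup.iff_card.1 hP
  obtain ⟨k, hk⟩ := IsPGroup.iff_card.1 (S.isPGroup'.to_le (inf_le_left : M ≤ _))
  have hik : i < k := by
    by_contra hle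
    refine hne' (Subgroup.eq_of_le_of_card_ge hPM ?_)
    rw [hi, hk]
    exact Nat.pow_le_pow_right (Fact.out : p.Prime).pos (not_lt.1 hle)
  refine hidx (dvd_trans ?_ (Subgroup.card_dvd_of_le (inf_le_right : M ≤ C)))
  rw [hi, hk, ← pow_succ']
  exact pow_dvd_pow p hik

/-- Scalar matrices. -/
def sc (c : Fˣ) : GL (Fin 2) F := Units.map (Matrix.scalar (Fin 2)).toMonoidHom c

theorem sc_coe (c : Fˣ) : (sc c : Matrix (Fin 2) (Fin 2) F) = (c : F) • 1 := by
  ext i j; simp [sc, Matrix.one_apply, Matrix.diagonal]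

/-- A non-scalar two by two matrix has only its linear polynomials in the centraliser. -/
theorem exists_poly {M X : Matrix (Fin 2) (Fin 2) F} (hM : ∀ c : F, M ≠ c • 1)
    (h : X * M = M * X) : ∃ α β : F, X = α • 1 + β • M := by
  have e00 := congrFun (congrFun h 0) 0
  have e01 := congrFun (congrFun h 0) 1
  have e10 := congrFun (congrFun h 1) 0
  simp [Matrix.mul_apply, Fin.sum_univ_two] at e00 e01 e10
  by_cases h01 : M 0 1 = 0
  · by_cases h10 : M 1 0 = 0
    · have hd : M 0 0 - M 1 1 ≠ 0 := fun e => hM (M 0 0) (by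
        ext i j
        fin_cases i <;> fin_cases j <;> simp [h01, h10]
        linear_combination -e)
      have x01 : X 0 1 = 0 := by
        rw [h01] at e01
        have : X 0 1 * (M 0 0 - M 1 1) = 0 := by linear_combination -e01
        simpa [hd] using this
      have x10 : X 1 0 = 0 := by
        rw [h10] at e10
        have : X 1 0 * (M 0 0 - M 1 1) = 0 := by linear_combination e10
        simpa [hd] using this
      refine ⟨X 0 0 - (X 0 0 - X 1 1) / (M 0 0 - M 1 1) * M 0 0,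
        (X 0 0 - X 1 1) / (M 0 0 - M 1 1), ?_⟩
      ext i j
      fin_cases i <;> fin_cases j <;> simp [h01, h10, x01, x10]
      field_simp
      ring
    · refine ⟨X 0 0 - X 1 0 / M 1 0 * M 0 0, X 1 0 / M 1 0, ?_⟩
      ext i j
      fin_cases i <;> fin_cases j <;> simp <;> field_simp
      · have : X 0 1 * M 1 0 = M 0 1 * X 1 0 := by linear_combination e00
        linear_combination this
      · linear_combination e10
  · refine ⟨X 0 0 - X 0 1 / M 0 1 * M 0 0, X 0 1 / M 0 1, ?_⟩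
    ext i j
    fin_cases i <;> fin_cases j <;> simp <;> field_simp
    · linear_combination -e00
    · linear_combination -e01

/-- A torus element `R` with nonsquare determinant and an element inverting it. -/
structure TwoData (F : Type*) [Field F] where
  R : GL (Fin 2) F
  j : GL (Fin 2) F
  a : ℕ
  m : ℕ
  one_lt : 2 ≤ a
  j_sq : j * j = -1
  j_det : Matrix.GeneralLinearGroup.det j = 1
  conj : R * (j * R * j⁻¹) = sc (Matrix.GeneralLinearGroup.det R)
  nonsq : ∀ c : F, c * c ≠ (Matrix.GeneralLinearGroup.det R : F)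
  pow_m : R ^ 2 ^ m = 1
  top : (sc (Matrix.GeneralLinearGroup.det R)⁻¹ * (R * R)) ^ 2 ^ (a - 1) = -1
  two_part : ∀ q, Nat.card F = q → ¬ 2 ^ (a + 2) ∣ q ^ 2 - 1 ∧ Odd q

namespace TwoData

variable (D : TwoData F)

/-- The element of determinant one. -/
def r : GL (Fin 2) F := sc (Matrix.GeneralLinearGroup.det D.R)⁻¹ * (D.R * D.R)

theorem sc_comm (c : Fˣ) (x : GL (Fin 2) F) : sc c * x = x * sc c := by
  ext1
  simp [sc_coe]

theorem sc_inv (c : Fˣ) : (sc c)⁻¹ = sc c⁻¹ := (map_inv _ c).symm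

theorem sc_mul (c d : Fˣ) : sc c * sc d = sc (c * d) := (map_mul _ c d).symm

theorem det_sc (c : Fˣ) : Matrix.GeneralLinearGroup.det (sc c) = c * c := by
  ext
  rw [Matrix.GeneralLinearGroup.val_det_apply, sc_coe]
  simp [sq]

theorem r_det : Matrix.GeneralLinearGroup.det D.r = 1 := by
  rw [r, map_mul, map_mul, det_sc]
  group

theorem conjR_inv : D.j * D.R * D.j⁻¹ = D.R⁻¹ * sc (Matrix.GeneralLinearGroup.det D.R) := by
  rw [← D.conj, inv_mul_cancel_left]

theorem j_conj_r : D.j * D.r * D.j⁻¹ = D.r⁻¹ := by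
  have h : D.j * D.r * D.j⁻¹ = sc (Matrix.GeneralLinearGroup.det D.R)⁻¹ *
      ((D.j * D.R * D.j⁻¹) * (D.j * D.R * D.j⁻¹)) := by
    rw [r, ← mul_assoc D.j, ← sc_comm]
    group
  have hs : ∀ (u : Fˣ) (x : GL (Fin 2) F),
      sc u⁻¹ * (x⁻¹ * sc u * (x⁻¹ * sc u)) = (sc u⁻¹ * (x * x))⁻¹ := fun u x => by
    rw [sc_comm u⁻¹ (x * x), _root_.mul_inv_rev, sc_inv, inv_inv]
    calc sc u⁻¹ * (x⁻¹ * sc u * (x⁻¹ * sc u)) = sc u⁻¹ * (sc u * x⁻¹ * (sc u * x⁻¹)) := by
          simp only [sc_comm]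
      _ = (sc u⁻¹ * sc u) * (x⁻¹ * sc u * x⁻¹) := by simp only [mul_assoc]
      _ = (x⁻¹ * sc u) * x⁻¹ := by
          rw [sc_mul, inv_mul_cancel, show sc (1 : Fˣ) = 1 from map_one _, one_mul]
      _ = sc u * x⁻¹ * x⁻¹ := by rw [sc_comm]
      _ = sc u * (x * x)⁻¹ := by rw [_root_.mul_inv_rev, mul_assoc]
  rw [h, conjR_inv, r]
  exact hs _ _

theorem R_conj_j : D.R * D.j * D.R⁻¹ = D.r * D.j := by
  have h : D.R * D.j * D.R⁻¹ = D.R * (D.j * D.R * D.j⁻¹)⁻¹ * D.j := by group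
  rw [h, conjR_inv, _root_.mul_inv_rev, inv_inv, sc_inv, ← mul_assoc D.R, ← sc_comm, r, mul_assoc (sc _)]

theorem R_conj_r : D.R * D.r * D.R⁻¹ = D.r := by
  rw [r, ← mul_assoc, ← sc_comm]
  group

theorem R_sq : D.R * D.R = sc (Matrix.GeneralLinearGroup.det D.R) * D.r := by
  rw [r, ← mul_assoc, sc_mul, mul_inv_cancel, show sc (1 : Fˣ) = 1 from map_one _, one_mul]

theorem r_pow : D.r ^ 2 ^ D.a = 1 := by
  have := D.one_lt
  rw [show D.a = D.a - 1 + 1 by omega, pow_succ, pow_mul]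
  rw [show D.r ^ 2 ^ (D.a - 1) = -1 from D.top]
  simp

theorem neg_one_ne (h2 : (2 : F) ≠ 0) : (-1 : GL (Fin 2) F) ≠ 1 := fun h => by
  have h1 := congrArg (fun x : GL (Fin 2) F => (x : Matrix (Fin 2) (Fin 2) F) 0 0) h
  simp at h1
  exact h2 (by linear_combination -h1)

theorem r_order (h2 : (2 : F) ≠ 0) : orderOf D.r = 2 ^ D.a := by
  have := D.one_lt
  have : Fact (Nat.Prime 2) := ⟨Nat.prime_two⟩
  rw [show D.a = D.a - 1 + 1 by omega]
  refine orderOf_eq_prime_pow ?_ (by rw [show D.a - 1 + 1 = D.a by omega]; exact D.r_pow)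
  rw [show D.r ^ 2 ^ (D.a - 1) = -1 from D.top]
  exact neg_one_ne h2

theorem r_sq_ne (h2 : (2 : F) ≠ 0) : D.r * D.r ≠ 1 := fun h => by
  have h1 : 2 ^ D.a ∣ 2 := r_order D h2 ▸ orderOf_dvd_of_pow_eq_one (by rw [pow_two]; exact h)
  have := Nat.le_of_dvd (by norm_num) h1
  have : 2 ^ 2 ≤ 2 ^ D.a := Nat.pow_le_pow_right (by norm_num) D.one_lt
  omega

theorem j_r_pow (i : ℕ) : D.j * D.r ^ i = (D.r⁻¹) ^ i * D.j := by
  rw [← D.j_conj_r, conj_pow]
  group

theorem rinv_pow (i : ℕ) : ∃ k, (D.r⁻¹) ^ i = D.r ^ k := by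
  refine ⟨(2 ^ D.a - 1) * i, ?_⟩
  rw [pow_mul]
  congr 1
  rw [inv_eq_iff_mul_eq_one, ← pow_succ', Nat.sub_add_cancel (Nat.one_le_two_pow), D.r_pow]

theorem j_sq_eq : D.j * D.j = D.r ^ 2 ^ (D.a - 1) := D.j_sq.trans D.top.symm

/-- The quaternion group generated by `r` and `j`. -/
def Q : Submonoid (GL (Fin 2) F) where
  carrier := {x | ∃ i : ℕ, x = D.r ^ i ∨ x = D.r ^ i * D.j}
  one_mem' := ⟨0, Or.inl (pow_zero _).symm⟩
  mul_mem' := by
    rintro x y ⟨i, rfl | rfl⟩ ⟨l, rfl | rfl⟩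
    · exact ⟨i + l, Or.inl (pow_add _ _ _).symm⟩
    · exact ⟨i + l, Or.inr (by rw [pow_add, mul_assoc])⟩
    · obtain ⟨k, hk⟩ := D.rinv_pow l
      exact ⟨i + k, Or.inr (by rw [mul_assoc, D.j_r_pow, hk, ← mul_assoc, pow_add])⟩
    · obtain ⟨k, hk⟩ := D.rinv_pow l
      refine ⟨i + k + 2 ^ (D.a - 1), Or.inl ?_⟩
      rw [mul_assoc, ← mul_assoc D.j, D.j_r_pow, hk, mul_assoc (D.r ^ k), D.j_sq_eq, ← mul_assoc,
        pow_add, pow_add]

variable [Finite F]

/-- The quaternion group as a subgroup. -/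
def Qg : Subgroup (GL (Fin 2) F) where
  toSubmonoid := D.Q
  inv_mem' {x} hx := by
    have h : x⁻¹ = x ^ (orderOf x - 1) := by
      rw [inv_eq_iff_mul_eq_one, ← pow_succ', Nat.sub_add_cancel (orderOf_pos x),
        pow_orderOf_eq_one]
    rw [h]
    exact pow_mem (show x ∈ D.Q from hx) _

theorem mem_Qg {x : GL (Fin 2) F} : x ∈ D.Qg ↔ ∃ i : ℕ, x = D.r ^ i ∨ x = D.r ^ i * D.j := Iff.rfl

theorem r_mem : D.r ∈ D.Qg := ⟨1, Or.inl (pow_one _).symm⟩

theorem j_mem : D.j ∈ D.Qg := ⟨0, Or.inr (by rw [pow_zero, one_mul])⟩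

theorem card_Qg (h2 : (2 : F) ≠ 0) : Nat.card D.Qg = 2 ^ (D.a + 1) := by
  let f : Fin (2 ^ D.a) × Bool → D.Qg := fun p =>
    ⟨D.r ^ (p.1 : ℕ) * (if p.2 then D.j else 1), mul_mem (pow_mem D.r_mem _) (by
      split
      · exact D.j_mem
      · exact one_mem _)⟩
  have hinj : ∀ i k : Fin (2 ^ D.a), D.r ^ (i : ℕ) = D.r ^ (k : ℕ) → i = k := fun i k h =>
    Fin.ext (pow_injOn_Iio_orderOf (by simp [r_order D h2]) (by simp [r_order D h2]) h)
  have hj : ∀ i k : ℕ, D.r ^ i * D.j ≠ D.r ^ k := by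
    intro i k h
    have hc : Commute D.j D.r := by
      rw [show D.j = (D.r ^ i)⁻¹ * D.r ^ k by rw [← h, inv_mul_cancel_left]]
      exact (((Commute.refl D.r).pow_left i).inv_left).mul_left ((Commute.refl D.r).pow_left k)
    have := D.j_conj_r
    rw [hc.eq, mul_inv_cancel_right] at this
    exact D.r_sq_ne h2 (mul_eq_one_iff_eq_inv.2 this)
  have hf : Function.Bijective f := by
    constructor
    · rintro ⟨i, b⟩ ⟨k, c⟩ h
      have h' := congrArg Subtype.val h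
      cases b <;> cases c <;> simp [f] at h'
      · rw [hinj i k h']
      · exact absurd h'.symm (hj k i)
      · exact absurd h' (hj i k)
      · rw [hinj i k h']
    · rintro ⟨x, i, hx⟩
      have hmod : D.r ^ i = D.r ^ (i % 2 ^ D.a) := by rw [← r_order D h2, pow_mod_orderOf]
      rcases hx with rfl | rfl
      · exact ⟨(⟨i % 2 ^ D.a, Nat.mod_lt _ (by positivity)⟩, false), Subtype.ext (by simp [f, ← hmod])⟩
      · exact ⟨(⟨i % 2 ^ D.a, Nat.mod_lt _ (by positivity)⟩, true), Subtype.ext (by simp [f, ← hmod])⟩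
  rw [← Nat.card_eq_of_bijective f hf, Nat.card_prod, Nat.card_eq_fintype_card,
    Nat.card_eq_fintype_card, Fintype.card_fin, Fintype.card_bool, pow_succ]

theorem Qg_det {x : GL (Fin 2) F} (hx : x ∈ D.Qg) : Matrix.GeneralLinearGroup.det x = 1 := by
  obtain ⟨i, rfl | rfl⟩ := hx <;> simp [D.r_det, D.j_det]

theorem R_conj_mem {x : GL (Fin 2) F} (hx : x ∈ D.Qg) : D.R * x * D.R⁻¹ ∈ D.Qg := by
  obtain ⟨i, rfl | rfl⟩ := hx
  · rw [← conj_pow, D.R_conj_r]; exact pow_mem D.r_mem _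
  · rw [show D.R * (D.r ^ i * D.j) * D.R⁻¹ =
      (D.R * D.r ^ i * D.R⁻¹) * (D.R * D.j * D.R⁻¹) by group, ← conj_pow, D.R_conj_r, D.R_conj_j]
    exact mul_mem (pow_mem D.r_mem _) (mul_mem D.r_mem D.j_mem)

/-- The two quaternion factors in `K`. -/
def pair : D.Qg × D.Qg →* K F where
  toFun p := ⟨(p.1.1, p.2.1), by
    show Matrix.GeneralLinearGroup.det p.1.1 = Matrix.GeneralLinearGroup.det p.2.1
    rw [D.Qg_det p.1.2, D.Qg_det p.2.2]⟩
  map_one' := rfl
  map_mul' _ _ := rfl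

/-- The diagonal element. -/
def DD : K F := ⟨(D.R, D.R), rfl⟩

/-- The outer element. -/
noncomputable def t : Cfsg.Lie.G2 F := phi D.DD

/-- The image of the two quaternion factors. -/
noncomputable def E : Subgroup (Cfsg.Lie.G2 F) := (phi.comp D.pair).range

/-- The Sylow subgroup. -/
noncomputable def P : Subgroup (Cfsg.Lie.G2 F) := D.E ⊔ Subgroup.zpowers D.t

theorem t_conj_E : Subgroup.zpowers D.t ≤ Subgroup.normalizer (D.E : Set (Cfsg.Lie.G2 F)) := by
  rw [Subgroup.zpowers_le]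
  have hE : ∀ g ∈ D.E, D.t * g * D.t⁻¹ ∈ D.E := by
    rintro g ⟨⟨x, y⟩, rfl⟩
    refine ⟨(⟨_, D.R_conj_mem x.2⟩, ⟨_, D.R_conj_mem y.2⟩), ?_⟩
    rw [MonoidHom.comp_apply, MonoidHom.comp_apply, t, ← map_inv, ← map_mul, ← map_mul]
    rfl
  have hfin : (D.E : Set (Cfsg.Lie.G2 F)).Finite := Set.toFinite _
  rw [Subgroup.mem_normalizer_iff]
  intro h
  refine ⟨hE h, fun hh => ?_⟩
  let f : D.E → D.E := fun g => ⟨D.t * g.1 * D.t⁻¹, hE g.1 g.2⟩
  have hf : Function.Surjective f := Finite.surjective_of_injective fun a b e => by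
    have := congrArg Subtype.val e
    exact Subtype.ext (by simpa [f] using this)
  obtain ⟨g, hg⟩ := hf ⟨_, hh⟩
  have h1 : (g : Cfsg.Lie.G2 F) = h := by simpa [f] using congrArg Subtype.val hg
  exact h1 ▸ g.2

theorem isPGroup_P (h2 : (2 : F) ≠ 0) : IsPGroup 2 D.P := by
  refine IsPGroup.to_sup_of_normal_left' ?_ ?_ D.t_conj_E
  · have hQ : IsPGroup 2 (D.Qg × D.Qg) := IsPGroup.of_card (n := (D.a + 1) + (D.a + 1)) (by
      rw [Nat.card_prod, D.card_Qg h2, ← pow_add])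
    exact hQ.of_surjective _ (MonoidHom.rangeRestrict_surjective _)
  · obtain ⟨k, -, hk⟩ := (Nat.dvd_prime_pow Nat.prime_two).1
      (orderOf_dvd_of_pow_eq_one (show D.t ^ 2 ^ D.m = 1 by
        rw [t, ← map_pow]
        have : D.DD ^ 2 ^ D.m = 1 := Subtype.ext (Prod.ext D.pow_m D.pow_m)
        rw [this, map_one]))
    exact IsPGroup.of_card (n := k) (by rw [Nat.card_zpowers, hk])

theorem t_notMem (h2 : (2 : F) ≠ 0) : D.t ∉ D.E := by
  rintro ⟨⟨x, y⟩, hxy⟩
  rw [MonoidHom.comp_apply, t] at hxy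
  have hk : phi ((D.pair (x, y))⁻¹ * D.DD) = 1 := by rw [map_mul, map_inv, hxy, inv_mul_cancel]
  obtain ⟨c, hc, -⟩ := ker_phi hk
  have hd : ((x.1⁻¹ * D.R : GL (Fin 2) F) : Matrix (Fin 2) (Fin 2) F) = c • 1 := hc
  have h1 := congrArg Matrix.det hd
  rw [← Matrix.GeneralLinearGroup.val_det_apply, map_mul, map_inv, D.Qg_det x.2, inv_one,
    one_mul] at h1
  exact D.nonsq c (by rw [h1]; simp [sq])

theorem card_E_ge (h2 : (2 : F) ≠ 0) : 2 ^ (2 * D.a + 1) ≤ Nat.card D.E := by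
  classical
  set f := phi.comp D.pair
  have hker : Nat.card f.ker ≤ 2 := by
    let g : f.ker → Bool := fun k => decide (k.1.1 = 1)
    refine (Nat.card_le_card_of_injective g fun k l h => ?_).trans (by simp)
    have key : ∀ k : f.ker, (k.1.1.1 = 1 ∧ k.1.2.1 = 1) ∨ (k.1.1.1 = -1 ∧ k.1.2.1 = -1) := by
      intro k
      obtain ⟨c, h1, h1'⟩ := ker_phi (show phi (D.pair k.1) = 1 from k.2)
      change (k.1.1.1 : Matrix (Fin 2) (Fin 2) F) = c • 1 at h1
      change (k.1.2.1 : Matrix (Fin 2) (Fin 2) F) = c • 1 at h1'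
      have hd := congrArg (fun u : Fˣ => (u : F)) (D.Qg_det k.1.1.2)
      simp only [Matrix.GeneralLinearGroup.val_det_apply, h1] at hd
      simp at hd
      rcases hd with rfl | rfl
      · left
        exact ⟨Units.ext (by rw [h1]; simp), Units.ext (by rw [h1']; simp)⟩
      · right
        exact ⟨Units.ext (by rw [h1]; simp), Units.ext (by rw [h1']; simp)⟩
    have h' : k.1.1 = 1 ↔ l.1.1 = 1 := by simpa [g] using h
    have hn := neg_one_ne (F := F) h2
    apply Subtype.ext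
    rcases key k with ⟨a1, a2⟩ | ⟨a1, a2⟩ <;> rcases key l with ⟨b1, b2⟩ | ⟨b1, b2⟩
    · exact Prod.ext (Subtype.ext (a1.trans b1.symm)) (Subtype.ext (a2.trans b2.symm))
    · exact absurd (b1.symm.trans (congrArg Subtype.val (h'.1 (Subtype.ext a1)))) hn
    · exact absurd (a1.symm.trans (congrArg Subtype.val (h'.2 (Subtype.ext b1)))) hn
    · exact Prod.ext (Subtype.ext (a1.trans b1.symm)) (Subtype.ext (a2.trans b2.symm))
  have h := Subgroup.card_eq_card_quotient_mul_card_subgroup f.ker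
  rw [Nat.card_congr (QuotientGroup.quotientKerEquivRange f).toEquiv, Nat.card_prod,
    D.card_Qg h2] at h
  have he : 2 ^ (D.a + 1) * 2 ^ (D.a + 1) = 2 * 2 ^ (2 * D.a + 1) := by
    rw [← pow_add, ← pow_succ']; ring_nf
  rw [he] at h
  have : Nat.card f.range * Nat.card f.ker ≤ Nat.card f.range * 2 := Nat.mul_le_mul_left _ hker
  show _ ≤ Nat.card f.range
  omega

theorem card_P_ge (h2 : (2 : F) ≠ 0) : 2 ^ (2 * D.a + 2) ≤ Nat.card D.P := by
  have hle : D.E ≤ D.P := le_sup_left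
  have hne : D.E ≠ D.P := fun e => D.t_notMem h2 (e ▸ le_sup_right (a := D.E)
    (Subgroup.mem_zpowers D.t))
  obtain ⟨k, hk⟩ := Subgroup.card_dvd_of_le hle
  have h1 : k ≠ 1 := fun h => hne (Subgroup.eq_of_le_of_card_ge hle (by rw [hk, h, mul_one]))
  have h0 : k ≠ 0 := fun h => by rw [h, mul_zero] at hk; exact Nat.card_pos.ne' hk
  calc 2 ^ (2 * D.a + 2) = 2 ^ (2 * D.a + 1) * 2 := pow_succ _ _
    _ ≤ Nat.card D.E * k := Nat.mul_le_mul (D.card_E_ge h2) (by omega)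
    _ = _ := hk.symm

theorem P_le : D.P ≤ (phi (F := F)).range := by
  refine sup_le ?_ ?_
  · rintro g ⟨p, rfl⟩
    exact ⟨D.pair p, rfl⟩
  · rw [Subgroup.zpowers_le]
    exact ⟨D.DD, rfl⟩

theorem mem_P_pair (x y : D.Qg) : phi (D.pair (x, y)) ∈ D.P := le_sup_left (b := Subgroup.zpowers D.t)
  (show phi (D.pair (x, y)) ∈ D.E from ⟨(x, y), rfl⟩)

theorem z_mem : z ∈ D.P := by
  have h : (-1 : GL (Fin 2) F) ∈ D.Qg := ⟨2 ^ (D.a - 1), Or.inl D.top.symm⟩
  exact D.mem_P_pair 1 ⟨-1, h⟩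

theorem z_ne (h2 : (2 : F) ≠ 0) : (z : Cfsg.Lie.G2 F) ≠ 1 := fun h => by
  obtain ⟨c, h1, h1'⟩ := ker_phi (show phi zK = 1 from h)
  have e := h1.trans h1'.symm
  exact neg_one_ne h2 (Units.ext e).symm

theorem central_eq (h2 : (2 : F) ≠ 0) {g : Cfsg.Lie.G2 F} (hg : g ∈ D.P)
    (hc : ∀ h ∈ D.P, g * h = h * g) : g = 1 ∨ g = z := by
  obtain ⟨⟨⟨x, y⟩, hk⟩, rfl⟩ := D.P_le hg
  have key : ∀ u v : D.Qg, u = 1 ∨ v = 1 → x * u.1 * x⁻¹ = u.1 ∨ (u = 1) := by
    intro u v huv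
    by_cases hu : u = 1
    · exact Or.inr hu
    left
    have hv : v = 1 := huv.resolve_left hu
    have h := hc _ (D.mem_P_pair u v)
    have hk1 : phi (⟨(x, y), hk⟩ * D.pair (u, v) * (⟨(x, y), hk⟩ : K F)⁻¹ * (D.pair (u, v))⁻¹) = 1 := by
      simp only [map_mul, map_inv, h]
      group
    obtain ⟨c, h1, h1'⟩ := ker_phi hk1
    have e : (x * u.1 * x⁻¹ * u.1⁻¹ : GL (Fin 2) F) = y * v.1 * y⁻¹ * v.1⁻¹ :=
      Units.ext (h1.trans h1'.symm)
    rw [hv, OneMemClass.coe_one, mul_one, mul_inv_cancel, one_mul, inv_one] at e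
    exact mul_inv_eq_one.1 e
  have key' : ∀ u v : D.Qg, u = 1 ∨ v = 1 → y * v.1 * y⁻¹ = v.1 ∨ (v = 1) := by
    intro u v huv
    by_cases hv : v = 1
    · exact Or.inr hv
    left
    have hu : u = 1 := huv.resolve_right hv
    have h := hc _ (D.mem_P_pair u v)
    have hk1 : phi (⟨(x, y), hk⟩ * D.pair (u, v) * (⟨(x, y), hk⟩ : K F)⁻¹ * (D.pair (u, v))⁻¹) = 1 := by
      simp only [map_mul, map_inv, h]
      group
    obtain ⟨c, h1, h1'⟩ := ker_phi hk1
    have e : (x * u.1 * x⁻¹ * u.1⁻¹ : GL (Fin 2) F) = y * v.1 * y⁻¹ * v.1⁻¹ :=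
      Units.ext (h1.trans h1'.symm)
    rw [hu, OneMemClass.coe_one, mul_one, mul_inv_cancel, one_mul, inv_one] at e
    exact mul_inv_eq_one.1 e.symm
  have hscal : ∀ w : GL (Fin 2) F, w * D.r = D.r * w → w * D.j = D.j * w →
      ∃ c : F, (w : Matrix (Fin 2) (Fin 2) F) = c • 1 := by
    intro w hr hj
    have hns : ∀ c : F, (D.r : Matrix (Fin 2) (Fin 2) F) ≠ c • 1 := by
      intro c hc
      have hcomm : D.j * D.r = D.r * D.j := Units.ext (by simp [hc])
      have := D.j_conj_r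
      rw [hcomm, mul_inv_cancel_right] at this
      exact D.r_sq_ne h2 (mul_eq_one_iff_eq_inv.2 this)
    obtain ⟨α, β, hab⟩ := exists_poly hns (congrArg Units.val hr)
    refine ⟨α, ?_⟩
    have hj' : (w : Matrix (Fin 2) (Fin 2) F) * D.j = D.j * w := congrArg Units.val hj
    rw [hab, Matrix.add_mul, Matrix.mul_add, Matrix.smul_mul, Matrix.smul_mul, Matrix.mul_smul,
      Matrix.mul_smul, Matrix.one_mul, Matrix.mul_one] at hj'
    have hb : β = 0 := by
      by_contra hb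
      have h1 : (D.r : Matrix (Fin 2) (Fin 2) F) * D.j = D.j * D.r :=
        smul_right_injective _ hb (add_left_cancel hj')
      have hcomm : D.j * D.r = D.r * D.j := Units.ext h1.symm
      have := D.j_conj_r
      rw [hcomm, mul_inv_cancel_right] at this
      exact D.r_sq_ne h2 (mul_eq_one_iff_eq_inv.2 this)
    rw [hab, hb, zero_smul, add_zero]
  have hcomm : ∀ (w : GL (Fin 2) F) (u : D.Qg), (w * u.1 * w⁻¹ = u.1 ∨ u = 1) →
      w * u.1 = u.1 * w := by
    rintro w u (h | rfl)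
    · exact mul_inv_eq_iff_eq_mul.1 h
    · simp
  obtain ⟨c, hx⟩ := hscal x (hcomm x ⟨_, D.r_mem⟩ (key _ 1 (Or.inr rfl)))
    (hcomm x ⟨_, D.j_mem⟩ (key _ 1 (Or.inr rfl)))
  obtain ⟨d, hy⟩ := hscal y (hcomm y ⟨_, D.r_mem⟩ (key' 1 _ (Or.inl rfl)))
    (hcomm y ⟨_, D.j_mem⟩ (key' 1 _ (Or.inl rfl)))
  have hdet := mem_K.1 hk
  simp only [hx, hy] at hdet
  simp at hdet
  rcases (sq_eq_sq_iff_eq_or_eq_neg.1 hdet.symm) with hcd | hcd
  · exact Or.inl (phi_eq_one_of_scalar (c := c) hx (by show (y : Matrix (Fin 2) (Fin 2) F) = _; rw [hy, hcd]))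
  · right
    have hz : phi (⟨(x, y), hk⟩ * (zK : K F)⁻¹) = 1 := by
      refine phi_eq_one_of_scalar (c := c) ?_ ?_
      · show ((x * 1⁻¹ : GL (Fin 2) F) : Matrix (Fin 2) (Fin 2) F) = _
        rw [inv_one, mul_one, hx]
      · show ((y * (-1)⁻¹ : GL (Fin 2) F) : Matrix (Fin 2) (Fin 2) F) = _
        rw [Units.val_mul, hy, hcd]
        simp
    rwa [map_mul, map_inv, mul_inv_eq_one] at hz

theorem normalizer_le (h2 : (2 : F) ≠ 0) :
    Subgroup.normalizer (D.P : Set (Cfsg.Lie.G2 F)) ≤ (phi (F := F)).range := by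
  intro g hg
  refine centralizer_z_le h2 ?_
  have hm : g * z * g⁻¹ ∈ D.P := (Subgroup.mem_normalizer_iff.1 hg _).1 D.z_mem
  have hc : ∀ h ∈ D.P, (g * z * g⁻¹) * h = h * (g * z * g⁻¹) := by
    intro h hh
    have hh' : g⁻¹ * h * g ∈ D.P := by
      refine (Subgroup.mem_normalizer_iff.1 hg _).2 ?_
      simpa [mul_assoc] using hh
    obtain ⟨k, hk⟩ := D.P_le hh'
    have hzc : z * (g⁻¹ * h * g) = g⁻¹ * h * g * z := by rw [← hk, z_comm]
    calc g * z * g⁻¹ * h = g * (z * (g⁻¹ * h * g)) * g⁻¹ := by group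
      _ = h * (g * z * g⁻¹) := by rw [hzc]; group
  rcases D.central_eq h2 hm hc with h | h
  · exact absurd (by simpa using h) (z_ne h2)
  · exact mul_inv_eq_iff_eq_mul.1 h

theorem exists_sylow (h2 : (2 : F) ≠ 0) :
    ∃ S : Sylow 2 (Cfsg.Lie.G2 F), (S : Subgroup (Cfsg.Lie.G2 F)) = D.P := by
  have : Fact (Nat.Prime 2) := ⟨Nat.prime_two⟩
  refine exists_sylow_eq (D.isPGroup_P h2) D.P_le (D.normalizer_le h2) fun h => ?_
  obtain ⟨n2, hodd⟩ := D.two_part _ rfl
  obtain ⟨i, hi⟩ := IsPGroup.iff_card.1 (D.isPGroup_P h2)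
  have hge := D.card_P_ge h2
  rw [hi] at hge h
  have hi' : 2 * D.a + 2 ≤ i := (Nat.pow_le_pow_iff_right (by norm_num)).1 hge
  have hd : 2 ^ (2 * D.a + 3) ∣ (Nat.card F * (Nat.card F ^ 2 - 1)) ^ 2 := by
    rw [← natCard_range]
    refine dvd_trans ?_ h
    rw [← pow_succ']
    exact pow_dvd_pow 2 (by omega)
  set N := Nat.card F ^ 2 - 1
  rw [mul_pow] at hd
  have hd2 : 2 ^ (2 * D.a + 3) ∣ N ^ 2 :=
    (Nat.Coprime.pow _ _ hodd.coprime_two_left).dvd_of_dvd_mul_left hd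
  rcases Nat.eq_zero_or_pos N with hN0 | hN0
  · exact n2 (by rw [hN0]; exact dvd_zero _)
  have hle := (Nat.prime_two.pow_dvd_iff_le_factorization (pow_ne_zero _ hN0.ne')).1 hd2
  rw [Nat.factorization_pow] at hle
  simp at hle
  exact n2 ((Nat.prime_two.pow_dvd_iff_le_factorization hN0.ne').2 (by omega))

theorem sq_mem_commutator (x : D.P) : x ^ 2 ∈ commutator D.P := by
  let θ : D.P →* Abelianization D.P := Abelianization.of
  let S : Subgroup D.P := ((powMonoidHom 2).comp θ).ker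
  let el : D.Qg → D.Qg → D.P := fun u v => ⟨phi (D.pair (u, v)), D.mem_P_pair u v⟩
  have el_mul : ∀ u v u' v', el u v * el u' v' = el (u * u') (v * v') := fun u v u' v' =>
    Subtype.ext (by simp only [el, Subgroup.coe_mul, ← map_mul, Prod.mk_mul_mk])
  let tP : D.P := ⟨D.t, le_sup_right (a := D.E) (Subgroup.mem_zpowers D.t)⟩
  have hscal : ∀ u v : GL (Fin 2) F, ∀ h : (u, v) ∈ K F,
      u = sc (Matrix.GeneralLinearGroup.det D.R) → v = sc (Matrix.GeneralLinearGroup.det D.R) →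
      phi ⟨(u, v), h⟩ = 1 := by
    rintro u v h rfl rfl
    exact phi_eq_one_of_scalar (c := ((Matrix.GeneralLinearGroup.det D.R : Fˣ) : F))
      (sc_coe _) (sc_coe _)
  set r : D.Qg := ⟨D.r, D.r_mem⟩
  set j : D.Qg := ⟨D.j, D.j_mem⟩
  have h1 : θ (el r 1) = 1 := by
    have hc : tP * el j 1 * tP⁻¹ = el r 1 * el j 1 := by
      rw [el_mul, mul_one]
      refine Subtype.ext ?_
      simp only [tP, el, Subgroup.coe_mul, Subgroup.coe_inv, t, ← map_inv, ← map_mul]
      congr 1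
      refine Subtype.ext (Prod.ext ?_ ?_)
      · exact D.R_conj_j
      · show D.R * 1 * D.R⁻¹ = 1
        group
    have := congrArg θ hc
    simp only [map_mul, map_inv] at this
    rw [mul_comm (θ tP), mul_inv_cancel_right] at this
    exact mul_eq_right.1 this.symm
  have h1' : θ (el 1 r) = 1 := by
    have hc : tP * el 1 j * tP⁻¹ = el 1 r * el 1 j := by
      rw [el_mul, mul_one]
      refine Subtype.ext ?_
      simp only [tP, el, Subgroup.coe_mul, Subgroup.coe_inv, t, ← map_inv, ← map_mul]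
      congr 1
      refine Subtype.ext (Prod.ext ?_ ?_)
      · show D.R * 1 * D.R⁻¹ = 1
        group
      · exact D.R_conj_j
    have := congrArg θ hc
    simp only [map_mul, map_inv] at this
    rw [mul_comm (θ tP), mul_inv_cancel_right] at this
    exact mul_eq_right.1 this.symm
  have hpow : ∀ i : ℕ, θ (el (r ^ i) 1) = 1 ∧ θ (el 1 (r ^ i)) = 1 := by
    intro i
    induction i with
    | zero =>
      have : el 1 1 = 1 := Subtype.ext (show phi (D.pair 1) = 1 by rw [map_one, map_one])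
      simp [this]
    | succ i ih =>
      rw [pow_succ, show el (r ^ i * r) 1 = el (r ^ i) 1 * el r 1 by rw [el_mul, mul_one],
        show el 1 (r ^ i * r) = el 1 (r ^ i) * el 1 r by rw [el_mul, mul_one], map_mul, map_mul,
        ih.1, ih.2, h1, h1', mul_one]
      exact ⟨rfl, rfl⟩
  have hj : ∀ u : D.Qg, θ (el u 1) ^ 2 = 1 ∧ θ (el 1 u) ^ 2 = 1 := by
    intro u
    have hjj : j * j = r ^ 2 ^ (D.a - 1) := Subtype.ext (by simp [j, r, D.j_sq_eq])
    have hj1 : θ (el j 1) ^ 2 = 1 ∧ θ (el 1 j) ^ 2 = 1 := by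
      rw [pow_two, pow_two, ← map_mul, ← map_mul, el_mul, el_mul, mul_one, hjj]
      exact hpow _
    obtain ⟨i, hu | hu⟩ := u.2
    · rw [show u = r ^ i from Subtype.ext (by simpa [r] using hu), (hpow i).1, (hpow i).2]
      exact ⟨one_pow _, one_pow _⟩
    · rw [show u = r ^ i * j from Subtype.ext (by simpa [r, j] using hu),
        show el (r ^ i * j) 1 = el (r ^ i) 1 * el j 1 by rw [el_mul, mul_one],
        show el 1 (r ^ i * j) = el 1 (r ^ i) * el 1 j by rw [el_mul, mul_one], map_mul, map_mul,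
        (hpow i).1, (hpow i).2, one_mul, one_mul]
      exact hj1
  have hS : ∀ y : D.P, y ∈ S := by
    have hle : D.P ≤ S.map D.P.subtype := by
      refine sup_le ?_ ?_
      · rintro g ⟨⟨u, v⟩, rfl⟩
        refine ⟨el u v, ?_, rfl⟩
        show θ (el u v) ^ 2 = 1
        rw [show el u v = el u 1 * el 1 v by rw [el_mul, mul_one, one_mul], map_mul, mul_pow,
          (hj u).1, (hj v).2, one_mul]
      · rw [Subgroup.zpowers_le]
        refine ⟨tP, ?_, rfl⟩
        show θ tP ^ 2 = 1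
        have ht : tP * tP = el r r := by
          refine Subtype.ext ?_
          simp only [tP, el, Subgroup.coe_mul, t, ← map_mul]
          let s : K F := ⟨(sc (Matrix.GeneralLinearGroup.det D.R),
            sc (Matrix.GeneralLinearGroup.det D.R)), rfl⟩
          have : D.DD * D.DD = s * D.pair (r, r) := Subtype.ext (Prod.ext D.R_sq D.R_sq)
          rw [this, map_mul, show phi s = 1 from hscal _ _ _ rfl rfl, one_mul]
        rw [pow_two, ← map_mul, ht, show el r r = el r 1 * el 1 r by rw [el_mul, mul_one, one_mul],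
          map_mul, h1, h1', one_mul]
    intro y
    obtain ⟨y', hy', e⟩ := hle y.2
    exact Subtype.ext e ▸ hy'
  have h : θ (x ^ 2) = 1 := by rw [map_pow]; exact hS x
  rwa [← MonoidHom.mem_ker, show θ.ker = commutator D.P from Abelianization.ker_of D.P] at h

end TwoData

end Cfsg.Agent.ZornSylowTwo50
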